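import Mathlib
import Cfsg.Prelude.Def_Classical
import Cfsg.Agent.S0246

/-!
# (A3) of helper99's #9932 (S2362): the order of the image in `PSp` of an element of `Sp`

The centre of `Sp_{2m}(F)` is `{1, -1}` (`Cfsg.Agent.S0246.mem_center_iff`).
-/

set_option autoImplicit false
set_option linter.unusedVariables false
set_option linter.unusedSectionVars false

namespace Cfsg.Agent.Helper93.BC

open Module Polynomial

variable {F : Type*} [Field F] [Fintype F]

/-- (A3) passage to `PSp` -/
theorem orderOf_mk_PSp (m N : ℕ) (hm : 1 ≤ m) (hN : 0 < N)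
    (g : ↥(Matrix.symplecticGroup (Fin m) F)) (hg : g ^ N = 1)
    (hmin : ∀ j : ℕ, (g ^ j = 1 ∨ g ^ j = Cfsg.Agent.S0246.negOne m F) → N ∣ j) :
    orderOf (QuotientGroup.mk g : Cfsg.PSp m F) = N := by
  apply Nat.dvd_antisymm
  · apply orderOf_dvd_of_pow_eq_one
    rw [← QuotientGroup.mk_pow, hg, QuotientGroup.mk_one]
  · apply hmin
    have h1 : (QuotientGroup.mk g : Cfsg.PSp m F) ^ orderOf (QuotientGroup.mk g : Cfsg.PSp m F) = 1 :=
      pow_orderOf_eq_one _
    rw [← QuotientGroup.mk_pow, QuotientGroup.eq_one_iff] at h1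
    exact (Cfsg.Agent.S0246.mem_center_iff hm _).1 h1

end Cfsg.Agent.Helper93.BC
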