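import Mathlib
import Cfsg.Agent.Helper99.BCDefs

/-!
# (LA1) of helper99's #9932 (S2362): `V = fix(A) ⊕ mov(A)` for an operator with `A ^ r = 1`, `r ≠ 0` in `F`

With `N = 1 + A + ... + A^(r-1)`: `A N = N`, `N² = r N`, `N = r` on `fix(A)`; the projection onto `fix(A)` is `N / r`.
-/

set_option autoImplicit false

namespace Cfsg.Agent.Helper93.BC

open Module Cfsg.Agent.Helper99.BC

variable {F : Type*} [Field F] {V : Type*} [AddCommGroup V] [Module F V]

/-- `A * N = N` for `N = ∑ i < r, A ^ i` when `A ^ r = 1` -/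
theorem mul_geomSum_eq (A : Module.End F V) (r : ℕ) (hA : A ^ r = 1) :
    A * ∑ i ∈ Finset.range r, A ^ i = ∑ i ∈ Finset.range r, A ^ i := by
  have h := mul_geom_sum A r
  rw [hA, sub_self, sub_mul, one_mul, sub_eq_zero] at h
  exact h

theorem pow_mul_geomSum_eq (A : Module.End F V) (r : ℕ) (hA : A ^ r = 1) (i : ℕ) :
    A ^ i * ∑ j ∈ Finset.range r, A ^ j = ∑ j ∈ Finset.range r, A ^ j := by
  induction i with
  | zero => rw [pow_zero, one_mul]
  | succ i ih => rw [pow_succ, mul_assoc, mul_geomSum_eq A r hA, ih]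

/-- `N * N = r • N` -/
theorem geomSum_mul_self (A : Module.End F V) (r : ℕ) (hA : A ^ r = 1) :
    (∑ i ∈ Finset.range r, A ^ i) * (∑ i ∈ Finset.range r, A ^ i) =
      (r : F) • ∑ i ∈ Finset.range r, A ^ i := by
  rw [Finset.sum_mul]
  rw [Finset.sum_congr rfl (fun i _ => pow_mul_geomSum_eq A r hA i), Finset.sum_const,
    Finset.card_range, Nat.cast_smul_eq_nsmul]

theorem pow_apply_of_mem_fixS {A : Module.End F V} {x : V} (hx : x ∈ fixS A) (i : ℕ) :
    (A ^ i) x = x := by
  rw [mem_fixS] at hx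
  induction i with
  | zero => rw [pow_zero, Module.End.one_apply]
  | succ i ih => rw [pow_succ, Module.End.mul_apply, hx, ih]

/-- `N x = r x` on the fixed space -/
theorem geomSum_apply_of_mem_fixS {A : Module.End F V} {x : V} (hx : x ∈ fixS A) (r : ℕ) :
    (∑ i ∈ Finset.range r, A ^ i) x = (r : F) • x := by
  rw [LinearMap.sum_apply, Finset.sum_congr rfl (fun i _ => pow_apply_of_mem_fixS hx i),
    Finset.sum_const, Finset.card_range, Nat.cast_smul_eq_nsmul]

/-- (LA1) -/
theorem isCompl_fixS_movS (A : Module.End F V) (r : ℕ) (hr : (r : F) ≠ 0) (hA : A ^ r = 1) :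
    IsCompl (fixS A) (movS A r) := by
  constructor
  · rw [Submodule.disjoint_def]
    intro x hx hm
    have h1 := geomSum_apply_of_mem_fixS hx r
    have h2 : (∑ i ∈ Finset.range r, A ^ i) x = 0 := by
      rw [LinearMap.sum_apply]
      exact mem_movS.1 hm
    rw [h2] at h1
    rcases smul_eq_zero.1 h1.symm with h | h
    · exact absurd h hr
    · exact h
  · rw [Submodule.codisjoint_iff_exists_add_eq]
    intro x
    refine ⟨(r : F)⁻¹ • (∑ i ∈ Finset.range r, A ^ i) x,
      x - (r : F)⁻¹ • (∑ i ∈ Finset.range r, A ^ i) x, ?_, ?_, by abel⟩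
    · rw [mem_fixS, map_smul, ← Module.End.mul_apply, mul_geomSum_eq A r hA]
    · have hm : (∑ i ∈ Finset.range r, A ^ i)
          (x - (r : F)⁻¹ • (∑ i ∈ Finset.range r, A ^ i) x) = 0 := by
        rw [map_sub, map_smul, ← Module.End.mul_apply, geomSum_mul_self A r hA,
          LinearMap.smul_apply, smul_smul, inv_mul_cancel₀ hr, one_smul, sub_self]
      rw [mem_movS, ← LinearMap.sum_apply]
      exact hm

end Cfsg.Agent.Helper93.BC
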