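import Mathlib
import Cfsg.Agent.Helper99.BCDefs
import Cfsg.Agent.Helper93.BCLA1

/-!
# (LA4) of helper99's #9932 (S2362): `fixS A ⟂ movS A r` for an isometry `A` with `A ^ r = 1`

`0 = polar x (∑ A^i y) = ∑ polar (A^i x) (A^i y) = r · polar x y`.
-/

set_option autoImplicit false
set_option linter.unusedVariables false

namespace Cfsg.Agent.Helper93.BC

open Module Cfsg.Agent.Helper99.BC

variable {F : Type*} [Field F] {V : Type*} [AddCommGroup V] [Module F V]

theorem polar_map_of_isometry (Q : QuadraticForm F V) (A : Module.End F V)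
    (hiso : ∀ x, Q (A x) = Q x) (u v : V) :
    QuadraticMap.polar Q (A u) (A v) = QuadraticMap.polar Q u v := by
  unfold QuadraticMap.polar
  rw [← map_add, hiso, hiso, hiso]

theorem polar_map_pow_of_isometry (Q : QuadraticForm F V) (A : Module.End F V)
    (hiso : ∀ x, Q (A x) = Q x) (i : ℕ) (u v : V) :
    QuadraticMap.polar Q ((A ^ i) u) ((A ^ i) v) = QuadraticMap.polar Q u v := by
  induction i generalizing u v with
  | zero => rw [pow_zero, Module.End.one_apply, Module.End.one_apply]
  | succ i ih =>
    rw [pow_succ', Module.End.mul_apply, Module.End.mul_apply, polar_map_of_isometry Q A hiso, ih]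

/-- (LA4) the fixed space is orthogonal to the moving space -/
theorem polar_eq_zero_of_fixS_movS (Q : QuadraticForm F V) (A : Module.End F V) (r : ℕ)
    (hr : (r : F) ≠ 0) (hA : A ^ r = 1) (hiso : ∀ x, Q (A x) = Q x) {x y : V}
    (hx : x ∈ fixS A) (hy : y ∈ movS A r) : QuadraticMap.polar Q x y = 0 := by
  have h1 : ∀ i ∈ Finset.range r, QuadraticMap.polar Q x ((A ^ i) y) = QuadraticMap.polar Q x y := by
    intro i _
    conv_lhs => rw [← pow_apply_of_mem_fixS hx i]
    exact polar_map_pow_of_isometry Q A hiso i x y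
  have h2 : (QuadraticMap.polarBilin Q x) (∑ i ∈ Finset.range r, (A ^ i) y) =
      ∑ i ∈ Finset.range r, QuadraticMap.polar Q x ((A ^ i) y) := by
    rw [map_sum]
    rfl
  rw [mem_movS.1 hy, map_zero, Finset.sum_congr rfl h1, Finset.sum_const, Finset.card_range,
    nsmul_eq_mul] at h2
  rcases mul_eq_zero.1 h2.symm with h | h
  · exact absurd h hr
  · exact h

end Cfsg.Agent.Helper93.BC
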