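import Mathlib
import Cfsg.Agent.Helper99.BCDefs

/-!
# (LA2a), (LA2b) of helper99's #9932 (S2362): a commuting operator preserves `fixS A` and `movS A r`
-/

set_option autoImplicit false

namespace Cfsg.Agent.Helper93.BC

open Module Cfsg.Agent.Helper99.BC

variable {F : Type*} [Field F] {V : Type*} [AddCommGroup V] [Module F V]

/-- (LA2a) -/
theorem map_mem_fixS {A T : Module.End F V} (h : Commute T A) {x : V} (hx : x ∈ fixS A) :
    T x ∈ fixS A := by
  rw [mem_fixS] at hx ⊢
  rw [← Module.End.mul_apply, ← h.eq, Module.End.mul_apply, hx]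

/-- (LA2b) -/
theorem map_mem_movS {A T : Module.End F V} (h : Commute T A) {r : ℕ} {x : V}
    (hx : x ∈ movS A r) : T x ∈ movS A r := by
  rw [mem_movS] at hx ⊢
  have h1 : ∀ i ∈ Finset.range r, (A ^ i) (T x) = T ((A ^ i) x) := by
    intro i _
    rw [← Module.End.mul_apply, ← (h.pow_right i).eq, Module.End.mul_apply]
  rw [Finset.sum_congr rfl h1, ← map_sum, hx, map_zero]

end Cfsg.Agent.Helper93.BC
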