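import Mathlib

/-!
# (A1a) of helper99's #9932 (S2362): a self-reciprocal irreducible polynomial of degree `2k` over `F_q` whose roots
have order `q ^ k + 1`

`f` is a monic irreducible factor of the cyclotomic polynomial `Φ_M`, `M = q ^ k + 1`.  Its degree is the order of `q`
modulo `M`, i.e. `2k`.  A root `ζ` is a primitive `M`-th root of unity; `ζ⁻¹ = ζ ^ (q ^ k)` is a conjugate of `ζ`, so
`f ∣ f.reverse`, hence `f.reverse = c f` with `c² = 1`, and `c = -1` would give `f(1) = 0`.
-/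

set_option autoImplicit false
set_option linter.unusedSectionVars false
set_option linter.unusedVariables false

namespace Cfsg.Agent.Helper93.BC

open Module Polynomial

variable {F : Type*} [Field F] [Fintype F]

/-- the order of `q` modulo `q ^ k + 1` is `2k` -/
theorem orderOf_unit_mod_pow_add_one (q k M : ℕ) (hM : M = q ^ k + 1) (hq : 2 ≤ q) (hk : 1 ≤ k)
    (u : (ZMod M)ˣ) (hu : (u : ZMod M) = (q : ZMod M)) :
    orderOf u = 2 * k := by
  have hqk : (q : ZMod M) ^ k = -1 := by
    have h0 : ((q ^ k + 1 : ℕ) : ZMod M) = 0 := by rw [← hM]; exact ZMod.natCast_self M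
    push_cast at h0
    exact eq_neg_of_add_eq_zero_left h0
  have hpow : ∀ j : ℕ, u ^ j = 1 ↔ (q : ZMod M) ^ j = 1 := by
    intro j
    rw [← Units.val_inj, Units.val_pow_eq_pow_val, hu, Units.val_one]
  rw [orderOf_eq_iff (by omega)]
  refine ⟨?_, ?_⟩
  · rw [hpow, mul_comm, pow_mul, hqk]
    norm_num
  · intro j hj hj0
    rw [Ne, hpow]
    intro h1
    have hq1 : 1 < q := by omega
    rcases Nat.lt_or_ge k j with hkj | hjk
    · -- `k < j < 2k`
      obtain ⟨i, rfl⟩ : ∃ i, j = k + i := ⟨j - k, by omega⟩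
      have hi0 : 0 < i := by omega
      have hik : i < k := by omega
      rw [pow_add, hqk, neg_one_mul, neg_eq_iff_eq_neg] at h1
      have h0 : ((q ^ i + 1 : ℕ) : ZMod M) = 0 := by
        push_cast
        rw [h1]
        ring
      rw [ZMod.natCast_eq_zero_iff] at h0
      have hle := Nat.le_of_dvd (by positivity) h0
      have hlt : q ^ i < q ^ k := Nat.pow_lt_pow_right hq1 hik
      omega
    · -- `0 < j ≤ k`
      have h2 : ((q ^ j : ℕ) : ZMod M) = ((1 : ℕ) : ZMod M) := by
        push_cast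
        exact h1
      rw [ZMod.natCast_eq_natCast_iff] at h2
      have hq0 : 0 < q := by omega
      have hle : q ^ j ≤ q ^ k := Nat.pow_le_pow_right hq0 hjk
      have hlt1 : q ^ j < M := by omega
      have hlt2 : 1 < M := by
        have : 0 < q ^ k := by positivity
        omega
      have h3 := Nat.ModEq.eq_of_lt_of_lt h2 hlt1 hlt2
      have h4 : q ^ 1 ≤ q ^ j := Nat.pow_le_pow_right hq0 hj0
      rw [pow_one] at h4
      omega

/-- the roots of a polynomial over `F_q` in an extension are closed under `x ↦ x ^ q` -/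
theorem aeval_pow_card_eq_zero {K : Type*} [Field K] [Algebra F K] (f : F[X]) (x : K)
    (hx : aeval x f = 0) : aeval (x ^ Fintype.card F) f = 0 := by
  rw [← expand_aeval, FiniteField.expand_card, map_pow, hx, zero_pow Fintype.card_ne_zero]

theorem aeval_pow_card_pow_eq_zero {K : Type*} [Field K] [Algebra F K] (f : F[X]) (x : K)
    (hx : aeval x f = 0) (i : ℕ) : aeval (x ^ Fintype.card F ^ i) f = 0 := by
  induction i with
  | zero => rwa [pow_zero, pow_one]
  | succ i ih => rw [pow_succ, pow_mul]; exact aeval_pow_card_eq_zero f _ ih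

/-- (A1a) a self-reciprocal irreducible polynomial whose roots have order `q ^ k + 1` -/
theorem exists_selfrec_irreducible (h2 : (2 : F) ≠ 0) (k : ℕ) (hk : 1 ≤ k) :
    ∃ f : F[X], f.Monic ∧ Irreducible f ∧ f.natDegree = 2 * k ∧ f.reverse = f ∧
      f ∣ X ^ (Fintype.card F ^ k + 1) - 1 ∧
      ∀ j : ℕ, 0 < j → j < Fintype.card F ^ k + 1 → ¬ f ∣ X ^ j - 1 := by
  classical
  obtain ⟨p, hp⟩ := CharP.exists F
  have : CharP F p := hp
  obtain ⟨n, hpp, hcard⟩ := FiniteField.card F p
  have : Fact p.Prime := ⟨hpp⟩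
  obtain ⟨q, hq⟩ : ∃ q : ℕ, q = Fintype.card F := ⟨_, rfl⟩
  rw [← hq] at hcard ⊢
  have hq2 : 2 ≤ q := hq ▸ Fintype.one_lt_card
  obtain ⟨M, hM⟩ : ∃ M : ℕ, M = q ^ k + 1 := ⟨_, rfl⟩
  rw [← hM]
  have hM0 : 0 < M := by omega
  have hpqk : p ∣ q ^ k := by
    rw [hcard]
    exact dvd_pow (dvd_pow_self p n.pos.ne') (by omega)
  have hpM : ¬ p ∣ M := by
    intro h
    rw [hM] at h
    have := (Nat.dvd_add_right hpqk).1 h
    exact hpp.one_lt.ne' (Nat.dvd_one.1 this)
  have hcop : p.Coprime M := (Nat.Prime.coprime_iff_not_dvd hpp).2 hpM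
  -- an irreducible monic factor of the cyclotomic polynomial
  have hdegpos : 0 < (cyclotomic M F).natDegree := by
    rw [natDegree_cyclotomic]
    exact Nat.totient_pos.2 hM0
  obtain ⟨P, hPirr, hPdvd⟩ := exists_irreducible_of_natDegree_pos hdegpos
  obtain ⟨f, hfdef⟩ : ∃ f : F[X], f = P * C P.leadingCoeff⁻¹ := ⟨_, rfl⟩
  have hfm : f.Monic := hfdef ▸ monic_mul_leadingCoeff_inv hPirr.ne_zero
  have hfi : Irreducible f := hfdef ▸ irreducible_mul_leadingCoeff_inv.2 hPirr
  have hfcyc : f ∣ cyclotomic M F := by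
    rw [hfdef]
    have hu : IsUnit (C P.leadingCoeff⁻¹ : F[X]) :=
      isUnit_C.2 (IsUnit.mk0 _ (inv_ne_zero (leadingCoeff_ne_zero.2 hPirr.ne_zero)))
    exact (IsUnit.mul_right_dvd hu).2 hPdvd
  have hfXM : f ∣ X ^ M - 1 := hfcyc.trans (cyclotomic.dvd_X_pow_sub_one M F)
  -- the degree
  have hdeg : f.natDegree = 2 * k := by
    rw [natDegree_of_dvd_cyclotomic_of_irreducible (hq ▸ hcard) hcop hfcyc hfi]
    apply orderOf_unit_mod_pow_add_one q k M hM hq2 hk
    exact (ZMod.coe_unitOfCoprime _ _).trans (congrArg (Nat.cast : ℕ → ZMod M) hcard.symm)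
  -- a root
  have : Fact (Irreducible f) := ⟨hfi⟩
  set ζ : AdjoinRoot f := AdjoinRoot.root f with hζdef
  have hMF : (M : F) ≠ 0 := by
    rw [Ne, CharP.cast_eq_zero_iff F p M]
    exact hpM
  have hMK : (M : AdjoinRoot f) ≠ 0 := by
    rw [← map_natCast (algebraMap F (AdjoinRoot f))]
    exact (_root_.map_ne_zero _).2 hMF
  have : NeZero (M : AdjoinRoot f) := ⟨hMK⟩
  have hζ : IsPrimitiveRoot ζ M := by
    rw [← isRoot_cyclotomic_iff, ← map_cyclotomic M (AdjoinRoot.of f)]
    exact (AdjoinRoot.isRoot_root f).dvd (Polynomial.map_dvd _ hfcyc)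
  have hζroot : aeval ζ f = 0 := by
    rw [hζdef, AdjoinRoot.aeval_eq, AdjoinRoot.mk_self]
  have hζ0 : ζ ≠ 0 := hζ.ne_zero hM0.ne'
  -- no smaller `j`
  have hmin : ∀ j : ℕ, 0 < j → j < M → ¬ f ∣ X ^ j - 1 := by
    intro j hj0 hjM hdvd
    have h1 := AdjoinRoot.mk_eq_zero.2 hdvd
    rw [map_sub, map_pow, AdjoinRoot.mk_X, map_one, sub_eq_zero] at h1
    have := Nat.le_of_dvd hj0 (hζ.dvd_of_pow_eq_one j h1)
    omega
  -- `ζ⁻¹` is a root of `f`
  have hinv : ζ ^ q ^ k = ζ⁻¹ := by
    apply eq_inv_of_mul_eq_one_left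
    rw [← pow_succ, ← hM]
    exact hζ.pow_eq_one
  have hroot' : aeval ζ⁻¹ f = 0 := by
    rw [← hinv, hq]
    exact aeval_pow_card_pow_eq_zero f ζ hζroot k
  -- `ζ` is a root of `f.reverse`
  have hrev : aeval ζ f.reverse = 0 := by
    let _ : Invertible ζ⁻¹ := invertibleOfNonzero (inv_ne_zero hζ0)
    have h := (eval₂_reverse_eq_zero_iff (algebraMap F (AdjoinRoot f)) ζ⁻¹ f).2 hroot'
    rwa [invOf_eq_inv, inv_inv] at h
  have hfrev : f ∣ f.reverse := by
    rw [← AdjoinRoot.mk_eq_zero, ← AdjoinRoot.aeval_eq]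
    exact hrev
  -- the constant coefficient
  have hc0 : f.coeff 0 ≠ 0 := by
    intro h0
    have hX : (X : F[X]) ∣ f := X_dvd_iff.2 h0
    have hX2 := X_dvd_iff.1 (hX.trans hfXM)
    rw [coeff_sub, coeff_X_pow, coeff_one_zero, if_neg hM0.ne] at hX2
    simp at hX2
  have htr : f.natTrailingDegree = 0 := natTrailingDegree_eq_zero.2 (Or.inr hc0)
  set c : F := f.coeff 0 with hc
  have hlead : f.reverse.leadingCoeff = c := by
    rw [reverse_leadingCoeff, trailingCoeff, htr]
  have hgm : (C c⁻¹ * f.reverse).Monic :=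
    monic_C_mul_of_mul_leadingCoeff_eq_one (by rw [hlead, inv_mul_cancel₀ hc0])
  have hgeq : C c⁻¹ * f.reverse = f := by
    apply eq_of_monic_of_dvd_of_natDegree_le hfm hgm (dvd_mul_of_dvd_right hfrev _)
    refine (natDegree_C_mul_le _ _).trans ?_
    exact reverse_natDegree_le f
  have hrevf : f.reverse = C c * f := by
    calc f.reverse = C c * (C c⁻¹ * f.reverse) := by
          rw [← mul_assoc, ← C_mul, mul_inv_cancel₀ hc0, C_1, one_mul]
      _ = C c * f := by rw [hgeq]
  have hcc : c * c = 1 := by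
    have h0 := congrArg (fun g => coeff g 0) hrevf
    simp only [coeff_zero_reverse, coeff_C_mul, hfm.leadingCoeff] at h0
    exact h0.symm
  refine ⟨f, hfm, hfi, hdeg, ?_, hfXM, hmin⟩
  rcases mul_self_eq_one_iff.1 hcc with h1 | h1
  · rw [hrevf, h1, C_1, one_mul]
  · exfalso
    have hev : f.reverse.eval 1 = f.eval 1 := by
      let _ : Invertible (1 : F) := invertibleOne
      have h := eval₂_reverse_mul_pow (RingHom.id F) (1 : F) f
      rw [invOf_one, one_pow, mul_one] at h
      exact h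
    rw [hrevf, h1, eval_mul, eval_C] at hev
    have h20 : (2 : F) * f.eval 1 = 0 := by linear_combination -hev
    have hf1 : f.eval 1 = 0 := by
      rcases mul_eq_zero.1 h20 with h | h
      · exact absurd h h2
      · exact h
    have hd1 := degree_eq_one_of_irreducible_of_root hfi (show IsRoot f 1 from hf1)
    have hnd1 : f.natDegree = 1 := natDegree_eq_of_degree_eq_some hd1
    omega

end Cfsg.Agent.Helper93.BC
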