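import Mathlib

/-!
# (DT) of helper99's #9932 (S2362): an isometry without eigenvalue `-1` has determinant one

With `G` the Gram matrix of the polar form: `Mᵀ G M = G`, hence `(M + 1)ᵀ G M = G (1 + M)`; take determinants
(`det G ≠ 0` by non-degeneracy, `det (M + 1) ≠ 0` by the eigenvalue hypothesis).  The hypothesis `2 ≠ 0` is not used.
-/

set_option autoImplicit false
set_option linter.unusedVariables false

namespace Cfsg.Agent.Helper93.BC

open Module

/-- (DT) an isometry without eigenvalue `-1` has determinant one -/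
theorem det_eq_one_of_isometry {F : Type*} [Field F] {ι : Type*} [Fintype ι] [DecidableEq ι]
    (Q : QuadraticForm F (ι → F)) (h2 : (2 : F) ≠ 0)
    (hnd : ∀ x : ι → F, (∀ y, QuadraticMap.polar Q x y = 0) → x = 0)
    (M : Matrix ι ι F) (hM : ∀ x, Q (M.mulVec x) = Q x)
    (hker : ∀ x, M.mulVec x = -x → x = 0) : M.det = 1 := by
  set B : LinearMap.BilinForm F (ι → F) := QuadraticMap.polarBilin Q with hB
  have hBapply : ∀ x y, B x y = QuadraticMap.polar Q x y := fun x y => rfl
  set G : Matrix ι ι F := LinearMap.BilinForm.toMatrix' B with hG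
  have hpol : ∀ x y, QuadraticMap.polar Q (M.mulVec x) (M.mulVec y) = QuadraticMap.polar Q x y := by
    intro x y
    unfold QuadraticMap.polar
    rw [← Matrix.mulVec_add, hM, hM, hM]
  have hcomp : B.comp (Matrix.toLin' M) (Matrix.toLin' M) = B := by
    refine LinearMap.ext₂ (fun x y => ?_)
    rw [LinearMap.BilinForm.comp_apply, Matrix.toLin'_apply, Matrix.toLin'_apply, hBapply, hBapply,
      hpol]
  have hMGM : M.transpose * G * M = G := by
    have := LinearMap.BilinForm.toMatrix'_comp B (Matrix.toLin' M) (Matrix.toLin' M)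
    rw [hcomp, LinearMap.toMatrix'_toLin'] at this
    exact this.symm
  have hGdet : G.det ≠ 0 := by
    intro h0
    obtain ⟨v, hv0, hv⟩ := Matrix.exists_mulVec_eq_zero_iff.2 h0
    apply hv0
    apply hnd
    intro y
    rw [QuadraticMap.polar_comm, ← hBapply, ← Matrix.toBilin'_toMatrix' B, Matrix.toBilin'_apply', ← hG,
      hv, dotProduct_zero]
  have hM1det : (M + 1).det ≠ 0 := by
    intro h0
    obtain ⟨v, hv0, hv⟩ := Matrix.exists_mulVec_eq_zero_iff.2 h0
    apply hv0
    apply hker
    rw [Matrix.add_mulVec, Matrix.one_mulVec] at hv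
    exact eq_neg_of_add_eq_zero_left hv
  have hkey : (M + 1).transpose * G * M = G * (M + 1) := by
    rw [Matrix.transpose_add, Matrix.transpose_one, Matrix.add_mul, Matrix.add_mul, hMGM, Matrix.one_mul,
      Matrix.mul_add, Matrix.mul_one, add_comm]
  have hdet := congrArg Matrix.det hkey
  rw [Matrix.det_mul, Matrix.det_mul, Matrix.det_mul, Matrix.det_transpose] at hdet
  have h3 : (M + 1).det * G.det * (M.det - 1) = 0 := by
    linear_combination hdet
  rcases mul_eq_zero.1 h3 with h | h
  · exact absurd h (mul_ne_zero hM1det hGdet)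
  · exact sub_eq_zero.1 h

end Cfsg.Agent.Helper93.BC
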