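import Cfsg.Agent.Helper13.MonoA

/-!
# (BLK) The Levi block of the elements of `M` whose row `a` is supported at `a`
-/

set_option autoImplicit false

namespace Cfsg.Agent.Helper93.MonoBLK

open Matrix Cfsg.Agent.Helper13.Mono

variable {ι : Type*} [Fintype ι] [DecidableEq ι] {F : Type*} [Field F]

/-- the block of a matrix on the indices different from `a` -/
def blk (a : ι) (A : Matrix ι ι F) : Matrix {j : ι // j ≠ a} {j : ι // j ≠ a} F :=
  A.submatrix Subtype.val Subtype.val

/-- row `a` is supported at `a` -/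
def RowAt (a : ι) (A : Matrix ι ι F) : Prop := ∀ j, j ≠ a → A a j = 0

theorem blk_apply (a : ι) (A : Matrix ι ι F) (i j : {j : ι // j ≠ a}) : blk a A i j = A i.1 j.1 := rfl

theorem blk_one (a : ι) : blk a (1 : Matrix ι ι F) = 1 :=
  Matrix.submatrix_one _ Subtype.val_injective

theorem blk_mul (a : ι) (A B : Matrix ι ι F) (hB : RowAt a B) : blk a (A * B) = blk a A * blk a B := by
  ext i j
  rw [blk_apply, Matrix.mul_apply, Matrix.mul_apply,
    Fintype.sum_eq_add_sum_subtype_ne (fun k => A i.1 k * B k j.1) a, hB j.1 j.2, mul_zero, zero_add]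
  rfl

theorem rowAt_one (a : ι) : RowAt a (1 : Matrix ι ι F) := fun _ hj => Matrix.one_apply_ne hj.symm

theorem row_mul_of_rowAt (a : ι) (A B : Matrix ι ι F) (hA : RowAt a A) (j : ι) :
    (A * B) a j = A a a * B a j := by
  rw [Matrix.mul_apply]
  apply Finset.sum_eq_single a
  · intro k _ hk
    rw [hA k hk, zero_mul]
  · intro h
    exact absurd (Finset.mem_univ a) h

theorem rowAt_mul (a : ι) (A B : Matrix ι ι F) (hA : RowAt a A) (hB : RowAt a B) : RowAt a (A * B) := by
  intro j hj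
  rw [row_mul_of_rowAt a A B hA, hB j hj, mul_zero]

theorem rowAt_inv (a : ι) (g : GL ι F) (hg : RowAt a (g : Matrix ι ι F)) :
    RowAt a ((g⁻¹ : GL ι F) : Matrix ι ι F) := by
  have h1 : (g : Matrix ι ι F) * ((g⁻¹ : GL ι F) : Matrix ι ι F) = 1 := by
    rw [← Units.val_mul, mul_inv_cancel, Units.val_one]
  have haa : (g : Matrix ι ι F) a a * ((g⁻¹ : GL ι F) : Matrix ι ι F) a a = 1 := by
    rw [← row_mul_of_rowAt a _ _ hg, h1, Matrix.one_apply_eq]
  have hne : (g : Matrix ι ι F) a a ≠ 0 := by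
    intro h0
    rw [h0, zero_mul] at haa
    exact zero_ne_one haa
  intro j hj
  have hj0 : (g : Matrix ι ι F) a a * ((g⁻¹ : GL ι F) : Matrix ι ι F) a j = 0 := by
    rw [← row_mul_of_rowAt a _ _ hg, h1, Matrix.one_apply_ne hj.symm]
  rcases mul_eq_zero.1 hj0 with h | h
  · exact absurd h hne
  · exact h

/-- the block of an invertible matrix with row `a` supported at `a` is invertible -/
theorem exists_blk_unit (a : ι) (g : GL ι F) (hg : ∀ j, j ≠ a → (g : Matrix ι ι F) a j = 0) :
    ∃ G : GL {j : ι // j ≠ a} F,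
      (G : Matrix {j : ι // j ≠ a} {j : ι // j ≠ a} F) =
        (g : Matrix ι ι F).submatrix Subtype.val Subtype.val := by
  have hinv := rowAt_inv a g hg
  refine ⟨⟨blk a (g : Matrix ι ι F), blk a ((g⁻¹ : GL ι F) : Matrix ι ι F), ?_, ?_⟩, rfl⟩
  · rw [← blk_mul a _ _ hinv, ← Units.val_mul, mul_inv_cancel, Units.val_one, blk_one]
  · rw [← blk_mul a _ _ hg, ← Units.val_mul, inv_mul_cancel, Units.val_one, blk_one]

theorem inv_val_eq_of_mul_eq_one {κ : Type*} [Fintype κ] [DecidableEq κ] (G : GL κ F)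
    (X : Matrix κ κ F) (h : (G : Matrix κ κ F) * X = 1) : ((G⁻¹ : GL κ F) : Matrix κ κ F) = X := by
  have h1 : ((G⁻¹ : GL κ F) : Matrix κ κ F) * ((G : Matrix κ κ F) * X) = X := by
    rw [← Matrix.mul_assoc, ← Units.val_mul, inv_mul_cancel, Units.val_one, Matrix.one_mul]
  rw [← h1, h, Matrix.mul_one]

/-- image in GL_κ of the elements of `M` whose row `a` is supported at `a` -/
def blkSub (M : Subgroup (GL ι F)) (a : ι) : Subgroup (GL {j : ι // j ≠ a} F) where
  carrier := {G | ∃ g ∈ M, (∀ j, j ≠ a → (g : Matrix ι ι F) a j = 0) ∧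
    (g : Matrix ι ι F).submatrix Subtype.val Subtype.val =
      (G : Matrix {j : ι // j ≠ a} {j : ι // j ≠ a} F)}
  one_mem' := ⟨1, M.one_mem, rowAt_one a, by rw [Units.val_one, Units.val_one]; exact blk_one a⟩
  mul_mem' := by
    rintro G G' ⟨g, hgM, hg, hgG⟩ ⟨g', hgM', hg', hgG'⟩
    refine ⟨g * g', M.mul_mem hgM hgM', ?_, ?_⟩
    · rw [Units.val_mul]
      exact rowAt_mul a _ _ hg hg'
    · rw [Units.val_mul, Units.val_mul, ← hgG, ← hgG']
      exact blk_mul a _ _ hg'
  inv_mem' := by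
    rintro G ⟨g, hgM, hg, hgG⟩
    refine ⟨g⁻¹, M.inv_mem hgM, rowAt_inv a g hg, ?_⟩
    symm
    apply inv_val_eq_of_mul_eq_one
    rw [← hgG]
    have := blk_mul a (g : Matrix ι ι F) ((g⁻¹ : GL ι F) : Matrix ι ι F) (rowAt_inv a g hg)
    rw [← Units.val_mul, mul_inv_cancel, Units.val_one, blk_one] at this
    exact this.symm

theorem mem_blkSub_iff (M : Subgroup (GL ι F)) (a : ι) (G : GL {j : ι // j ≠ a} F) :
    G ∈ blkSub M a ↔ ∃ g ∈ M, (∀ j, j ≠ a → (g : Matrix ι ι F) a j = 0) ∧
      (g : Matrix ι ι F).submatrix Subtype.val Subtype.val =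
        (G : Matrix {j : ι // j ≠ a} {j : ι // j ≠ a} F) := Iff.rfl

/-- a lift criterion: a matrix of `M` with row `a` supported at `a` has its block in `blkSub` -/
theorem matIn_blkSub (M : Subgroup (GL ι F)) (a : ι) (g : GL ι F) (hgM : g ∈ M)
    (hg : ∀ j, j ≠ a → (g : Matrix ι ι F) a j = 0) :
    MatIn (blkSub M a) ((g : Matrix ι ι F).submatrix Subtype.val Subtype.val) := by
  obtain ⟨G, hG⟩ := exists_blk_unit a g hg
  exact ⟨G, ⟨g, hgM, hg, hG.symm⟩, hG⟩

theorem blkSub_diag (M : Subgroup (GL ι F)) (a : ι)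
    (hN : ∀ g : GL ι F, IsMonoMat (g : Matrix ι ι F) → (g : Matrix ι ι F).det = 1 → g ∈ M)
    (j : {j : ι // j ≠ a}) (μ : F) (hμ : μ ≠ 0) :
    MatIn (blkSub M a) (diagonal (Function.update (1 : {j : ι // j ≠ a} → F) j μ)) := by
  set u : Fˣ := Units.mk0 μ hμ with hu
  set d : ι → Fˣ := fun i => if i = j.1 then u else if i = a then u⁻¹ else 1 with hd
  have hdet : ((dg d : GL ι F) : Matrix ι ι F).det = 1 := by
    rw [det_dg, Fintype.prod_eq_mul j.1 a j.2]
    · simp only [hd, if_true, if_neg j.2.symm]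
      rw [← Units.val_mul, mul_inv_cancel, Units.val_one]
    · rintro x ⟨hx1, hx2⟩
      simp only [hd, if_neg hx1, if_neg hx2, Units.val_one]
  have hM : dg d ∈ M := hN _ (by rw [dg_val]; exact isMonoMat_diagonal _) hdet
  have hrow : ∀ k, k ≠ a → ((dg d : GL ι F) : Matrix ι ι F) a k = 0 := by
    intro k hk
    rw [dg_val]
    exact Matrix.diagonal_apply_ne _ hk.symm
  have := matIn_blkSub M a (dg d) hM hrow
  rw [dg_val, Matrix.submatrix_diagonal _ _ Subtype.val_injective] at this
  convert this using 2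
  funext k
  simp only [Function.comp_apply, hd]
  by_cases hk : k = j
  · subst hk
    simp [hu]
  · have hk' : k.1 ≠ j.1 := fun h => hk (Subtype.ext h)
    rw [Function.update_of_ne hk, if_neg hk', if_neg k.2]
    simp

theorem permMatrix_apply' {n : Type*} [DecidableEq n] (σ : Equiv.Perm n) (i j : n) :
    Equiv.Perm.permMatrix F σ i j = if σ i = j then 1 else 0 := by
  show (σ.toPEquiv.toMatrix : Matrix n n F) i j = _
  rw [PEquiv.toMatrix_apply, Equiv.toPEquiv_apply]
  simp only [Option.mem_def, Option.some.injEq]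

theorem blkSub_swap (M : Subgroup (GL ι F)) (a : ι)
    (hN : ∀ g : GL ι F, IsMonoMat (g : Matrix ι ι F) → (g : Matrix ι ι F).det = 1 → g ∈ M)
    (b m : {j : ι // j ≠ a}) (hbm : b ≠ m) :
    MatIn (blkSub M a) (Equiv.Perm.permMatrix F (Equiv.swap b m)) := by
  have hbm' : b.1 ≠ m.1 := fun h => hbm (Subtype.ext h)
  set P : Matrix ι ι F := Equiv.Perm.permMatrix F (Equiv.swap b.1 m.1) *
    diagonal (Function.update (1 : ι → F) a (-1)) with hP
  have hPapp : ∀ i k, P i k = (if Equiv.swap b.1 m.1 i = k then 1 else 0) *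
      Function.update (1 : ι → F) a (-1) k := by
    intro i k
    rw [hP, Matrix.mul_diagonal, permMatrix_apply']
  have hdet : P.det = 1 := by
    rw [hP, Matrix.det_mul, Matrix.det_permutation, Equiv.Perm.sign_swap hbm', Matrix.det_diagonal,
      Finset.prod_update_of_mem (Finset.mem_univ a)]
    simp
  set g : GL ι F := Matrix.GeneralLinearGroup.mkOfDetNeZero P (by rw [hdet]; exact one_ne_zero)
    with hg
  have hgval : (g : Matrix ι ι F) = P := rfl
  have hmono : IsMonoMat (g : Matrix ι ι F) := by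
    refine ⟨(Equiv.swap b.1 m.1).symm, fun i k hik => ?_⟩
    rw [hgval, hPapp] at hik
    by_cases h : Equiv.swap b.1 m.1 i = k
    · rw [← h, Equiv.symm_apply_apply]
    · rw [if_neg h, zero_mul] at hik
      exact absurd rfl hik
  have hM : g ∈ M := hN g hmono (by rw [hgval]; exact hdet)
  have hrow : ∀ k, k ≠ a → (g : Matrix ι ι F) a k = 0 := by
    intro k hk
    rw [hgval, hPapp, Equiv.swap_apply_of_ne_of_ne b.2.symm m.2.symm, if_neg hk.symm, zero_mul]
  have := matIn_blkSub M a g hM hrow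
  convert this using 1
  ext i k
  rw [Matrix.submatrix_apply, hgval, hPapp, permMatrix_apply', Function.update_of_ne k.2, Pi.one_apply,
    mul_one]
  have key : (Equiv.swap b m i = k) ↔ (Equiv.swap b.1 m.1 i.1 = k.1) := by
    rw [Equiv.swap_apply_def, Equiv.swap_apply_def]
    by_cases h1 : i = b
    · subst h1
      simp only [if_true]
      exact Subtype.ext_iff
    · have h1' : i.1 ≠ b.1 := fun h => h1 (Subtype.ext h)
      by_cases h2 : i = m
      · subst h2
        simp only [if_neg h1, if_neg h1', if_true]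
        exact Subtype.ext_iff
      · have h2' : i.1 ≠ m.1 := fun h => h2 (Subtype.ext h)
        simp only [if_neg h1, if_neg h1', if_neg h2, if_neg h2']
        exact Subtype.ext_iff
  by_cases h : Equiv.swap b m i = k
  · rw [if_pos h, if_pos (key.1 h)]
  · rw [if_neg h, if_neg (fun h' => h (key.2 h'))]

end Cfsg.Agent.Helper93.MonoBLK
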