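import Mathlib
import Cfsg.Agent.Helper13.Sp4O.Defs

/-!
# (MULE) of helper13's #10428 (S2281, n = 2, q odd): the multiplication law of the Eichler elements `E(e1, a e2 + b f2, z)`
-/

set_option autoImplicit false
set_option linter.unusedSectionVars false

namespace Cfsg.Agent.Helper93.Sp4O

open Matrix Cfsg.Agent.Helper13.Sp4O

variable {F : Type*} [Field F]

/-- `B(a' e2 + b' f2, a e2 + b f2) = a' b - b' a` -/
theorem sympForm_y_y (a b a' b' : F) :
    Cfsg.sympForm 2 F (a' • e2 + b' • f2) (a • e2 + b • f2) = a' * b - b' * a := by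
  rw [Cfsg.Agent.Helper13.sympForm_add_left, Cfsg.Agent.Helper13.sympForm_smul_left,
    Cfsg.Agent.Helper13.sympForm_smul_left, e2_B, f2_B]
  simp
  ring

theorem y_add_y (a b a' b' : F) :
    a • (e2 : V4 F) + b • f2 + (a' • e2 + b' • f2) = (a + a') • e2 + (b + b') • f2 := by
  rw [add_smul, add_smul]
  abel

/-- (MULE) -/
theorem MeS_mul (a b z a' b' z' : F) :
    MeS a b z * MeS a' b' z' = MeS (a + a') (b + b') (z + z' + (a' * b - b' * a)) := by
  apply Subtype.ext
  change Me a b z * Me a' b' z' = Me (a + a') (b + b') (z + z' + (a' * b - b' * a))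
  unfold Me
  rw [Cfsg.Agent.Helper13.SpE.Emat_mul _ _ _ _ _ (B_e1_y a b) (B_e1_y a' b'), y_add_y, sympForm_y_y]

end Cfsg.Agent.Helper93.Sp4O
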