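import Mathlib
import Cfsg.Agent.Helper13.Sp4O.Defs
import Cfsg.Agent.Helper93.Sp4OMULE

/-!
# (MULF) of helper13's #10428 (S2281, n = 2, q odd): the multiplication law of the Eichler elements `E(f1, a e2 + b f2, z)`
-/

set_option autoImplicit false
set_option linter.unusedSectionVars false

namespace Cfsg.Agent.Helper93.Sp4O

open Matrix Cfsg.Agent.Helper13.Sp4O

variable {F : Type*} [Field F]

/-- (MULF) -/
theorem MfS_mul (a b z a' b' z' : F) :
    MfS a b z * MfS a' b' z' = MfS (a + a') (b + b') (z + z' + (a' * b - b' * a)) := by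
  apply Subtype.ext
  change Mf a b z * Mf a' b' z' = Mf (a + a') (b + b') (z + z' + (a' * b - b' * a))
  unfold Mf
  rw [Cfsg.Agent.Helper13.SpE.Emat_mul _ _ _ _ _ (B_f1_y a b) (B_f1_y a' b'), y_add_y, sympForm_y_y]

end Cfsg.Agent.Helper93.Sp4O
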