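import Mathlib
import Cfsg.Agent.Helper5.OmBN.Defs

/-!
# Piece (R1-I) of helper5's S2549 farm: `B = (B ∩ s⁻¹ B s) X_k` for the roots of kind I
-/

set_option autoImplicit false

namespace Cfsg.Agent.Helper93.OmBNR1I

open Matrix Cfsg.Agent.Helper5.OmBN

variable {F : Type*} [Field F] {m : ℕ} {α β : F}

/-- right multiplication by a root element -/
theorem mul_xMat_apply (Y : Matrix (Fin (2 * m + 2)) (Fin (2 * m + 2)) F) (a b : Fin (2 * m + 2))
    (t : F) (i j : Fin (2 * m + 2)) :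
    (Y * xMat a b t) i j = Y i j + (if b = j then Y i a * t else 0)
      - (if Fin.rev a = j then Y i (Fin.rev b) * t else 0) := by
  rw [Matrix.mul_apply]
  simp only [xMat_apply, mul_add, mul_sub, Finset.sum_add_distrib, Finset.sum_sub_distrib]
  congr 1
  · congr 1
    · simp
    · by_cases h : b = j
      · simp [h]
      · simp [h]
  · by_cases h : Fin.rev a = j
    · simp [h]
    · simp [h]

/-- left multiplication by a permutation matrix -/
theorem pMat_mul_apply (π : Equiv.Perm (Fin (2 * m + 2)))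
    (Y : Matrix (Fin (2 * m + 2)) (Fin (2 * m + 2)) F) (i j : Fin (2 * m + 2)) :
    ((pMat π : Matrix _ _ F) * Y) i j = Y (π⁻¹ i) j := by
  rw [Matrix.mul_apply]
  simp only [pMat_apply]
  rw [Finset.sum_eq_single (π⁻¹ i)]
  · rw [if_pos (by simp), one_mul]
  · intro c _ hc
    rw [if_neg, zero_mul]
    intro h
    apply hc
    rw [h]
    simp
  · intro hh; exact absurd (Finset.mem_univ _) hh

/-- right multiplication by a permutation matrix -/
theorem mul_pMat_apply (π : Equiv.Perm (Fin (2 * m + 2)))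
    (Y : Matrix (Fin (2 * m + 2)) (Fin (2 * m + 2)) F) (i j : Fin (2 * m + 2)) :
    (Y * (pMat π : Matrix _ _ F)) i j = Y i (π j) := by
  rw [Matrix.mul_apply]
  simp only [pMat_apply]
  rw [Finset.sum_eq_single (π j)]
  · rw [if_pos rfl, mul_one]
  · intro c _ hc
    rw [if_neg hc, mul_zero]
  · intro hh; exact absurd (Finset.mem_univ _) hh

theorem sPerm_inv_apply (k : Fin m) (hk : k.val + 1 < m) (j : Fin (2 * m + 2)) :
    (sPerm k)⁻¹ j = sPerm k j := by
  rw [Equiv.Perm.inv_eq_iff_eq, sPerm_sPerm k hk]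

/-- the diagonal entries of a block upper triangular isometry outside the middle are non-zero -/
theorem diag_ne_zero (g : OG m α β) (hg : g ∈ Bfull m α β) (r : Fin (2 * m + 2)) (h1 : r ≠ c1)
    (h2 : r ≠ c2) : mat g r r ≠ 0 := by
  intro h0
  have h := mul_apply_diag g⁻¹ g ((Bfull m α β).inv_mem hg) hg r h1 h2
  rw [inv_mul_cancel, mat_one, Matrix.one_apply_eq, h0, mul_zero] at h
  exact one_ne_zero h

/-- a representative of a reflection of kind I is an involution -/
theorem inv_eq_self_of_kind_I (k : Fin m) (hk : k.val + 1 < m) (s : OG m α β)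
    (hs : mat s = sMat α k) : s⁻¹ = s := by
  rw [inv_eq_iff_mul_eq_one]
  apply mat_injective
  rw [mat_mul, hs, sMat_of_lt α k hk, pMat_mul, mat_one]
  have h1 : sPerm k * sPerm k = (1 : Equiv.Perm (Fin (2 * m + 2))) := by
    ext j
    rw [Equiv.Perm.mul_apply, sPerm_sPerm k hk, Equiv.Perm.one_apply]
  rw [h1, pMat_one]

/-- conjugation by a representative of kind I permutes the entries -/
theorem s_conj_apply (k : Fin m) (hk : k.val + 1 < m) (s : OG m α β) (hs : mat s = sMat α k)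
    (y : OG m α β) (i j : Fin (2 * m + 2)) :
    mat (s * y * s⁻¹) i j = mat y (sPerm k i) (sPerm k j) := by
  rw [inv_eq_self_of_kind_I k hk s hs, mat_mul, mat_mul, hs, sMat_of_lt α k hk, mul_pMat_apply,
    pMat_mul_apply, sPerm_inv_apply k hk]

set_option maxHeartbeats 1600000 in
/-- the order of the blocks after the permutation `sPerm k`: pure arithmetic -/
theorem order_aux (m k I J Si Sj Pi Pj Qi Qj : ℕ) (hk : k + 1 < m) (hi : I < 2 * m + 2)
    (hj : J < 2 * m + 2)
    (h1 : (I < m ∧ Pi = I) ∨ (m ≤ I ∧ I ≤ m + 1 ∧ Pi = m) ∨ (m + 2 ≤ I ∧ Pi = I - 1))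
    (h2 : (J < m ∧ Pj = J) ∨ (m ≤ J ∧ J ≤ m + 1 ∧ Pj = m) ∨ (m + 2 ≤ J ∧ Pj = J - 1))
    (h3 : (Si < m ∧ Qi = Si) ∨ (m ≤ Si ∧ Si ≤ m + 1 ∧ Qi = m) ∨ (m + 2 ≤ Si ∧ Qi = Si - 1))
    (h4 : (Sj < m ∧ Qj = Sj) ∨ (m ≤ Sj ∧ Sj ≤ m + 1 ∧ Qj = m) ∨ (m + 2 ≤ Sj ∧ Qj = Sj - 1))
    (h5 : (I = k ∧ Si = k + 1) ∨ (I = k + 1 ∧ Si = k) ∨ (I = 2 * m - k ∧ Si = 2 * m + 1 - k) ∨
      (I = 2 * m + 1 - k ∧ Si = 2 * m - k) ∨
      (I ≠ k ∧ I ≠ k + 1 ∧ I ≠ 2 * m - k ∧ I ≠ 2 * m + 1 - k ∧ Si = I))
    (h6 : (J = k ∧ Sj = k + 1) ∨ (J = k + 1 ∧ Sj = k) ∨ (J = 2 * m - k ∧ Sj = 2 * m + 1 - k) ∨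
      (J = 2 * m + 1 - k ∧ Sj = 2 * m - k) ∨
      (J ≠ k ∧ J ≠ k + 1 ∧ J ≠ 2 * m - k ∧ J ≠ 2 * m + 1 - k ∧ Sj = J))
    (hji : Pj < Pi) (hc1 : ¬ (Si = k ∧ Sj = k + 1))
    (hc2 : ¬ (Si = 2 * m + 1 - (k + 1) ∧ Sj = 2 * m + 1 - k)) : Qj < Qi := by
  rcases h5 with h5 | h5 | h5 | h5 | h5 <;> rcases h6 with h6 | h6 | h6 | h6 | h6 <;>
    rcases h1 with h1 | h1 | h1 <;> rcases h2 with h2 | h2 | h2 <;> omega

/-- (R1-I) `B = (B ∩ s⁻¹ B s) X_k`, roots of kind I -/
theorem exists_factor_I (hXI : HasXI m α β) (k : Fin m) (hk : k.val + 1 < m) (s : OG m α β)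
    (hs : mat s = sMat α k) (b : OG m α β) (hb : b ∈ Bsub m α β) :
    ∃ y x : OG m α β, b = y * x ∧ s * y * s⁻¹ ∈ Bsub m α β ∧ x ∈ Xset α β k := by
  have hkm := k.2
  obtain ⟨hbB, hbR⟩ := (mem_Bsub_iff b).1 hb
  have hbF : b ∈ Bfull m α β := Bsub_le_Bfull hb
  -- the four positions
  have hlo1 : lo k ≠ (c1 : Fin (2 * m + 2)) := lo_ne_c1 k
  have hlo2 : lo k ≠ (c2 : Fin (2 * m + 2)) := lo_ne_c2 k
  have hib1 : ib k ≠ (c1 : Fin (2 * m + 2)) := by
    intro h; have := congrArg Fin.val h; rw [val_ib, val_c1] at this; omega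
  have hib2 : ib k ≠ (c2 : Fin (2 * m + 2)) := by
    intro h; have := congrArg Fin.val h; rw [val_ib, val_c2] at this; omega
  have hne1 : lo k ≠ ib k := by
    intro h; have := congrArg Fin.val h; rw [val_lo, val_ib] at this; omega
  have hne2 : lo k ≠ Fin.rev (ib k) := by
    intro h; have := congrArg Fin.val h; rw [val_rev, val_lo, val_ib] at this; omega
  have hne3 : Fin.rev (lo k) ≠ lo k := by
    intro h; have := congrArg Fin.val h; rw [val_rev, val_lo] at this; omega
  have hne4 : Fin.rev (lo k) ≠ ib k := by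
    intro h; have := congrArg Fin.val h; rw [val_rev, val_lo, val_ib] at this; omega
  obtain ⟨p, hp⟩ : ∃ p, p = mat b (lo k) (lo k) := ⟨_, rfl⟩
  obtain ⟨r, hr⟩ : ∃ r, r = mat b (lo k) (ib k) := ⟨_, rfl⟩
  have hp0 : p ≠ 0 := by rw [hp]; exact diag_ne_zero b hbF (lo k) hlo1 hlo2
  obtain ⟨x, hx⟩ := hXI (lo k) (ib k) hlo1 hlo2 hib1 hib2 hne1 hne2 (r / p)
  have hxB : x ∈ Bsub m α β := by
    rw [mem_Bsub_iff]
    refine ⟨?_, ?_, ?_⟩
    · intro i j hji
      rw [hx, xMat_apply, if_neg (fun h => by rw [h] at hji; exact lt_irrefl _ hji), if_neg,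
        if_neg]
      · ring
      · rintro ⟨h1, h2⟩
        rw [← h1, ← h2] at hji
        have hi := i.2
        have hj := j.2
        unfold pos at hji
        rw [val_rev, val_rev, val_ib, val_lo] at hji
        split_ifs at hji <;> omega
      · rintro ⟨h1, h2⟩
        rw [← h1, ← h2] at hji
        unfold pos at hji
        rw [val_ib, val_lo] at hji
        split_ifs at hji <;> omega
    · rw [hx, xMat_apply, xMat_apply, if_neg c1_ne_c2, if_neg (fun h => hlo1 h.1),
        if_neg (fun h => hib2 (by rw [← Fin.rev_rev (ib k), h.1, rev_c1])),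
        if_neg c1_ne_c2.symm, if_neg (fun h => hlo2 h.1),
        if_neg (fun h => hib1 (by rw [← Fin.rev_rev (ib k), h.1, rev_c2]))]
      ring
    · rw [hx, xMat_apply, xMat_apply, xMat_apply, if_pos rfl, if_neg (fun h => hlo2 h.1),
        if_neg (fun h => hib1 (by rw [← Fin.rev_rev (ib k), h.1, rev_c2])), if_pos rfl,
        if_neg (fun h => hlo1 h.1),
        if_neg (fun h => hib2 (by rw [← Fin.rev_rev (ib k), h.1, rev_c1])),
        if_neg c1_ne_c2.symm, if_neg (fun h => hlo2 h.1),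
        if_neg (fun h => hib1 (by rw [← Fin.rev_rev (ib k), h.1, rev_c2]))]
      ring
  set y := b * x⁻¹ with hy
  have hyB : y ∈ Bsub m α β := (Bsub m α β).mul_mem hb ((Bsub m α β).inv_mem hxB)
  obtain ⟨hyU, hyR⟩ := (mem_Bsub_iff y).1 hyB
  have hyF : y ∈ Bfull m α β := Bsub_le_Bfull hyB
  have hbyx : b = y * x := by rw [hy, inv_mul_cancel_right]
  have hmat : ∀ i j, mat b i j = mat y i j +
      (if ib k = j then mat y i (lo k) * (r / p) else 0)
      - (if Fin.rev (lo k) = j then mat y i (Fin.rev (ib k)) * (r / p) else 0) := by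
    intro i j
    rw [← mul_xMat_apply, ← hx, ← mat_mul, ← hbyx]
  -- entries of `y`
  have hyaa : mat y (lo k) (lo k) = p := by
    have h := hmat (lo k) (lo k)
    rw [if_neg hne1.symm, if_neg hne3, ← hp] at h
    rw [h]; ring
  have hyab : mat y (lo k) (ib k) = 0 := by
    have h := hmat (lo k) (ib k)
    rw [if_pos rfl, if_neg hne4, hyaa, ← hr] at h
    have h'' : p * (r / p) = r := by field_simp
    linear_combination -h - h''
  -- the mirrored entry
  have hybb : mat y (Fin.rev (ib k)) (Fin.rev (lo k)) = 0 := by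
    have h := rel_col y (ib k) (Fin.rev (lo k))
    have hJ : Jm α β (ib k) (Fin.rev (lo k)) = 0 := by
      unfold Jm
      rw [if_neg hib1, if_neg hib2, if_neg]
      intro h'
      exact hne1 (Fin.rev_injective h')
    rw [hJ] at h
    have hc1z : mat y c1 (ib k) = 0 := by
      apply hyU
      rw [pos_c1]
      unfold pos
      rw [val_ib]
      split_ifs <;> omega
    have hc2z : mat y c2 (ib k) = 0 := by
      apply hyU
      rw [pos_c2]
      unfold pos
      rw [val_ib]
      split_ifs <;> omega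
    have hNb : Nb α β (mat y c1 (ib k)) (mat y c2 (ib k)) (mat y c1 (Fin.rev (lo k)))
        (mat y c2 (Fin.rev (lo k))) = 0 := by
      rw [hc1z, hc2z]
      unfold Nb
      ring
    rw [hNb, add_zero] at h
    have hsingle : ∑ i : Fin m, (mat y (lo i) (ib k) * mat y (hi i) (Fin.rev (lo k)) +
        mat y (hi i) (ib k) * mat y (lo i) (Fin.rev (lo k)))
        = mat y (ib k) (ib k) * mat y (Fin.rev (ib k)) (Fin.rev (lo k)) := by
      rw [Finset.sum_eq_single (⟨k.val + 1, hk⟩ : Fin m)]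
      · have e1 : lo (⟨k.val + 1, hk⟩ : Fin m) = ib k := Fin.ext rfl
        have e2 : hi (⟨k.val + 1, hk⟩ : Fin m) = Fin.rev (ib k) := by
          rw [← e1, rev_lo]
        rw [e1, e2]
        have hz : mat y (Fin.rev (ib k)) (ib k) = 0 := by
          apply hyU
          unfold pos
          rw [val_rev, val_ib]
          split_ifs <;> omega
        rw [hz, zero_mul, add_zero]
      · intro i _ hi'
        have hiv : i.val ≠ k.val + 1 := fun h' => hi' (Fin.ext h')
        have him := i.2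
        have hz2 : mat y (hi i) (ib k) = 0 := by
          apply hyU
          rw [pos_hi]
          unfold pos
          rw [val_ib]
          split_ifs <;> omega
        rw [hz2, zero_mul, add_zero]
        by_cases h1 : i = k
        · rw [h1, hyab, zero_mul]
        · have h1v : i.val ≠ k.val := fun h' => h1 (Fin.ext h')
          by_cases h2 : k.val + 1 < i.val
          · have hz3 : mat y (lo i) (ib k) = 0 := by
              apply hyU
              rw [pos_lo]
              unfold pos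
              rw [val_ib]
              split_ifs <;> omega
            rw [hz3, zero_mul]
          · have hz4 : mat y (hi i) (Fin.rev (lo k)) = 0 := by
              apply hyU
              rw [pos_hi, rev_lo, pos_hi]
              omega
            rw [hz4, mul_zero]
      · intro hh; exact absurd (Finset.mem_univ _) hh
    rw [hsingle] at h
    rcases mul_eq_zero.1 h with h0 | h0
    · exact absurd h0 (diag_ne_zero y hyF (ib k) hib1 hib2)
    · exact h0
  refine ⟨y, x, hbyx, ?_, Or.inl ⟨hk, r / p, hx⟩⟩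
  rw [mem_Bsub_iff]
  have hπ1 : sPerm k c1 = (c1 : Fin (2 * m + 2)) := by
    apply Fin.ext
    rw [val_sPerm k hk, val_c1]
    split_ifs <;> omega
  have hπ2 : sPerm k c2 = (c2 : Fin (2 * m + 2)) := by
    apply Fin.ext
    rw [val_sPerm k hk, val_c2]
    split_ifs <;> omega
  refine ⟨?_, ?_⟩
  · intro i j hji
    rw [s_conj_apply k hk s hs]
    by_cases hc1 : sPerm k i = lo k ∧ sPerm k j = ib k
    · rw [hc1.1, hc1.2, hyab]
    by_cases hc2 : sPerm k i = Fin.rev (ib k) ∧ sPerm k j = Fin.rev (lo k)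
    · rw [hc2.1, hc2.2, hybb]
    apply hyU
    have hi := i.2
    have hj := j.2
    have e1 : sPerm k i = lo k ↔ (sPerm k i).val = k.val := by rw [eq_iff_val_eq, val_lo]
    have e2 : sPerm k j = ib k ↔ (sPerm k j).val = k.val + 1 := by rw [eq_iff_val_eq, val_ib]
    have e3 : sPerm k i = Fin.rev (ib k) ↔ (sPerm k i).val = 2 * m + 1 - (k.val + 1) := by
      rw [eq_iff_val_eq, val_rev, val_ib]
    have e4 : sPerm k j = Fin.rev (lo k) ↔ (sPerm k j).val = 2 * m + 1 - k.val := by
      rw [eq_iff_val_eq, val_rev, val_lo]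
    rw [e1, e2] at hc1
    rw [e3, e4] at hc2
    have hpos : ∀ r : Fin (2 * m + 2), (r.val < m ∧ pos r = r.val) ∨
        (m ≤ r.val ∧ r.val ≤ m + 1 ∧ pos r = m) ∨ (m + 2 ≤ r.val ∧ pos r = r.val - 1) := by
      intro r
      unfold pos
      split_ifs <;> omega
    have hsp : ∀ r : Fin (2 * m + 2), (r.val = k.val ∧ (sPerm k r).val = k.val + 1) ∨
        (r.val = k.val + 1 ∧ (sPerm k r).val = k.val) ∨
        (r.val = 2 * m - k.val ∧ (sPerm k r).val = 2 * m + 1 - k.val) ∨
        (r.val = 2 * m + 1 - k.val ∧ (sPerm k r).val = 2 * m - k.val) ∨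
        (r.val ≠ k.val ∧ r.val ≠ k.val + 1 ∧ r.val ≠ 2 * m - k.val ∧ r.val ≠ 2 * m + 1 - k.val ∧
          (sPerm k r).val = r.val) := by
      intro r
      rw [val_sPerm k hk]
      split_ifs <;> omega
    exact order_aux m k.val i.val j.val (sPerm k i).val (sPerm k j).val (pos i) (pos j)
      (pos (sPerm k i)) (pos (sPerm k j)) hk hi hj (hpos i) (hpos j) (hpos (sPerm k i))
      (hpos (sPerm k j)) (hsp i) (hsp j) hji hc1 hc2
  · unfold RotM
    rw [s_conj_apply k hk s hs, s_conj_apply k hk s hs, s_conj_apply k hk s hs,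
      s_conj_apply k hk s hs, hπ1, hπ2]
    exact hyR

end Cfsg.Agent.Helper93.OmBNR1I
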