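import Mathlib
import Cfsg.Agent.Helper5.OmBN.Defs

/-!
# Piece (SSQ) of helper5's S2549 farm: the representatives of the simple reflections are involutions
-/

set_option autoImplicit false

namespace Cfsg.Agent.Helper93.OmBN

open Matrix Cfsg.Agent.Helper5.OmBN

variable {F : Type*} [Field F] {m : ℕ} {α β : F}

theorem swap_lo_hi_eq_c1_iff (k : Fin m) (s : Fin (2 * m + 2)) :
    Equiv.swap (lo k) (hi k) s = c1 ↔ s = c1 := by
  constructor
  · intro h
    have h2 : s = Equiv.swap (lo k) (hi k) c1 := by rw [← h, Equiv.swap_apply_self]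
    rw [h2, Equiv.swap_apply_of_ne_of_ne (lo_ne_c1 k).symm (hi_ne_c1 k).symm]
  · intro h
    rw [h, Equiv.swap_apply_of_ne_of_ne (lo_ne_c1 k).symm (hi_ne_c1 k).symm]

theorem swap_lo_hi_eq_c2_iff (k : Fin m) (s : Fin (2 * m + 2)) :
    Equiv.swap (lo k) (hi k) s = c2 ↔ s = c2 := by
  constructor
  · intro h
    have h2 : s = Equiv.swap (lo k) (hi k) c2 := by rw [← h, Equiv.swap_apply_self]
    rw [h2, Equiv.swap_apply_of_ne_of_ne (lo_ne_c2 k).symm (hi_ne_c2 k).symm]
  · intro h
    rw [h, Equiv.swap_apply_of_ne_of_ne (lo_ne_c2 k).symm (hi_ne_c2 k).symm]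

theorem sVMat_mul_self (k : Fin m) : sVMat α k * sVMat α k = 1 := by
  ext r s
  rw [Matrix.mul_apply]
  by_cases hs : s = c2
  · subst hs
    rw [Finset.sum_eq_add c1 c2 c1_ne_c2]
    · have hA : sVMat α k r c1 = if r = c1 then 1 else 0 := by
        rw [sVMat_apply, if_neg c1_ne_c2,
          Equiv.swap_apply_of_ne_of_ne (lo_ne_c1 k).symm (hi_ne_c1 k).symm]
      have hB : sVMat α k c1 c2 = α := by
        rw [sVMat_apply, if_pos rfl, if_pos rfl]
      have hC : sVMat α k r c2 = if r = c1 then α else if r = c2 then -1 else 0 := by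
        rw [sVMat_apply, if_pos rfl]
      have hD : sVMat α k c2 c2 = -1 := by
        rw [sVMat_apply, if_pos rfl, if_neg c1_ne_c2.symm, if_pos rfl]
      rw [hA, hB, hC, hD, Matrix.one_apply]
      by_cases h1 : r = c1
      · rw [if_pos h1, if_pos h1, if_neg (by rw [h1]; exact c1_ne_c2)]
        ring
      · rw [if_neg h1, if_neg h1]
        by_cases h2 : r = c2
        · rw [if_pos h2, if_pos h2]
          ring
        · rw [if_neg h2, if_neg h2]
          ring
    · intro l _ hl
      rw [sVMat_apply α k l c2, if_pos rfl, if_neg hl.1, if_neg hl.2, mul_zero]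
    · intro h; exact absurd (Finset.mem_univ _) h
    · intro h; exact absurd (Finset.mem_univ _) h
  · rw [Finset.sum_eq_single (Equiv.swap (lo k) (hi k) s)]
    · rw [sVMat_apply α k _ s, if_neg hs, if_pos rfl, mul_one, sVMat_apply,
        if_neg (fun h => hs ((swap_lo_hi_eq_c2_iff k s).1 h)), Equiv.swap_apply_self,
        Matrix.one_apply]
    · intro l _ hl
      rw [sVMat_apply α k l s, if_neg hs, if_neg hl, mul_zero]
    · intro h; exact absurd (Finset.mem_univ _) h

/-- (SSQ) the representatives of the simple reflections are involutions -/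
theorem sMat_mul_self (k : Fin m) : sMat α k * sMat α k = 1 := by
  by_cases hk : k.val + 1 < m
  · rw [sMat_of_lt α k hk, pMat_mul]
    have h1 : sPerm k * sPerm k = (1 : Equiv.Perm (Fin (2 * m + 2))) := by
      ext j
      rw [Equiv.Perm.mul_apply, sPerm_sPerm k hk, Equiv.Perm.one_apply]
    rw [h1, pMat_one]
  · have hk' : k.val + 1 = m := by have := k.2; omega
    rw [sMat_of_eq α k hk', sVMat_mul_self]

end Cfsg.Agent.Helper93.OmBN
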