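import Mathlib
import Cfsg.Agent.Helper14.Spec4Grp

/-!
# (GEX) of helper14's #8271 (S3439): elements of orders 5, 9 and 12 in `G = A8(F_81) ⋊ F20`
-/

set_option autoImplicit false

namespace Cfsg.Agent.Helper93.Spec4

open SemidirectProduct Cfsg.Agent.Helper14.Spec4

theorem zeta_val_pow_ne_one (k : ℕ) (hk : ¬ 5 ∣ k) : ((zeta : Kˣ) : K) ^ k ≠ 1 := by
  intro h
  apply hk
  rw [← zeta_pow_eq_one_iff]
  apply Units.ext
  rw [Units.val_pow_eq_pow_val, h, Units.val_one]

theorem zeta_val_ne_zero : ((zeta : Kˣ) : K) ≠ 0 := Units.ne_zero zeta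

theorem eta_ne_one' : eta ≠ 1 := by
  intro h
  have h1 := congrArg (fun f : MulAut A => (f (⟨1, 0, 0, 0, 0, 0, 0, 0⟩ : A)).X) h
  simp only [eta_apply, MulAut.one_apply, Units.val_pow_eq_pow_val, mul_one] at h1
  exact zeta_val_pow_ne_one 3 (by norm_num) h1

theorem orderOf_eta : orderOf eta = 5 := by
  have : Fact (Nat.Prime 5) := ⟨by norm_num⟩
  exact orderOf_eq_prime eta_pow_five eta_ne_one'

theorem orderOf_hG : orderOf hG = 5 := by
  rw [hG, orderOf_injective (inr : F20 →* G) inr_injective, ← Subgroup.orderOf_coe]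
  exact orderOf_eta

theorem phi_sq_ne_one : ¬ phi ^ 2 ^ 1 = 1 := by
  intro h
  rw [pow_one] at h
  have h1 := congrArg (fun f : MulAut A => (f (⟨(zeta : K), 0, 0, 0, 0, 0, 0, 0⟩ : A)).X) h
  simp only [phi_pow_two_apply, MulAut.one_apply] at h1
  -- zeta^9 = zeta, so zeta^8 = 1
  apply zeta_val_pow_ne_one 8 (by norm_num)
  have h2 : ((zeta : Kˣ) : K) ^ 8 * (zeta : K) = 1 * (zeta : K) := by
    rw [one_mul, ← pow_succ]
    exact h1
  exact mul_right_cancel₀ zeta_val_ne_zero h2

theorem orderOf_phi : orderOf phi = 4 := by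
  have : Fact (Nat.Prime 2) := ⟨by norm_num⟩
  have := orderOf_eq_prime_pow (x := phi) (p := 2) (n := 1) phi_sq_ne_one
    (by norm_num; exact phi_pow_four)
  rw [this]
  norm_num

theorem orderOf_cG : orderOf cG = 4 := by
  rw [cG, orderOf_injective (inr : F20 →* G) inr_injective, ← Subgroup.orderOf_coe]
  exact orderOf_phi

/-- an element of order 9 of `A` -/
noncomputable def a1 : A := ⟨(zeta : K), 1, 1, 0, 0, 0, 0, 0⟩

theorem orderOf_a1 : orderOf a1 = 9 := by
  have : Fact (Nat.Prime 3) := ⟨by norm_num⟩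
  have h : orderOf a1 = 3 ^ (1 + 1) := by
    apply orderOf_eq_prime_pow
    · rw [pow_one, A8.pow_three three_eq_zero]
      intro h
      have h1 := congrArg (fun a : A => a.v2) h
      simp only [a1, A8.one_v2, sg_apply, one_pow, mul_one, neg_eq_zero] at h1
      -- zeta - zeta^9 = 0
      apply zeta_val_pow_ne_one 8 (by norm_num)
      have h2 : ((zeta : Kˣ) : K) ^ 8 * (zeta : K) = 1 * (zeta : K) := by
        rw [one_mul, ← pow_succ]
        exact (sub_eq_zero.1 h1).symm
      exact mul_right_cancel₀ zeta_val_ne_zero h2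
    · norm_num
      exact A8.pow_nine three_eq_zero a1
  rw [h]
  norm_num

/-- an element of order 3 of `A` fixed by `phi` -/
noncomputable def a0 : A := ⟨0, 0, 0, 0, 0, 0, 0, 1⟩

theorem orderOf_a0 : orderOf a0 = 3 := by
  have : Fact (Nat.Prime 3) := ⟨by norm_num⟩
  apply orderOf_eq_prime
  · apply A8.pow_three_eq_one three_eq_zero
    simp [a0]
  · intro h
    have h1 := congrArg (fun a : A => a.v2) h
    simp [a0] at h1

theorem phi_a0 : phi a0 = a0 := by
  rw [phi_apply]
  ext <;> simp [a0]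

theorem commute_a0_cG : Commute (inl a0 : G) cG := by
  show (inl a0 : G) * cG = cG * inl a0
  rw [cG]
  apply SemidirectProduct.ext
  · rw [mul_left, mul_left, left_inl, left_inr, right_inl, right_inr, map_one, mul_one, one_mul]
    exact phi_a0.symm
  · rw [mul_right, mul_right, right_inl, right_inr, mul_one, one_mul]

/-- (GEX) elements of orders 5, 9, 12 in `G` -/
theorem exists_orderOf_G : (∃ g : G, orderOf g = 5) ∧ (∃ g : G, orderOf g = 9) ∧
    ∃ g : G, orderOf g = 12 := by
  refine ⟨⟨hG, orderOf_hG⟩, ⟨inl a1, ?_⟩, ⟨inl a0 * cG, ?_⟩⟩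
  · rw [orderOf_injective (inl : A →* G) inl_injective]
    exact orderOf_a1
  · have h3 : orderOf (inl a0 : G) = 3 := by
      rw [orderOf_injective (inl : A →* G) inl_injective]
      exact orderOf_a0
    rw [commute_a0_cG.orderOf_mul_eq_mul_orderOf_of_coprime (by rw [h3, orderOf_cG]; norm_num),
      h3, orderOf_cG]

end Cfsg.Agent.Helper93.Spec4
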