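import Mathlib
import Cfsg.Agent.Helper19.OpBN.Defs

/-!
# (MEMX) of helper19's S2548 farm (#10446): the root elements `xMat a b t` are isometries of `Qp m`

Column `j` of `xMat a b t` is `e_j + t [j = b] e_a - t [j = rev a] e_(rev b)`; every summand of the quadratic sum vanishes, and the
polar sum collapses to `[p = rev r]` after two cancellations.
-/

set_option autoImplicit false
set_option linter.unusedSectionVars false
set_option linter.unusedVariables false
set_option linter.unusedSimpArgs false

namespace Cfsg.Agent.Helper93.OpBN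

open Matrix Cfsg.Agent.Helper19.OpBN

variable {F : Type*} [Field F] {m : ℕ}

theorem polar_sum (a b : Fin (2 * m)) (t : F) (p r : Fin (2 * m)) :
    ∑ i, xMat a b t i p * xMat a b t (Fin.rev i) r =
      xMat a b t (Fin.rev p) r + (if b = p then t * xMat a b t (Fin.rev a) r else 0)
        - (if Fin.rev a = p then t * xMat a b t b r else 0) := by
  rw [Finset.sum_congr rfl (fun i _ => by rw [xMat_apply a b t i p])]
  simp only [add_mul, sub_mul, Finset.sum_add_distrib, Finset.sum_sub_distrib, ite_and, ite_mul,
    zero_mul, one_mul, Finset.sum_ite_eq, Finset.sum_ite_eq', Finset.mem_univ, if_true, Fin.rev_rev]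

/-- (MEMX) the root elements are isometries -/
theorem xMat_isOJ (a b : Fin (2 * m)) (hab : a ≠ b) (hab' : a ≠ Fin.rev b) (t : F) :
    IsOJ (xMat a b t) := by
  have ha := a.2
  have hb := b.2
  constructor
  · intro p
    have hp := p.2
    apply Finset.sum_eq_zero
    intro i _
    have hi := i.2
    rw [← rev_lo, xMat_apply, xMat_apply]
    have hx := (lo i).2
    generalize lo i = x at hx ⊢
    split_ifs <;>
      first
      | ring1
      | (exfalso; simp only [Fin.ext_iff, val_rev, ne_eq, not_and] at *; omega)
  · intro p r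
    have row1 : xMat a b t (Fin.rev a) r = if Fin.rev a = r then 1 else 0 := by
      rw [xMat_apply, if_neg (c := a = Fin.rev a ∧ b = r) (fun h => rev_ne a h.1.symm),
        if_neg (c := Fin.rev b = Fin.rev a ∧ Fin.rev a = r) (fun h => hab (Fin.rev_inj.1 h.1).symm),
        add_zero, sub_zero]
    have row2 : xMat a b t b r = if b = r then 1 else 0 := by
      rw [xMat_apply, if_neg (c := a = b ∧ b = r) (fun h => hab h.1),
        if_neg (c := Fin.rev b = b ∧ Fin.rev a = r) (fun h => rev_ne b h.1), add_zero, sub_zero]
    have e1 : (a = Fin.rev p) = (Fin.rev a = p) :=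
      propext ⟨fun h => by rw [h, Fin.rev_rev], fun h => by rw [← h, Fin.rev_rev]⟩
    have e2 : (Fin.rev b = Fin.rev p) = (b = p) := propext Fin.rev_inj
    have e3 : (Fin.rev p = r) = (p = Fin.rev r) :=
      propext ⟨fun h => by rw [← h, Fin.rev_rev], fun h => by rw [h, Fin.rev_rev]⟩
    rw [polar_sum, row1, row2, xMat_apply]
    simp only [e1, e2, e3, ite_and, mul_ite, mul_one, mul_zero]
    ring

end Cfsg.Agent.Helper93.OpBN
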