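import Mathlib
import Cfsg.Agent.Helper19.OpBN.Defs

/-!
# (XB) of helper19's S2548 farm (#10446): the root elements `x_k(t)` are upper unitriangular
-/

set_option autoImplicit false
set_option linter.unusedSectionVars false
set_option linter.unusedVariables false
set_option linter.unusedSimpArgs false

namespace Cfsg.Agent.Helper93.OpBN

open Matrix Cfsg.Agent.Helper19.OpBN

variable {F : Type*} [Field F] {m : ℕ}

/-- below the diagonal `x_k(t)` vanishes -/
theorem xMat_apply_of_lt (k : Fin (m - 1)) (t : F) (i j : Fin (2 * m)) (hji : j < i) :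
    xMat (ia k) (ib k) t i j = 0 := by
  have hk := k.2
  have hi := i.2
  have hj := j.2
  have hlt : j.val < i.val := hji
  rw [xMat_apply]
  split_ifs <;>
    first
    | ring1
    | (exfalso; simp only [Fin.ext_iff, val_rev, val_ia, val_ib, ne_eq, not_and] at *; omega)

/-- the diagonal of `x_k(t)` -/
theorem xMat_apply_self (k : Fin (m - 1)) (t : F) (i : Fin (2 * m)) :
    xMat (ia k) (ib k) t i i = 1 := by
  have hk := k.2
  have hi := i.2
  rw [xMat_apply, if_pos rfl]
  split_ifs <;>
    first
    | ring1
    | (exfalso; simp only [Fin.ext_iff, val_rev, val_ia, val_ib, ne_eq, not_and] at *; omega)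

/-- (XB) root elements are upper unitriangular -/
theorem Xset_subset_Usub (k : Fin (m - 1)) : Xset (F := F) k ⊆ (Usub m F : Set (OG m F)) := by
  rintro g ⟨t, ht⟩
  rw [SetLike.mem_coe, mem_Usub_iff]
  refine ⟨fun a b hba => ?_, fun a => ?_⟩
  · rw [ht]; exact xMat_apply_of_lt k t a b hba
  · rw [ht]; exact xMat_apply_self k t a

end Cfsg.Agent.Helper93.OpBN
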