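import Mathlib
import Cfsg.Agent.Helper5.SuBN.Defs

/-!
# (XB) of helper5's S2546 farm (#9120): the root elements are upper unitriangular
-/

set_option autoImplicit false
set_option linter.unusedSectionVars false
set_option linter.unusedVariables false
set_option linter.unusedSimpArgs false

namespace Cfsg.Agent.Helper93.SuBNXB

open Matrix Cfsg.Agent.Helper5.SuBN

variable {F : Type*} [Field F] {n : ℕ} {σ : F →+* F}

/-- the entries of `xMat` below the diagonal vanish -/
theorem xMat_apply_of_lt (k : Fin (n / 2)) (t u : F) (a b : Fin n) (hab : b < a) :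
    xMat σ k t u a b = 0 := by
  have hk := k.2
  have ha := a.2
  have hb := b.2
  have hab' : b.val < a.val := hab
  rw [xMat_apply, if_neg, if_neg, if_neg, if_neg]
  · simp
  · rintro ⟨h1, h2⟩
    have e1 := congrArg Fin.val h1
    have e2 := congrArg Fin.val h2
    simp only [val_ia, val_ib, val_rev] at e1 e2
    omega
  · rintro ⟨h1, h2⟩
    have e1 := congrArg Fin.val h1
    have e2 := congrArg Fin.val h2
    simp only [val_ia, val_ib, val_rev] at e1 e2
    omega
  · rintro ⟨h1, h2⟩
    have e1 := congrArg Fin.val h1
    have e2 := congrArg Fin.val h2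
    simp only [val_ia, val_ib, val_rev] at e1 e2
    omega
  · intro h
    rw [h] at hab'
    omega

/-- the diagonal entries of `xMat` are `1` -/
theorem xMat_apply_self (k : Fin (n / 2)) (t u : F) (a : Fin n) :
    xMat σ k t u a a = 1 := by
  have hk := k.2
  have ha := a.2
  rw [xMat_apply, if_pos rfl, if_neg, if_neg, if_neg]
  · simp
  · rintro ⟨h1, h2⟩
    have e1 := congrArg Fin.val h1
    have e2 := congrArg Fin.val h2
    simp only [val_ia, val_ib, val_rev] at e1 e2
    omega
  · rintro ⟨h1, h2⟩
    have e1 := congrArg Fin.val h1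
    have e2 := congrArg Fin.val h2
    simp only [val_ia, val_ib, val_rev] at e1 e2
    omega
  · rintro ⟨h1, h2⟩
    have e1 := congrArg Fin.val h1
    have e2 := congrArg Fin.val h2
    simp only [val_ia, val_ib, val_rev] at e1 e2
    omega

theorem Xset_subset_Usub (k : Fin (n / 2)) : Xset σ k ⊆ (Usub n σ : Set (UG n σ)) := by
  rintro g ⟨t, u, -, hg⟩
  rw [SetLike.mem_coe, mem_Usub_iff]
  constructor
  · intro a b hab
    rw [hg]
    exact xMat_apply_of_lt k t u a b hab
  · intro a
    rw [hg]
    exact xMat_apply_self k t u a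

end Cfsg.Agent.Helper93.SuBNXB
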