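import Mathlib
import Cfsg.Agent.Helper5.SuBN.Defs
import Cfsg.Agent.Helper93.SuBNXB

/-!
# (MEMX) of helper5's S2546 farm (#9118): the root elements `xMat σ k t u` are special unitary

`det = 1` because `xMat` is upper unitriangular; the unitarity sums are computed entrywise, the only defect
sits at `(rev (ia k), rev (ia k))` and equals `u + σ u + [kind III] t σ t`, which vanishes by `Param`.
-/

set_option autoImplicit false
set_option linter.unusedSectionVars false
set_option linter.unusedVariables false
set_option linter.unusedSimpArgs false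

namespace Cfsg.Agent.Helper93.SuBNMEMX

open Matrix Cfsg.Agent.Helper5.SuBN

variable {F : Type*} [Field F] {n : ℕ} {σ : F →+* F}

theorem ia_ne_revia (k : Fin (n / 2)) : ia k ≠ Fin.rev (ia k) := by
  have hk := k.2
  intro h1
  have e1 := congrArg Fin.val h1
  simp only [val_ia, val_ib, val_rev] at e1
  omega

theorem ia_ne_ib (k : Fin (n / 2)) : ia k ≠ ib k := by
  have hk := k.2
  intro h1
  have e1 := congrArg Fin.val h1
  simp only [val_ia, val_ib, val_rev] at e1
  omega

theorem revib_ne_revia (k : Fin (n / 2)) : Fin.rev (ib k) ≠ Fin.rev (ia k) := by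
  have hk := k.2
  intro h1
  have e1 := congrArg Fin.val h1
  simp only [val_ia, val_ib, val_rev] at e1
  omega

/-- row `rev (ia k)` of `xMat` -/
theorem xMat_apply_revia (k : Fin (n / 2)) (t u : F) (j : Fin n) :
    xMat σ k t u (Fin.rev (ia k)) j = if Fin.rev (ia k) = j then 1 else 0 := by
  rw [xMat_apply, if_neg (c := ia k = Fin.rev (ia k) ∧ ib k = j) (fun h => ia_ne_revia k h.1),
    if_neg (c := Fin.rev (ib k) = Fin.rev (ia k) ∧ Fin.rev (ia k) = j)
      (fun h => revib_ne_revia k h.1),
    if_neg (c := ia k = Fin.rev (ia k) ∧ Fin.rev (ia k) = j) (fun h => ia_ne_revia k h.1)]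
  simp

/-- row `ib k` of `xMat` -/
theorem xMat_apply_ib (k : Fin (n / 2)) (t u : F) (j : Fin n) :
    xMat σ k t u (ib k) j = (if ib k = j then 1 else 0) -
      (if Fin.rev (ib k) = ib k ∧ Fin.rev (ia k) = j then σ t else 0) := by
  rw [xMat_apply, if_neg (c := ia k = ib k ∧ ib k = j) (fun h => ia_ne_ib k h.1),
    if_neg (c := ia k = ib k ∧ Fin.rev (ia k) = j) (fun h => ia_ne_ib k h.1)]
  simp

theorem unitary_sum (k : Fin (n / 2)) (t u : F) (a' b' : Fin n) :
    ∑ i, xMat σ k t u i a' * σ (xMat σ k t u (Fin.rev i) b') =
      σ (xMat σ k t u a'.rev b') + (if ib k = a' then t * σ (if Fin.rev (ia k) = b' then 1 else 0) else 0) -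
        (if (ia k).rev = a' then σ t * σ ((if ib k = b' then 1 else 0) -
      (if Fin.rev (ib k) = ib k ∧ Fin.rev (ia k) = b' then σ t else 0)) else 0) +
      if (ia k).rev = a' then u * σ (if Fin.rev (ia k) = b' then 1 else 0) else 0 := by
  rw [show (∑ i, xMat σ k t u i a' * σ (xMat σ k t u (Fin.rev i) b')) = ∑ i, ((if i = a' then 1 else 0) + (if ia k = i ∧ ib k = a' then t else 0)
      - (if Fin.rev (ib k) = i ∧ Fin.rev (ia k) = a' then σ t else 0)
      + (if ia k = i ∧ Fin.rev (ia k) = a' then u else 0)) * σ (xMat σ k t u (Fin.rev i) b') from Finset.sum_congr rfl (fun i _ => by rw [xMat_apply k t u i a'])]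
  simp only [add_mul, sub_mul, Finset.sum_add_distrib, Finset.sum_sub_distrib, ite_and, ite_mul, zero_mul, one_mul, Finset.sum_ite_eq, Finset.sum_ite_eq', Finset.mem_univ, if_true]
  rw [Fin.rev_rev, xMat_apply_revia, xMat_apply_ib]
  simp only [ite_and]

theorem xMat_isUJ (hσ : ∀ x, σ (σ x) = x) (k : Fin (n / 2)) (t u : F) (h : Param σ k t u) :
    IsUJ σ (xMat σ k t u) := by
  have hk := k.2
  constructor
  · rw [Matrix.det_of_isUpperTriangular]
    · apply Finset.prod_eq_one
      intro a _
      exact Cfsg.Agent.Helper93.SuBNXB.xMat_apply_self k t u a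
    · intro a b hab
      exact Cfsg.Agent.Helper93.SuBNXB.xMat_apply_of_lt k t u a b hab
  · intro a' b'
    have ha' := a'.2
    have hb' := b'.2
    rw [unitary_sum]
    -- the defect
    have hdef : u + σ u + (if Fin.rev (ib k) = ib k then t * σ t else 0) = 0 := by
      unfold Param at h
      by_cases h1 : 2 * k.val + 3 < n
      · rw [if_pos h1] at h
        rw [if_neg, h]
        · simp
        · intro h2
          have e := congrArg Fin.val h2
          simp only [val_ib, val_rev] at e
          omega
      · rw [if_neg h1] at h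
        by_cases h2 : 2 * k.val + 2 = n
        · rw [if_pos h2] at h
          rw [if_neg, h.2]
          · simp
          · intro h2
            have e := congrArg Fin.val h2
            simp only [val_ib, val_rev] at e
            omega
        · rw [if_neg h2] at h
          rw [if_pos, h]
          apply Fin.ext
          simp only [val_ib, val_rev]
          omega
    have hcc : Fin.rev (ib k) = ia k ↔ ib k = Fin.rev (ia k) := by
      constructor
      · intro h; rw [← h, Fin.rev_rev]
      · intro h; rw [h, Fin.rev_rev]
    by_cases hA : (ia k).rev = a'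
    · subst hA
      rw [Fin.rev_rev, if_pos rfl, if_pos rfl, xMat_apply]
      by_cases h3 : Fin.rev (ia k) = b'
      · subst h3
        simp only [if_true, true_and, hcc, ia_ne_revia k, if_false, false_and, map_add, map_sub,
          map_one, map_zero, apply_ite σ, hσ, Fin.rev_inj]
        simp only [and_true]
        split_ifs at hdef ⊢ <;> linear_combination hdef
      · simp only [h3, if_false, and_false, map_add, map_sub, map_one, map_zero, apply_ite σ, hσ,
          Fin.rev_inj, true_and, mul_zero, sub_zero, add_zero]
        split_ifs <;> ring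
    · have hA' : ¬ ia k = Fin.rev a' := fun h => hA (by rw [h, Fin.rev_rev])
      rw [if_neg hA, if_neg hA, xMat_apply]
      have ht : (if a' = Fin.rev b' then (1 : F) else 0) = if Fin.rev a' = b' then 1 else 0 := by
        by_cases h1 : Fin.rev a' = b'
        · rw [if_pos h1, if_pos (by rw [← h1, Fin.rev_rev])]
        · rw [if_neg h1, if_neg (fun h => h1 (by rw [h, Fin.rev_rev]))]
      rw [ht]
      simp only [hA', false_and, if_false, Fin.rev_inj, map_add, map_sub, map_one, map_zero,
        apply_ite σ, hσ, sub_zero, add_zero]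
      simp only [ite_and]
      split_ifs <;> ring

end Cfsg.Agent.Helper93.SuBNMEMX
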