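/-
Helper93: permutations of the 24 points from explicit tables (on top of Helper7's table model of M24).
-/
import Cfsg.Agent.Helper7.Table

set_option autoImplicit false

namespace Cfsg.Agent.Helper93

open Cfsg Cfsg.Agent.Helper7

/-- `l` and `l'` are mutually inverse tables of permutations of `0..23` -/
def ValidTables (l l' : List ℕ) : Prop :=
  l.length = 24 ∧ ∀ i < 24, l.getD i 0 < 24 ∧ l'.getD i 0 < 24 ∧ l'.getD (l.getD i 0) 0 = i ∧
    l.getD (l'.getD i 0) 0 = i

instance validTablesDecidable (l l' : List ℕ) : Decidable (ValidTables l l') := by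
  unfold ValidTables
  infer_instance

/-- the permutation of the 24 points with table `l` (and inverse table `l'`) -/
def tablePerm (l l' : List ℕ) (h : ValidTables l l') : Equiv.Perm GolayPt where
  toFun p := pt (l.getD (idx p) 0)
  invFun p := pt (l'.getD (idx p) 0)
  left_inv p := by
    have hp := h.2 _ (idx_lt p)
    show pt (l'.getD (idx (pt (l.getD (idx p) 0))) 0) = p
    rw [idx_pt hp.1, hp.2.2.1, pt_idx]
  right_inv p := by
    have hp := h.2 _ (idx_lt p)
    show pt (l.getD (idx (pt (l'.getD (idx p) 0))) 0) = p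
    rw [idx_pt hp.2.1, hp.2.2.2, pt_idx]

theorem tablePerm_apply (l l' : List ℕ) (h : ValidTables l l') (p : GolayPt) :
    tablePerm l l' h p = pt (l.getD (idx p) 0) := rfl

theorem isTable_tablePerm (l l' : List ℕ) (h : ValidTables l l') : IsTable l (tablePerm l l' h) := by
  refine ⟨h.1, fun p => ?_⟩
  rw [tablePerm_apply, idx_pt (h.2 _ (idx_lt p)).1]

theorem tablePerm_mem_M24 (l l' : List ℕ) (h : ValidTables l l')
    (hc : ∀ x ∈ gmasks, enc (pullMask l x % 4096) = pullMask l x) : tablePerm l l' h ∈ M24 :=
  mem_M24_of_isTable (isTable_tablePerm l l' h) hc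

end Cfsg.Agent.Helper93
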