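import Cfsg.Agent.Helper43.PsuM.RDefs
import Cfsg.Agent.Helper30.PsuM_PL1

/-!
helper93: pieces (PL2), (PL5) of helper43's block R (#14254, S2089), on top of helper30's (PL1).
-/

set_option autoImplicit false
set_option linter.unusedSectionVars false
set_option linter.unusedVariables false

namespace Cfsg.Agent.Helper93.PsuM

open scoped commutatorElement
open Cfsg.Agent.Helper96.StLift Cfsg.Agent.Helper43.PsuM

universe u

section plift

variable {Γ G : Type u} [Group Γ] [Group G] [Finite Γ] (τ : Γ →* G) (hτ : Function.Surjective τ)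
  (hc : τ.ker ≤ Subgroup.center Γ) (p : ℕ) [Fact p.Prime] (hcop : (Nat.card τ.ker).Coprime p)

include hτ hc hcop

/-- (PL2) -/
theorem plift_inf_ker (X : Subgroup G) (hX : IsPGroup p X) : plift τ p X ⊓ τ.ker = ⊥ := by
  rw [eq_bot_iff]
  rintro g ⟨hg1, hg2⟩
  rw [Subgroup.mem_bot]
  obtain ⟨-, k, hk⟩ := (Cfsg.Agent.Helper30.PsuM.mem_plift_iff τ hτ hc p hcop X hX g).mp hg1
  -- the order of `g` divides `p ^ k` and `|ker|`
  have h1 : orderOf g ∣ p ^ k := orderOf_dvd_of_pow_eq_one hk
  have h2 : orderOf g ∣ Nat.card τ.ker := by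
    have := orderOf_dvd_natCard (⟨g, hg2⟩ : τ.ker)
    rwa [Subgroup.orderOf_mk] at this
  have h3 : orderOf g ∣ 1 := by
    have hcop' : (Nat.card τ.ker).Coprime (p ^ k) := hcop.pow_right k
    have := Nat.dvd_gcd h2 h1
    rwa [hcop'.gcd_eq_one] at this
  exact orderOf_eq_one_iff.mp (Nat.dvd_one.mp h3)

end plift

end Cfsg.Agent.Helper93.PsuM
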