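import Cfsg.Agent.Helper25.FSwan.Defs2
import Cfsg.Agent.Helper2.DT_DEN
import Cfsg.Agent.Helper24.DT_AC
import Cfsg.Agent.Helper65.FS_K3
import Cfsg.Agent.Helper37.FS_INFL1

/-!
# Fong–Swan farm (helper25, S4440): leaf (S3f), core

`thetaExt_mul_mem_IBr_of`: the statement of (S3f) `thetaExt_mul_mem_IBr` with the leaves (S3d)
`exists_modular_ext`, (K4) `isIrredMat_kronRep` and (K2) `bfull_kronecker` as explicit hypotheses
(specialised to `EG N Y`, `N1 N Y`); (K3), (INFL1), the density theorem and the algebraic closedness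
of the residue field are used directly.
-/

set_option autoImplicit false
set_option linter.unusedSectionVars false
set_option linter.unusedVariables false
set_option linter.style.haveILetI false

namespace Cfsg.Agent.Helper93.FS

open Cfsg Cfsg.Agent.Helper16 Cfsg.Agent.Helper16.DT Cfsg.Agent.Helper25.FS

universe u

variable {p : ℕ} [Fact p.Prime] {M : Ideal AlgInt} [M.IsMaximal] {G : Type u} [Group G]

section ST3

variable [Fintype G] (N : Subgroup G) [hN : N.Normal] [Fintype N] {d : ℕ}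
  (Y : Representation ℂ N (Fin d → ℂ))

omit [Fintype G] [Fintype N] in
/-- The copy of `N` has the order of `N`. -/
theorem S3f_card_N1 : Nat.card (N1 N Y) = Nat.card N :=
  Nat.card_congr (MonoidHom.ofInjective (Helper74.extIncl_injective N Y)).toEquiv.symm

omit [Fact p.Prime] [M.IsMaximal] in
/-- The product of two restrictions to the `p`-regular elements. -/
theorem S3f_pRegularPart_mul {A : Type*} [Group A] (f g : A → ℂ) :
    pRegularPart p f * pRegularPart p g = pRegularPart p (f * g) := by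
  funext x
  unfold pRegularPart
  simp only [Pi.mul_apply]
  by_cases hx : IsPRegular p x
  · rw [if_pos hx, if_pos hx, if_pos hx]
  · rw [if_neg hx, if_neg hx, if_neg hx, mul_zero]

/-- Inflation of an irreducible matrix representation along a surjection. -/
theorem S3f_isIrredMat_comp {A B : Type*} [Group A] [Group B] {K : Type*} [Field K] {ι : Type*}
    [Fintype ι] [DecidableEq ι] (f : A →* B) (hf : Function.Surjective f) (σ : B →* Matrix ι ι K)
    (hσ : IsIrredMat σ) : IsIrredMat (σ.comp f) := by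
  refine ⟨hσ.1, fun W hW => hσ.2 W (fun b w hw => ?_)⟩
  obtain ⟨a, rfl⟩ := hf b
  exact hW a w hw

/-- (S3f), core: products with the reduction of `thetaExt`. -/
theorem thetaExt_mul_mem_IBr_of (hpM : (p : AlgInt) ∈ M) (hY : Y.IsIrreducible) [Finite (EG N Y)]
    (hNp : ¬ p ∣ Nat.card N) (hN1 : (N1 N Y).Normal)
    (hS3d : ∃ (m : ℕ) (ρ : EG N Y →* Matrix (Fin m) (Fin m) (AlgInt ⧸ M)), IsIrredMat ρ ∧
      brauerChar p M ρ = pRegularPart p (thetaExt N Y) ∧
      IsIrredMat (ρ.comp (N1 N Y).subtype))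
    (hK4 : ∀ (inst : Fintype (N1 N Y)) (m n : ℕ) (hm : Nonempty (Fin m))
      (ρ : EG N Y →* Matrix (Fin m) (Fin m) (AlgInt ⧸ M))
      (σ : EG N Y →* Matrix (Fin n) (Fin n) (AlgInt ⧸ M)),
      (∀ X : Matrix (Fin m) (Fin m) (AlgInt ⧸ M),
        ∃ x : N1 N Y → AlgInt ⧸ M, gaAct (ρ.comp (N1 N Y).subtype) x = X) →
      IsIrredMat σ → (∀ x ∈ N1 N Y, σ x = 1) → IsIrredMat (kronRep ρ σ))
    (hK2 : ∀ (m n : ℕ) (A : Matrix (Fin m) (Fin m) (AlgInt ⧸ M))
      (B : Matrix (Fin n) (Fin n) (AlgInt ⧸ M)),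
      bfull p M (Matrix.kroneckerMap (· * ·) A B) = bfull p M A * bfull p M B)
    {γ : EG N Y ⧸ N1 N Y → ℂ} (hγ : γ ∈ IBr p M (EG N Y ⧸ N1 N Y)) :
    pRegularPart p (thetaExt N Y) * (γ ∘ QuotientGroup.mk) ∈ IBr p M (EG N Y) := by
  classical
  obtain ⟨m, ρ, hρ, hρθ, hρN⟩ := hS3d
  obtain ⟨n, σ', hσ', rfl⟩ := hγ
  have hm : Nonempty (Fin m) := hρ.1
  let inst : Fintype (N1 N Y) := Fintype.ofFinite _
  haveI : IsAlgClosed (AlgInt ⧸ M) := Helper24.DT.isAlgClosed_res M
  -- the density theorem for the restriction of `ρ` to `N1`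
  have hsurj : ∀ X : Matrix (Fin m) (Fin m) (AlgInt ⧸ M),
      ∃ x : N1 N Y → AlgInt ⧸ M, gaAct (ρ.comp (N1 N Y).subtype) x = X := by
    intro X
    obtain ⟨x, hx⟩ := Helper2.DT.density (K := AlgInt ⧸ M) (G := N1 N Y) (r := 1) (fun _ => m)
      (fun _ => ρ.comp (N1 N Y).subtype) (fun _ => hρN)
      (fun i j hij => absurd (Subsingleton.elim i j) hij) (fun _ => X)
    exact ⟨x, hx 0⟩
  -- the inflation of `σ'`
  set f : EG N Y →* EG N Y ⧸ N1 N Y := QuotientGroup.mk' (N1 N Y) with hf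
  have hfsurj : Function.Surjective f := QuotientGroup.mk'_surjective _
  set σ : EG N Y →* Matrix (Fin n) (Fin n) (AlgInt ⧸ M) := σ'.comp f with hσdef
  have hσ : IsIrredMat σ := S3f_isIrredMat_comp f hfsurj σ' hσ'
  have hσL : ∀ x ∈ N1 N Y, σ x = 1 := by
    intro x hx
    have h1 : f x = 1 := (QuotientGroup.eq_one_iff x).mpr hx
    show σ' (f x) = 1
    rw [h1, map_one]
  have hirr : IsIrredMat (kronRep ρ σ) := hK4 inst m n hm ρ σ hsurj hσ hσL
  have hmem : brauerChar p M (kronRep ρ σ) ∈ IBr p M (EG N Y) :=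
    Helper65.FS.brauerChar_mem_IBr_of_isIrredMat (kronRep ρ σ) hirr
  -- the kernel of `f` has order prime to `p`
  have hker : f.ker = N1 N Y := QuotientGroup.ker_mk' _
  haveI : Finite f.ker := inferInstance
  have hkerp : ¬ p ∣ Nat.card f.ker := by
    rw [hker, S3f_card_N1]
    exact hNp
  have hinfl : brauerChar p M σ = brauerChar p M σ' ∘ f :=
    Helper37.FS.brauerChar_comp f hkerp σ'
  have heq : pRegularPart p (thetaExt N Y) * (brauerChar p M σ' ∘ QuotientGroup.mk)
      = brauerChar p M (kronRep ρ σ) := by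
    have h1 : (brauerChar p M σ' ∘ QuotientGroup.mk : EG N Y → ℂ) = brauerChar p M σ := by
      rw [hinfl]
      rfl
    rw [h1, ← hρθ]
    show pRegularPart p (brauerFull p M ρ) * pRegularPart p (brauerFull p M σ)
      = pRegularPart p (brauerFull p M (kronRep ρ σ))
    rw [S3f_pRegularPart_mul]
    congr 1
    funext g
    show bfull p M (ρ g) * bfull p M (σ g) = bfull p M (Matrix.kroneckerMap (· * ·) (ρ g) (σ g))
    rw [hK2]
  rw [heq]
  exact hmem

end ST3

end Cfsg.Agent.Helper93.FS
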