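import Cfsg.Agent.Helper25.FSwan.Defs2
import Cfsg.Agent.Helper15.Gallagher
import Cfsg.Agent.Helper80.Pullback
import Cfsg.Agent.Helper15.CliffordCorr
import Cfsg.Agent.Helper81.CliffordInd
import Cfsg.Agent.Helper11.PSolvable
import Cfsg.Agent.Helper1.FFPair
import Cfsg.Agent.Helper74.FongHtMain
import Cfsg.Agent.Lib.Cores

/-!
# Fong–Swan farm (helper25, S4440): leaf (S3a)

The copy `N1 N Y` of `N` in the central extension `EG N Y` is normal, and `EG N Y ⧸ N1 N Y` is a
central extension of `G ⧸ N` whose kernel has order prime to `p`.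
-/

set_option autoImplicit false
set_option linter.unusedSectionVars false
set_option linter.unusedVariables false
set_option linter.style.haveILetI false

namespace Cfsg.Agent.Helper93.FS

open Cfsg Cfsg.Agent.Helper16 Cfsg.Agent.Helper16.DT Cfsg.Agent.Helper25.FS

universe u

variable {p : ℕ} [Fact p.Prime] {M : Ideal AlgInt} [M.IsMaximal] {G : Type u} [Group G]

section ST3

variable [Fintype G] (N : Subgroup G) [hN : N.Normal] [Fintype N] {d : ℕ}
  (Y : Representation ℂ N (Fin d → ℂ))

omit [Fintype G] [Fintype N] in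
/-- (S3a) the copy of `N` is normal (as in the proof of `Helper74.exists_invariant_over_general`). -/
theorem N1_normal : (N1 N Y).Normal := by
  refine ⟨?_⟩
  rintro _ ⟨n, rfl⟩ x
  refine ⟨MulAut.conjNormal (Helper74.extProj N Y _ x) n, ?_⟩
  apply Subtype.ext
  apply Prod.ext
  · show ((MulAut.conjNormal (Helper74.extProj N Y _ x) n : N) : G)
      = Helper74.extProj N Y _ x * (n : G) * (Helper74.extProj N Y _ x)⁻¹
    exact MulAut.conjNormal_apply _ _
  · apply Units.ext
    show Helper74.extRep N Y _ (Helper74.extIncl N Y (MulAut.conjNormal (Helper74.extProj N Y _ x) n))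
      = Helper74.extRep N Y _ (x * Helper74.extIncl N Y n * x⁻¹)
    rw [Helper74.extRep_extIncl, map_mul, map_mul, Helper74.extRep_extIncl, Helper74.extRep_mul_eq,
      mul_assoc, ← map_mul, mul_inv_cancel, map_one, mul_one]

/-- (S3a) the quotient `EG N Y ⧸ N1 N Y` is a central extension of `G ⧸ N` with kernel of order prime to
`p`. -/
theorem exists_quotient_hom (hY : Y.IsIrreducible)
    (hinvY : ∀ (g : G) (n : N), Y.character (MulAut.conjNormal g n) = Y.character n)
    (hNp : ¬ p ∣ Nat.card N) (hN1 : (N1 N Y).Normal) :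
    ∃ f : (EG N Y ⧸ N1 N Y) →* G ⧸ N, Function.Surjective f ∧
      f.ker ≤ Subgroup.center (EG N Y ⧸ N1 N Y) ∧ ¬ p ∣ Nat.card f.ker ∧
      ∀ x : EG N Y, f (QuotientGroup.mk x) = QuotientGroup.mk (piE N Y x) := by
  classical
  have hp : Fact p.Prime := inferInstance
  have hmpos : 0 < Nat.card N := Nat.card_pos
  have hfinE : Finite (EG N Y) := Helper74.finite_extGroup N Y hY _ hmpos
  -- the degree divides the order
  have hdN : d ∣ Nat.card N := by
    have hdeg := Helper74.charDegree_dvd_card (⟨Y.character, ⟨d, Y, hY, rfl⟩⟩ : IrrCharacter N)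
    have h := Helper74.charDegree_rep Y
    simp only [Module.finrank_fin_fun] at h
    rw [← h]
    exact hdeg
  have hpd : ¬ p ∣ d := fun h => hNp (h.trans hdN)
  have hpdm : ¬ p ∣ d * Nat.card N := by
    intro h
    rcases (Nat.Prime.dvd_mul hp.out).mp h with h | h
    · exact hpd h
    · exact hNp h
  have hsurj := Helper74.extProj_surjective N Y hY hinvY (Nat.card N)
  have hkerp : ¬ p ∣ Nat.card (piE N Y).ker :=
    Helper74.not_dvd_card_ker_extProj N Y hY _ hmpos hpdm
  have hcent : (piE N Y).ker ≤ Subgroup.center (EG N Y) :=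
    Helper74.extProj_ker_le_center N Y hY _
  have hle : N1 N Y ≤ N.comap (piE N Y) := by
    rintro _ ⟨n, rfl⟩
    exact Helper74.extIncl_mem_comap N Y n
  set f : (EG N Y ⧸ N1 N Y) →* G ⧸ N := QuotientGroup.map (N1 N Y) N (piE N Y) hle with hf
  have hfmk : ∀ x : EG N Y, f (QuotientGroup.mk x) = QuotientGroup.mk (piE N Y x) := by
    intro x
    rfl
  -- the kernel is the image of the kernel of `piE`
  have hker : f.ker = (piE N Y).ker.map (QuotientGroup.mk' (N1 N Y)) := by
    ext z
    obtain ⟨x, rfl⟩ := QuotientGroup.mk_surjective z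
    rw [MonoidHom.mem_ker, hfmk, QuotientGroup.eq_one_iff, Subgroup.mem_map]
    constructor
    · intro hx
      set n : N := ⟨piE N Y x, hx⟩ with hn
      refine ⟨(Helper74.extIncl N Y n)⁻¹ * x, ?_, ?_⟩
      · rw [MonoidHom.mem_ker, map_mul, map_inv, Helper74.extProj_extIncl]
        exact inv_mul_cancel _
      · rw [QuotientGroup.mk'_apply, QuotientGroup.eq]
        rw [mul_inv_rev, inv_inv]
        exact hN1.conj_mem' _ ⟨n, rfl⟩ x
    · rintro ⟨z, hz, hzx⟩
      rw [QuotientGroup.mk'_apply, QuotientGroup.eq] at hzx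
      obtain ⟨n, hn⟩ := hzx
      have hx : x = z * Helper74.extIncl N Y n := by
        rw [hn, mul_inv_cancel_left]
      rw [hx, map_mul, MonoidHom.mem_ker.mp hz, one_mul, Helper74.extProj_extIncl]
      exact n.2
  refine ⟨f, ?_, ?_, ?_, hfmk⟩
  · intro y
    obtain ⟨g, rfl⟩ := QuotientGroup.mk_surjective y
    obtain ⟨x, rfl⟩ := hsurj g
    exact ⟨QuotientGroup.mk x, hfmk x⟩
  · rw [hker]
    rintro _ ⟨z, hz, rfl⟩
    rw [Subgroup.mem_center_iff]
    intro w
    obtain ⟨y, rfl⟩ := QuotientGroup.mk_surjective w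
    have h1 := Subgroup.mem_center_iff.mp (hcent hz) y
    show (QuotientGroup.mk y : EG N Y ⧸ N1 N Y) * QuotientGroup.mk z
      = QuotientGroup.mk z * QuotientGroup.mk y
    rw [← QuotientGroup.mk_mul, ← QuotientGroup.mk_mul, h1]
  · rw [hker]
    intro hdvd
    exact hkerp (hdvd.trans (Subgroup.card_map_dvd _ _))

end ST3

end Cfsg.Agent.Helper93.FS
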