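/-
Helper93: abstract orbit certificates.  A finite family `x 0, …, x (n-1)` of points of a `G`-set,
index maps `π j` describing the action of the inverses of the generators, orbit labels and a
parent forest: the orbits of the generated subgroup are the label classes.
-/
import Mathlib

set_option autoImplicit false

namespace Cfsg.Agent.Helper93

open MulAction

section Abstract

variable {G : Type*} [Group G] {X : Type*} [MulAction G X]

/-- If `h` maps the finite set `Y` into itself, so does `h⁻¹`. -/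
theorem inv_smul_mem_of_forall_smul_mem {Y : Set X} (hY : Y.Finite) {h : G}
    (hh : ∀ y ∈ Y, h • y ∈ Y) : ∀ y ∈ Y, h⁻¹ • y ∈ Y := by
  classical
  have hsurj := Finset.surjOn_of_injOn_of_card_le (s := hY.toFinset) (t := hY.toFinset)
    (fun y => h • y) (by intro y hy; simpa using hh y (by simpa using hy))
    (fun a _ b _ hab => MulAction.injective h hab) le_rfl
  intro y hy
  obtain ⟨y', hy', rfl⟩ := hsurj (by simpa using hy)
  simpa using hy'

/-- A finite set closed under the inverses of the generators is closed under the closure. -/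
theorem smul_mem_of_mem_closure {S : Set G} {Y : Set X} (hY : Y.Finite)
    (hS : ∀ s ∈ S, ∀ y ∈ Y, s⁻¹ • y ∈ Y) {h : G} (hh : h ∈ Subgroup.closure S) :
    ∀ y ∈ Y, h • y ∈ Y := by
  induction hh using Subgroup.closure_induction with
  | mem s hs =>
    have := inv_smul_mem_of_forall_smul_mem hY (hS s hs)
    simpa using this
  | one => intro y hy; simpa using hy
  | mul a b _ _ iha ihb =>
    intro y hy
    rw [mul_smul]
    exact iha _ (ihb y hy)
  | inv a _ iha => exact inv_smul_mem_of_forall_smul_mem hY iha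

end Abstract

/-- entry `i` (of bit width `w`) of the packed array `N` -/
def getW (w N i : ℕ) : ℕ := (N >>> (w * i)) % 2 ^ w

theorem getW_lt (w N i : ℕ) : getW w N i < 2 ^ w := Nat.mod_lt _ (Nat.two_pow_pos w)

/-- bounded universal quantifier as a boolean, evaluated by the kernel -/
def allB (n : ℕ) (p : ℕ → Bool) : Bool := (List.range n).all p

theorem allB_spec {n : ℕ} {p : ℕ → Bool} (h : allB n p = true) : ∀ m < n, p m = true := by
  intro m hm
  unfold allB at h
  rw [List.all_eq_true] at h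
  exact h m (List.mem_range.mpr hm)

theorem labels_lt' {n k : ℕ} {f : ℕ → ℕ} (h : allB n (fun i => Nat.blt (f i) k) = true) :
    ∀ i < n, f i < k := by
  intro i hi
  have := allB_spec h i hi
  simpa [Nat.blt_eq] using this

/-- number of `i < n` with `p i` -/
def countB (n : ℕ) (p : ℕ → Bool) : ℕ := ((List.range n).filter p).length

section Cert

variable {G : Type*} [Group G] {X : Type*} [MulAction G X]

/-- The data of an orbit certificate on the index set `0..n-1`. -/
structure OrbData where
  n : ℕ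
  /-- number of generators -/
  k : ℕ
  /-- `π j i`: the index of `(g j)⁻¹ • x i` -/
  π : ℕ → ℕ → ℕ
  /-- orbit label -/
  oid : ℕ → ℕ
  /-- parent pointer `16 * p + j`: `i = π j p` -/
  par : ℕ → ℕ
  /-- depth in the forest -/
  dep : ℕ → ℕ
  /-- root of the orbit with label `r` -/
  root : ℕ → ℕ

/-- The boolean check of an orbit certificate. -/
def OrbData.ok (D : OrbData) : Bool :=
  allB D.n (fun i =>
    allB D.k (fun j => Nat.blt (D.π j i) D.n && Nat.beq (D.oid (D.π j i)) (D.oid i)) &&
    (Nat.beq (D.root (D.oid i)) i ||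
      (Nat.blt (D.par i / 16) D.n && Nat.blt (D.par i % 16) D.k &&
        Nat.beq (D.π (D.par i % 16) (D.par i / 16)) i &&
        Nat.blt (D.dep (D.par i / 16)) (D.dep i))))

theorem OrbData.ok_spec {D : OrbData} (h : D.ok = true) {i : ℕ} (hi : i < D.n) :
    (∀ j < D.k, D.π j i < D.n ∧ D.oid (D.π j i) = D.oid i) ∧
    (D.root (D.oid i) = i ∨ (D.par i / 16 < D.n ∧ D.par i % 16 < D.k ∧
      D.π (D.par i % 16) (D.par i / 16) = i ∧ D.dep (D.par i / 16) < D.dep i)) := by
  have h1 := allB_spec h i hi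
  rw [Bool.and_eq_true] at h1
  refine ⟨fun j hj => ?_, ?_⟩
  · have h2 := allB_spec h1.1 j hj
    rw [Bool.and_eq_true] at h2
    exact ⟨by simpa [Nat.blt_eq] using h2.1, Nat.eq_of_beq_eq_true h2.2⟩
  · have h2 := h1.2
    rw [Bool.or_eq_true] at h2
    rcases h2 with h2 | h2
    · exact Or.inl (Nat.eq_of_beq_eq_true h2)
    · right
      rw [Bool.and_eq_true, Bool.and_eq_true, Bool.and_eq_true] at h2
      obtain ⟨⟨⟨a, b⟩, c⟩, d⟩ := h2
      exact ⟨by simpa [Nat.blt_eq] using a, by simpa [Nat.blt_eq] using b,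
        Nat.eq_of_beq_eq_true c, by simpa [Nat.blt_eq] using d⟩

variable (D : OrbData) (g : ℕ → G) (x : ℕ → X)

/-- The main theorem on orbit certificates: the orbit of `x i` under the group generated by the
`g j`, `j < k`, is the class of the label of `i`. -/
theorem orbit_eq_of_ok (hok : D.ok = true)
    (hact : ∀ j < D.k, ∀ i < D.n, (g j)⁻¹ • x i = x (D.π j i))
    {i : ℕ} (hi : i < D.n) :
    MulAction.orbit (Subgroup.closure {s | ∃ j < D.k, s = g j}) (x i) =
      {y | ∃ i' < D.n, D.oid i' = D.oid i ∧ y = x i'} := by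
  set H := Subgroup.closure {s | ∃ j < D.k, s = g j} with hH
  have hgen : ∀ j < D.k, g j ∈ H := fun j hj => Subgroup.subset_closure ⟨j, hj, rfl⟩
  -- every index is connected to its root
  have hroot : ∀ d i, i < D.n → D.dep i ≤ d →
      ∃ h ∈ H, h • x (D.root (D.oid i)) = x i := by
    intro d
    induction d with
    | zero =>
      intro i hi hd
      rcases (D.ok_spec hok hi).2 with h1 | ⟨_, _, _, h4⟩
      · exact ⟨1, H.one_mem, by rw [h1, one_smul]⟩
      · omega
    | succ d ih =>
      intro i hi hd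
      rcases (D.ok_spec hok hi).2 with h1 | ⟨h1, h2, h3, h4⟩
      · exact ⟨1, H.one_mem, by rw [h1, one_smul]⟩
      · obtain ⟨h, hh, hx⟩ := ih (D.par i / 16) h1 (by omega)
        have h5 := ((D.ok_spec hok h1).1 _ h2).2
        rw [h3] at h5
        refine ⟨(g (D.par i % 16))⁻¹ * h, H.mul_mem (H.inv_mem (hgen _ h2)) hh, ?_⟩
        rw [mul_smul, h5, hx, hact _ h2 _ h1, h3]
  -- the label class is closed
  set Y : Set X := {y | ∃ i' < D.n, D.oid i' = D.oid i ∧ y = x i'} with hYdef
  have hYfin : Y.Finite := by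
    have : Y ⊆ (fun i' => x i') '' (Set.Iio D.n) := by
      rintro y ⟨i', hi', _, rfl⟩
      exact ⟨i', hi', rfl⟩
    exact (Set.Finite.image _ (Set.finite_Iio _)).subset this
  have hclosed : ∀ s ∈ {s | ∃ j < D.k, s = g j}, ∀ y ∈ Y, s⁻¹ • y ∈ Y := by
    rintro s ⟨j, hj, rfl⟩ y ⟨i', hi', ho, rfl⟩
    have := (D.ok_spec hok hi').1 j hj
    exact ⟨D.π j i', this.1, by rw [this.2, ho], hact j hj i' hi'⟩
  ext y
  constructor
  · rintro ⟨⟨h, hh⟩, rfl⟩
    exact smul_mem_of_mem_closure hYfin hclosed hh _ ⟨i, hi, rfl, rfl⟩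
  · rintro ⟨i', hi', ho, rfl⟩
    obtain ⟨h, hh, hx⟩ := hroot _ i hi le_rfl
    obtain ⟨h', hh', hx'⟩ := hroot _ i' hi' le_rfl
    rw [ho] at hx'
    refine ⟨⟨h' * h⁻¹, H.mul_mem hh' (H.inv_mem hh)⟩, ?_⟩
    show (h' * h⁻¹) • x i = x i'
    rw [mul_smul, ← hx, inv_smul_smul, hx']

/-- Cardinality of a label class, for an injective family. -/
theorem ncard_class (hinj : ∀ i < D.n, ∀ i' < D.n, x i = x i' → i = i') (r : ℕ) :
    {y | ∃ i' < D.n, D.oid i' = r ∧ y = x i'}.ncard = countB D.n (fun i => Nat.beq (D.oid i) r) := by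
  classical
  have h1 : {y | ∃ i' < D.n, D.oid i' = r ∧ y = x i'} =
      x '' (((Finset.range D.n).filter (fun i => D.oid i = r) : Finset ℕ) : Set ℕ) := by
    ext y
    simp only [Set.mem_ofPred_eq, Set.mem_image, Finset.coe_filter, Finset.mem_range]
    constructor
    · rintro ⟨i', hi', ho, rfl⟩
      exact ⟨i', ⟨hi', ho⟩, rfl⟩
    · rintro ⟨i', ⟨hi', ho⟩, rfl⟩
      exact ⟨i', hi', ho, rfl⟩
  rw [h1, Set.InjOn.ncard_image, Set.ncard_coe_finset]
  · rw [countB, ← List.toFinset_card_of_nodup (List.nodup_range.filter _)]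
    congr 1
    ext i
    simp
  · intro a ha b hb hab
    simp only [Finset.coe_filter, Finset.mem_range, Set.mem_ofPred_eq] at ha hb
    exact hinj a ha.1 b hb.1 hab

end Cert

end Cfsg.Agent.Helper93
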