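/-
Helper93: encodings of point sets (masks) and of families of point sets (packed lists of masks)
of the 24 Golay points, with the action of permutations given by tables (Helper7 model).
-/
import Cfsg.Agent.Helper7.M24Chain
import Cfsg.Agent.Helper93.OrbCore

set_option autoImplicit false

namespace Cfsg.Agent.Helper93

open Cfsg Cfsg.Agent.Helper7
open scoped Pointwise

/-- the set of points with mask `m` -/
def sm (m : ℕ) : Finset GolayPt := support₂ (word m)

theorem mem_sm (m : ℕ) (p : GolayPt) : p ∈ sm m ↔ m.testBit (idx p) = true :=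
  mem_support₂_word m p

theorem card_sm (m : ℕ) : (sm m).card = wt m := card_support₂_word m

theorem inv_smul_sm {l : List ℕ} {g : Equiv.Perm GolayPt} (h : IsTable l g) (m : ℕ) :
    g⁻¹ • sm m = sm (pullMask l m) := by
  rw [sm, smul_support₂, permL_inv_apply, word_comp_of_isTable h]
  rfl

theorem pullMask_lt24 {l : List ℕ} {g : Equiv.Perm GolayPt} (h : IsTable l g) (m : ℕ) :
    pullMask l m < 2 ^ 24 := by
  have := pullMask_lt l m
  rwa [h.1] at this

theorem sm_inj {m m' : ℕ} (hm : m < 2 ^ 24) (hm' : m' < 2 ^ 24) (h : sm m = sm m') : m = m' :=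
  word_inj hm hm' (support₂_injective h)

/-- the family of point sets with masks `ms` -/
def smL (ms : List ℕ) : Finset (Finset GolayPt) := (ms.map sm).toFinset

theorem mem_smL (ms : List ℕ) (s : Finset GolayPt) : s ∈ smL ms ↔ ∃ m ∈ ms, sm m = s := by
  simp [smL]

theorem inv_smul_smL {l : List ℕ} {g : Equiv.Perm GolayPt} (h : IsTable l g) (ms : List ℕ) :
    g⁻¹ • smL ms = smL (ms.map (pullMask l)) := by
  ext s
  rw [Finset.mem_smul_finset, mem_smL]
  constructor
  · rintro ⟨t, ht, rfl⟩
    rw [mem_smL] at ht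
    obtain ⟨m, hm, rfl⟩ := ht
    exact ⟨pullMask l m, List.mem_map.mpr ⟨m, hm, rfl⟩, (inv_smul_sm h m).symm⟩
  · rintro ⟨m', hm', rfl⟩
    obtain ⟨m, hm, rfl⟩ := List.mem_map.mp hm'
    exact ⟨sm m, (mem_smL _ _).mpr ⟨m, hm, rfl⟩, inv_smul_sm h m⟩

theorem smL_perm {ms ms' : List ℕ} (h : ms.Perm ms') : smL ms = smL ms' :=
  List.toFinset_eq_of_perm _ _ (h.map sm)

/-- insertion of a number into a sorted list -/
def ins (a : ℕ) : List ℕ → List ℕ
  | [] => [a]
  | b :: bs => if Nat.ble a b then a :: b :: bs else b :: ins a bs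

/-- insertion sort -/
def isort : List ℕ → List ℕ
  | [] => []
  | a :: as => ins a (isort as)

theorem ins_perm (a : ℕ) (l : List ℕ) : (ins a l).Perm (a :: l) := by
  induction l with
  | nil => exact List.Perm.refl _
  | cons b bs ih =>
    unfold ins
    split
    · exact List.Perm.refl _
    · exact (List.Perm.cons b ih).trans (List.Perm.swap a b bs)

theorem isort_perm (l : List ℕ) : (isort l).Perm l := by
  induction l with
  | nil => exact List.Perm.refl _
  | cons a as ih => exact (ins_perm a _).trans (List.Perm.cons a ih)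

/-- the action of (the inverse of) a table on a list of masks, normalised by sorting -/
def actL (l : List ℕ) (ms : List ℕ) : List ℕ := isort (ms.map (pullMask l))

theorem inv_smul_smL_actL {l : List ℕ} {g : Equiv.Perm GolayPt} (h : IsTable l g) (ms : List ℕ) :
    g⁻¹ • smL ms = smL (actL l ms) := by
  rw [inv_smul_smL h, actL, smL_perm (isort_perm _)]

/-- the `k` masks packed (24 bits each) in the number `c` -/
def unpackL : ℕ → ℕ → List ℕ
  | 0, _ => []
  | k + 1, c => (c % 16777216) :: unpackL k (c / 16777216)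

theorem unpackL_lt (k c : ℕ) : ∀ m ∈ unpackL k c, m < 2 ^ 24 := by
  induction k generalizing c with
  | zero => intro m hm; simp [unpackL] at hm
  | succ k ih =>
    intro m hm
    rw [unpackL, List.mem_cons] at hm
    rcases hm with rfl | hm
    · exact Nat.mod_lt _ (by norm_num)
    · exact ih _ m hm

theorem unpackL_inj (k : ℕ) {c c' : ℕ} (hc : c < 2 ^ (24 * k)) (hc' : c' < 2 ^ (24 * k))
    (h : unpackL k c = unpackL k c') : c = c' := by
  induction k generalizing c c' with
  | zero => simp at hc hc'; omega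
  | succ k ih =>
    rw [unpackL, unpackL, List.cons.injEq] at h
    have h24 : (2 : ℕ) ^ (24 * (k + 1)) = 16777216 * 2 ^ (24 * k) := by
      rw [Nat.mul_succ, pow_add]; norm_num [mul_comm]
    rw [h24] at hc hc'
    have h1 := ih (c := c / 16777216) (c' := c' / 16777216)
      (Nat.div_lt_of_lt_mul hc) (Nat.div_lt_of_lt_mul hc') h.2
    rw [← Nat.div_add_mod c 16777216, ← Nat.div_add_mod c' 16777216, h.1, h1]

/-- strictly increasing lists -/
def sortedB : List ℕ → Bool
  | [] => true
  | [_] => true
  | a :: b :: bs => Nat.blt a b && sortedB (b :: bs)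

theorem sortedB_spec {l : List ℕ} (h : sortedB l = true) : l.Pairwise (· < ·) := by
  induction l with
  | nil => exact List.Pairwise.nil
  | cons a as ih =>
    cases as with
    | nil => exact List.pairwise_singleton _ _
    | cons b bs =>
      rw [sortedB, Bool.and_eq_true] at h
      have hab : a < b := by simpa [Nat.blt_eq] using h.1
      have h2 := ih h.2
      refine List.Pairwise.cons ?_ h2
      intro c hc
      rw [List.mem_cons] at hc
      rcases hc with rfl | hc
      · exact hab
      · exact hab.trans ((List.pairwise_cons.mp h2).1 c hc)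

theorem smL_inj {ms ms' : List ℕ} (h1 : ms.Pairwise (· < ·)) (h2 : ms'.Pairwise (· < ·))
    (hlt : ∀ m ∈ ms, m < 2 ^ 24) (hlt' : ∀ m ∈ ms', m < 2 ^ 24) (h : smL ms = smL ms') :
    ms = ms' := by
  have hsub : ∀ {a b : List ℕ}, (∀ m ∈ a, m < 2 ^ 24) → (∀ m ∈ b, m < 2 ^ 24) →
      smL a = smL b → ∀ m ∈ a, m ∈ b := by
    intro a b ha hb hab m hm
    have : sm m ∈ smL b := by
      rw [← hab, mem_smL]; exact ⟨m, hm, rfl⟩
    rw [mem_smL] at this
    obtain ⟨m', hm', he⟩ := this
    rw [sm_inj (ha m hm) (hb m' hm') he.symm]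
    exact hm'
  have hperm : ms.Perm ms' := by
    rw [List.perm_ext_iff_of_nodup (h1.imp (fun h => Nat.ne_of_lt h))
      (h2.imp (fun h => Nat.ne_of_lt h))]
    intro m
    exact ⟨hsub hlt hlt' h m, hsub hlt' hlt h.symm m⟩
  exact List.Perm.eq_of_pairwise (le := (· < ·)) (fun a b _ _ hab hba => absurd hab (Nat.lt_asymm hba)) h1 h2 hperm

/-- An encoding of the points of a `Perm GolayPt`-set by numbers. -/
structure Enc (X : Type) [MulAction (Equiv.Perm GolayPt) X] where
  dec : ℕ → X
  good : ℕ → Bool
  rel : List ℕ → ℕ → ℕ → Bool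
  dec_rel : ∀ {l : List ℕ} {g : Equiv.Perm GolayPt} {c c' : ℕ}, IsTable l g →
    rel l c c' = true → g⁻¹ • dec c = dec c'
  dec_inj : ∀ {c c' : ℕ}, good c = true → good c' = true → dec c = dec c' → c = c'

/-- point sets, encoded by their masks -/
def encSet : Enc (Finset GolayPt) where
  dec := sm
  good c := Nat.blt c 16777216
  rel l c c' := Nat.beq (pullMask l c) c'
  dec_rel := by
    intro l g c c' h hr
    rw [inv_smul_sm h, Nat.eq_of_beq_eq_true hr]
  dec_inj := by
    intro c c' hc hc' h
    exact sm_inj (by simpa [Nat.blt_eq] using hc) (by simpa [Nat.blt_eq] using hc') h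

/-- families of `k` point sets, encoded by the packed increasing list of their masks -/
def encFam (k : ℕ) : Enc (Finset (Finset GolayPt)) where
  dec c := smL (unpackL k c)
  good c := Nat.blt c (2 ^ (24 * k)) && sortedB (unpackL k c)
  rel l c c' := decide (actL l (unpackL k c) = unpackL k c')
  dec_rel := by
    intro l g c c' h hr
    rw [inv_smul_smL_actL h, of_decide_eq_true hr]
  dec_inj := by
    intro c c' hc hc' h
    rw [Bool.and_eq_true] at hc hc'
    apply unpackL_inj k (by simpa [Nat.blt_eq] using hc.1) (by simpa [Nat.blt_eq] using hc'.1)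
    exact smL_inj (sortedB_spec hc.2) (sortedB_spec hc'.2) (unpackL_lt k c) (unpackL_lt k c') h

end Cfsg.Agent.Helper93
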