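/-
Helper93: packed arrays of codes, and orbit certificates for groups of permutations of the
24 Golay points given by tables.
-/
import Cfsg.Agent.Helper93.M24Enc

set_option autoImplicit false

namespace Cfsg.Agent.Helper93

open Cfsg Cfsg.Agent.Helper7
open scoped Pointwise

/-- a packed array: `n` entries of `w` bits in the number `N` -/
structure Arr where
  w : ℕ
  N : ℕ
  n : ℕ

/-- entry `i` of the array -/
def Arr.a (A : Arr) (i : ℕ) : ℕ := getW A.w A.N i

section

variable {X : Type} [MulAction (Equiv.Perm GolayPt) X] (E : Enc X)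

/-- entries are good codes, in strictly increasing order -/
def Arr.ok (A : Arr) : Bool :=
  allB A.n (fun i => E.good (A.a i)) && allB (A.n - 1) (fun i => Nat.blt (A.a i) (A.a (i + 1)))

theorem Arr.lt_of_ok {A : Arr} (h : A.ok E = true) {i i' : ℕ} (hii : i < i') (hi' : i' < A.n) :
    A.a i < A.a i' := by
  rw [Arr.ok, Bool.and_eq_true] at h
  have h2 := allB_spec h.2
  induction i' with
  | zero => omega
  | succ m ih =>
    have hm : A.a m < A.a (m + 1) := by
      have := h2 m (by omega)
      simpa [Nat.blt_eq] using this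
    rcases Nat.lt_succ_iff_lt_or_eq.mp hii with h3 | rfl
    · exact (ih h3 (by omega)).trans hm
    · exact hm

theorem Arr.inj {A : Arr} (h : A.ok E = true) : ∀ i < A.n, ∀ i' < A.n,
    E.dec (A.a i) = E.dec (A.a i') → i = i' := by
  intro i hi i' hi' he
  have h1 := h
  rw [Arr.ok, Bool.and_eq_true] at h1
  have hg := allB_spec h1.1
  have hc := E.dec_inj (hg i hi) (hg i' hi') he
  rcases Nat.lt_trichotomy i i' with hlt | heq | hgt
  · exact absurd hc (Nat.ne_of_lt (Arr.lt_of_ok E h hlt hi'))
  · exact heq
  · exact absurd hc.symm (Nat.ne_of_lt (Arr.lt_of_ok E h hgt hi))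

/-- `P` (packed, 16 bits per entry) describes the action of the inverse of the permutation with
table `l` on the array. -/
def relOK (A : Arr) (l : List ℕ) (P : ℕ) : Bool :=
  allB A.n (fun i => E.rel l (A.a i) (A.a (getW 16 P i)))

theorem relOK_spec {A : Arr} {l : List ℕ} {P : ℕ} (h : relOK E A l P = true)
    {g : Equiv.Perm GolayPt} (hg : IsTable l g) {i : ℕ} (hi : i < A.n) :
    g⁻¹ • E.dec (A.a i) = E.dec (A.a (getW 16 P i)) :=
  E.dec_rel hg (allB_spec h i hi)

/-- all the generators are described by their packed index permutations -/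
def relsOK (A : Arr) : List (List ℕ) → List ℕ → Bool
  | [], [] => true
  | l :: ls, P :: Ps => relOK E A l P && relsOK A ls Ps
  | _, _ => false

end

/-- the orbit data built from packed arrays -/
def mkOrbData (n : ℕ) (Ps : List ℕ) (OID PAR DEP : ℕ) (roots : List ℕ) : OrbData where
  n := n
  k := Ps.length
  π j i := getW 16 (Ps.getD j 0) i
  oid i := getW 8 OID i
  par i := getW 24 PAR i
  dep i := getW 16 DEP i
  root r := roots.getD r 0

/-- tables of a list of permutations -/
def TablesOf : List (List ℕ) → List (Equiv.Perm GolayPt) → Prop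
  | [], [] => True
  | l :: ls, g :: gs => IsTable l g ∧ TablesOf ls gs
  | _, _ => False

theorem TablesOf.length_eq {ls : List (List ℕ)} {gs : List (Equiv.Perm GolayPt)}
    (h : TablesOf ls gs) : ls.length = gs.length := by
  induction ls generalizing gs with
  | nil => cases gs with
    | nil => rfl
    | cons g gs => exact absurd h (by simp [TablesOf])
  | cons l ls ih => cases gs with
    | nil => exact absurd h (by simp [TablesOf])
    | cons g gs => simp [ih h.2]

section

variable {X : Type} [MulAction (Equiv.Perm GolayPt) X] (E : Enc X)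

theorem rels_spec {A : Arr} {ls : List (List ℕ)} {Ps : List ℕ} {gs : List (Equiv.Perm GolayPt)}
    (hT : TablesOf ls gs) (h : relsOK E A ls Ps = true) :
    gs.length = Ps.length ∧ ∀ j < Ps.length, ∀ i < A.n,
      (gs.getD j 1)⁻¹ • E.dec (A.a i) = E.dec (A.a (getW 16 (Ps.getD j 0) i)) := by
  induction ls generalizing Ps gs with
  | nil =>
    cases gs with
    | nil =>
      cases Ps with
      | nil => exact ⟨rfl, fun j hj => absurd hj (by simp)⟩
      | cons P Ps => simp [relsOK] at h
    | cons g gs => exact absurd hT (by simp [TablesOf])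
  | cons l ls ih =>
    cases gs with
    | nil => exact absurd hT (by simp [TablesOf])
    | cons g gs =>
      cases Ps with
      | nil => simp [relsOK] at h
      | cons P Ps =>
        rw [relsOK, Bool.and_eq_true] at h
        obtain ⟨h1, h2⟩ := ih hT.2 h.2
        refine ⟨by simp [h1], fun j hj i hi => ?_⟩
        cases j with
        | zero => exact relOK_spec E h.1 hT.1 hi
        | succ j =>
          have hj' : j < Ps.length := by simpa using hj
          simpa using h2 j hj' i hi

/-- The orbits of the group generated by `gs` on the decoded array are the label classes. -/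
theorem orbit_cert {A : Arr} {ls : List (List ℕ)} {Ps : List ℕ} {gs : List (Equiv.Perm GolayPt)}
    (OID PAR DEP : ℕ) (roots : List ℕ)
    (hT : TablesOf ls gs) (hrel : relsOK E A ls Ps = true)
    (hok : (mkOrbData A.n Ps OID PAR DEP roots).ok = true) {i : ℕ} (hi : i < A.n) :
    MulAction.orbit (Subgroup.closure {s | s ∈ gs}) (E.dec (A.a i)) =
      {y | ∃ i' < A.n, getW 8 OID i' = getW 8 OID i ∧ y = E.dec (A.a i')} := by
  obtain ⟨hlen, hact⟩ := rels_spec E hT hrel
  have hset : {s | s ∈ gs} = {s | ∃ j < (mkOrbData A.n Ps OID PAR DEP roots).k, s = gs.getD j 1} := by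
    ext s
    simp only [Set.mem_ofPred_eq, mkOrbData]
    constructor
    · intro hs
      obtain ⟨j, hj, rfl⟩ := List.getElem_of_mem hs
      exact ⟨j, by omega, by rw [List.getD_eq_getElem _ _ hj]⟩
    · rintro ⟨j, hj, rfl⟩
      have hj' : j < gs.length := by omega
      rw [List.getD_eq_getElem _ _ hj']
      exact List.getElem_mem _
  rw [hset]
  exact orbit_eq_of_ok (mkOrbData A.n Ps OID PAR DEP roots) (fun j => gs.getD j 1)
    (fun i => E.dec (A.a i)) hok hact hi

theorem ncard_cert {A : Arr} (hA : A.ok E = true) (OID : ℕ) (r : ℕ) :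
    {y | ∃ i' < A.n, getW 8 OID i' = r ∧ y = E.dec (A.a i')}.ncard =
      countB A.n (fun i => Nat.beq (getW 8 OID i) r) :=
  ncard_class (mkOrbData A.n [] OID 0 0 []) (fun i => E.dec (A.a i)) (Arr.inj E hA) r

end

end Cfsg.Agent.Helper93
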