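/-
Helper93: stabilisers in `M24` of points of `Perm GolayPt`-sets: orders by orbit-stabiliser,
identification with a group generated by explicit tables (chain lower bound), transport of
orbits under conjugation.
-/
import Cfsg.Agent.Helper93.ClassArr

set_option autoImplicit false

namespace Cfsg.Agent.Helper93

open Cfsg Cfsg.Agent.Helper7
open scoped Pointwise

section

variable {X : Type} [MulAction (Equiv.Perm GolayPt) X]

/-- the stabiliser of `a` in `M24`, as a group of permutations -/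
def stabPerm (a : X) : Subgroup (Equiv.Perm GolayPt) :=
  M24 ⊓ MulAction.stabilizer (Equiv.Perm GolayPt) a

theorem mem_stabPerm {a : X} {g : Equiv.Perm GolayPt} : g ∈ stabPerm a ↔ g ∈ M24 ∧ g • a = a := by
  unfold stabPerm
  rw [Subgroup.mem_inf]
  exact Iff.rfl

/-- the stabiliser in `↥M24` and the stabiliser as a permutation group have the same order -/
theorem card_stabPerm_eq (a : X) :
    Nat.card (stabPerm a) = Nat.card (MulAction.stabilizer (↥M24) a) := by
  apply Nat.card_congr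
  exact
    { toFun := fun g => ⟨⟨g.1, (mem_stabPerm.mp g.2).1⟩, by
        rw [MulAction.mem_stabilizer_iff]; exact (mem_stabPerm.mp g.2).2⟩
      invFun := fun g => ⟨g.1.1, mem_stabPerm.mpr ⟨g.1.2, by
        have := g.2; rw [MulAction.mem_stabilizer_iff] at this; exact this⟩⟩
      left_inv := fun g => rfl
      right_inv := fun g => rfl }

theorem orbit_M24_eq (a : X) :
    MulAction.orbit (↥M24) a = {y | ∃ g ∈ M24, g • a = y} := by
  ext y
  constructor
  · rintro ⟨g, rfl⟩
    exact ⟨g.1, g.2, rfl⟩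
  · rintro ⟨g, hg, rfl⟩
    exact ⟨⟨g, hg⟩, rfl⟩

/-- orbit-stabiliser in `M24` -/
theorem card_stabPerm_mul (a : X) :
    Nat.card (stabPerm a) * (MulAction.orbit (↥M24) a).ncard = 244823040 := by
  rw [card_stabPerm_eq, ← MulAction.index_stabilizer, Subgroup.card_mul_index, card_M24]

/-- orbits of the stabiliser in `↥M24` are orbits of `stabPerm` -/
theorem orbit_stabilizer_eq {Y : Type} [MulAction (Equiv.Perm GolayPt) Y] (a : X) (y : Y) :
    MulAction.orbit (↥(MulAction.stabilizer (↥M24) a)) y = MulAction.orbit (↥(stabPerm a)) y := by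
  ext z
  constructor
  · rintro ⟨g, rfl⟩
    refine ⟨⟨g.1.1, mem_stabPerm.mpr ⟨g.1.2, ?_⟩⟩, rfl⟩
    have := g.2
    rw [MulAction.mem_stabilizer_iff] at this
    exact this
  · rintro ⟨g, rfl⟩
    refine ⟨⟨⟨g.1, (mem_stabPerm.mp g.2).1⟩, ?_⟩, rfl⟩
    rw [MulAction.mem_stabilizer_iff]
    exact (mem_stabPerm.mp g.2).2

/-- transport of orbits of stabilisers under an element of `M24` -/
theorem orbit_stabPerm_smul {Y : Type} [MulAction (Equiv.Perm GolayPt) Y] {h : Equiv.Perm GolayPt}
    (hh : h ∈ M24) (a : X) (y : Y) :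
    MulAction.orbit (↥(stabPerm (h • a))) (h • y) =
      (fun z => h • z) '' MulAction.orbit (↥(stabPerm a)) y := by
  ext z
  constructor
  · rintro ⟨g, rfl⟩
    have hg := mem_stabPerm.mp g.2
    refine ⟨(h⁻¹ * g.1 * h) • y, ⟨⟨h⁻¹ * g.1 * h, mem_stabPerm.mpr ⟨?_, ?_⟩⟩, rfl⟩, ?_⟩
    · exact M24.mul_mem (M24.mul_mem (M24.inv_mem hh) hg.1) hh
    · rw [mul_smul, mul_smul, hg.2, inv_smul_smul]
    · show h • (h⁻¹ * g.1 * h) • y = g.1 • h • y
      rw [mul_smul, mul_smul, smul_inv_smul]
  · rintro ⟨z', ⟨g, rfl⟩, rfl⟩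
    have hg := mem_stabPerm.mp g.2
    refine ⟨⟨h * g.1 * h⁻¹, mem_stabPerm.mpr ⟨?_, ?_⟩⟩, ?_⟩
    · exact M24.mul_mem (M24.mul_mem hh hg.1) (M24.inv_mem hh)
    · rw [mul_smul, mul_smul, inv_smul_smul, hg.2]
    · show (h * g.1 * h⁻¹) • h • y = h • g.1 • y
      rw [mul_smul, mul_smul, inv_smul_smul]

end

/-! ### Lower bound for the order of a group from a chain of transversals -/

theorem level_card_ge {H : Subgroup (Equiv.Perm GolayPt)} [Finite H] {F : List ℕ} {L : Level}
    (hT : ∀ l ∈ L.T, Tabled H l) (hok : L.ok F = true) (hb : L.b < 24) (hnd : L.orb.Nodup) :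
    L.orb.length * Nat.card (fixG H (L.b :: F)) ≤ Nat.card (fixG H F) := by
  classical
  have hcov : ∀ q, ∃ t : Equiv.Perm GolayPt, q ∈ L.orb → t ∈ fixG H F ∧ t (pt L.b) = pt q ∧
      idx (t (pt L.b)) = q := by
    intro q
    by_cases hq : q ∈ L.orb
    · obtain ⟨l, hl, t, ht, hlt, htq⟩ := Level.cover hT hok hb q hq
      refine ⟨t, fun _ => ⟨ht, htq, ?_⟩⟩
      rw [hlt.2, idx_pt hb]
      rw [Level.ok, Bool.and_eq_true, List.all_eq_true, List.all_eq_true] at hok
      have h5 := hok.2 q hq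
      rw [List.any_eq_true] at h5
      obtain ⟨l', hl', hlq⟩ := h5
      have hlq' := Nat.eq_of_beq_eq_true hlq
      -- the table found by `cover` is some table with entry `q`; recompute via `htq`
      have h6 : idx (t (pt L.b)) = l.getD L.b 0 := by rw [hlt.2, idx_pt hb]
      obtain ⟨t'', _, hlt''⟩ := hT l' hl'
      have h7 : idx (t'' (pt L.b)) = q := by rw [hlt''.2, idx_pt hb, hlq']
      have hq24 : q < 24 := by rw [← h7]; exact idx_lt _
      rw [← h6, htq, idx_pt hq24]
    · exact ⟨1, fun h => absurd h hq⟩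
  choose t ht using hcov
  have : Finite (fixG H F) := Finite.of_injective (fun g => (⟨g.1, g.2.1⟩ : H))
    (fun a b hab => Subtype.ext (by simpa using congrArg (fun x : H => x.1) hab))
  rw [← card_subtype_mem_list _ hnd, ← Nat.card_prod]
  apply Nat.card_le_card_of_injective
    (fun x : {q // q ∈ L.orb} × fixG H (L.b :: F) => (⟨t x.1.1 * x.2.1, by
      have htq := ht _ x.1.2
      refine ⟨H.mul_mem htq.1.1 x.2.2.1, fun i hi => ?_⟩
      rw [Equiv.Perm.mul_apply, x.2.2.2 i (List.mem_cons_of_mem _ hi), htq.1.2 i hi]⟩ : fixG H F))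
  rintro ⟨⟨q, hq⟩, ⟨k, hk⟩⟩ ⟨⟨q', hq'⟩, ⟨k', hk'⟩⟩ hxy
  have hxy' : t q * k = t q' * k' := congrArg Subtype.val hxy
  have h1 : (t q * k) (pt L.b) = (t q' * k') (pt L.b) := by rw [hxy']
  rw [Equiv.Perm.mul_apply, Equiv.Perm.mul_apply, hk.2 L.b (List.mem_cons_self ..),
    hk'.2 L.b (List.mem_cons_self ..)] at h1
  have h2 : q = q' := by
    rw [← (ht q hq).2.2, ← (ht q' hq').2.2, h1]
  subst h2
  have h3 : k = k' := mul_left_cancel hxy'
  subst h3
  rfl

theorem chain_card_ge {H : Subgroup (Equiv.Perm GolayPt)} [Finite H] {F : List ℕ} {Ls : List Level}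
    (hT : ∀ L ∈ Ls, ∀ l ∈ L.T, Tabled H l) (hok : chainOK F Ls = true) :
    (Ls.map (fun L => L.orb.length)).prod ≤ Nat.card (fixG H F) := by
  induction Ls generalizing F with
  | nil =>
    simp only [List.map_nil, List.prod_nil]
    exact Nat.one_le_iff_ne_zero.mpr (Nat.card_pos (α := fixG H F)).ne' |>.trans_eq rfl |> fun h => h
  | cons L Ls ih =>
    rw [chainOK, Bool.and_eq_true, Bool.and_eq_true, Bool.and_eq_true] at hok
    obtain ⟨⟨⟨h1, h2⟩, h3⟩, h4⟩ := hok
    have hb : L.b < 24 := by simpa [Nat.blt_eq] using h3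
    have hnd : L.orb.Nodup := of_decide_eq_true h2
    have := level_card_ge (fun l hl => hT L (List.mem_cons_self ..) l hl) h1 hb hnd
    have h5 := ih (fun L' hL' => hT L' (List.mem_cons_of_mem _ hL')) h4
    simp only [List.map_cons, List.prod_cons]
    exact (Nat.mul_le_mul_left _ h5).trans this

/-- A group generated inside a stabiliser, with a chain certifying the order, is the stabiliser. -/
theorem closure_eq_stabPerm {X : Type} [MulAction (Equiv.Perm GolayPt) X] (a : X)
    (S : Set (Equiv.Perm GolayPt)) (hS : ∀ s ∈ S, s ∈ M24 ∧ s • a = a) {Ls : List Level}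
    (hT : ∀ L ∈ Ls, ∀ l ∈ L.T, Tabled (Subgroup.closure S) l) (hok : chainOK [] Ls = true)
    (hcard : Nat.card (stabPerm a) ≤ (Ls.map (fun L => L.orb.length)).prod) :
    Subgroup.closure S = stabPerm a := by
  have hle : Subgroup.closure S ≤ stabPerm a := by
    rw [Subgroup.closure_le]
    intro s hs
    exact mem_stabPerm.mpr (hS s hs)
  have : Finite (Subgroup.closure S) := Finite.of_injective (fun g => g.1) Subtype.val_injective
  have h1 := chain_card_ge hT hok
  rw [fixG_nil] at h1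
  exact Subgroup.eq_of_le_of_card_ge hle (hcard.trans h1)

end Cfsg.Agent.Helper93
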