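/-
Helper93: `M24` acts on octads, dodecads, sextets, trios; transitivity certificates for `M24`
(generated by the three standard generators, Helper7) and identification of stabilisers with
groups generated by explicit tables.
-/
import Cfsg.Agent.Helper93.StabChain
import Cfsg.Agent.Helper93.M24Tables
import Cfsg.Prelude.Def_SporadicCombinatorics

set_option autoImplicit false

namespace Cfsg.Agent.Helper93

open Cfsg Cfsg.Agent.Helper7
open scoped Pointwise

/-! ### `M24` preserves the classes -/

theorem smul_mem_supports {g : Equiv.Perm GolayPt} (hg : g ∈ M24) {s : Finset GolayPt}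
    (hs : s ∈ supports (golayCode : Set (GolayPt → ZMod 2))) :
    g • s ∈ supports (golayCode : Set (GolayPt → ZMod 2)) := by
  obtain ⟨w, hw, rfl⟩ := hs
  exact ⟨permL g w, permL_mem_of_mem_M24 hg hw, (smul_support₂ g w).symm⟩

theorem smul_mem_wordsOfWeight {g : Equiv.Perm GolayPt} (hg : g ∈ M24) {s : Finset GolayPt} {n : ℕ}
    (hs : s ∈ wordsOfWeight (golayCode : Set (GolayPt → ZMod 2)) n) :
    g • s ∈ wordsOfWeight (golayCode : Set (GolayPt → ZMod 2)) n :=
  ⟨smul_mem_supports hg hs.1, by rw [Finset.card_smul_finset]; exact hs.2⟩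

theorem smul_mem_octads {g : Equiv.Perm GolayPt} (hg : g ∈ M24) {s : Finset GolayPt}
    (hs : s ∈ octads) : g • s ∈ octads := smul_mem_wordsOfWeight hg hs

theorem smul_mem_dodecads {g : Equiv.Perm GolayPt} (hg : g ∈ M24) {s : Finset GolayPt}
    (hs : s ∈ dodecads) : g • s ∈ dodecads := smul_mem_wordsOfWeight hg hs

theorem smul_mem_sextets {g : Equiv.Perm GolayPt} (hg : g ∈ M24) {S : Finset (Finset GolayPt)}
    (hS : S ∈ sextets) : g • S ∈ sextets := by
  obtain ⟨h1, h2, h3⟩ := hS
  refine ⟨by rw [Finset.card_smul_finset]; exact h1, ?_, ?_⟩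
  · intro t ht
    obtain ⟨t', ht', rfl⟩ := Finset.mem_smul_finset.mp ht
    rw [Finset.card_smul_finset]
    exact h2 t' ht'
  · intro t ht u hu htu
    obtain ⟨t', ht', rfl⟩ := Finset.mem_smul_finset.mp ht
    obtain ⟨u', hu', rfl⟩ := Finset.mem_smul_finset.mp hu
    rw [← Finset.smul_finset_union]
    exact smul_mem_octads hg (h3 t' ht' u' hu' (fun h => htu (by rw [h])))

theorem smul_mem_trios {g : Equiv.Perm GolayPt} (hg : g ∈ M24) {T : Finset (Finset GolayPt)}
    (hT : T ∈ trios) : g • T ∈ trios := by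
  obtain ⟨h1, h2, h3⟩ := hT
  refine ⟨by rw [Finset.card_smul_finset]; exact h1, ?_, ?_⟩
  · intro t ht
    obtain ⟨t', ht', rfl⟩ := Finset.mem_smul_finset.mp ht
    exact smul_mem_octads hg (h2 t' ht')
  · intro t ht u hu htu
    obtain ⟨t', ht', rfl⟩ := Finset.mem_smul_finset.mp ht
    obtain ⟨u', hu', rfl⟩ := Finset.mem_smul_finset.mp hu
    have := h3 t' ht' u' hu' (fun h => htu (by rw [h]))
    rw [Finset.disjoint_iff_inter_eq_empty] at this ⊢
    rw [← Finset.smul_finset_inter, this, Finset.smul_finset_empty]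

/-! ### Transitivity certificates for `M24` -/

theorem getW_zero (w i : ℕ) : getW w 0 i = 0 := by simp [getW]

theorem tablesOf_gens : TablesOf [tA, tB, tC] [gA, projInv, cubeTwist] :=
  ⟨isTable_gA, isTable_projInv, isTable_cubeTwist, trivial⟩

theorem closure_gens_eq_M24 :
    Subgroup.closure {s | s ∈ [gA, projInv, cubeTwist]} = M24 := by
  rw [M24_eq_genGroup, genGroup]
  congr 1
  ext s
  simp

section

variable {X : Type} [MulAction (Equiv.Perm GolayPt) X] (E : Enc X)

/-- `M24` is transitive on the decoded array. -/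
theorem m24_orbit_cert {A : Arr} {Ps : List ℕ} (PAR DEP r : ℕ)
    (hrel : relsOK E A [tA, tB, tC] Ps = true)
    (hok : (mkOrbData A.n Ps 0 PAR DEP [r]).ok = true) {i : ℕ} (hi : i < A.n) :
    MulAction.orbit (↥M24) (E.dec (A.a i)) = {y | ∃ i' < A.n, y = E.dec (A.a i')} := by
  have h := orbit_cert E 0 PAR DEP [r] tablesOf_gens hrel hok hi
  rw [closure_gens_eq_M24] at h
  rw [h]
  ext y
  simp only [getW_zero, Set.mem_ofPred_eq, true_and]

theorem ncard_arr {A : Arr} (hA : A.ok E = true) :
    {y | ∃ i' < A.n, y = E.dec (A.a i')}.ncard = A.n := by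
  have h1 : {y | ∃ i' < A.n, y = E.dec (A.a i')} = (fun i => E.dec (A.a i)) '' (Set.Iio A.n) := by
    ext y
    simp only [Set.mem_ofPred_eq, Set.mem_image, Set.mem_Iio]
    constructor
    · rintro ⟨i, hi, rfl⟩; exact ⟨i, hi, rfl⟩
    · rintro ⟨i, hi, rfl⟩; exact ⟨i, hi, rfl⟩
  rw [h1, Set.InjOn.ncard_image]
  · rw [← Finset.coe_Iio, Set.ncard_coe_finset, Nat.card_Iio]
  · intro a ha b hb hab
    exact Arr.inj E hA a ha b hb hab

/-- the class `C` is the decoded array, as soon as it contains one entry, is `M24`-invariant and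
has at most `n` members -/
theorem class_eq_arr {A : Arr} {Ps : List ℕ} (PAR DEP r : ℕ) (hA : A.ok E = true)
    (hrel : relsOK E A [tA, tB, tC] Ps = true)
    (hok : (mkOrbData A.n Ps 0 PAR DEP [r]).ok = true) (C : Set X) (hfin : C.Finite)
    (hinv : ∀ g ∈ M24, ∀ y ∈ C, g • y ∈ C) {i : ℕ} (hi : i < A.n) (hmem : E.dec (A.a i) ∈ C)
    (hcard : C.ncard ≤ A.n) : C = {y | ∃ i' < A.n, y = E.dec (A.a i')} := by
  have horb := m24_orbit_cert E PAR DEP r hrel hok hi
  symm
  apply Set.eq_of_subset_of_ncard_le _ _ hfin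
  · rw [← horb]
    rintro y ⟨g, rfl⟩
    exact hinv g.1 g.2 _ hmem
  · rw [ncard_arr E hA]
    exact hcard

/-- every member of the decoded array is an `M24`-image of entry `i` -/
theorem exists_m24_smul {A : Arr} {Ps : List ℕ} (PAR DEP r : ℕ)
    (hrel : relsOK E A [tA, tB, tC] Ps = true)
    (hok : (mkOrbData A.n Ps 0 PAR DEP [r]).ok = true) {i i' : ℕ} (hi : i < A.n) (hi' : i' < A.n) :
    ∃ g ∈ M24, g • E.dec (A.a i) = E.dec (A.a i') := by
  have horb := m24_orbit_cert E PAR DEP r hrel hok hi
  have : E.dec (A.a i') ∈ MulAction.orbit (↥M24) (E.dec (A.a i)) := by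
    rw [horb]; exact ⟨i', hi', rfl⟩
  obtain ⟨g, hg⟩ := this
  exact ⟨g.1, g.2, hg⟩

end

/-! ### Stabilisers generated by explicit tables -/

theorem TablesOf.exists_table {ls : List (List ℕ)} {gs : List (Equiv.Perm GolayPt)}
    (h : TablesOf ls gs) : ∀ g ∈ gs, ∃ l ∈ ls, IsTable l g := by
  induction ls generalizing gs with
  | nil => cases gs with
    | nil => intro g hg; simp at hg
    | cons g gs => exact absurd h (by simp [TablesOf])
  | cons l ls ih => cases gs with
    | nil => exact absurd h (by simp [TablesOf])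
    | cons g gs =>
      intro g' hg'
      rw [List.mem_cons] at hg'
      rcases hg' with rfl | hg'
      · exact ⟨l, List.mem_cons_self .., h.1⟩
      · obtain ⟨l', hl', ht⟩ := ih h.2 g' hg'
        exact ⟨l', List.mem_cons_of_mem _ hl', ht⟩

theorem TablesOf.exists_perm {ls : List (List ℕ)} {gs : List (Equiv.Perm GolayPt)}
    (h : TablesOf ls gs) : ∀ l ∈ ls, ∃ g ∈ gs, IsTable l g := by
  induction ls generalizing gs with
  | nil => intro l hl; simp at hl
  | cons l ls ih => cases gs with
    | nil => exact absurd h (by simp [TablesOf])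
    | cons g gs =>
      intro l' hl'
      rw [List.mem_cons] at hl'
      rcases hl' with rfl | hl'
      · exact ⟨g, List.mem_cons_self .., h.1⟩
      · obtain ⟨g', hg', ht⟩ := ih h.2 l' hl'
        exact ⟨g', List.mem_cons_of_mem _ hg', ht⟩

section

variable {X : Type} [MulAction (Equiv.Perm GolayPt) X] (E : Enc X)

/-- The group generated by the permutations `gs` (with tables `ls`) is the full stabiliser of
`E.dec c₀` in `M24`: the generators lie in `M24` and fix the point, and a chain of transversals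
(tables computed by a straight-line program) shows that the group is large enough. -/
theorem stab_eq_closure_of_cert (c₀ : ℕ) {gs : List (Equiv.Perm GolayPt)} {ls : List (List ℕ)}
    (hT : TablesOf ls gs) (hM : ∀ g ∈ gs, g ∈ M24)
    (hfix : ∀ l ∈ ls, E.rel l c₀ c₀ = true)
    (prog : List Op) (tabs : List (List ℕ)) (specs : List (ℕ × List ℕ × List ℕ))
    (htabs : runSLP prog (idT :: ls) = tabs)
    (hok : chainOK [] (specs.map (mkLevel tabs)) = true)
    (n : ℕ) (horb : (MulAction.orbit (↥M24) (E.dec c₀)).ncard = n)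
    (hcard : 244823040 ≤ n * ((specs.map (mkLevel tabs)).map (fun L => L.orb.length)).prod) :
    Subgroup.closure {s | s ∈ gs} = stabPerm (E.dec c₀) := by
  apply closure_eq_stabPerm (E.dec c₀) {s | s ∈ gs} _ _ hok
  · have h1 := card_stabPerm_mul (E.dec c₀)
    rw [horb] at h1
    have hn : 0 < n := by
      rcases Nat.eq_zero_or_pos n with h0 | h0
      · rw [h0] at h1; simp at h1
      · exact h0
    rw [← h1, mul_comm] at hcard
    exact Nat.le_of_mul_le_mul_left hcard hn
  · intro s hs
    obtain ⟨l, hl, hls⟩ := hT.exists_table s hs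
    refine ⟨hM s hs, ?_⟩
    have := E.dec_rel hls (hfix l hl)
    rw [inv_smul_eq_iff] at this
    exact this.symm
  · intro L hL l hl
    rw [List.mem_map] at hL
    obtain ⟨s, _, rfl⟩ := hL
    have hmem := mkLevel_T_mem _ _ l hl
    rw [← htabs] at hmem
    refine tabled_runSLP _ prog (idT :: ls) ?_ l hmem
    intro l' hl'
    rw [List.mem_cons] at hl'
    rcases hl' with rfl | hl'
    · exact tabled_idT _
    · obtain ⟨g, hg, hlg⟩ := hT.exists_perm l' hl'
      exact ⟨g, Subgroup.subset_closure hg, hlg⟩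

end

end Cfsg.Agent.Helper93
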