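import Cfsg.Agent.Helper93.M23IdxA

/-!
# Subgroups of `M23` of index 253 (S1609), part B: the orbit analysis

`K ≤ M24` fixes the point `x` and has order `40320`.  Using an element of order 7 (fixing `x` and
two further points `a`, `b`) and an element of order 5 (fixing `x` and three further points) the
possible sizes of the `K`-orbits of `a` and `b` are pinned down, and every configuration other than
"`K` stabilises the duad `{a, b}`" and "`K` stabilises an octad through `x`" is excluded.
-/

set_option autoImplicit false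

namespace Cfsg.Agent.Helper93.M23Idx

open Cfsg Cfsg.Agent.Helper7 Cfsg.Agent.Helper93 Cfsg.Agent.Helper93.M24Fix
open scoped Pointwise

variable {K : Subgroup (Equiv.Perm GolayPt)} {x : GolayPt}

/-- an element of `M24` fixing nine points is the identity -/
theorem eq_one_of_fixes {g : Equiv.Perm GolayPt} (hg : g ∈ M24) (S : Finset GolayPt)
    (hS : ∀ y ∈ S, g y = y) (hc : 9 ≤ S.card) : g = 1 := by
  by_contra h1
  have h8 := nfix_le_eight hg h1
  have : S ⊆ fixF g := fun y hy => mem_fixF.2 (hS y hy)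
  have := Finset.card_le_card this
  rw [card_fixF] at this
  omega

/-! ### an invariant 8-set is impossible -/

section eight

variable (hKM : K ≤ M24) (hKx : ∀ g ∈ K, g x = x) (hcard : Nat.card K = 40320)
  (A : Finset GolayPt) (hA : ∀ g ∈ K, ∀ y ∈ A, g y ∈ A) (hc : A.card = 8) (hx : x ∉ A)

include hKM hKx hc hx in
theorem restr_injective : Function.Injective (restr K A hA) := by
  rw [← MonoidHom.ker_eq_bot_iff, Subgroup.eq_bot_iff_forall]
  intro g hg
  rw [MonoidHom.mem_ker] at hg
  apply Subtype.ext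
  show (g : Equiv.Perm GolayPt) = 1
  apply eq_one_of_fixes (hKM g.2) (insert x A)
  · intro y hy
    rw [Finset.mem_insert] at hy
    rcases hy with rfl | hy
    · exact hKx _ g.2
    · have := congrArg (fun e : Equiv.Perm {y // y ∈ A} => ((e ⟨y, hy⟩ : {y // y ∈ A}) : GolayPt)) hg
      exact this
  · rw [Finset.card_insert_of_notMem hx, hc]

include hKM hKx hcard hc hx in
theorem restr_surjective : Function.Surjective (restr K A hA) := by
  have hinj := restr_injective hKM hKx A hA hc hx
  have : Function.Bijective (restr K A hA) := by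
    apply Function.Injective.bijective_of_nat_card_le hinj
    rw [card_perm_coe, hc, hcard]
    decide
  exact this.2

include hKM hKx hc hx in
/-- an element of `K` inducing a transposition on `A` fixes an octad pointwise -/
theorem fix_of_swap {u v : GolayPt} (hu : u ∈ A) (hv : v ∈ A) (huv : u ≠ v) (t : ↥K)
    (ht : restr K A hA t = Equiv.swap ⟨u, hu⟩ ⟨v, hv⟩) :
    fixF (t : Equiv.Perm GolayPt) ∈ octads ∧ x ∈ fixF (t : Equiv.Perm GolayPt) ∧
      (∀ y ∈ A, y ≠ u → y ≠ v → y ∈ fixF (t : Equiv.Perm GolayPt)) ∧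
      v ∉ fixF (t : Equiv.Perm GolayPt) := by
  have hinj := restr_injective hKM hKx A hA hc hx
  have happ : ∀ y (hy : y ∈ A), (t : Equiv.Perm GolayPt) y =
      ((Equiv.swap (⟨u, hu⟩ : {y // y ∈ A}) ⟨v, hv⟩ ⟨y, hy⟩ : {y // y ∈ A}) : GolayPt) := by
    intro y hy
    rw [← ht]
    rfl
  have hfixA : ∀ y ∈ A, y ≠ u → y ≠ v → (t : Equiv.Perm GolayPt) y = y := by
    intro y hy hyu hyv
    rw [happ y hy, Equiv.swap_apply_of_ne_of_ne]
    · intro h; exact hyu (congrArg Subtype.val h)
    · intro h; exact hyv (congrArg Subtype.val h)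
  have htv : (t : Equiv.Perm GolayPt) v = u := by
    rw [happ v hv, Equiv.swap_apply_right]
  have hsq : (t : Equiv.Perm GolayPt) ^ 2 = 1 := by
    have h1 : restr K A hA (t * t) = 1 := by
      rw [map_mul, ht, Equiv.swap_mul_self]
    have h2 : t * t = 1 := hinj (by rw [h1, map_one])
    have := congrArg (Subtype.val : ↥K → Equiv.Perm GolayPt) h2
    rw [pow_two]
    exact this
  have hne : (t : Equiv.Perm GolayPt) ≠ 1 := by
    intro h
    rw [h] at htv
    exact huv htv.symm
  have hord : orderOf (t : Equiv.Perm GolayPt) = 2 := orderOf_eq_prime hsq hne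
  have hxfix : x ∈ fixF (t : Equiv.Perm GolayPt) := mem_fixF.2 (hKx _ t.2)
  -- at least seven fixed points
  have hsub : insert x ((A.erase u).erase v) ⊆ fixF (t : Equiv.Perm GolayPt) := by
    intro y hy
    rw [Finset.mem_insert] at hy
    rcases hy with rfl | hy
    · exact hxfix
    · rw [Finset.mem_erase, Finset.mem_erase] at hy
      exact mem_fixF.2 (hfixA y hy.2.2 hy.2.1 hy.1)
  have hcard7 : (insert x ((A.erase u).erase v)).card = 7 := by
    rw [Finset.card_insert_of_notMem, Finset.card_erase_of_mem, Finset.card_erase_of_mem hu, hc]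
    · rw [Finset.mem_erase]; exact ⟨huv.symm, hv⟩
    · intro h
      rw [Finset.mem_erase, Finset.mem_erase] at h
      exact hx h.2.2
  have h7 : 7 ≤ nfix (t : Equiv.Perm GolayPt) := by
    rw [← card_fixF, ← hcard7]
    exact Finset.card_le_card hsub
  have h8 : nfix (t : Equiv.Perm GolayPt) = 8 := by
    rcases nfix_order2 (hKM t.2) hord with h | h <;> omega
  refine ⟨fix8_octad (hKM t.2) hne (Finset.Subset.refl _) (by rw [card_fixF, h8]), hxfix,
    fun y hy hyu hyv => mem_fixF.2 (hfixA y hy hyu hyv), ?_⟩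
  rw [mem_fixF, htv]
  exact huv

include hKM hKx hcard hA hc hx in
/-- `K` has no invariant set of eight points -/
theorem no_invariant_eight : False := by
  have hsurj := restr_surjective hKM hKx hcard A hA hc hx
  obtain ⟨b1, b2, b3, h1, h2, h3, h12, h13, h23⟩ := Finset.two_lt_card_iff.mp (by omega : 2 < A.card)
  obtain ⟨t1, ht1⟩ := hsurj (Equiv.swap ⟨b1, h1⟩ ⟨b2, h2⟩)
  obtain ⟨t2, ht2⟩ := hsurj (Equiv.swap ⟨b3, h3⟩ ⟨b2, h2⟩)
  obtain ⟨ho1, hx1, hf1, hv1⟩ := fix_of_swap hKM hKx A hA hc hx h1 h2 h12 t1 ht1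
  obtain ⟨ho2, hx2, hf2, hv2⟩ := fix_of_swap hKM hKx A hA hc hx h3 h2 h23.symm t2 ht2
  -- the six common fixed points
  have hC1 : insert x (((A.erase b1).erase b2).erase b3) ⊆ fixF (t1 : Equiv.Perm GolayPt) := by
    intro y hy
    rw [Finset.mem_insert] at hy
    rcases hy with rfl | hy
    · exact hx1
    · rw [Finset.mem_erase, Finset.mem_erase, Finset.mem_erase] at hy
      exact hf1 y hy.2.2.2 hy.2.2.1 hy.2.1
  have hC2 : insert x (((A.erase b1).erase b2).erase b3) ⊆ fixF (t2 : Equiv.Perm GolayPt) := by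
    intro y hy
    rw [Finset.mem_insert] at hy
    rcases hy with rfl | hy
    · exact hx2
    · rw [Finset.mem_erase, Finset.mem_erase, Finset.mem_erase] at hy
      exact hf2 y hy.2.2.2 hy.1 hy.2.1
  have e1 : (A.erase b1).card = 7 := by rw [Finset.card_erase_of_mem h1, hc]
  have m2 : b2 ∈ A.erase b1 := Finset.mem_erase.2 ⟨h12.symm, h2⟩
  have e2 : ((A.erase b1).erase b2).card = 6 := by rw [Finset.card_erase_of_mem m2, e1]
  have m3 : b3 ∈ (A.erase b1).erase b2 :=
    Finset.mem_erase.2 ⟨h23.symm, Finset.mem_erase.2 ⟨h13.symm, h3⟩⟩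
  have e3 : (((A.erase b1).erase b2).erase b3).card = 5 := by
    rw [Finset.card_erase_of_mem m3, e2]
  have hxn : x ∉ ((A.erase b1).erase b2).erase b3 := fun h =>
    hx (Finset.mem_of_mem_erase (Finset.mem_of_mem_erase (Finset.mem_of_mem_erase h)))
  have hC : 5 ≤ (insert x (((A.erase b1).erase b2).erase b3)).card := by
    rw [Finset.card_insert_of_notMem hxn, e3]
    norm_num
  have heq := octad_eq_of_five ho1 ho2 _ hC hC1 hC2
  -- `b3` is fixed by `t1` but moved by `t2`
  have hb3 : b3 ∈ fixF (t1 : Equiv.Perm GolayPt) := hf1 b3 h3 h13.symm h23.symm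
  rw [← heq] at hb3
  -- `t2` swaps `b3` and `b2`, so it moves `b3`
  have hmove : b3 ∉ fixF (t2 : Equiv.Perm GolayPt) := by
    intro h
    rw [mem_fixF] at h
    have h4 : (t2 : Equiv.Perm GolayPt) b2 = b3 := by
      have : (t2 : Equiv.Perm GolayPt) b2 =
          ((restr K A hA t2 ⟨b2, h2⟩ : {y // y ∈ A}) : GolayPt) := rfl
      rw [this, ht2, Equiv.swap_apply_right]
    have := (t2 : Equiv.Perm GolayPt).injective (h.trans h4.symm)
    exact h23 this.symm
  exact hmove hb3

end eight

/-! ### orbit sizes -/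

section orbit

variable (hKx : ∀ g ∈ K, g x = x)

include hKx in
theorem x_notMem_orbF {y : GolayPt} (hy : y ≠ x) : x ∉ orbF K y := by
  intro h
  obtain ⟨g, hg, hgy⟩ := (mem_orbF K).1 h
  apply hy
  have := hKx g hg
  exact g.injective (hgy.trans this.symm)

theorem card_erase_x : (Finset.univ.erase x : Finset GolayPt).card = 23 := by
  rw [Finset.card_erase_of_mem (Finset.mem_univ _), Finset.card_univ]
  rfl

include hKx in
theorem orbF_subset {y : GolayPt} (hy : y ≠ x) : orbF K y ⊆ Finset.univ.erase x := by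
  intro z hz
  rw [Finset.mem_erase]
  refine ⟨?_, Finset.mem_univ _⟩
  rintro rfl
  exact x_notMem_orbF hKx hy hz

include hKx in
theorem inter_fix_le {y : GolayPt} (hy : y ≠ x) {g : Equiv.Perm GolayPt} (hg : g ∈ K) :
    (orbF K y ∩ fixF g).card + 1 ≤ nfix g := by
  have hsub : insert x (orbF K y ∩ fixF g) ⊆ fixF g := by
    intro z hz
    rw [Finset.mem_insert] at hz
    rcases hz with rfl | hz
    · exact mem_fixF.2 (hKx g hg)
    · exact (Finset.mem_inter.1 hz).2
  have := Finset.card_le_card hsub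
  rw [Finset.card_insert_of_notMem, card_fixF] at this
  · exact this
  · intro h
    exact x_notMem_orbF hKx hy (Finset.mem_inter.1 h).1

include hKx in
theorem inter_fix_le₂ {y z : GolayPt} (hy : y ≠ x) (hz : z ≠ x)
    (hd : Disjoint (orbF K y) (orbF K z)) {g : Equiv.Perm GolayPt} (hg : g ∈ K) :
    (orbF K y ∩ fixF g).card + (orbF K z ∩ fixF g).card + 1 ≤ nfix g := by
  have hd' : Disjoint (orbF K y ∩ fixF g) (orbF K z ∩ fixF g) :=
    hd.mono Finset.inter_subset_left Finset.inter_subset_left
  have hsub : insert x ((orbF K y ∩ fixF g) ∪ (orbF K z ∩ fixF g)) ⊆ fixF g := by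
    intro w hw
    rw [Finset.mem_insert] at hw
    rcases hw with rfl | hw
    · exact mem_fixF.2 (hKx g hg)
    · rcases Finset.mem_union.1 hw with h | h
      · exact (Finset.mem_inter.1 h).2
      · exact (Finset.mem_inter.1 h).2
  have := Finset.card_le_card hsub
  rw [Finset.card_insert_of_notMem, Finset.card_union_of_disjoint hd', card_fixF] at this
  · exact this
  · intro h
    rcases Finset.mem_union.1 h with h | h
    · exact x_notMem_orbF hKx hy (Finset.mem_inter.1 h).1
    · exact x_notMem_orbF hKx hz (Finset.mem_inter.1 h).1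

include hKx in
theorem card_add_le {y z : GolayPt} (hy : y ≠ x) (hz : z ≠ x)
    (hd : Disjoint (orbF K y) (orbF K z)) : (orbF K y).card + (orbF K z).card ≤ 23 := by
  rw [← Finset.card_union_of_disjoint hd]
  have := Finset.card_le_card (Finset.union_subset (orbF_subset hKx hy) (orbF_subset hKx hz))
  rwa [card_erase_x] at this

theorem modEq_orbF {p : ℕ} [Fact p.Prime] {g : Equiv.Perm GolayPt} (hg : g ∈ K) (hgp : g ^ p = 1)
    (y : GolayPt) : (orbF K y ∩ fixF g).card ≡ (orbF K y).card [MOD p] :=
  card_modEq_inter_fixF hgp _ (fun z hz => orbF_invariant K y g hg z hz)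

end orbit

end Cfsg.Agent.Helper93.M23Idx
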