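/-
Helper93: the octads, sextets and trios are exactly the decoded class arrays.
-/
import Cfsg.Agent.Helper93.ClsOct
import Cfsg.Agent.Helper93.ClsSext
import Cfsg.Agent.Helper93.ClsTrio
import Cfsg.Agent.Helper27.Octads
import Cfsg.Agent.Helper26.Trio
import Cfsg.Agent.Helper26.Sextet
import Cfsg.Agent.Helper26.Steiner2

set_option autoImplicit false
set_option maxRecDepth 100000

namespace Cfsg.Agent.Helper93

open Cfsg Cfsg.Agent.Helper7
open scoped Pointwise

/-- mask of an octad -/
def isOctadMask (m : ℕ) : Bool :=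
  Nat.blt m 16777216 && Nat.beq (enc (m % 4096)) m && Nat.beq (wt m) 8

theorem sm_mem_octads {m : ℕ} (h : isOctadMask m = true) : sm m ∈ octads := by
  rw [isOctadMask, Bool.and_eq_true, Bool.and_eq_true] at h
  obtain ⟨⟨h1, h2⟩, h3⟩ := h
  have h1' : m < 2 ^ 24 := by simpa [Nat.blt_eq] using h1
  refine ⟨⟨word m, ?_, rfl⟩, ?_⟩
  · exact (word_mem_golayCode_iff h1').mpr (Nat.eq_of_beq_eq_true h2)
  · rw [← Nat.eq_of_beq_eq_true h3]; exact card_sm m

theorem sm_lor (a b : ℕ) : sm (a ||| b) = sm a ∪ sm b := by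
  ext p
  rw [Finset.mem_union, mem_sm, mem_sm, mem_sm, Nat.testBit_or, Bool.or_eq_true]

theorem sm_land (a b : ℕ) : sm (a &&& b) = sm a ∩ sm b := by
  ext p
  rw [Finset.mem_inter, mem_sm, mem_sm, mem_sm, Nat.testBit_and, Bool.and_eq_true]

theorem sm_zero : sm 0 = ∅ := by
  ext p
  simp [mem_sm]

theorem sm_eq_empty_iff' {m : ℕ} (hm : m < 2 ^ 24) : sm m = ∅ ↔ m = 0 := by
  constructor
  · intro h
    exact sm_inj hm (by norm_num) (h.trans sm_zero.symm)
  · rintro rfl
    exact sm_zero

theorem smL_card {ms : List ℕ} (h1 : ms.Pairwise (· < ·)) (hlt : ∀ m ∈ ms, m < 2 ^ 24) :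
    (smL ms).card = ms.length := by
  rw [smL, List.toFinset_card_of_nodup, List.length_map]
  rw [List.nodup_map_iff_inj_on (h1.imp (fun h => Nat.ne_of_lt h))]
  intro a ha b hb hab
  exact sm_inj (hlt a ha) (hlt b hb) hab

/-- all unions of two distinct masks are octad masks -/
def pairsOct : List ℕ → Bool
  | [] => true
  | a :: as => as.all (fun b => isOctadMask (a ||| b)) && pairsOct as

theorem pairsOct_spec {ms : List ℕ} (h : pairsOct ms = true) :
    ms.Pairwise (fun a b => isOctadMask (a ||| b) = true) := by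
  induction ms with
  | nil => exact List.Pairwise.nil
  | cons a as ih =>
    rw [pairsOct, Bool.and_eq_true, List.all_eq_true] at h
    exact List.Pairwise.cons h.1 (ih h.2)

/-- check that a list of masks is a sextet -/
def isSextetL (ms : List ℕ) : Bool :=
  Nat.beq ms.length 6 && sortedB ms && ms.all (fun m => Nat.blt m 16777216 && Nat.beq (wt m) 4) &&
    pairsOct ms

theorem smL_mem_sextets {ms : List ℕ} (h : isSextetL ms = true) : smL ms ∈ sextets := by
  rw [isSextetL, Bool.and_eq_true, Bool.and_eq_true, Bool.and_eq_true, List.all_eq_true] at h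
  obtain ⟨⟨⟨h1, h2⟩, h3⟩, h4⟩ := h
  have hs := sortedB_spec h2
  have hlt : ∀ m ∈ ms, m < 2 ^ 24 := by
    intro m hm
    have := h3 m hm
    rw [Bool.and_eq_true] at this
    simpa [Nat.blt_eq] using this.1
  have hp := pairsOct_spec h4
  refine ⟨by rw [smL_card hs hlt]; exact Nat.eq_of_beq_eq_true h1, ?_, ?_⟩
  · intro t ht
    obtain ⟨m, hm, rfl⟩ := (mem_smL _ _).mp ht
    have := h3 m hm
    rw [Bool.and_eq_true] at this
    rw [card_sm]; exact Nat.eq_of_beq_eq_true this.2
  · intro t ht u hu htu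
    obtain ⟨a, ha, rfl⟩ := (mem_smL _ _).mp ht
    obtain ⟨b, hb, rfl⟩ := (mem_smL _ _).mp hu
    have hab : a ≠ b := fun h => htu (by rw [h])
    rw [← sm_lor]
    apply sm_mem_octads
    haveI : Std.Symm (fun x y : ℕ => isOctadMask (x ||| y) = true) :=
      ⟨fun x y h => by rwa [Nat.lor_comm]⟩
    exact hp.forall ha hb hab

/-- all pairs of masks are disjoint -/
def pairsDisj : List ℕ → Bool
  | [] => true
  | a :: as => as.all (fun b => Nat.beq (a &&& b) 0) && pairsDisj as

theorem pairsDisj_spec {ms : List ℕ} (h : pairsDisj ms = true) :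
    ms.Pairwise (fun a b => a &&& b = 0) := by
  induction ms with
  | nil => exact List.Pairwise.nil
  | cons a as ih =>
    rw [pairsDisj, Bool.and_eq_true, List.all_eq_true] at h
    exact List.Pairwise.cons (fun b hb => Nat.eq_of_beq_eq_true (h.1 b hb)) (ih h.2)

/-- check that a list of masks is a trio -/
def isTrioL (ms : List ℕ) : Bool :=
  Nat.beq ms.length 3 && sortedB ms && ms.all isOctadMask && pairsDisj ms

theorem smL_mem_trios {ms : List ℕ} (h : isTrioL ms = true) : smL ms ∈ trios := by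
  rw [isTrioL, Bool.and_eq_true, Bool.and_eq_true, Bool.and_eq_true, List.all_eq_true] at h
  obtain ⟨⟨⟨h1, h2⟩, h3⟩, h4⟩ := h
  have hs := sortedB_spec h2
  have hlt : ∀ m ∈ ms, m < 2 ^ 24 := by
    intro m hm
    have := h3 m hm
    rw [isOctadMask, Bool.and_eq_true, Bool.and_eq_true] at this
    simpa [Nat.blt_eq] using this.1.1
  have hp := pairsDisj_spec h4
  refine ⟨by rw [smL_card hs hlt]; exact Nat.eq_of_beq_eq_true h1, ?_, ?_⟩
  · intro t ht
    obtain ⟨m, hm, rfl⟩ := (mem_smL _ _).mp ht
    exact sm_mem_octads (h3 m hm)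
  · intro t ht u hu htu
    obtain ⟨a, ha, rfl⟩ := (mem_smL _ _).mp ht
    obtain ⟨b, hb, rfl⟩ := (mem_smL _ _).mp hu
    have hab : a ≠ b := fun h => htu (by rw [h])
    haveI : Std.Symm (fun x y : ℕ => x &&& y = 0) := ⟨fun x y h => by rwa [Nat.land_comm]⟩
    rw [Finset.disjoint_iff_inter_eq_empty, ← sm_land, hp.forall ha hb hab, sm_zero]

/-- the octads are the decoded array -/
theorem octads_eq : octads = {y | ∃ i < 759, y = encSet.dec (octArr.a i)} :=
  class_eq_arr encSet octPAR octDEP 0 octArr_ok oct_rels oct_orb octads (Set.toFinite _)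
    (fun _ hg _ hy => smul_mem_octads hg hy) (i := 0) (by decide)
    (sm_mem_octads (by decide +kernel))
    (by rw [Cfsg.Agent.Helper27.octads_ncard]; exact le_refl _)

/-- the sextets are the decoded array -/
theorem sextets_eq : sextets = {y | ∃ i < 1771, y = (encFam 6).dec (sextArr.a i)} :=
  class_eq_arr (encFam 6) sextPAR sextDEP 0 sextArr_ok sext_rels sext_orb sextets (Set.toFinite _)
    (fun _ hg _ hy => smul_mem_sextets hg hy) (i := 0) (by decide)
    (smL_mem_sextets (by decide +kernel))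
    (by rw [Cfsg.Agent.Helper26.card_sextets Cfsg.Agent.Helper27.octads_steiner]; exact le_refl _)

theorem trios_ncard : trios.ncard = 3795 := by
  have hS := Cfsg.Agent.Helper27.octads_steiner
  apply Cfsg.Agent.Helper26.card_trios hS
  intro o ho
  have h := (Cfsg.Agent.Helper26.meetCount_5_8_24 Cfsg.Agent.Helper26.card_golayPt hS ho).1
  unfold Cfsg.Agent.Helper26.meetCount at h
  rw [← h]
  congr 1
  ext c
  simp only [Set.mem_ofPred_eq, Finset.card_eq_zero, Finset.disjoint_iff_inter_eq_empty]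
  rw [Finset.inter_comm]

/-- the trios are the decoded array -/
theorem trios_eq : trios = {y | ∃ i < 3795, y = (encFam 3).dec (trioArr.a i)} :=
  class_eq_arr (encFam 3) trioPAR trioDEP 0 trioArr_ok trio_rels trio_orb trios (Set.toFinite _)
    (fun _ hg _ hy => smul_mem_trios hg hy) (i := 0) (by decide)
    (smL_mem_trios (by decide +kernel))
    (by rw [trios_ncard]; exact le_refl _)

end Cfsg.Agent.Helper93
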