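/-
Helper93: the dodecads are the decoded class array; pairs of complementary dodecads.
-/
import Cfsg.Agent.Helper93.ClsDod
import Cfsg.Agent.Helper93.ClsDodPair
import Cfsg.Agent.Helper93.Classes
import Cfsg.Agent.Helper27.GolayWeights

set_option autoImplicit false
set_option maxRecDepth 100000

namespace Cfsg.Agent.Helper93

open Cfsg Cfsg.Agent.Helper7
open scoped Pointwise

/-- mask of a dodecad -/
def isDodecadMask (m : ℕ) : Bool :=
  Nat.blt m 16777216 && Nat.beq (enc (m % 4096)) m && Nat.beq (wt m) 12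

theorem sm_mem_dodecads {m : ℕ} (h : isDodecadMask m = true) : sm m ∈ dodecads := by
  rw [isDodecadMask, Bool.and_eq_true, Bool.and_eq_true] at h
  obtain ⟨⟨h1, h2⟩, h3⟩ := h
  have h1' : m < 2 ^ 24 := by simpa [Nat.blt_eq] using h1
  refine ⟨⟨word m, ?_, rfl⟩, ?_⟩
  · exact (word_mem_golayCode_iff h1').mpr (Nat.eq_of_beq_eq_true h2)
  · rw [← Nat.eq_of_beq_eq_true h3]; exact card_sm m

theorem dodecads_ncard_le : dodecads.ncard ≤ 2576 := by
  have h : dodecads ⊆ support₂ '' {w | w ∈ golayCode ∧ hammingNorm w = 12} := by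
    intro d hd
    rw [Cfsg.Agent.Helper27.mem_dodecads_iff] at hd
    exact ⟨Cfsg.Agent.Helper27.indWord d, ⟨hd.1, by
      rw [Cfsg.Agent.Helper27.hammingNorm_indWord, hd.2]⟩, Cfsg.Agent.Helper27.support₂_indWord d⟩
  calc dodecads.ncard ≤ (support₂ '' {w | w ∈ golayCode ∧ hammingNorm w = 12}).ncard :=
        Set.ncard_le_ncard h (Set.toFinite _)
    _ ≤ {w : GolayPt → ZMod 2 | w ∈ golayCode ∧ hammingNorm w = 12}.ncard :=
        Set.ncard_image_le (Set.toFinite _)
    _ = 2576 := Cfsg.Agent.Helper27.ncard_weight12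

/-- the dodecads are the decoded array -/
theorem dodecads_eq : dodecads = {y | ∃ i < 2576, y = encSet.dec (dodArr.a i)} :=
  class_eq_arr encSet dodPAR dodDEP 0 dodArr_ok dod_rels dod_orb dodecads (Set.toFinite _)
    (fun _ hg _ hy => smul_mem_dodecads hg hy) (i := 0) (by decide)
    (sm_mem_dodecads (by decide +kernel)) dodecads_ncard_le

theorem sm_xor_full {m : ℕ} : sm (16777215 ^^^ m) = Finset.univ \ sm m := by
  ext p
  rw [Finset.mem_sdiff, mem_sm, mem_sm, Nat.testBit_xor]
  have : (16777215 : ℕ).testBit (idx p) = true := by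
    have : ∀ p : GolayPt, (16777215 : ℕ).testBit (idx p) = true := by decide
    exact this p
  rw [this]
  simp

theorem smul_pair (g : Equiv.Perm GolayPt) (d : Finset GolayPt) :
    g • ({d, Finset.univ \ d} : Finset (Finset GolayPt)) = {g • d, Finset.univ \ (g • d)} := by
  have h1 : g • (Finset.univ \ d) = Finset.univ \ (g • d) := by
    rw [Finset.smul_finset_sdiff, Finset.smul_finset_univ]
  ext s
  rw [Finset.mem_smul_finset]
  constructor
  · rintro ⟨t, ht, rfl⟩
    rw [Finset.mem_insert, Finset.mem_singleton] at ht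
    rcases ht with rfl | rfl
    · exact Finset.mem_insert_self _ _
    · rw [h1]; exact Finset.mem_insert_of_mem (Finset.mem_singleton_self _)
  · intro hs
    rw [Finset.mem_insert, Finset.mem_singleton] at hs
    rcases hs with rfl | rfl
    · exact ⟨d, Finset.mem_insert_self _ _, rfl⟩
    · exact ⟨Finset.univ \ d, Finset.mem_insert_of_mem (Finset.mem_singleton_self _), h1⟩

/-- entry 500 of the array of pairs is the pair of entry 787 of the array of dodecads -/
theorem dp500_eq : (encFam 2).dec (dpArr.a 500) =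
    ({encSet.dec (dodArr.a 787), Finset.univ \ encSet.dec (dodArr.a 787)} :
      Finset (Finset GolayPt)) := by
  have h1 : dpArr.a 500 = 5345070 + 16777216 * 11432145 := by decide +kernel
  have h2 : dodArr.a 787 = 5345070 := by decide +kernel
  have h3 : (11432145 : ℕ) = 16777215 ^^^ 5345070 := by decide
  show smL (unpackL 2 (dpArr.a 500)) = {sm (dodArr.a 787), Finset.univ \ sm (dodArr.a 787)}
  rw [h1, h2, ← sm_xor_full, ← h3]
  have h4 : unpackL 2 (5345070 + 16777216 * 11432145) = [5345070, 11432145] := by decide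
  rw [h4]
  ext s
  simp [smL]

end Cfsg.Agent.Helper93
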