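import Mathlib

/-!
# A simple group of order 443520 has no subgroup of index 12

The action on the twelve cosets would be faithful and primitive, containing a 7-cycle and an
11-cycle; by Jordan's theorem it would be 6-fold transitive, so its order would be divisible by
`12 * 11 * 10 * 9 * 8 * 7 = 665280`.
-/

set_option autoImplicit false

namespace Cfsg.Agent.Helper93.JordanIdx

open MulAction Equiv
open scoped Pointwise

/-- a permutation of prime order `p` on fewer than `2p` points is a `p`-cycle -/
theorem isCycle_of_prime_order {α : Type*} [Fintype α] [DecidableEq α] {g : Perm α} {p : ℕ}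
    (hp : p.Prime) (hord : orderOf g = p) (hcard : Fintype.card α < 2 * p) :
    g.IsCycle ∧ g.support.card = p := by
  have : Fact p.Prime := ⟨hp⟩
  obtain ⟨n, hn⟩ := Equiv.Perm.cycleType_prime_order (σ := g) (by rw [hord]; exact hp)
  rw [hord] at hn
  have hsum : g.cycleType.sum = g.support.card := Equiv.Perm.sum_cycleType g
  rw [hn, Multiset.sum_replicate, smul_eq_mul] at hsum
  have hle : g.support.card ≤ Fintype.card α := Finset.card_le_univ _
  have hn0 : n = 0 := by
    by_contra h
    have : 2 ≤ n + 1 := by omega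
    nlinarith
  subst hn0
  refine ⟨?_, by rw [← hsum]; simp⟩
  rw [← Equiv.Perm.card_cycleType_eq_one, hn]
  simp

/-- a transitive permutation group containing a cycle moving all points but one is primitive -/
theorem isPreprimitive_of_cycle {α : Type*} [Fintype α] [DecidableEq α] (G : Subgroup (Perm α))
    [IsPretransitive G α] {g : Perm α} (hg : g ∈ G) (hc : g.IsCycle)
    (hs : g.support.card + 1 = Fintype.card α) : IsPreprimitive G α := by
  have h1 : ∃ p0, p0 ∉ g.support := by
    by_contra h
    push Not at h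
    have : g.support = Finset.univ := Finset.eq_univ_iff_forall.mpr h
    rw [this, Finset.card_univ] at hs
    omega
  obtain ⟨p0, hp0⟩ := h1
  have huniv : ∀ y, y ≠ p0 → y ∈ g.support := by
    intro y hy
    by_contra hys
    have hsub : insert y (insert p0 g.support) ⊆ Finset.univ := Finset.subset_univ _
    have := Finset.card_le_card hsub
    rw [Finset.card_insert_of_notMem (by simp [hy, hys]), Finset.card_insert_of_notMem hp0,
      Finset.card_univ] at this
    omega
  apply IsPreprimitive.of_isTrivialBlock_base p0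
  intro B hp0B hB
  by_cases hsub : B.Subsingleton
  · exact Or.inl hsub
  right
  rw [Set.not_subsingleton_iff] at hsub
  obtain ⟨q, hq, hne⟩ : ∃ q ∈ B, q ≠ p0 := by
    obtain ⟨x, hx, y, hy, hxy⟩ := hsub
    by_cases h : x = p0
    · exact ⟨y, hy, fun h' => hxy (h.trans h'.symm)⟩
    · exact ⟨x, hx, h⟩
  have hgp0 : g p0 = p0 := Equiv.Perm.notMem_support.mp hp0
  -- `g` stabilises the block
  have hgB : ∀ n : ℤ, ((⟨g, hg⟩ : G) ^ n) • B = B := by
    intro n
    apply hB.smul_eq_of_mem hp0B
    show ((⟨g, hg⟩ : G) ^ n) • p0 ∈ B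
    have : ((⟨g, hg⟩ : G) ^ n) • p0 = p0 := by
      show (((⟨g, hg⟩ : G) ^ n : G) : Perm α) p0 = p0
      rw [Subgroup.coe_zpow]
      exact Equiv.Perm.zpow_apply_eq_self_of_apply_eq_self hgp0 n
    rw [this]
    exact hp0B
  apply Set.eq_univ_of_forall
  intro y
  by_cases hy : y = p0
  · rw [hy]; exact hp0B
  have hqs := huniv q hne
  have hys := huniv y hy
  obtain ⟨n, hn⟩ := hc.exists_zpow_eq (Equiv.Perm.mem_support.mp hqs) (Equiv.Perm.mem_support.mp hys)
  rw [← hgB n]
  refine ⟨q, hq, ?_⟩
  show (((⟨g, hg⟩ : G) ^ n : G) : Perm α) q = y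
  rw [Subgroup.coe_zpow]
  exact hn

/-- a simple group of order `443520` has no subgroup of index 12 -/
theorem index_ne_twelve {K : Type*} [Group K] [Finite K] (hs : IsSimpleGroup K)
    (hc : Nat.card K = 443520) (D : Subgroup K) : D.index ≠ 12 := by
  intro hD
  classical
  have hfin : Finite (K ⧸ D) := inferInstance
  let _ : Fintype (K ⧸ D) := Fintype.ofFinite _
  have hα : Fintype.card (K ⧸ D) = 12 := by
    rw [Fintype.card_eq_nat_card]
    exact hD
  let φ : K →* Perm (K ⧸ D) := MulAction.toPermHom K (K ⧸ D)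
  have hker : φ.ker = ⊥ := by
    rcases hs.eq_bot_or_eq_top_of_normal φ.ker inferInstance with h | h
    · exact h
    · exfalso
      have hDtop : D = ⊤ := by
        rw [eq_top_iff]
        intro k _
        have hk : k ∈ φ.ker := by rw [h]; trivial
        have h1 : φ k (QuotientGroup.mk 1 : K ⧸ D) = (QuotientGroup.mk 1 : K ⧸ D) := by
          rw [MonoidHom.mem_ker.mp hk]
          rfl
        have h2 : (QuotientGroup.mk (k * 1) : K ⧸ D) = QuotientGroup.mk 1 := h1
        rw [mul_one, QuotientGroup.eq] at h2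
        have := D.inv_mem h2
        simpa using this
      rw [hDtop, Subgroup.index_top] at hD
      norm_num at hD
  have hinj : Function.Injective φ := (MonoidHom.ker_eq_bot_iff φ).mp hker
  have hG : Nat.card φ.range = 443520 := by
    rw [← hc]
    exact (Nat.card_congr (MonoidHom.ofInjective hinj).toEquiv).symm
  have : IsPretransitive φ.range (K ⧸ D) := by
    refine ⟨fun u v => ?_⟩
    obtain ⟨k, hk⟩ := MulAction.exists_smul_eq K u v
    exact ⟨⟨φ k, k, rfl⟩, hk⟩
  have : Fact (Nat.Prime 11) := ⟨by norm_num⟩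
  have : Fact (Nat.Prime 7) := ⟨by norm_num⟩
  obtain ⟨x, hx⟩ := exists_prime_orderOf_dvd_card' (G := K) 11 (by rw [hc]; norm_num)
  obtain ⟨y, hy⟩ := exists_prime_orderOf_dvd_card' (G := K) 7 (by rw [hc]; norm_num)
  have hgx : orderOf (φ x) = 11 := by rw [orderOf_injective φ hinj]; exact hx
  have hgy : orderOf (φ y) = 7 := by rw [orderOf_injective φ hinj]; exact hy
  obtain ⟨hcx, hsx⟩ := isCycle_of_prime_order (by norm_num) hgx (by rw [hα]; norm_num)
  obtain ⟨hcy, hsy⟩ := isCycle_of_prime_order (by norm_num) hgy (by rw [hα]; norm_num)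
  have hprim : IsPreprimitive φ.range (K ⧸ D) :=
    isPreprimitive_of_cycle φ.range ⟨x, rfl⟩ hcx (by rw [hsx, hα])
  have hymem : φ y ∈ φ.range := ⟨y, rfl⟩
  have hsc : (((φ y).support : Set (K ⧸ D))ᶜ).ncard = 4 + 1 := by
    apply Nat.add_left_cancel (n := ((φ y).support : Set (K ⧸ D)).ncard)
    rw [Set.ncard_add_ncard_compl, Set.ncard_coe_finset, hsy, Nat.card_eq_fintype_card, hα]
  have hpre : IsPreprimitive (fixingSubgroup φ.range (((φ y).support : Set (K ⧸ D))ᶜ))
      (SubMulAction.ofFixingSubgroup φ.range (((φ y).support : Set (K ⧸ D))ᶜ)) := by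
    have := Equiv.Perm.isPretransitive_of_isCycle_mem hcy hymem
    apply IsPreprimitive.of_prime_card
    have h7 : Nat.Prime 7 := by norm_num
    convert h7
    rw [Nat.card_eq_fintype_card, Fintype.card_subtype, ← hsy]
    apply congr_arg
    ext z
    simp [SubMulAction.mem_ofFixingSubgroup_iff]
  have h6 : IsMultiplyPreprimitive φ.range (K ⧸ D) (4 + 2) :=
    hprim.isMultiplyPreprimitive hsc (by rw [Nat.card_eq_fintype_card, hα]; norm_num) hpre
  have h6t : IsMultiplyPretransitive φ.range (K ⧸ D) 6 := h6.isMultiplyPretransitive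
  obtain ⟨s, -, hs6⟩ := Set.exists_subset_card_eq (s := (Set.univ : Set (K ⧸ D))) (n := 6)
    (by rw [Set.ncard_univ, Nat.card_eq_fintype_card, hα]; norm_num)
  have hidx := h6t.index_of_fixingSubgroup_mul hs6
  rw [Nat.card_eq_fintype_card, hα] at hidx
  have hdvd : (fixingSubgroup φ.range s).index ∣ Nat.card φ.range := Subgroup.index_dvd_card _
  rw [hG] at hdvd
  have h665 : (fixingSubgroup φ.range s).index = 665280 := by
    have e1 : (12 - 6).factorial = 720 := by decide
    have e2 : (12).factorial = 479001600 := by decide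
    rw [e1, e2] at hidx
    omega
  rw [h665] at hdvd
  norm_num at hdvd

end Cfsg.Agent.Helper93.JordanIdx
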