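import Cfsg.Agent.Helper93.M24Fix
import Cfsg.Agent.Helper93.JordanIdx
import Cfsg.Agent.Helper27.M22Main
import Cfsg.Agent.S0378
import Cfsg.Agent.S0379

/-!
# Small indices in the Mathieu group of degree 22

A subgroup of the two-point stabiliser of the group of the length-24 code whose index is at most
100 and congruent to 1 modulo 11 is the whole group: the candidates 12, 45, 56 are excluded by
Jordan's theorem, by the absence of elements of order 22, and by `Helper27.index_ne_of_stab`.
-/

set_option autoImplicit false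

namespace Cfsg.Agent.Helper93.M22Idx

open Cfsg MulAction Cfsg.Agent.Helper93

/-- in `M24`, an involution with a fixed point does not commute with an element of order 11 -/
theorem not_commute_11_2 {gx gt : Equiv.Perm GolayPt} (hx : gx ∈ M24) (ht : gt ∈ M24)
    (hox : orderOf gx = 11) (hot : orderOf gt = 2) (hcomm : gx * gt = gt * gx)
    {r : GolayPt} (hr : gt r = r) : False := by
  classical
  have h2 : nfix gx = 2 := M24Fix.nfix_order11 hx hox
  have h8 : nfix gt = 8 := by
    rcases nfix_order2 ht hot with h | h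
    · exact h
    · exfalso
      have : r ∈ (Finset.univ.filter fun p => gt p = p) := mem_fix.mpr hr
      have hpos : 0 < nfix gt := Finset.card_pos.mpr ⟨r, this⟩
      omega
  -- `gx` permutes the fixed points of `gt`
  have hinv : ∀ p : GolayPt, gt (gx p) = gx p ↔ gt p = p := by
    intro p
    have e : gt (gx p) = gx (gt p) := by
      have := congrArg (fun f : Equiv.Perm GolayPt => f p) hcomm
      simpa [Equiv.Perm.mul_apply] using this.symm
    constructor
    · intro h
      rw [e] at h
      exact gx.injective h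
    · intro h
      rw [e, h]
  let σ : Equiv.Perm {p : GolayPt // gt p = p} := gx.subtypePerm hinv
  have hσ : σ ^ 11 ^ 1 = 1 := by
    rw [pow_one]
    apply Equiv.Perm.ext
    intro p
    apply Subtype.ext
    have h1 : gx ^ 11 = 1 := by rw [← hox]; exact pow_orderOf_eq_one gx
    have h3 : ((σ ^ 11) p : GolayPt) = (gx ^ 11) p := by
      simp [σ]
    rw [h3, h1]
    rfl
  have : Fact (Nat.Prime 11) := ⟨by norm_num⟩
  have hmod := Equiv.Perm.card_compl_support_modEq hσ
  have hcard : Fintype.card {p : GolayPt // gt p = p} = 8 := by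
    rw [Fintype.card_subtype]
    exact h8
  rw [hcard] at hmod
  have hle : σ.supportᶜ.card ≤ 8 := by
    rw [← hcard]
    exact Finset.card_le_univ _
  have h8' : σ.supportᶜ.card = 8 := by
    have := hmod
    unfold Nat.ModEq at this
    omega
  have hsupp : σ.support = ∅ := by
    have := Finset.card_compl σ.support
    rw [hcard, h8'] at this
    have h0 : σ.support.card = 0 := by
      have hle' : σ.support.card ≤ 8 := by
        rw [← hcard]
        exact Finset.card_le_univ _
      omega
    exact Finset.card_eq_zero.mp h0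
  have hσ1 : σ = 1 := Equiv.Perm.support_eq_empty_iff.mp hsupp
  -- so every fixed point of `gt` is fixed by `gx`
  have hsub : (Finset.univ.filter fun p => gt p = p) ⊆ (Finset.univ.filter fun p => gx p = p) := by
    intro p hp
    have hp' : gt p = p := mem_fix.mp hp
    apply mem_fix.mpr
    have := congrArg (fun f : Equiv.Perm {p : GolayPt // gt p = p} => (f ⟨p, hp'⟩ : GolayPt)) hσ1
    simpa [σ] using this
  have := Finset.card_le_card hsub
  rw [nfix_def, nfix_def, h2, h8] at this
  omega

/-- no element of order 2 of the two-point stabiliser commutes with an element of order 11 -/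
theorem not_commute_stab {p q : GolayPt} (x t : ↥(stabilizer ↥M24 p ⊓ stabilizer ↥M24 q))
    (hox : orderOf x = 11) (hot : orderOf t = 2) (hcomm : x * t = t * x) : False := by
  apply not_commute_11_2 (gx := ((x : ↥M24) : Equiv.Perm GolayPt))
    (gt := ((t : ↥M24) : Equiv.Perm GolayPt)) (x : ↥M24).2 (t : ↥M24).2 ?_ ?_ ?_ (r := p) ?_
  · rw [Subgroup.orderOf_coe, Subgroup.orderOf_coe]
    exact hox
  · rw [Subgroup.orderOf_coe, Subgroup.orderOf_coe]
    exact hot
  · have := congrArg (fun z : ↥(stabilizer ↥M24 p ⊓ stabilizer ↥M24 q) =>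
      ((z : ↥M24) : Equiv.Perm GolayPt)) hcomm
    simpa using this
  · exact (Subgroup.mem_inf.mp t.2).1

set_option maxRecDepth 100000 in
theorem aux896 : ∀ n, n ≤ 896 → n ∣ 896 → n % 11 = 1 → n = 1 ∨ n = 56 := by decide

/-- a group of order `9856 = 2^7 * 7 * 11` has an involution commuting with an element of
order 11 -/
theorem exists_commuting_of_card {D : Type*} [Group D] [Finite D] (hDc : Nat.card D = 9856) :
    ∃ x t : D, orderOf x = 11 ∧ orderOf t = 2 ∧ x * t = t * x := by
  have : Fact (Nat.Prime 11) := ⟨by norm_num⟩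
  obtain ⟨P⟩ : Nonempty (Sylow 11 D) := inferInstance
  have hfac : (9856 : ℕ).factorization 11 = 1 := by
    have e : (9856 : ℕ) = 11 ^ 1 * 896 := by norm_num
    rw [e, Nat.factorization_mul (by norm_num) (by norm_num),
      Nat.Prime.factorization_pow (by norm_num)]
    have h0 : (896 : ℕ).factorization 11 = 0 :=
      Nat.factorization_eq_zero_of_not_dvd (by norm_num)
    simp [h0]
  have hP : Nat.card P = 11 := by
    rw [Sylow.card_eq_multiplicity, hDc, hfac, pow_one]
  have hn1 : Nat.card (Sylow 11 D) ≡ 1 [MOD 11] := card_sylow_modEq_one 11 D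
  have hn2 : Nat.card (Sylow 11 D) ∣ (P : Subgroup D).index := Sylow.card_dvd_index P
  have hPi : (P : Subgroup D).index = 896 := by
    have := Subgroup.index_mul_card (P : Subgroup D)
    rw [hP, hDc] at this
    omega
  have hn : Nat.card (Sylow 11 D) = 1 ∨ Nat.card (Sylow 11 D) = 56 := by
    rw [hPi] at hn2
    exact aux896 _ (Nat.le_of_dvd (by norm_num) hn2) hn2 hn1
  obtain ⟨N, hN⟩ : ∃ N : Subgroup D, N = Subgroup.normalizer ((P : Subgroup D) : Set D) :=
    ⟨_, rfl⟩
  have hNi : N.index = Nat.card (Sylow 11 D) := by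
    rw [hN]
    exact (Sylow.card_eq_index_normalizer P).symm
  have hNc : Nat.card N = 9856 ∨ Nat.card N = 176 := by
    have := Subgroup.index_mul_card N
    rw [hNi, hDc] at this
    rcases hn with h | h
    · left
      rw [h] at this
      omega
    · right
      rw [h] at this
      omega
  have hle : (P : Subgroup D) ≤ N := by
    rw [hN]
    exact Subgroup.le_normalizer
  obtain ⟨H, hH⟩ : ∃ H : Subgroup N, H = (P : Subgroup D).subgroupOf N := ⟨_, rfl⟩
  have hnorm : H.Normal := by
    subst hN hH
    exact Subgroup.normal_in_normalizer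
  have hHc : Nat.card H = 11 := by
    rw [hH, Nat.card_congr (Subgroup.subgroupOfEquivOfLe hle).toEquiv]
    exact hP
  have hcyc : IsCyclic H := isCyclic_of_prime_card hHc
  have hHfin : Finite H := Nat.finite_of_card_ne_zero (by rw [hHc]; norm_num)
  have hAut : Nat.card (MulAut H) = 10 := by
    rw [IsCyclic.card_mulAut, hHc]
    decide
  have hAfin : Finite (MulAut H) := Nat.finite_of_card_ne_zero (by rw [hAut]; norm_num)
  let f : N →* MulAut H := MulAut.conjNormal
  have hrange : Nat.card f.range ∣ 10 := by
    rw [← hAut]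
    exact Subgroup.card_subgroup_dvd_card _
  have hker : f.ker.index = Nat.card f.range := Subgroup.index_ker f
  have hmul := Subgroup.index_mul_card f.ker
  have heven : 2 ∣ Nat.card f.ker := by
    rw [hker] at hmul
    have hle10 : Nat.card f.range ≤ 10 := Nat.le_of_dvd (by norm_num) hrange
    generalize Nat.card f.range = r at *
    generalize Nat.card f.ker = k at *
    generalize Nat.card N = n at *
    interval_cases r <;> rcases hNc with h | h <;> subst h <;> omega
  have : Fact (Nat.Prime 2) := ⟨Nat.prime_two⟩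
  obtain ⟨t, ht⟩ := exists_prime_orderOf_dvd_card' (G := f.ker) 2 heven
  obtain ⟨x, hx⟩ := exists_prime_orderOf_dvd_card' (G := H) 11 (by rw [hHc])
  have h1 : f (t : N) = 1 := MonoidHom.mem_ker.mp t.2
  have h2 : (t : N) * (x : N) * (t : N)⁻¹ = (x : N) := by
    rw [← MulAut.conjNormal_apply, show (MulAut.conjNormal (t : N) : MulAut H) = 1 from h1]
    rfl
  have h3 : (x : N) * (t : N) = (t : N) * (x : N) := by
    have := congrArg (fun z => z * (t : N)) h2
    simpa using this.symm
  refine ⟨((x : N) : D), ((t : N) : D), ?_, ?_, ?_⟩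
  · rw [Subgroup.orderOf_coe, Subgroup.orderOf_coe]
    exact hx
  · rw [Subgroup.orderOf_coe, Subgroup.orderOf_coe]
    exact ht
  · have := congrArg (fun z : N => (z : D)) h3
    simpa using this

/-- the two-point stabiliser has no subgroup of index 45 -/
theorem index_ne_45 {p q : GolayPt} (hpq : p ≠ q)
    (D : Subgroup ↥(stabilizer ↥M24 p ⊓ stabilizer ↥M24 q)) : D.index ≠ 45 := by
  intro hD
  have hK : Nat.card ↥(stabilizer ↥M24 p ⊓ stabilizer ↥M24 q) = 443520 :=
    Cfsg.Agent.S0378.result p q hpq
  have hfin : Finite ↥(stabilizer ↥M24 p ⊓ stabilizer ↥M24 q) :=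
    Nat.finite_of_card_ne_zero (by rw [hK]; norm_num)
  have hDc : Nat.card D = 9856 := by
    have := Subgroup.index_mul_card D
    rw [hD, hK] at this
    omega
  obtain ⟨x, t, hx, ht, hxt⟩ := exists_commuting_of_card hDc
  apply not_commute_stab (x := (x : ↥(stabilizer ↥M24 p ⊓ stabilizer ↥M24 q)))
    (t := (t : ↥(stabilizer ↥M24 p ⊓ stabilizer ↥M24 q)))
  · rw [Subgroup.orderOf_coe]
    exact hx
  · rw [Subgroup.orderOf_coe]
    exact ht
  · have := congrArg (fun z : D => (z : ↥(stabilizer ↥M24 p ⊓ stabilizer ↥M24 q))) hxt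
    simpa using this

/-- a subgroup of the two-point stabiliser of index at most 100 and congruent to 1 modulo 11 is
the whole group -/
theorem index_eq_one {p q : GolayPt} (hpq : p ≠ q)
    (D : Subgroup ↥(stabilizer ↥M24 p ⊓ stabilizer ↥M24 q)) (h1 : D.index % 11 = 1)
    (h2 : D.index ≤ 100) : D.index = 1 := by
  have hK : Nat.card ↥(stabilizer ↥M24 p ⊓ stabilizer ↥M24 q) = 443520 :=
    Cfsg.Agent.S0378.result p q hpq
  have hfin : Finite ↥(stabilizer ↥M24 p ⊓ stabilizer ↥M24 q) :=
    Nat.finite_of_card_ne_zero (by rw [hK]; norm_num)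
  have hdvd : D.index ∣ 443520 := by
    rw [← hK]
    exact Subgroup.index_dvd_card D
  have h12 : D.index ≠ 12 :=
    Cfsg.Agent.Helper93.JordanIdx.index_ne_twelve (Cfsg.Agent.S0379.result p q hpq) hK D
  have h45 : D.index ≠ 45 := index_ne_45 hpq D
  have h56 : D.index ≠ 56 := (Cfsg.Agent.Helper27.index_ne_of_stab hpq D).1
  generalize D.index = n at *
  obtain ⟨k, rfl⟩ : ∃ k, n = 11 * k + 1 := ⟨n / 11, by omega⟩
  have hk : k ≤ 9 := by omega
  interval_cases k <;> first | rfl | (exfalso; omega)

/-- the same for any group isomorphic to the two-point stabiliser -/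
theorem index_eq_one_of_equiv {p q : GolayPt} (hpq : p ≠ q) {K : Type*} [Group K]
    (e : K ≃* ↥(stabilizer ↥M24 p ⊓ stabilizer ↥M24 q)) (D : Subgroup K)
    (h1 : D.index % 11 = 1) (h2 : D.index ≤ 100) : D.index = 1 := by
  have hidx : (D.map e.toMonoidHom).index = D.index :=
    Subgroup.index_map_equiv D e
  rw [← hidx] at h1 h2 ⊢
  exact index_eq_one hpq _ h1 h2

end Cfsg.Agent.Helper93.M22Idx
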