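/-
Helper93: subgroups of `M24` generated by words in the standard generators (and inverses),
acting on packed class arrays through composed index maps.
-/
import Cfsg.Agent.Helper93.M24Cls

set_option autoImplicit false

namespace Cfsg.Agent.Helper93

open Cfsg Cfsg.Agent.Helper7
open scoped Pointwise

/-- the five letters: the three generators of `M24` and the inverses of the first and third -/
noncomputable def gens5 : List (Equiv.Perm GolayPt) := [gA, projInv, cubeTwist, gA⁻¹, cubeTwist⁻¹]

/-- tables of the five letters -/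
def tabs5 : List (List ℕ) := [tA, tB, tC, invT tA, invT tC]

theorem tablesOf_gens5 : TablesOf tabs5 gens5 :=
  ⟨isTable_gA, isTable_projInv, isTable_cubeTwist, isTable_gA.inv, isTable_cubeTwist.inv, trivial⟩

theorem gens5_mem : ∀ g ∈ gens5, g ∈ M24 := by
  intro g hg
  simp only [gens5, List.mem_cons, List.not_mem_nil, or_false] at hg
  rcases hg with rfl | rfl | rfl | rfl | rfl
  · exact gA_mem_M24
  · exact projInv_mem_M24
  · exact cubeTwist_mem_M24
  · exact M24.inv_mem gA_mem_M24
  · exact M24.inv_mem cubeTwist_mem_M24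

/-- the product of the letters of a word -/
def evalW (gs : List (Equiv.Perm GolayPt)) : List ℕ → Equiv.Perm GolayPt
  | [] => 1
  | j :: w => gs.getD j 1 * evalW gs w

/-- the table of the product of the letters of a word -/
def tableW (ls : List (List ℕ)) : List ℕ → List ℕ
  | [] => idT
  | j :: w => compT (ls.getD j idT) (tableW ls w)

theorem TablesOf.getD {ls : List (List ℕ)} {gs : List (Equiv.Perm GolayPt)} (h : TablesOf ls gs)
    (j : ℕ) : IsTable (ls.getD j idT) (gs.getD j 1) := by
  induction ls generalizing gs j with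
  | nil => cases gs with
    | nil => simpa using isTable_one
    | cons g gs => exact absurd h (by simp [TablesOf])
  | cons l ls ih => cases gs with
    | nil => exact absurd h (by simp [TablesOf])
    | cons g gs =>
      cases j with
      | zero => simpa using h.1
      | succ j => simpa using ih h.2 j

theorem isTable_evalW {ls : List (List ℕ)} {gs : List (Equiv.Perm GolayPt)} (h : TablesOf ls gs)
    (w : List ℕ) : IsTable (tableW ls w) (evalW gs w) := by
  induction w with
  | nil => exact isTable_one
  | cons j w ih => exact (h.getD j).mul ih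

theorem evalW_mem {gs : List (Equiv.Perm GolayPt)} {H : Subgroup (Equiv.Perm GolayPt)}
    (h : ∀ g ∈ gs, g ∈ H) (w : List ℕ) : evalW gs w ∈ H := by
  induction w with
  | nil => exact H.one_mem
  | cons j w ih =>
    refine H.mul_mem ?_ ih
    by_cases hj : j < gs.length
    · rw [List.getD_eq_getElem _ _ hj]; exact h _ (List.getElem_mem _)
    · rw [List.getD_eq_default _ _ (by omega)]; exact H.one_mem

/-- all letters of the word are `< m` -/
def wordOK (m : ℕ) (w : List ℕ) : Bool := w.all (fun j => Nat.blt j m)

/-- the index map of the inverse of a word -/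
def idxW (Ps : List ℕ) : List ℕ → ℕ → ℕ
  | [], i => i
  | j :: w, i => idxW Ps w (getW 16 (Ps.getD j 0) i)

section

variable {X : Type} [MulAction (Equiv.Perm GolayPt) X] (E : Enc X)

/-- the letters `gs` (as many as the packed index maps `Ps`) act on the decoded array -/
def Acts (A : Arr) (gs : List (Equiv.Perm GolayPt)) (Ps : List ℕ) : Prop :=
  ∀ j < Ps.length, ∀ i < A.n,
    (gs.getD j 1)⁻¹ • E.dec (A.a i) = E.dec (A.a (getW 16 (Ps.getD j 0) i)) ∧
    getW 16 (Ps.getD j 0) i < A.n

theorem word_act {A : Arr} {gs : List (Equiv.Perm GolayPt)} {Ps : List ℕ} (h : Acts E A gs Ps)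
    {w : List ℕ} (hw : wordOK Ps.length w = true) {i : ℕ} (hi : i < A.n) :
    (evalW gs w)⁻¹ • E.dec (A.a i) = E.dec (A.a (idxW Ps w i)) ∧ idxW Ps w i < A.n := by
  induction w generalizing i with
  | nil => exact ⟨by simp [evalW, idxW], by simpa [idxW] using hi⟩
  | cons j w ih =>
    rw [wordOK, List.all_cons, Bool.and_eq_true] at hw
    have hj : j < Ps.length := by simpa [Nat.blt_eq] using hw.1
    obtain ⟨h1, h2⟩ := h j hj i hi
    obtain ⟨h3, h4⟩ := ih hw.2 h2
    refine ⟨?_, by simpa [idxW] using h4⟩
    rw [evalW, mul_inv_rev, mul_smul, h1, h3]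
    rfl

/-- extend an action certificate by the inverse of letter `j₀`, given a packed inverse of its
index map -/
theorem Acts.snoc_inv {A : Arr} {gs : List (Equiv.Perm GolayPt)} {Ps : List ℕ}
    (h : Acts E A gs Ps) (hlen : gs.length = Ps.length) {j₀ : ℕ} (hj₀ : j₀ < Ps.length) (P' : ℕ)
    (hP' : allB A.n (fun i => Nat.blt (getW 16 P' i) A.n &&
      Nat.beq (getW 16 (Ps.getD j₀ 0) (getW 16 P' i)) i) = true) :
    Acts E A (gs ++ [(gs.getD j₀ 1)⁻¹]) (Ps ++ [P']) := by
  intro j hj i hi
  rw [List.length_append, List.length_singleton] at hj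
  rcases Nat.lt_succ_iff_lt_or_eq.mp hj with hj' | rfl
  · rw [List.getD_append _ _ _ _ (by omega), List.getD_append _ _ _ _ hj']
    exact h j hj' i hi
  · rw [List.getD_append_right _ _ _ _ (by omega), List.getD_append_right _ _ _ _ (le_refl _)]
    simp only [hlen, Nat.sub_self, List.getD_cons_zero, inv_inv]
    have h1 := allB_spec hP' i hi
    rw [Bool.and_eq_true] at h1
    have h2 : getW 16 P' i < A.n := by simpa [Nat.blt_eq] using h1.1
    have h3 := Nat.eq_of_beq_eq_true h1.2
    refine ⟨?_, h2⟩
    have h4 := (h j₀ hj₀ _ h2).1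
    rw [h3] at h4
    rw [← h4, smul_inv_smul]

end

section

variable {X : Type} [MulAction (Equiv.Perm GolayPt) X] (E : Enc X)

/-- the index maps stay inside the array -/
def boundOK (n : ℕ) (Ps : List ℕ) : Bool :=
  Ps.all (fun P => allB n (fun i => Nat.blt (getW 16 P i) n))

theorem acts_of_rels {A : Arr} {ls : List (List ℕ)} {Ps : List ℕ} {gs : List (Equiv.Perm GolayPt)}
    (hT : TablesOf ls gs) (hrel : relsOK E A ls Ps = true) (hb : boundOK A.n Ps = true) :
    Acts E A gs Ps := by
  obtain ⟨_, h2⟩ := rels_spec E hT hrel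
  intro j hj i hi
  refine ⟨h2 j hj i hi, ?_⟩
  rw [boundOK, List.all_eq_true] at hb
  have := allB_spec (hb (Ps.getD j 0) (by
    rw [List.getD_eq_getElem _ _ hj]; exact List.getElem_mem _)) i hi
  simpa [Nat.blt_eq] using this

/-- the check that `P'` is the inverse of the index map `P` -/
def invOK (n P P' : ℕ) : Bool :=
  allB n (fun i => Nat.blt (getW 16 P' i) n && Nat.beq (getW 16 P (getW 16 P' i)) i)

/-- the five letters act, given the mask-level certificate for the three generators and packed
inverses of the index maps of the first and third -/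
theorem acts5 {A : Arr} {PA PB PC PA' PC' : ℕ}
    (hrel : relsOK E A [tA, tB, tC] [PA, PB, PC] = true)
    (hb : boundOK A.n [PA, PB, PC] = true)
    (hA' : invOK A.n PA PA' = true) (hC' : invOK A.n PC PC' = true) :
    Acts E A gens5 [PA, PB, PC, PA', PC'] := by
  have h3 := acts_of_rels E tablesOf_gens hrel hb
  have h4 := h3.snoc_inv E (by simp) (j₀ := 0) (by simp) PA' (by simpa [invOK] using hA')
  have h5 := h4.snoc_inv E (by simp) (j₀ := 2) (by simp) PC' (by simpa [invOK] using hC')
  simpa [gens5] using h5

/-- orbit data for a group generated by words -/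
def mkOrbDataW (n : ℕ) (Ps : List ℕ) (ws : List (List ℕ)) (OID PAR DEP : ℕ) (roots : List ℕ) :
    OrbData where
  n := n
  k := ws.length
  π j i := idxW Ps (ws.getD j []) i
  oid i := getW 8 OID i
  par i := getW 24 PAR i
  dep i := getW 16 DEP i
  root r := roots.getD r 0

/-- all words have letters `< m` -/
def wordsOK (m : ℕ) (ws : List (List ℕ)) : Bool := ws.all (wordOK m)

/-- The orbits of a group generated by words on the decoded array are the label classes. -/
theorem orbit_words {A : Arr} {gs : List (Equiv.Perm GolayPt)} {Ps : List ℕ}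
    (hacts : Acts E A gs Ps) (ws : List (List ℕ)) (hws : wordsOK Ps.length ws = true)
    (OID PAR DEP : ℕ) (roots : List ℕ)
    (hok : (mkOrbDataW A.n Ps ws OID PAR DEP roots).ok = true) {i : ℕ} (hi : i < A.n) :
    MulAction.orbit (Subgroup.closure {s | s ∈ ws.map (evalW gs)}) (E.dec (A.a i)) =
      {y | ∃ i' < A.n, getW 8 OID i' = getW 8 OID i ∧ y = E.dec (A.a i')} := by
  have hset : {s | s ∈ ws.map (evalW gs)} =
      {s | ∃ j < (mkOrbDataW A.n Ps ws OID PAR DEP roots).k, s = evalW gs (ws.getD j [])} := by
    ext s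
    simp only [Set.mem_ofPred_eq, mkOrbDataW, List.mem_map]
    constructor
    · rintro ⟨w, hw, rfl⟩
      obtain ⟨j, hj, rfl⟩ := List.getElem_of_mem hw
      exact ⟨j, hj, by rw [List.getD_eq_getElem _ _ hj]⟩
    · rintro ⟨j, hj, rfl⟩
      rw [List.getD_eq_getElem _ _ hj]
      exact ⟨_, List.getElem_mem _, rfl⟩
  rw [hset]
  refine orbit_eq_of_ok (mkOrbDataW A.n Ps ws OID PAR DEP roots)
    (fun j => evalW gs (ws.getD j [])) (fun i => E.dec (A.a i)) hok ?_ hi
  intro j hj i hi
  have hj' : j < ws.length := hj
  rw [wordsOK, List.all_eq_true] at hws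
  have hw := hws (ws.getD j []) (by rw [List.getD_eq_getElem _ _ hj']; exact List.getElem_mem _)
  exact (word_act E hacts hw hi).1

/-- the words fix the entry `i₀` of the array -/
def fixOK (Ps : List ℕ) (ws : List (List ℕ)) (i₀ : ℕ) : Bool :=
  ws.all (fun w => Nat.beq (idxW Ps w i₀) i₀)

/-- A group generated by words of `M24` fixing entry `i₀` of a class array, with a chain of
transversals showing that it is large enough, is the stabiliser of that entry in `M24`. -/
theorem stab_eq_closure_words {A : Arr} {Ps : List ℕ} (hacts : Acts E A gens5 Ps)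
    (ws : List (List ℕ)) (hws : wordsOK Ps.length ws = true) {i₀ : ℕ} (hi₀ : i₀ < A.n)
    (hfix : fixOK Ps ws i₀ = true)
    (prog : List Op) (tabs : List (List ℕ)) (specs : List (ℕ × List ℕ × List ℕ))
    (htabs : runSLP prog (idT :: ws.map (tableW tabs5)) = tabs)
    (hok : chainOK [] (specs.map (mkLevel tabs)) = true)
    (n : ℕ) (horb : (MulAction.orbit (↥M24) (E.dec (A.a i₀))).ncard = n)
    (hcard : 244823040 ≤ n * ((specs.map (mkLevel tabs)).map (fun L => L.orb.length)).prod) :
    Subgroup.closure {s | s ∈ ws.map (evalW gens5)} = stabPerm (E.dec (A.a i₀)) := by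
  apply closure_eq_stabPerm (E.dec (A.a i₀)) {s | s ∈ ws.map (evalW gens5)} _ _ hok
  · have h1 := card_stabPerm_mul (E.dec (A.a i₀))
    rw [horb] at h1
    have hn : 0 < n := by
      rcases Nat.eq_zero_or_pos n with h0 | h0
      · rw [h0] at h1; simp at h1
      · exact h0
    rw [← h1, mul_comm] at hcard
    exact Nat.le_of_mul_le_mul_left hcard hn
  · intro s hs
    obtain ⟨w, hw, rfl⟩ := List.mem_map.mp hs
    refine ⟨evalW_mem gens5_mem w, ?_⟩
    rw [wordsOK, List.all_eq_true] at hws
    rw [fixOK, List.all_eq_true] at hfix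
    have h1 := (word_act E hacts (hws w hw) hi₀).1
    rw [Nat.eq_of_beq_eq_true (hfix w hw), inv_smul_eq_iff] at h1
    exact h1.symm
  · intro L hL l hl
    rw [List.mem_map] at hL
    obtain ⟨s, _, rfl⟩ := hL
    have hmem := mkLevel_T_mem _ _ l hl
    rw [← htabs] at hmem
    refine tabled_runSLP _ prog _ ?_ l hmem
    intro l' hl'
    rw [List.mem_cons] at hl'
    rcases hl' with rfl | hl'
    · exact tabled_idT _
    · obtain ⟨w, hw, rfl⟩ := List.mem_map.mp hl'
      exact ⟨evalW gens5 w, Subgroup.subset_closure (List.mem_map.mpr ⟨w, hw, rfl⟩),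
        isTable_evalW tablesOf_gens5 w⟩

end

end Cfsg.Agent.Helper93
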