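/-
Helper93: assembling orbit decompositions of stabilisers in `M24` from label classes, and their
transport along elements of `M24`.
-/
import Cfsg.Agent.Helper93.Words

set_option autoImplicit false

namespace Cfsg.Agent.Helper93

open Cfsg Cfsg.Agent.Helper7
open scoped Pointwise

section

variable {X Y : Type} [MulAction (Equiv.Perm GolayPt) X] [MulAction (Equiv.Perm GolayPt) Y]

/-- the stabiliser of `a` in `M24` has exactly three orbits on `C`, of the given sizes -/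
def Decomp3 (a : X) (C : Set Y) (n₁ n₂ n₃ : ℕ) : Prop :=
  ∃ X₁ ∈ C, ∃ X₂ ∈ C, ∃ X₃ ∈ C,
    (MulAction.orbit (↥(MulAction.stabilizer (↥M24) a)) X₁).ncard = n₁ ∧
    (MulAction.orbit (↥(MulAction.stabilizer (↥M24) a)) X₂).ncard = n₂ ∧
    (MulAction.orbit (↥(MulAction.stabilizer (↥M24) a)) X₃).ncard = n₃ ∧
    C = MulAction.orbit (↥(MulAction.stabilizer (↥M24) a)) X₁ ∪
      MulAction.orbit (↥(MulAction.stabilizer (↥M24) a)) X₂ ∪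
      MulAction.orbit (↥(MulAction.stabilizer (↥M24) a)) X₃

/-- the stabiliser of `a` in `M24` has exactly four orbits on `C`, of the given sizes -/
def Decomp4 (a : X) (C : Set Y) (n₁ n₂ n₃ n₄ : ℕ) : Prop :=
  ∃ X₁ ∈ C, ∃ X₂ ∈ C, ∃ X₃ ∈ C, ∃ X₄ ∈ C,
    (MulAction.orbit (↥(MulAction.stabilizer (↥M24) a)) X₁).ncard = n₁ ∧
    (MulAction.orbit (↥(MulAction.stabilizer (↥M24) a)) X₂).ncard = n₂ ∧
    (MulAction.orbit (↥(MulAction.stabilizer (↥M24) a)) X₃).ncard = n₃ ∧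
    (MulAction.orbit (↥(MulAction.stabilizer (↥M24) a)) X₄).ncard = n₄ ∧
    C = MulAction.orbit (↥(MulAction.stabilizer (↥M24) a)) X₁ ∪
      MulAction.orbit (↥(MulAction.stabilizer (↥M24) a)) X₂ ∪
      MulAction.orbit (↥(MulAction.stabilizer (↥M24) a)) X₃ ∪
      MulAction.orbit (↥(MulAction.stabilizer (↥M24) a)) X₄

theorem orbit_stabilizer_smul {h : Equiv.Perm GolayPt} (hh : h ∈ M24) (a : X) (y : Y) :
    MulAction.orbit (↥(MulAction.stabilizer (↥M24) (h • a))) (h • y) =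
      (fun z => h • z) '' MulAction.orbit (↥(MulAction.stabilizer (↥M24) a)) y := by
  rw [orbit_stabilizer_eq, orbit_stabilizer_eq, orbit_stabPerm_smul hh]

theorem ncard_orbit_stabilizer_smul {h : Equiv.Perm GolayPt} (hh : h ∈ M24) (a : X) (y : Y) :
    (MulAction.orbit (↥(MulAction.stabilizer (↥M24) (h • a))) (h • y)).ncard =
      (MulAction.orbit (↥(MulAction.stabilizer (↥M24) a)) y).ncard := by
  rw [orbit_stabilizer_smul hh, Set.ncard_image_of_injective _ (MulAction.injective h)]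

theorem image_smul_eq_of_invariant {C : Set Y} (hC : ∀ g ∈ M24, ∀ y ∈ C, g • y ∈ C)
    {h : Equiv.Perm GolayPt} (hh : h ∈ M24) : (fun z => h • z) '' C = C := by
  ext y
  constructor
  · rintro ⟨z, hz, rfl⟩
    exact hC h hh z hz
  · intro hy
    exact ⟨h⁻¹ • y, hC _ (M24.inv_mem hh) y hy, smul_inv_smul h y⟩

theorem Decomp3.smul {a : X} {C : Set Y} {n₁ n₂ n₃ : ℕ} (hd : Decomp3 a C n₁ n₂ n₃)
    (hC : ∀ g ∈ M24, ∀ y ∈ C, g • y ∈ C) {h : Equiv.Perm GolayPt} (hh : h ∈ M24) :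
    Decomp3 (h • a) C n₁ n₂ n₃ := by
  obtain ⟨X₁, h1, X₂, h2, X₃, h3, e1, e2, e3, hU⟩ := hd
  refine ⟨h • X₁, hC h hh _ h1, h • X₂, hC h hh _ h2, h • X₃, hC h hh _ h3, ?_, ?_, ?_, ?_⟩
  · rw [ncard_orbit_stabilizer_smul hh, e1]
  · rw [ncard_orbit_stabilizer_smul hh, e2]
  · rw [ncard_orbit_stabilizer_smul hh, e3]
  · rw [orbit_stabilizer_smul hh, orbit_stabilizer_smul hh, orbit_stabilizer_smul hh,
      ← Set.image_union, ← Set.image_union, ← hU, image_smul_eq_of_invariant hC hh]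

theorem Decomp4.smul {a : X} {C : Set Y} {n₁ n₂ n₃ n₄ : ℕ} (hd : Decomp4 a C n₁ n₂ n₃ n₄)
    (hC : ∀ g ∈ M24, ∀ y ∈ C, g • y ∈ C) {h : Equiv.Perm GolayPt} (hh : h ∈ M24) :
    Decomp4 (h • a) C n₁ n₂ n₃ n₄ := by
  obtain ⟨X₁, h1, X₂, h2, X₃, h3, X₄, h4, e1, e2, e3, e4, hU⟩ := hd
  refine ⟨h • X₁, hC h hh _ h1, h • X₂, hC h hh _ h2, h • X₃, hC h hh _ h3, h • X₄,
    hC h hh _ h4, ?_, ?_, ?_, ?_, ?_⟩
  · rw [ncard_orbit_stabilizer_smul hh, e1]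
  · rw [ncard_orbit_stabilizer_smul hh, e2]
  · rw [ncard_orbit_stabilizer_smul hh, e3]
  · rw [ncard_orbit_stabilizer_smul hh, e4]
  · rw [orbit_stabilizer_smul hh, orbit_stabilizer_smul hh, orbit_stabilizer_smul hh,
      orbit_stabilizer_smul hh, ← Set.image_union, ← Set.image_union, ← Set.image_union, ← hU,
      image_smul_eq_of_invariant hC hh]

variable (E : Enc Y)

/-- three label classes give a decomposition into three orbits -/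
theorem decomp3_of_labels {a : X} {K : Subgroup (Equiv.Perm GolayPt)} (hK : K = stabPerm a)
    {A : Arr} {OID : ℕ} {C : Set Y} (hC : C = {y | ∃ i < A.n, y = E.dec (A.a i)})
    (horb : ∀ i < A.n, MulAction.orbit K (E.dec (A.a i)) =
      {y | ∃ i' < A.n, getW 8 OID i' = getW 8 OID i ∧ y = E.dec (A.a i')})
    {r₁ r₂ r₃ l₁ l₂ l₃ n₁ n₂ n₃ : ℕ} (hr₁ : r₁ < A.n) (hr₂ : r₂ < A.n) (hr₃ : r₃ < A.n)
    (hl₁ : getW 8 OID r₁ = l₁) (hl₂ : getW 8 OID r₂ = l₂) (hl₃ : getW 8 OID r₃ = l₃)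
    (hn₁ : {y | ∃ i' < A.n, getW 8 OID i' = l₁ ∧ y = E.dec (A.a i')}.ncard = n₁)
    (hn₂ : {y | ∃ i' < A.n, getW 8 OID i' = l₂ ∧ y = E.dec (A.a i')}.ncard = n₂)
    (hn₃ : {y | ∃ i' < A.n, getW 8 OID i' = l₃ ∧ y = E.dec (A.a i')}.ncard = n₃)
    (hlab : ∀ i < A.n, getW 8 OID i = l₁ ∨ getW 8 OID i = l₂ ∨ getW 8 OID i = l₃) :
    Decomp3 a C n₁ n₂ n₃ := by
  subst hK
  have hmem : ∀ i < A.n, E.dec (A.a i) ∈ C := fun i hi => by rw [hC]; exact ⟨i, hi, rfl⟩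
  refine ⟨_, hmem r₁ hr₁, _, hmem r₂ hr₂, _, hmem r₃ hr₃, ?_, ?_, ?_, ?_⟩
  · rw [orbit_stabilizer_eq, horb r₁ hr₁, hl₁, hn₁]
  · rw [orbit_stabilizer_eq, horb r₂ hr₂, hl₂, hn₂]
  · rw [orbit_stabilizer_eq, horb r₃ hr₃, hl₃, hn₃]
  · rw [orbit_stabilizer_eq, orbit_stabilizer_eq, orbit_stabilizer_eq, horb r₁ hr₁, horb r₂ hr₂,
      horb r₃ hr₃, hl₁, hl₂, hl₃, hC]
    ext y
    simp only [Set.mem_ofPred_eq, Set.mem_union]
    constructor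
    · rintro ⟨i, hi, rfl⟩
      rcases hlab i hi with h | h | h
      · exact Or.inl (Or.inl ⟨i, hi, h, rfl⟩)
      · exact Or.inl (Or.inr ⟨i, hi, h, rfl⟩)
      · exact Or.inr ⟨i, hi, h, rfl⟩
    · rintro ((⟨i, hi, _, rfl⟩ | ⟨i, hi, _, rfl⟩) | ⟨i, hi, _, rfl⟩) <;> exact ⟨i, hi, rfl⟩

/-- four label classes give a decomposition into four orbits -/
theorem decomp4_of_labels {a : X} {K : Subgroup (Equiv.Perm GolayPt)} (hK : K = stabPerm a)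
    {A : Arr} {OID : ℕ} {C : Set Y} (hC : C = {y | ∃ i < A.n, y = E.dec (A.a i)})
    (horb : ∀ i < A.n, MulAction.orbit K (E.dec (A.a i)) =
      {y | ∃ i' < A.n, getW 8 OID i' = getW 8 OID i ∧ y = E.dec (A.a i')})
    {r₁ r₂ r₃ r₄ l₁ l₂ l₃ l₄ n₁ n₂ n₃ n₄ : ℕ}
    (hr₁ : r₁ < A.n) (hr₂ : r₂ < A.n) (hr₃ : r₃ < A.n) (hr₄ : r₄ < A.n)
    (hl₁ : getW 8 OID r₁ = l₁) (hl₂ : getW 8 OID r₂ = l₂) (hl₃ : getW 8 OID r₃ = l₃)
    (hl₄ : getW 8 OID r₄ = l₄)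
    (hn₁ : {y | ∃ i' < A.n, getW 8 OID i' = l₁ ∧ y = E.dec (A.a i')}.ncard = n₁)
    (hn₂ : {y | ∃ i' < A.n, getW 8 OID i' = l₂ ∧ y = E.dec (A.a i')}.ncard = n₂)
    (hn₃ : {y | ∃ i' < A.n, getW 8 OID i' = l₃ ∧ y = E.dec (A.a i')}.ncard = n₃)
    (hn₄ : {y | ∃ i' < A.n, getW 8 OID i' = l₄ ∧ y = E.dec (A.a i')}.ncard = n₄)
    (hlab : ∀ i < A.n, getW 8 OID i = l₁ ∨ getW 8 OID i = l₂ ∨ getW 8 OID i = l₃ ∨
      getW 8 OID i = l₄) :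
    Decomp4 a C n₁ n₂ n₃ n₄ := by
  subst hK
  have hmem : ∀ i < A.n, E.dec (A.a i) ∈ C := fun i hi => by rw [hC]; exact ⟨i, hi, rfl⟩
  refine ⟨_, hmem r₁ hr₁, _, hmem r₂ hr₂, _, hmem r₃ hr₃, _, hmem r₄ hr₄, ?_, ?_, ?_, ?_, ?_⟩
  · rw [orbit_stabilizer_eq, horb r₁ hr₁, hl₁, hn₁]
  · rw [orbit_stabilizer_eq, horb r₂ hr₂, hl₂, hn₂]
  · rw [orbit_stabilizer_eq, horb r₃ hr₃, hl₃, hn₃]
  · rw [orbit_stabilizer_eq, horb r₄ hr₄, hl₄, hn₄]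
  · rw [orbit_stabilizer_eq, orbit_stabilizer_eq, orbit_stabilizer_eq, orbit_stabilizer_eq,
      horb r₁ hr₁, horb r₂ hr₂, horb r₃ hr₃, horb r₄ hr₄, hl₁, hl₂, hl₃, hl₄, hC]
    ext y
    simp only [Set.mem_ofPred_eq, Set.mem_union]
    constructor
    · rintro ⟨i, hi, rfl⟩
      rcases hlab i hi with h | h | h | h
      · exact Or.inl (Or.inl (Or.inl ⟨i, hi, h, rfl⟩))
      · exact Or.inl (Or.inl (Or.inr ⟨i, hi, h, rfl⟩))
      · exact Or.inl (Or.inr ⟨i, hi, h, rfl⟩)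
      · exact Or.inr ⟨i, hi, h, rfl⟩
    · rintro (((⟨i, hi, _, rfl⟩ | ⟨i, hi, _, rfl⟩) | ⟨i, hi, _, rfl⟩) | ⟨i, hi, _, rfl⟩) <;>
        exact ⟨i, hi, rfl⟩

end

theorem labels_lt {n OID k : ℕ} (h : allB n (fun i => Nat.blt (getW 8 OID i) k) = true) :
    ∀ i < n, getW 8 OID i < k := by
  intro i hi
  have := allB_spec h i hi
  simpa [Nat.blt_eq] using this

end Cfsg.Agent.Helper93
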