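import Mathlib
import Cfsg.Agent.Helper1.HKK.GroupDefs
import Cfsg.Agent.Helper70.Commutator

set_option autoImplicit false
open Cfsg.Agent.Helper1.HKK
open scoped commutatorElement

namespace Cfsg.Agent.Helper93.HKKLG

universe u
variable {G : Type u} [Group G]

/-! ### The filtration `Gam` -/

instance Gam_characteristic (n : ℕ) : (Gam G n).Characteristic := by
  unfold Gam; infer_instance

instance Gam_normal (n : ℕ) : (Gam G n).Normal := by
  unfold Gam; infer_instance

theorem Gam_anti {m n : ℕ} (h : m ≤ n) : Gam G n ≤ Gam G m :=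
  Subgroup.lowerCentralSeries_antitone _ (by omega)

theorem lcs_comm_le (i j : ℕ) :
    ⁅(⊤ : Subgroup G).lowerCentralSeries i, (⊤ : Subgroup G).lowerCentralSeries j⁆ ≤
      (⊤ : Subgroup G).lowerCentralSeries (i + j + 1) := by
  induction j generalizing i with
  | zero => exact le_of_eq rfl
  | succ j ih =>
    rw [Subgroup.lowerCentralSeries_succ, Subgroup.commutator_comm]
    apply Cfsg.Agent.Helper70.three_subgroups_mod
    · rw [Subgroup.commutator_comm ⊤ _]
      have h := ih (i + 1)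
      have e : i + 1 + j + 1 = i + (j + 1) + 1 := by ring
      rw [e] at h
      exact h
    · refine le_trans (Subgroup.commutator_mono (ih i) le_rfl) ?_
      have e : i + (j + 1) + 1 = (i + j + 1) + 1 := by ring
      rw [e]
      exact le_of_eq rfl

theorem Gam_comm_le (i j : ℕ) : ⁅Gam G i, Gam G j⁆ ≤ Gam G (i + j) := by
  rcases Nat.eq_zero_or_pos i with rfl | hi
  · rw [zero_add]
    exact Subgroup.commutator_le_right _ _
  rcases Nat.eq_zero_or_pos j with rfl | hj
  · rw [add_zero]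
    exact Subgroup.commutator_le_left _ _
  have h := lcs_comm_le (G := G) (i - 1) (j - 1)
  have he : i - 1 + (j - 1) + 1 = i + j - 1 := by omega
  rw [he] at h
  exact h

theorem comm_mem_Gam {i j : ℕ} {x y : G} (hx : x ∈ Gam G i) (hy : y ∈ Gam G j) :
    ⁅x, y⁆ ∈ Gam G (i + j) :=
  Gam_comm_le i j (Subgroup.commutator_mem_commutator hx hy)

theorem comm_mem_Gam_succ {n : ℕ} {x : G} (hx : x ∈ Gam G n) (g : G) :
    ⁅x, g⁆ ∈ Gam G (n + 1) := by
  have h : g ∈ Gam G 1 := Subgroup.mem_top g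
  exact comm_mem_Gam hx h

theorem comm_mem_Gam_succ' {n : ℕ} {x : G} (hx : x ∈ Gam G n) (g : G) :
    ⁅g, x⁆ ∈ Gam G (n + 1) := by
  have h : g ∈ Gam G 1 := Subgroup.mem_top g
  have := comm_mem_Gam h hx
  rwa [add_comm] at this

theorem conj_mem_Gam {n : ℕ} {x : G} (hx : x ∈ Gam G n) (g : G) : g * x * g⁻¹ ∈ Gam G n :=
  (Gam_normal n).conj_mem x hx g

theorem map_mem_Gam (α : G ≃* G) {n : ℕ} {x : G} (hx : x ∈ Gam G n) : α x ∈ Gam G n := by
  have h := (Gam_characteristic (G := G) n).fixed α.symm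
  rw [← h]
  simpa using hx


/-! ### The graded pieces -/

/-- the multiplicative quotient `γ_n / γ_{n+1}`. -/
abbrev Qt (G : Type u) [Group G] (n : ℕ) : Type u :=
  ↥(Gam G n) ⧸ (Gam G (n + 1)).subgroupOf (Gam G n)

theorem Qt_comm (n : ℕ) (a b : Qt G n) : a * b = b * a := by
  induction a using QuotientGroup.induction_on with
  | H x =>
  induction b using QuotientGroup.induction_on with
  | H y =>
  rw [← QuotientGroup.mk_mul, ← QuotientGroup.mk_mul, QuotientGroup.eq]
  rw [Subgroup.mem_subgroupOf]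
  have h : (((x * y)⁻¹ * (y * x) : ↥(Gam G n)) : G) = ⁅(y : G)⁻¹, (x : G)⁻¹⁆ := by
    simp only [Subgroup.coe_mul, Subgroup.coe_inv, commutatorElement_def]
    group
  rw [h]
  exact comm_mem_Gam_succ ((Gam G n).inv_mem y.2) _

instance Qt_commGroup (n : ℕ) : CommGroup (Qt G n) :=
  { (inferInstance : Group (Qt G n)) with mul_comm := Qt_comm n }

/-- the additive group `γ_n / γ_{n+1}`. -/
abbrev A (G : Type u) [Group G] (n : ℕ) : Type u := Additive (Qt G n)

open Classical in
/-- the class of `x` in `γ_n / γ_{n+1}` (zero if `x ∉ γ_n`). -/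
noncomputable def cls (n : ℕ) (x : G) : A G n :=
  if h : x ∈ Gam G n then Additive.ofMul (QuotientGroup.mk ⟨x, h⟩) else 0

theorem cls_of_mem {n : ℕ} {x : G} (h : x ∈ Gam G n) :
    cls n x = Additive.ofMul (QuotientGroup.mk (⟨x, h⟩ : ↥(Gam G n))) := dif_pos h

theorem cls_mul {n : ℕ} {x y : G} (hx : x ∈ Gam G n) (hy : y ∈ Gam G n) :
    cls n (x * y) = cls n x + cls n y := by
  rw [cls_of_mem hx, cls_of_mem hy, cls_of_mem ((Gam G n).mul_mem hx hy)]
  rfl

theorem cls_eq_iff {n : ℕ} {x y : G} (hx : x ∈ Gam G n) (hy : y ∈ Gam G n) :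
    cls n x = cls n y ↔ x⁻¹ * y ∈ Gam G (n + 1) := by
  rw [cls_of_mem hx, cls_of_mem hy]
  rw [Additive.ofMul.apply_eq_iff_eq, QuotientGroup.eq, Subgroup.mem_subgroupOf]
  rfl

theorem cls_one (n : ℕ) : cls n (1 : G) = 0 := by
  have h := cls_mul (Subgroup.one_mem (Gam G n)) (Subgroup.one_mem (Gam G n))
  rw [mul_one] at h
  exact left_eq_add.mp h

theorem cls_eq_zero_iff {n : ℕ} {x : G} (hx : x ∈ Gam G n) :
    cls n x = 0 ↔ x ∈ Gam G (n + 1) := by
  rw [← cls_one (G := G) n, eq_comm, cls_eq_iff (Subgroup.one_mem _) hx]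
  simp

theorem cls_inv {n : ℕ} {x : G} (hx : x ∈ Gam G n) : cls n x⁻¹ = - cls n x := by
  have h := cls_mul hx ((Gam G n).inv_mem hx)
  rw [mul_inv_cancel, cls_one] at h
  exact (neg_eq_of_add_eq_zero_right h.symm).symm

theorem cls_surj (n : ℕ) (a : A G n) : ∃ x ∈ Gam G n, cls n x = a := by
  obtain ⟨x, hx⟩ := QuotientGroup.mk_surjective (Additive.toMul a)
  refine ⟨x.1, x.2, ?_⟩
  rw [cls_of_mem x.2]
  exact congrArg Additive.ofMul hx

theorem cls_conj {n : ℕ} {x : G} (hx : x ∈ Gam G n) (g : G) : cls n (g * x * g⁻¹) = cls n x := by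
  rw [eq_comm, cls_eq_iff hx (conj_mem_Gam hx g)]
  have h : x⁻¹ * (g * x * g⁻¹) = ⁅x⁻¹, g⁆ := by
    simp only [commutatorElement_def]; group
  rw [h]
  exact comm_mem_Gam_succ ((Gam G n).inv_mem hx) g

theorem cls_eq_of_mul_mem {n : ℕ} {x u : G} (hx : x ∈ Gam G n) (hu : u ∈ Gam G (n + 1)) :
    cls n (x * u) = cls n x := by
  rw [cls_mul hx (Gam_anti (Nat.le_succ n) hu), (cls_eq_zero_iff (Gam_anti (Nat.le_succ n) hu)).mpr hu,
    add_zero]

/-! ### commutator congruences -/

theorem cls_comm_mul_left {i j : ℕ} {x x' y : G} (hx : x ∈ Gam G i) (hx' : x' ∈ Gam G i)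
    (hy : y ∈ Gam G j) :
    cls (i + j) ⁅x * x', y⁆ = cls (i + j) ⁅x, y⁆ + cls (i + j) ⁅x', y⁆ := by
  rw [commutatorElement_mul_left_eq_conj_mul,
    cls_mul (conj_mem_Gam (comm_mem_Gam hx' hy) x) (comm_mem_Gam hx hy),
    cls_conj (comm_mem_Gam hx' hy), add_comm (cls _ _) (cls _ _)]

theorem cls_comm_mul_right {i j : ℕ} {x y y' : G} (hx : x ∈ Gam G i) (hy : y ∈ Gam G j)
    (hy' : y' ∈ Gam G j) :
    cls (i + j) ⁅x, y * y'⁆ = cls (i + j) ⁅x, y⁆ + cls (i + j) ⁅x, y'⁆ := by
  have h : ⁅x, y * y'⁆ = ⁅x, y⁆ * (y * ⁅x, y'⁆ * y⁻¹) := by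
    rw [commutatorElement_mul_right_eq_mul_conj]; group
  rw [h, cls_mul (comm_mem_Gam hx hy) (conj_mem_Gam (comm_mem_Gam hx hy') y),
    cls_conj (comm_mem_Gam hx hy')]

theorem cls_comm_eq_zero_left {i j : ℕ} {u y : G} (hu : u ∈ Gam G (i + 1)) (hy : y ∈ Gam G j) :
    cls (i + j) ⁅u, y⁆ = 0 := by
  rw [cls_eq_zero_iff (comm_mem_Gam (Gam_anti (Nat.le_succ i) hu) hy)]
  have h := comm_mem_Gam hu hy
  have e : i + 1 + j = i + j + 1 := by ring
  rwa [e] at h

theorem cls_comm_eq_zero_right {i j : ℕ} {x v : G} (hx : x ∈ Gam G i) (hv : v ∈ Gam G (j + 1)) :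
    cls (i + j) ⁅x, v⁆ = 0 := by
  rw [cls_eq_zero_iff (comm_mem_Gam hx (Gam_anti (Nat.le_succ j) hv))]
  have h := comm_mem_Gam hx hv
  exact h

/-- well-definedness of the bracket on classes. -/
theorem cls_comm_congr {i j : ℕ} {x x' y y' : G} (hx : x ∈ Gam G i) (hx' : x' ∈ Gam G i)
    (hy : y ∈ Gam G j) (hy' : y' ∈ Gam G j) (h1 : cls i x = cls i x') (h2 : cls j y = cls j y') :
    cls (i + j) ⁅x, y⁆ = cls (i + j) ⁅x', y'⁆ := by
  rw [cls_eq_iff hx hx'] at h1
  rw [cls_eq_iff hy hy'] at h2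
  have e1 : x' = x * (x⁻¹ * x') := by group
  have e2 : y' = y * (y⁻¹ * y') := by group
  rw [e1, e2, cls_comm_mul_left hx (Gam_anti (Nat.le_succ i) h1) ((Gam G j).mul_mem hy
      (Gam_anti (Nat.le_succ j) h2)),
    cls_comm_eq_zero_left h1 ((Gam G j).mul_mem hy (Gam_anti (Nat.le_succ j) h2)), add_zero,
    cls_comm_mul_right hx hy (Gam_anti (Nat.le_succ j) h2), cls_comm_eq_zero_right hx h2, add_zero]


/-! ### the bracket on graded pieces -/

/-- a representative. -/
noncomputable def rep {n : ℕ} (a : A G n) : G := Classical.choose (cls_surj n a)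

theorem rep_mem {n : ℕ} (a : A G n) : rep a ∈ Gam G n := (Classical.choose_spec (cls_surj n a)).1

theorem cls_rep {n : ℕ} (a : A G n) : cls n (rep a) = a := (Classical.choose_spec (cls_surj n a)).2

/-- the bracket `γ_i/γ_{i+1} × γ_j/γ_{j+1} → γ_{i+j}/γ_{i+j+1}`. -/
noncomputable def brkFun {i j : ℕ} (a : A G i) (b : A G j) : A G (i + j) :=
  cls (i + j) ⁅rep a, rep b⁆

theorem brkFun_cls {i j : ℕ} {x y : G} (hx : x ∈ Gam G i) (hy : y ∈ Gam G j) :
    brkFun (cls i x) (cls j y) = cls (i + j) ⁅x, y⁆ :=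
  cls_comm_congr (rep_mem _) hx (rep_mem _) hy (cls_rep _) (cls_rep _)

theorem brkFun_add_left {i j : ℕ} (a a' : A G i) (b : A G j) :
    brkFun (a + a') b = brkFun a b + brkFun a' b := by
  obtain ⟨x, hx, rfl⟩ := cls_surj i a
  obtain ⟨x', hx', rfl⟩ := cls_surj i a'
  obtain ⟨y, hy, rfl⟩ := cls_surj j b
  rw [← cls_mul hx hx', brkFun_cls ((Gam G i).mul_mem hx hx') hy, brkFun_cls hx hy,
    brkFun_cls hx' hy, cls_comm_mul_left hx hx' hy]

theorem brkFun_add_right {i j : ℕ} (a : A G i) (b b' : A G j) :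
    brkFun a (b + b') = brkFun a b + brkFun a b' := by
  obtain ⟨x, hx, rfl⟩ := cls_surj i a
  obtain ⟨y, hy, rfl⟩ := cls_surj j b
  obtain ⟨y', hy', rfl⟩ := cls_surj j b'
  rw [← cls_mul hy hy', brkFun_cls hx ((Gam G j).mul_mem hy hy'), brkFun_cls hx hy,
    brkFun_cls hx hy', cls_comm_mul_right hx hy hy']

theorem brkFun_zero_left {i j : ℕ} (b : A G j) : brkFun (0 : A G i) b = 0 := by
  have h := brkFun_add_left (0 : A G i) 0 b
  rw [add_zero] at h
  exact left_eq_add.mp h

theorem brkFun_zero_right {i j : ℕ} (a : A G i) : brkFun a (0 : A G j) = 0 := by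
  have h := brkFun_add_right a (0 : A G j) 0
  rw [add_zero] at h
  exact left_eq_add.mp h

noncomputable instance gmulA : GradedMonoid.GMul (A G) := ⟨fun a b => brkFun a b⟩

noncomputable instance gnnsA : DirectSum.GNonUnitalNonAssocSemiring (A G) :=
  { gmulA with
    mul_zero := fun a => brkFun_zero_right a
    zero_mul := fun b => brkFun_zero_left b
    mul_add := fun a b c => brkFun_add_right a b c
    add_mul := fun a b c => brkFun_add_left a b c }

/-- the associated graded Lie ring (as an additive group with a product). -/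
abbrev Lr (G : Type u) [Group G] : Type u := DirectSum ℕ (A G)

/-- the class of `x` in degree `n`, as an element of `Lr G`. -/
noncomputable def q (n : ℕ) (x : G) : Lr G := DirectSum.of (A G) n (cls n x)

theorem q_mul {n : ℕ} {x y : G} (hx : x ∈ Gam G n) (hy : y ∈ Gam G n) :
    q n (x * y) = q n x + q n y := by
  unfold q; rw [cls_mul hx hy, map_add]

theorem q_eq_zero_iff {n : ℕ} {x : G} (hx : x ∈ Gam G n) : q n x = 0 ↔ x ∈ Gam G (n + 1) := by
  unfold q
  rw [← cls_eq_zero_iff hx]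
  constructor
  · intro h
    exact DirectSum.of_injective (β := A G) n (by rw [h, map_zero])
  · intro h; rw [h, map_zero]

theorem q_one (n : ℕ) : q n (1 : G) = 0 := by
  unfold q; rw [cls_one, map_zero]

theorem q_inv {n : ℕ} {x : G} (hx : x ∈ Gam G n) : q n x⁻¹ = - q n x := by
  unfold q; rw [cls_inv hx, map_neg]

theorem q_conj {n : ℕ} {x : G} (hx : x ∈ Gam G n) (g : G) : q n (g * x * g⁻¹) = q n x := by
  unfold q; rw [cls_conj hx]

theorem q_mul_q {i j : ℕ} {x y : G} (hx : x ∈ Gam G i) (hy : y ∈ Gam G j) :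
    q i x * q j y = q (i + j) ⁅x, y⁆ := by
  unfold q
  rw [DirectSum.of_mul_of]
  exact congrArg _ (brkFun_cls hx hy)

theorem of_eq_q {n : ℕ} (a : A G n) : ∃ x ∈ Gam G n, DirectSum.of (A G) n a = q n x := by
  obtain ⟨x, hx, rfl⟩ := cls_surj n a
  exact ⟨x, hx, rfl⟩


/-! ### the Lie ring axioms -/

theorem Lr_neg_mul (a b : Lr G) : -a * b = -(a * b) := neg_mul a b

theorem Lr_mul_neg (a b : Lr G) : a * -b = -(a * b) := mul_neg a b

theorem mul_antisymm (a b : Lr G) : a * b = -(b * a) := by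
  induction a using DirectSum.induction_on with
  | zero => simp
  | add a a' iha iha' => rw [add_mul, mul_add, iha, iha', neg_add]
  | of i a =>
    induction b using DirectSum.induction_on with
    | zero => simp
    | add b b' ihb ihb' => rw [mul_add, add_mul, ihb, ihb', neg_add]
    | of j b =>
      obtain ⟨x, hx, hxe⟩ := of_eq_q a
      obtain ⟨y, hy, hye⟩ := of_eq_q b
      rw [hxe, hye, q_mul_q hx hy, q_mul_q hy hx, ← q_inv (comm_mem_Gam hy hx),
        commutatorElement_inv, add_comm j i]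

theorem mul_self_eq_zero' (a : Lr G) : a * a = 0 := by
  induction a using DirectSum.induction_on with
  | zero => simp
  | add a a' iha iha' =>
    rw [add_mul, mul_add, mul_add, iha, iha', mul_antisymm a' a]
    simp
  | of i a =>
    obtain ⟨x, hx, hxe⟩ := of_eq_q a
    rw [hxe, q_mul_q hx hx, commutatorElement_self, q_one]

theorem jacobi_q {i j k : ℕ} {a b c : G} (ha : a ∈ Gam G i) (hb : b ∈ Gam G j) (hc : c ∈ Gam G k) :
    q i a * (q j b * q k c) + q j b * (q k c * q i a) + q k c * (q i a * q j b) = 0 := by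
  have hbi := (Gam G j).inv_mem hb
  have hci := (Gam G k).inv_mem hc
  have hai := (Gam G i).inv_mem ha
  have e1 : q i a * (q j b * q k c) = - q (i + j + k) ⁅a, ⁅b⁻¹, c⁆⁆ := by
    have e : i + j + k = i + (j + k) := by ring
    rw [e, ← q_mul_q ha (comm_mem_Gam hbi hc), ← q_mul_q hbi hc, q_inv hb]
    rw [Lr_neg_mul, Lr_mul_neg, neg_neg]
  have e2 : q j b * (q k c * q i a) = - q (i + j + k) ⁅b, ⁅c⁻¹, a⁆⁆ := by
    have e : i + j + k = j + (k + i) := by ring
    rw [e, ← q_mul_q hb (comm_mem_Gam hci ha), ← q_mul_q hci ha, q_inv hc]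
    rw [Lr_neg_mul, Lr_mul_neg, neg_neg]
  have e3 : q k c * (q i a * q j b) = - q (i + j + k) ⁅c, ⁅a⁻¹, b⁆⁆ := by
    have e : i + j + k = k + (i + j) := by ring
    rw [e, ← q_mul_q hc (comm_mem_Gam hai hb), ← q_mul_q hai hb, q_inv ha]
    rw [Lr_neg_mul, Lr_mul_neg, neg_neg]
  have m1 : ⁅a, ⁅b⁻¹, c⁆⁆ ∈ Gam G (i + j + k) := by
    have h := comm_mem_Gam ha (comm_mem_Gam hbi hc)
    have e : i + j + k = i + (j + k) := by ring
    rwa [e]
  have m2 : ⁅b, ⁅c⁻¹, a⁆⁆ ∈ Gam G (i + j + k) := by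
    have h := comm_mem_Gam hb (comm_mem_Gam hci ha)
    have e : i + j + k = j + (k + i) := by ring
    rwa [e]
  have m3 : ⁅c, ⁅a⁻¹, b⁆⁆ ∈ Gam G (i + j + k) := by
    have h := comm_mem_Gam hc (comm_mem_Gam hai hb)
    have e : i + j + k = k + (i + j) := by ring
    rwa [e]
  have hw : (b * ⁅a, ⁅b⁻¹, c⁆⁆ * b⁻¹) * (c * ⁅b, ⁅c⁻¹, a⁆⁆ * c⁻¹) * (a * ⁅c, ⁅a⁻¹, b⁆⁆ * a⁻¹) = 1 := by
    rw [← conj_commutatorElement_right_commutatorElement_mul a b c]
    simp only [mul_assoc]
  have h := congrArg (q (i + j + k)) hw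
  rw [q_one, q_mul ((Gam G _).mul_mem (conj_mem_Gam m1 b) (conj_mem_Gam m2 c)) (conj_mem_Gam m3 a),
    q_mul (conj_mem_Gam m1 b) (conj_mem_Gam m2 c), q_conj m1, q_conj m2, q_conj m3] at h
  rw [e1, e2, e3, ← neg_add, ← neg_add, h, neg_zero]

theorem leibniz_q {i j k : ℕ} {a b c : G} (ha : a ∈ Gam G i) (hb : b ∈ Gam G j) (hc : c ∈ Gam G k) :
    q i a * (q j b * q k c) = (q i a * q j b) * q k c + q j b * (q i a * q k c) := by
  have h := jacobi_q ha hb hc
  rw [mul_antisymm (q i a * q j b) (q k c), mul_antisymm (q i a) (q k c),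
    Lr_mul_neg (q j b) (q k c * q i a)]
  rw [add_assoc, add_eq_zero_iff_eq_neg] at h
  rw [h, neg_add, add_comm]

theorem leibniz_mul (a b c : Lr G) : a * (b * c) = (a * b) * c + b * (a * c) := by
  induction a using DirectSum.induction_on with
  | zero => simp
  | add a a' iha iha' =>
    rw [add_mul, add_mul, add_mul, add_mul, mul_add b, iha, iha']; abel
  | of i a =>
    induction b using DirectSum.induction_on with
    | zero => simp
    | add b b' ihb ihb' =>
      rw [add_mul, mul_add, mul_add, add_mul, add_mul, ihb, ihb']; abel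
    | of j b =>
      induction c using DirectSum.induction_on with
      | zero => simp
      | add c c' ihc ihc' =>
        rw [mul_add, mul_add, mul_add, mul_add, mul_add, ihc, ihc']; abel
      | of k c =>
        obtain ⟨x, hx, hxe⟩ := of_eq_q a
        obtain ⟨y, hy, hye⟩ := of_eq_q b
        obtain ⟨z, hz, hze⟩ := of_eq_q c
        rw [hxe, hye, hze]
        exact leibniz_q hx hy hz

/-- the Lie ring structure on `Lr G`. -/
@[instance_reducible]
noncomputable def lieRingLr (G : Type u) [Group G] : LieRing (Lr G) :=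
  { (inferInstance : AddCommGroup (Lr G)) with
    bracket := fun a b => a * b
    add_lie := fun x y z => add_mul x y z
    lie_add := fun x y z => mul_add x y z
    lie_self := fun x => mul_self_eq_zero' x
    leibniz_lie := fun x y z => leibniz_mul x y z }


/-! ### spanning and independence -/

theorem exists_sum_q (a : Lr G) :
    ∃ (N : ℕ) (x : ℕ → G), (∀ n, x n ∈ Gam G n) ∧ a = ∑ n ∈ Finset.range N, q n (x n) := by
  classical
  refine ⟨a.support.sup id + 1, fun n => rep (a n), fun n => rep_mem _, ?_⟩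
  have h1 : ∀ n, q n (rep (a n)) = DirectSum.of (A G) n (a n) := fun n => by
    unfold q; rw [cls_rep]
  simp only [h1]
  conv_lhs => rw [← DirectSum.sum_support_of a]
  apply Finset.sum_subset
  · intro n hn
    rw [Finset.mem_range]
    exact Nat.lt_succ_of_le (Finset.le_sup (f := id) hn)
  · intro n _ hn
    rw [DFinsupp.notMem_support_iff] at hn
    rw [hn, map_zero]

theorem q_eq_zero_of_sum_eq_zero (N : ℕ) (x : ℕ → G)
    (h : ∑ n ∈ Finset.range N, q n (x n) = (0 : Lr G)) : ∀ n < N, q n (x n) = 0 := by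
  intro m hm
  have h2 := congrArg (fun a : Lr G => a m) h
  simp only [DirectSum.sum_apply, DirectSum.zero_apply] at h2
  rw [Finset.sum_eq_single m] at h2
  · unfold q at h2 ⊢
    rw [DirectSum.of_eq_same] at h2
    rw [h2, map_zero]
  · intro n _ hn
    unfold q
    exact DirectSum.of_eq_of_ne _ _ _ (Ne.symm hn)
  · intro h3
    exact absurd (Finset.mem_range.mpr hm) h3

/-! ### functoriality -/

/-- the map induced by an automorphism on a graded piece. -/
noncomputable def mapA (α : G ≃* G) (n : ℕ) : A G n →+ A G n :=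
  AddMonoidHom.mk' (fun a => cls n (α (rep a))) (by
    have key : ∀ {x : G} (hx : x ∈ Gam G n), cls n (α (rep (cls n x))) = cls n (α x) := by
      intro x hx
      rw [cls_eq_iff (map_mem_Gam α (rep_mem _)) (map_mem_Gam α hx), ← map_inv, ← map_mul]
      apply map_mem_Gam
      rw [← cls_eq_iff (rep_mem _) hx, cls_rep]
    intro a b
    obtain ⟨x, hx, rfl⟩ := cls_surj n a
    obtain ⟨y, hy, rfl⟩ := cls_surj n b
    rw [← cls_mul hx hy, key hx, key hy, key ((Gam G n).mul_mem hx hy), map_mul,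
      cls_mul (map_mem_Gam α hx) (map_mem_Gam α hy)])

theorem mapA_cls (α : G ≃* G) {n : ℕ} {x : G} (hx : x ∈ Gam G n) :
    mapA α n (cls n x) = cls n (α x) := by
  show cls n (α (rep (cls n x))) = cls n (α x)
  rw [cls_eq_iff (map_mem_Gam α (rep_mem _)) (map_mem_Gam α hx), ← map_inv, ← map_mul]
  apply map_mem_Gam
  rw [← cls_eq_iff (rep_mem _) hx, cls_rep]

/-- the map induced by an automorphism on the Lie ring. -/
noncomputable def mapL (α : G ≃* G) : Lr G →+ Lr G := DirectSum.map (mapA α)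

theorem mapL_q (α : G ≃* G) {n : ℕ} {x : G} (hx : x ∈ Gam G n) : mapL α (q n x) = q n (α x) := by
  unfold mapL q
  rw [DirectSum.map_of, mapA_cls α hx]

theorem mapL_mul (α : G ≃* G) (a b : Lr G) : mapL α (a * b) = mapL α a * mapL α b := by
  induction a using DirectSum.induction_on with
  | zero => simp
  | add a a' iha iha' => rw [add_mul, map_add, map_add, add_mul, iha, iha']
  | of i a =>
    induction b using DirectSum.induction_on with
    | zero => simp
    | add b b' ihb ihb' => rw [mul_add, map_add, map_add, mul_add, ihb, ihb']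
    | of j b =>
      obtain ⟨x, hx, hxe⟩ := of_eq_q a
      obtain ⟨y, hy, hye⟩ := of_eq_q b
      rw [hxe, hye, q_mul_q hx hy, mapL_q α hx, mapL_q α hy, mapL_q α (comm_mem_Gam hx hy),
        q_mul_q (map_mem_Gam α hx) (map_mem_Gam α hy), map_commutatorElement]

/-! ### the interface -/

/-- **(LG)** the associated Lie ring of a group, as an interface. -/
theorem exists_assocLieRing (G : Type u) [Group G] :
    ∃ (L : Type u) (_ : LieRing L) (q : ℕ → G → L),
      (∀ n x y, x ∈ Gam G n → y ∈ Gam G n → q n (x * y) = q n x + q n y) ∧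
      (∀ n x, x ∈ Gam G n → (q n x = 0 ↔ x ∈ Gam G (n + 1))) ∧
      (∀ i j x y, 1 ≤ i → 1 ≤ j → x ∈ Gam G i → y ∈ Gam G j →
        ⁅q i x, q j y⁆ = q (i + j) (x * y * x⁻¹ * y⁻¹)) ∧
      (∀ a : L, ∃ (N : ℕ) (x : ℕ → G), (∀ n, x n ∈ Gam G n) ∧
        a = ∑ n ∈ Finset.range N, q n (x n)) ∧
      (∀ (N : ℕ) (x : ℕ → G), (∀ n, x n ∈ Gam G n) → ∑ n ∈ Finset.range N, q n (x n) = 0 →
        ∀ n < N, q n (x n) = 0) ∧
      (∀ α : G ≃* G, ∃ φ : L →+ L, (∀ a b, φ ⁅a, b⁆ = ⁅φ a, φ b⁆) ∧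
        ∀ n x, x ∈ Gam G n → φ (q n x) = q n (α x)) := by
  refine ⟨Lr G, lieRingLr G, q, ?_, ?_, ?_, ?_, ?_, ?_⟩
  · intro n x y hx hy
    exact q_mul hx hy
  · intro n x hx
    exact q_eq_zero_iff hx
  · intro i j x y _ _ hx hy
    exact q_mul_q hx hy
  · intro a
    exact exists_sum_q a
  · intro N x _ h
    exact q_eq_zero_of_sum_eq_zero N x h
  · intro α
    exact ⟨mapL α, fun a b => mapL_mul α a b, fun n x hx => mapL_q α hx⟩

end Cfsg.Agent.Helper93.HKKLG
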