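import Mathlib
import Cfsg.Agent.Helper43.EB.Defs

/-!
# (L8b) of helper43's #9542 (S5877): an eigenspace of `g` is the direct sum of its intersections with the
eigenspaces of a commuting `z` with `z ^ r = 1`
-/

set_option autoImplicit false
set_option linter.unusedSectionVars false
set_option linter.unusedVariables false

namespace Cfsg.Agent.Helper93.EBL8b

open Cfsg.Agent.Helper43.EB Module Polynomial

variable {F : Type*} [Field F] {V : Type*} [AddCommGroup V] [Module F V]

/-- the kernel of a product of distinct linear factors evaluated at `T` is the sum of the eigenspaces -/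
theorem ker_aeval_prod (T : Module.End F V) (S : Finset F) :
    LinearMap.ker (aeval T (∏ μ ∈ S, (X - C μ))) = ⨆ μ ∈ S, Module.End.eigenspace T μ := by
  classical
  induction S using Finset.induction_on with
  | empty =>
    simp only [Finset.prod_empty, map_one, Finset.notMem_empty, iSup_false, iSup_bot]
    exact LinearMap.ker_id
  | insert a S ha ih =>
    rw [Finset.prod_insert ha, Finset.iSup_insert, ← ih]
    have hcop : IsCoprime (X - C a) (∏ μ ∈ S, (X - C μ)) := by
      apply IsCoprime.prod_right
      intro μ hμ
      apply Polynomial.isCoprime_X_sub_C_of_isUnit_sub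
      exact (sub_ne_zero.2 (fun h : a = μ => ha (by rw [h]; exact hμ))).isUnit
    rw [← Polynomial.sup_ker_aeval_eq_ker_aeval_mul_of_coprime T hcop]
    congr 1
    rw [Module.End.eigenspace_def, aeval_sub, aeval_X, aeval_C, Algebra.algebraMap_eq_smul_one]

/-- the dimension of a finite sum of independent subspaces -/
theorem finrank_biSup [FiniteDimensional F V] (P : F → Submodule F V) (hP : iSupIndep P)
    (S : Finset F) : finrank F ↥(⨆ μ ∈ S, P μ) = ∑ μ ∈ S, finrank F (P μ) := by
  classical
  induction S using Finset.induction_on with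
  | empty => simp
  | insert a S ha ih =>
    rw [Finset.iSup_insert, Finset.sum_insert ha, ← ih]
    have hd : Disjoint (P a) (⨆ μ ∈ (S : Set F), P μ) :=
      hP.disjoint_biSup (by simpa using ha)
    have hd' : Disjoint (P a) (⨆ μ ∈ S, P μ) := by
      simpa only [Finset.mem_coe] using hd
    have := Submodule.finrank_sup_add_finrank_inf_eq (P a) (⨆ μ ∈ S, P μ)
    rw [disjoint_iff.1 hd', finrank_bot, add_zero] at this
    exact this

/-- (L8b) an eigenspace of `g` is the direct sum of its intersections with the eigenspaces of a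
commuting `z` with `z ^ r = 1` -/
theorem finrank_eq_sum [FiniteDimensional F V] {r : ℕ} (hr : r.Prime) {ω : F}
    (hω : IsPrimitiveRoot ω r) {z g : (Module.End F V)ˣ} (hzr : z ^ r = 1) (hzg : z * g = g * z)
    (c : F) :
    finrank F (Module.End.eigenspace (g : Module.End F V) c) =
      ∑ j ∈ Finset.range r, finrank F ↥(Module.End.eigenspace (g : Module.End F V) c ⊓
        Module.End.eigenspace (z : Module.End F V) (ω ^ j)) := by
  classical
  have hTW : ∀ x ∈ Module.End.eigenspace (g : Module.End F V) c,
      (z : Module.End F V) x ∈ Module.End.eigenspace (g : Module.End F V) c := by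
    intro x hx
    rw [Module.End.mem_eigenspace_iff] at hx ⊢
    have h := congrArg (fun u : (Module.End F V)ˣ => (u : Module.End F V) x) hzg
    simp only [Units.val_mul, Module.End.mul_apply] at h
    rw [← h, hx, map_smul]
  have hTr : (z : Module.End F V) ^ r = 1 := by
    have := congrArg (fun u : (Module.End F V)ˣ => (u : Module.End F V)) hzr
    simpa using this
  set T : Module.End F V := (z : Module.End F V) with hT
  set W : Submodule F V := Module.End.eigenspace (g : Module.End F V) c with hWdef
  set S : Finset F := (Finset.range r).image (fun j => ω ^ j) with hS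
  have htop : ⨆ μ ∈ S, Module.End.eigenspace T μ = ⊤ := by
    have h1 : (⨆ μ ∈ nthRootsFinset r (1 : F), Module.End.eigenspace T μ) = ⊤ := by
      rw [← ker_aeval_prod, ← X_pow_sub_one_eq_prod hr.pos hω]
      simp [hTr]
    rw [eq_top_iff, ← h1]
    apply iSup₂_le
    intro μ hμ
    have : NeZero r := ⟨hr.ne_zero⟩
    obtain ⟨i, hi, rfl⟩ := hω.eq_pow_of_pow_eq_one ((mem_nthRootsFinset hr.pos 1).1 hμ)
    exact le_biSup (fun μ => Module.End.eigenspace T μ)
      (Finset.mem_image.2 ⟨i, Finset.mem_range.2 hi, rfl⟩)
  have hind : iSupIndep (Module.End.eigenspace T) := Module.End.eigenspaces_iSupIndep T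
  have hbot : ∀ μ, μ ∉ S → Module.End.eigenspace T μ = ⊥ := by
    intro μ hμ
    have hd : Disjoint (Module.End.eigenspace T μ) (⨆ ν ∈ (S : Set F), Module.End.eigenspace T ν) :=
      hind.disjoint_biSup (by simpa using hμ)
    have hd' : Disjoint (Module.End.eigenspace T μ) (⨆ ν ∈ S, Module.End.eigenspace T ν) := by
      simpa only [Finset.mem_coe] using hd
    rw [htop] at hd'
    exact disjoint_top.1 hd'
  have htop' : ⨆ μ, Module.End.eigenspace T μ = ⊤ := by
    rw [eq_top_iff, ← htop]
    exact iSup₂_le (fun μ _ => le_iSup (fun μ => Module.End.eigenspace T μ) μ)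
  have hW : W = ⨆ μ ∈ S, W ⊓ Module.End.eigenspace T μ := by
    have h1 : W ⊓ ⨆ μ, Module.End.eigenspace T μ = ⨆ μ, W ⊓ Module.End.eigenspace T μ :=
      Submodule.inf_iSup_genEigenspace hTW 1
    rw [htop', inf_top_eq] at h1
    apply le_antisymm
    · refine h1.le.trans (iSup_le fun μ => ?_)
      by_cases hμ : μ ∈ S
      · exact le_biSup (fun μ => W ⊓ Module.End.eigenspace T μ) hμ
      · rw [hbot μ hμ, inf_bot_eq]
        exact bot_le
    · exact iSup₂_le (fun μ _ => inf_le_left)
  have hind' : iSupIndep (fun μ => W ⊓ Module.End.eigenspace T μ) :=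
    hind.mono (fun μ => inf_le_right)
  have e1 : finrank F W = finrank F ↥(⨆ μ ∈ S, W ⊓ Module.End.eigenspace T μ) :=
    congrArg (fun p : Submodule F V => finrank F p) hW
  rw [e1, finrank_biSup _ hind' S, hS, Finset.sum_image]
  intro i hi j hj hij
  exact hω.pow_inj (Finset.mem_range.1 hi) (Finset.mem_range.1 hj) hij

end Cfsg.Agent.Helper93.EBL8b
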