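-- helper93: piece (GB1b) `ptower_comm_mem` of helper8's S4359 farm (#13388).
import Cfsg.Agent.Helper8.GlaubDefs

set_option autoImplicit false

namespace Cfsg.Agent.Helper93.Glaub

open Cfsg.Agent.Helper8.Sims3 Cfsg.Agent.Helper8.Glaub Pointwise

variable {G : Type*} [Group G]

/-- local copy of (GB1a): as `Sims3.tower_inter`, with `p` in place of `2`. -/
theorem GB1b_inter {p t : ℕ} (hp : p.Prime) {y : ℤ → G} (h : PTower p t y) (a : ℤ) (m : ℕ)
    (hm : m + 2 ≤ t) : U y a (m + 1) ⊓ U y (a + 1) (m + 1) = U y (a + 1) m := by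
  have hV := h.card a (m + 2) hm
  have hA := h.card a (m + 1) (by omega)
  have hB := h.card (a + 1) (m + 1) (by omega)
  have hC := h.card (a + 1) m (by omega)
  have hp0 : 0 < p := hp.pos
  have hCle : U y (a + 1) m ≤ U y a (m + 1) ⊓ U y (a + 1) (m + 1) :=
    le_inf (U_mono (by omega) (by push_cast; omega)) (U_mono le_rfl (by push_cast; omega))
  have hA0 : Nat.card ↥(U y a (m + 1)) ≠ 0 := by rw [hA]; positivity
  have hfinA : Finite ↥(U y a (m + 1)) := Nat.finite_of_card_ne_zero hA0
  -- the intersection is a proper subgroup of `A`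
  have hne : U y a (m + 1) ⊓ U y (a + 1) (m + 1) ≠ U y a (m + 1) := by
    intro heq
    have hAB : U y a (m + 1) ≤ U y (a + 1) (m + 1) := by
      rw [← heq]; exact inf_le_right
    have hVB : U y a (m + 2) ≤ U y (a + 1) (m + 1) := by
      rw [show m + 2 = (m + 1) + 1 from rfl, U_succ_left]
      refine sup_le ?_ le_rfl
      rw [Subgroup.zpowers_le]
      exact hAB (mem_U_self y le_rfl (by push_cast; omega))
    have hB0 : Nat.card ↥(U y (a + 1) (m + 1)) ≠ 0 := by rw [hB]; positivity
    have hfinB : Finite ↥(U y (a + 1) (m + 1)) := Nat.finite_of_card_ne_zero hB0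
    have := Nat.card_le_card_of_injective _ (Subgroup.inclusion_injective hVB)
    rw [hV, hB] at this
    have h2 : p ^ (m + 1) < p ^ (m + 2) := Nat.pow_lt_pow_right hp.one_lt (by omega)
    omega
  have hdvd : Nat.card ↥(U y a (m + 1) ⊓ U y (a + 1) (m + 1)) ∣ p ^ (m + 1) := by
    rw [← hA]
    exact Subgroup.card_dvd_of_le inf_le_left
  obtain ⟨k, hk, hkc⟩ := (Nat.dvd_prime_pow hp).1 hdvd
  have hk' : k ≤ m := by
    by_contra hcon
    have hkm : k = m + 1 := by omega
    apply hne
    apply eq_of_le_of_card_le' inf_le_left hA0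
    rw [hA, hkc, hkm]
  symm
  apply eq_of_le_of_card_le' hCle
  · rw [hkc]; positivity
  · rw [hC, hkc]
    exact Nat.pow_le_pow_right hp0 hk'

/-- a subgroup of index `p` (by cardinality) of a `p`-group is normalized by the big group -/
theorem GB1b_conj_mem {p k : ℕ} (hp : p.Prime) {A V : Subgroup G} (hAV : A ≤ V)
    (hV : Nat.card ↥V = p ^ (k + 1)) (hA : Nat.card ↥A = p ^ k) {v x : G} (hv : v ∈ V)
    (hx : x ∈ A) : v * x * v⁻¹ ∈ A := by
  have hp0 : 0 < p := hp.pos
  have hV0 : Nat.card ↥V ≠ 0 := by rw [hV]; positivity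
  have hfin : Finite ↥V := Nat.finite_of_card_ne_zero hV0
  have hidx : (A.subgroupOf V).index = p := by
    have h1 := card_mul_relIndex A V hAV
    rw [hV, hA, pow_succ] at h1
    have hApos : 0 < p ^ k := by positivity
    exact Nat.eq_of_mul_eq_mul_left hApos h1
  have hn : (A.subgroupOf V).Normal := by
    apply Subgroup.normal_of_index_eq_minFac_card
    rw [hidx, hV, Nat.pow_minFac (by omega), hp.minFac_eq]
  have := hn.conj_mem ⟨x, hAV hx⟩ (by rw [Subgroup.mem_subgroupOf]; exact hx) ⟨v, hv⟩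
  rw [Subgroup.mem_subgroupOf] at this
  simpa using this

/-- (GB1b) `U y a (d+1)` and `U y (a+1) (d+1)` have index `p` in the `p`-group `U y a (d+2)`,
so they are normal in it; the commutator lies in both; use (GB1a). -/
theorem ptower_comm_mem {p t : ℕ} (hp : p.Prime) {y : ℤ → G} (h : PTower p t y) (a : ℤ)
    (d : ℕ) (hd : d + 2 ≤ t) (u w : G) (hu : u ∈ Subgroup.zpowers (y a))
    (hw : w ∈ Subgroup.zpowers (y (a + (d + 1 : ℕ)))) :
    u * w * u⁻¹ * w⁻¹ ∈ U y (a + 1) d := by
  have hV := h.card a (d + 2) hd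
  have hA := h.card a (d + 1) (by omega)
  have hB := h.card (a + 1) (d + 1) (by omega)
  have hAV : U y a (d + 1) ≤ U y a (d + 2) := U_mono le_rfl (by push_cast; omega)
  have hBV : U y (a + 1) (d + 1) ≤ U y a (d + 2) := U_mono (by omega) (by push_cast; omega)
  have huA : u ∈ U y a (d + 1) := by
    have : Subgroup.zpowers (y a) ≤ U y a (d + 1) := by
      rw [Subgroup.zpowers_le]
      exact mem_U_self y le_rfl (by push_cast; omega)
    exact this hu
  have hwB : w ∈ U y (a + 1) (d + 1) := by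
    have : Subgroup.zpowers (y (a + (d + 1 : ℕ))) ≤ U y (a + 1) (d + 1) := by
      rw [Subgroup.zpowers_le]
      exact mem_U_self y (by push_cast; omega) (by push_cast; omega)
    exact this hw
  have huV : u ∈ U y a (d + 2) := hAV huA
  have hwV : w ∈ U y a (d + 2) := hBV hwB
  rw [← GB1b_inter hp h a d hd, Subgroup.mem_inf]
  constructor
  · have h1 : w * u⁻¹ * w⁻¹ ∈ U y a (d + 1) :=
      GB1b_conj_mem hp hAV hV hA hwV (inv_mem huA)
    have : u * w * u⁻¹ * w⁻¹ = u * (w * u⁻¹ * w⁻¹) := by group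
    rw [this]
    exact mul_mem huA h1
  · have h1 : u * w * u⁻¹ ∈ U y (a + 1) (d + 1) :=
      GB1b_conj_mem hp hBV hV hB huV hwB
    exact mul_mem h1 (inv_mem hwB)

end Cfsg.Agent.Helper93.Glaub
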