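-- helper93: piece (GA2) `chain_stable` of helper8's S4359 farm (#13388)
-- (p-version of helper10's `Sims3.E_stable`).
import Cfsg.Agent.Helper8.GlaubDefs

set_option autoImplicit false

namespace Cfsg.Agent.Helper93.Glaub

open Cfsg.Agent.Helper8.Sims3 Cfsg.Agent.Helper8.Glaub Pointwise

variable {G : Type*} [Group G]

/-- conjugating a subgroup of `M` by an element of `M` -/
theorem GA2_conj_le {M K : Subgroup G} {a : G} (ha : a ∈ M) (hK : K ≤ M) :
    MulAut.conj a • K ≤ M := by
  intro x hx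
  rw [mem_conj_smul] at hx
  have h1 : a * (a⁻¹ * x * a) * a⁻¹ ∈ M := M.mul_mem (M.mul_mem ha (hK hx)) (M.inv_mem ha)
  have e : a * (a⁻¹ * x * a) * a⁻¹ = x := by group
  rwa [e] at h1

/-- (GA2) the first time the chain stabilizes it has reached `⊥`. -/
theorem chain_stable [Finite G] {p : ℕ} (hp : p.Prime) {P : Subgroup G} {h : G}
    (hc : Chain p P h)
    (hstep : ∀ (i : ℤ) (m : ℕ), ((E P h i (m + 1)).subgroupOf (E P h (i + 1) m)).Normal ∧
      (Nat.card ↥(E P h (i + 1) m) = Nat.card ↥(E P h i (m + 1)) ∨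
        Nat.card ↥(E P h (i + 1) m) = p * Nat.card ↥(E P h i (m + 1))))
    (j : ℕ) (hstab : E P h 0 (j + 1) = E P h 0 j)
    (hmin : ∀ m, m < j → E P h 0 (m + 1) ≠ E P h 0 m) :
    E P h 0 j = ⊥ := by
  -- basic facts on `D i = E P h 0 i` and `F i = E P h 1 i`
  have hconj : ∀ i : ℕ, MulAut.conj h • E P h 0 i = E P h 1 i := by
    intro i
    rw [smul_E_one, zero_add]
  have hcardF : ∀ i : ℕ, Nat.card ↥(E P h 1 i) = Nat.card ↥(E P h 0 i) := fun i => card_E 1 i
  have hsucc : ∀ i : ℕ, E P h 0 (i + 1) = E P h 0 i ⊓ E P h 1 i := by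
    intro i
    rw [← E_inf, zero_add]
  have hDD : ∀ i : ℕ, E P h 0 (i + 1) ≤ E P h 0 i := fun i =>
    E_anti le_rfl (by push_cast; omega)
  have hDF : ∀ i : ℕ, E P h 0 (i + 1) ≤ E P h 1 i := fun i =>
    E_anti (by omega) (by push_cast; omega)
  have hFF : ∀ i : ℕ, E P h 1 (i + 1) ≤ E P h 1 i := fun i =>
    E_anti le_rfl (by push_cast; omega)
  have hstabF : ∀ i : ℕ, E P h 0 (i + 1) = E P h 0 i → E P h 0 i = E P h 1 i := by
    intro i hi
    have hle : E P h 0 i ≤ E P h 1 i := by
      rw [← hi]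
      exact hDF i
    exact eq_of_le_of_card_le hle (by rw [hcardF])
  have hFstab : ∀ i : ℕ, E P h 0 i = E P h 1 i → E P h 0 (i + 1) = E P h 0 i := by
    intro i hi
    rw [hsucc, ← hi, inf_idem]
  -- `h` normalizes `R = E P h 0 j`
  have hRF : E P h 0 j = E P h 1 j := hstabF j hstab
  have hgR : MulAut.conj h • E P h 0 j = E P h 0 j := by
    rw [hconj, ← hRF]
  set M : Subgroup G := Subgroup.normalizer (E P h 0 j : Set G) with hM
  have hgM : h ∈ M := by
    rw [hM, Subgroup.mem_normalizer_iff'']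
    intro x
    constructor
    · intro hx
      rw [← hgR] at hx
      exact mem_conj_smul.1 hx
    · intro hx
      have := mem_conj_smul.2 hx
      rwa [hgR] at this
  have hgM' : h⁻¹ ∈ M := M.inv_mem hgM
  have hback : ∀ i : ℕ, E P h 1 i ≤ M → E P h 0 i ≤ M := by
    intro i hi
    have e : E P h 0 i = MulAut.conj h⁻¹ • E P h 1 i := by
      rw [← hconj i, map_inv, inv_smul_smul]
    rw [e]
    exact GA2_conj_le hgM' hi
  have hforw : ∀ i : ℕ, E P h 0 i ≤ M → E P h 1 i ≤ M := by
    intro i hi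
    rw [← hconj i]
    exact GA2_conj_le hgM hi
  -- one step down
  have hdown : ∀ i : ℕ, i + 1 ≤ j → E P h 0 (i + 1) ≤ M → E P h 0 i ≤ M := by
    intro i hij hi
    apply hback
    have hne1 : E P h 0 (i + 1) ≠ E P h 0 i := hmin i (by omega)
    obtain ⟨hnorm, hcard⟩ := hstep 0 i
    rw [zero_add] at hnorm hcard
    have hcp : Nat.card ↥(E P h 1 i) = p * Nat.card ↥(E P h 0 (i + 1)) := by
      rcases hcard with hc1 | hc1
      · exfalso
        apply hne1
        exact eq_of_le_of_card_le (hDD i) (by rw [← hcardF, hc1])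
      · exact hc1
    rcases Nat.lt_or_ge (i + 1) j with hlt | hge
    · -- two distinct subgroups of index `p`
      have hne2 : E P h 0 (i + 1) ≠ E P h 1 (i + 1) := by
        intro hcon
        exact hmin (i + 1) hlt (hFstab (i + 1) hcon)
      have hsup : E P h 0 (i + 1) ⊔ E P h 1 (i + 1) = E P h 1 i :=
        sup_eq_of_prime_index hp (hDF i) (hFF i) hne2 (hcardF (i + 1)).symm hcp
      rw [← hsup]
      exact sup_le hi (hforw (i + 1) hi)
    · -- `i + 1 = j`
      have hij' : i + 1 = j := by omega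
      rw [hij'] at hnorm
      have hle : E P h 0 j ≤ E P h 1 i := by
        rw [← hij']
        exact hDF i
      exact (Subgroup.normal_subgroupOf_iff_le_normalizer hle).1 hnorm
  have hall : ∀ k : ℕ, k ≤ j → E P h 0 (j - k) ≤ M := by
    intro k
    induction k with
    | zero =>
      intro _
      exact Subgroup.le_normalizer
    | succ k ih =>
      intro hk
      have h1 := ih (by omega)
      have e : j - k = (j - (k + 1)) + 1 := by omega
      rw [e] at h1
      exact hdown (j - (k + 1)) (by omega) h1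
  have hPM : P ≤ M := by
    have := hall j le_rfl
    rwa [Nat.sub_self, E_zero_zero] at this
  -- `R` is a normal subgroup of `P` normalized by `h`
  have hRP : E P h 0 j ≤ P := by
    have : E P h 0 j ≤ E P h 0 0 := E_anti le_rfl (by push_cast; omega)
    rwa [E_zero_zero] at this
  exact hc.noinv _ hRP ((Subgroup.normal_subgroupOf_iff_le_normalizer hRP).2 hPM) hgR

end Cfsg.Agent.Helper93.Glaub
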