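import Mathlib
import Cfsg.Agent.Helper12.PrimeDegNormalizer

set_option autoImplicit false

open Equiv Equiv.Perm MulAction Subgroup
open scoped Nat

namespace Cfsg.Agent.Helper93.HallSym

/-! ### 2-adic valuations of factorials -/

theorem padicValNat_two_factorial_two_pow (k : ℕ) : padicValNat 2 (2 ^ k)! = 2 ^ k - 1 := by
  induction k with
  | zero => simp
  | succ k ih =>
    rw [pow_succ, mul_comm, padicValNat_factorial_mul, ih]
    have : 1 ≤ 2 ^ k := Nat.one_le_two_pow
    omega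

theorem padicValNat_two_factorial_two_pow_succ (k : ℕ) (hk : 1 ≤ k) :
    padicValNat 2 (2 ^ k + 1)! = 2 ^ k - 1 := by
  obtain ⟨j, rfl⟩ : ∃ j, k = j + 1 := ⟨k - 1, by omega⟩
  have h := padicValNat_factorial_mul_add (p := 2) (n := 1) (2 ^ j) (by norm_num)
  have e : 2 * 2 ^ j = 2 ^ (j + 1) := by rw [pow_succ, mul_comm]
  rw [e] at h
  rw [h, padicValNat_two_factorial_two_pow]

/-! ### orders of `2` modulo `2^k ± 1` -/

theorem two_mul_dvd_of_pow_modEq_one {k t : ℕ} (hk : 1 ≤ k) (h : 2 ^ t ≡ 1 [MOD 2 ^ k + 1]) :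
    2 * k ∣ t := by
  have h2k : 2 ^ (2 * k) ≡ 1 [MOD 2 ^ k + 1] := by
    have e : 2 ^ (2 * k) = (2 ^ k + 1) * (2 ^ k - 1) + 1 := by
      have h1 : 1 ≤ 2 ^ k := Nat.one_le_two_pow
      obtain ⟨w, hw⟩ : ∃ w, 2 ^ k = w + 1 := ⟨2 ^ k - 1, by omega⟩
      rw [two_mul, pow_add, hw]
      simp only [Nat.add_sub_cancel]
      ring
    rw [e]
    exact (Nat.modEq_iff_dvd' (by omega)).mpr (by simp) |>.symm
  have hu : 2 ^ (t % (2 * k)) ≡ 1 [MOD 2 ^ k + 1] := by
    have e : t = 2 * k * (t / (2 * k)) + t % (2 * k) := (Nat.div_add_mod t (2 * k)).symm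
    have h3 : 2 ^ t ≡ 2 ^ (t % (2 * k)) [MOD 2 ^ k + 1] := by
      conv_lhs => rw [e, pow_add, pow_mul]
      have := (h2k.pow (t / (2 * k))).mul_right (2 ^ (t % (2 * k)))
      simpa using this
    exact h3.symm.trans h
  have hlt : t % (2 * k) < 2 * k := Nat.mod_lt _ (by omega)
  set u := t % (2 * k) with hu_def
  have hu0 : u = 0 := by
    by_contra hne
    rcases Nat.lt_or_ge k u with hku | hku
    · -- k < u < 2k
      have e : 2 ^ u + 2 ^ (u - k) = 2 ^ (u - k) * (2 ^ k + 1) := by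
        have : u = (u - k) + k := by omega
        conv_lhs => rw [this, pow_add]
        simp only [Nat.add_sub_cancel]
        ring
      have h4 : 2 ^ u + 2 ^ (u - k) ≡ 0 [MOD 2 ^ k + 1] := by
        rw [e]
        exact (Nat.modEq_zero_iff_dvd).mpr (Dvd.intro_left _ rfl)
      have h5 : 1 + 2 ^ (u - k) ≡ 0 [MOD 2 ^ k + 1] :=
        (hu.symm.add_right _).trans h4
      have h6 : 2 ^ k + 1 ∣ 1 + 2 ^ (u - k) := (Nat.modEq_zero_iff_dvd).mp h5
      have h7 : 2 ^ (u - k) < 2 ^ k := Nat.pow_lt_pow_right (by norm_num) (by omega)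
      have h8 := Nat.le_of_dvd (by positivity) h6
      omega
    · -- 0 < u ≤ k
      have h7 : 2 ^ u ≤ 2 ^ k := Nat.pow_le_pow_right (by norm_num) hku
      have h8 : 2 ^ u = 1 := by
        have := Nat.ModEq.eq_of_lt_of_lt hu (by omega) (by
          have : 1 ≤ 2 ^ k := Nat.one_le_two_pow
          omega)
        exact this
      have h9 : 2 ^ 1 ≤ 2 ^ u := Nat.pow_le_pow_right (by norm_num) (by omega)
      omega
  exact Nat.dvd_of_mod_eq_zero hu0

theorem dvd_of_pow_modEq_one_sub {k t : ℕ} (hk : 2 ≤ k) (h : 2 ^ t ≡ 1 [MOD 2 ^ k - 1]) :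
    k ∣ t := by
  have h1 : 2 ^ 2 ≤ 2 ^ k := Nat.pow_le_pow_right (by norm_num) hk
  have hk1 : 2 ^ k ≡ 1 [MOD 2 ^ k - 1] := by
    have e : 2 ^ k = (2 ^ k - 1) + 1 := by omega
    conv_lhs => rw [e]
    exact (Nat.modEq_iff_dvd' (by omega)).mpr (by simp) |>.symm
  have hu : 2 ^ (t % k) ≡ 1 [MOD 2 ^ k - 1] := by
    have e : t = k * (t / k) + t % k := (Nat.div_add_mod t k).symm
    have h3 : 2 ^ t ≡ 2 ^ (t % k) [MOD 2 ^ k - 1] := by
      conv_lhs => rw [e, pow_add, pow_mul]
      have := (hk1.pow (t / k)).mul_right (2 ^ (t % k))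
      simpa using this
    exact h3.symm.trans h
  have hlt : t % k < k := Nat.mod_lt _ (by omega)
  set u := t % k with hu_def
  have hu0 : u = 0 := by
    by_contra hne
    have h7 : 2 ^ u ≤ 2 ^ (k - 1) := Nat.pow_le_pow_right (by norm_num) (by omega)
    have h7' : 2 * 2 ^ (k - 1) = 2 ^ k := by
      have : k = (k - 1) + 1 := by omega
      conv_rhs => rw [this, pow_succ]
      ring
    have h8 : 2 ^ u = 1 := Nat.ModEq.eq_of_lt_of_lt hu (by omega) (by omega)
    have h9 : 2 ^ 1 ≤ 2 ^ u := Nat.pow_le_pow_right (by norm_num) (by omega)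
    omega
  exact Nat.dvd_of_mod_eq_zero hu0


/-! ### Sylow counting in prime degree -/

/-- A transitive group of prime degree `p` and order `2 ^ b * p`: the number of Sylow
`p`-subgroups is `2 ^ (b - c)` with `2 ^ c ∣ p - 1`; and `c = 0` forces `b = 0`. -/
theorem sylow_count {β : Type*} [Fintype β] [DecidableEq β] {p : ℕ} [hp : Fact p.Prime]
    (hβ : Fintype.card β = p) (G : Subgroup (Perm β)) [IsPretransitive G β] (b : ℕ)
    (hG : Nat.card G = 2 ^ b * p) (hp2 : p ≠ 2) :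
    ∃ c, c ≤ b ∧ 2 ^ c ∣ p - 1 ∧ 2 ^ (b - c) ≡ 1 [MOD p] ∧ (c = 0 → b = 0) := by
  have hpp : p.Prime := hp.out
  have P : Sylow p G := default
  obtain ⟨hP, he, hN⟩ := Cfsg.Agent.Helper12.PDNorm.card_normalizer hβ G P
  set e := ((P : Subgroup G).subgroupOf (normalizer ((P : Subgroup G) : Set G))).index with he_def
  have h1 := (normalizer ((P : Subgroup G) : Set G)).card_mul_index
  have h0 : Nat.card (Sylow p G) = (normalizer ((P : Subgroup G) : Set G)).index :=
    Sylow.card_eq_index_normalizer P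
  rw [hN, hG, ← h0] at h1
  -- p * e * n_p = 2 ^ b * p
  have h2 : e * Nat.card (Sylow p G) = 2 ^ b := by
    have : p * (e * Nat.card (Sylow p G)) = p * 2 ^ b := by rw [← mul_assoc, h1, mul_comm]
    exact Nat.eq_of_mul_eq_mul_left hpp.pos this
  obtain ⟨c, hcb, hc⟩ := (Nat.dvd_prime_pow Nat.prime_two).mp (Dvd.intro _ h2)
  have h3 : Nat.card (Sylow p G) = 2 ^ (b - c) := by
    rw [hc] at h2
    have : 2 ^ c * Nat.card (Sylow p G) = 2 ^ c * 2 ^ (b - c) := by
      rw [h2, ← pow_add]; congr 1; omega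
    exact Nat.eq_of_mul_eq_mul_left (by positivity) this
  refine ⟨c, hcb, hc ▸ he, h3 ▸ card_sylow_modEq_one p G, ?_⟩
  intro hc0
  rw [hc0, pow_zero] at hc
  -- `N = P`
  have hNP : normalizer ((P : Subgroup G) : Set G) ≤ (P : Subgroup G) := by
    have h4 : (P : Subgroup G).subgroupOf (normalizer ((P : Subgroup G) : Set G)) = ⊤ :=
      Subgroup.index_eq_one.mp hc
    exact Subgroup.subgroupOf_eq_top.mp h4
  have : IsCyclic (P : Subgroup G) := isCyclic_of_prime_card hP
  have hPc : (P : Subgroup G) ≤ centralizer ((P : Subgroup G) : Set G) := by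
    intro g hg
    rw [Subgroup.mem_centralizer_iff]
    intro h hh
    have := mul_comm' (⟨h, hh⟩ : (P : Subgroup G)) ⟨g, hg⟩
    exact congrArg Subtype.val this
  have hNC : normalizer ((P : Subgroup G) : Set G) ≤ centralizer ((P : Subgroup G) : Set G) :=
    hNP.trans hPc
  have hcompl := MonoidHom.ker_transferSylow_isComplement' P hNC
  set K := (MonoidHom.transferSylow P hNC).ker with hK
  have hKcard : Nat.card K = 2 ^ b := by
    have h5 := hcompl.card_mul_card
    rw [hP, hG] at h5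
    exact Nat.eq_of_mul_eq_mul_right hpp.pos h5
  -- `K` is a normal 2-group, hence trivial
  have hK2 : IsPGroup 2 K := IsPGroup.of_card hKcard
  have hodd : ¬ 2 ∣ Fintype.card β := by
    rw [hβ]
    intro h
    exact hp2 ((Nat.prime_dvd_prime_iff_eq Nat.prime_two hpp).mp h).symm
  obtain ⟨y₀, hy₀⟩ := hK2.nonempty_fixed_point_of_prime_not_dvd_card β (by
    rw [Nat.card_eq_fintype_card]; exact hodd)
  have hKbot : K = ⊥ := by
    rw [Subgroup.eq_bot_iff_forall]
    intro k hk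
    apply Subtype.ext
    apply Equiv.Perm.ext
    intro y
    obtain ⟨g, hg⟩ := exists_smul_eq G y₀ y
    have hn : g⁻¹ * k * g ∈ K := by
      have := (inferInstance : K.Normal).conj_mem k hk g⁻¹
      simpa using this
    have h6 : (⟨g⁻¹ * k * g, hn⟩ : K) • y₀ = y₀ := hy₀ ⟨_, hn⟩
    have h7 : (g⁻¹ * k * g) • y₀ = y₀ := h6
    rw [mul_smul, mul_smul, hg, inv_smul_eq_iff, hg] at h7
    exact h7
  rw [hKbot, Subgroup.card_bot] at hKcard
  by_contra hb
  have : 2 ^ 1 ≤ 2 ^ b := Nat.pow_le_pow_right (by norm_num) (by omega)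
  omega


/-! ### the order of a doubly transitive group -/

theorem two_transitive_dvd_card {α : Type*} [Fintype α] [DecidableEq α] (M : Subgroup (Perm α))
    (h2t : IsMultiplyPretransitive M α 2) (hd : 2 ≤ Fintype.card α) :
    Fintype.card α * (Fintype.card α - 1) ∣ Nat.card M := by
  obtain ⟨x, y, hxy⟩ := Fintype.exists_pair_of_one_lt_card (by omega : 1 < Fintype.card α)
  have hs : ({x, y} : Set α).ncard = 2 := Set.ncard_pair hxy
  have h := h2t.index_of_fixingSubgroup_mul hs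
  rw [Nat.card_eq_fintype_card] at h
  obtain ⟨n, hn⟩ : ∃ n, Fintype.card α = n + 2 := ⟨Fintype.card α - 2, by omega⟩
  rw [hn] at h ⊢
  have e : (n + 2)! = (n + 2) * (n + 1) * n ! := by
    rw [Nat.factorial_succ, Nat.factorial_succ]; ring
  rw [e] at h
  simp only [Nat.add_sub_cancel] at h ⊢
  have h' : (fixingSubgroup M ({x, y} : Set α)).index = (n + 2) * (n + 1) :=
    Nat.eq_of_mul_eq_mul_right (Nat.factorial_pos n) h
  have e2 : n + 2 - 1 = n + 1 := by omega
  rw [e2, ← h']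
  exact Subgroup.index_dvd_card _

end Cfsg.Agent.Helper93.HallSym
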