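import Mathlib
import Cfsg.Agent.Helper30.HallSym.Defs
import Cfsg.Agent.Helper93.HallSymCore

set_option autoImplicit false
open Equiv Equiv.Perm MulAction Subgroup Cfsg Cfsg.Agent.Helper30.HallSym
open scoped Nat Pointwise
universe u

namespace Cfsg.Agent.Helper93.HallSym

/-- the alternating group of degree 5 has no subgroup of order 20. -/
theorem no_card_twenty {α : Type u} [Fintype α] [DecidableEq α] (M : Subgroup (Perm α))
    (hle : M ≤ alternatingGroup α) (h5 : Fintype.card α = 5) (hM : Nat.card M = 20) : False := by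
  have hsimple : IsSimpleGroup (alternatingGroup α) :=
    alternatingGroup.isSimpleGroup (by rw [Nat.card_eq_fintype_card, h5])
  have hnt : Nontrivial α := Fintype.one_lt_card_iff_nontrivial.mp (by omega)
  have hA : Nat.card (alternatingGroup α) = 60 := by
    have h := two_mul_nat_card_alternatingGroup (α := α)
    rw [Nat.card_eq_fintype_card (α := Perm α), Fintype.card_perm, h5] at h
    have : (5 : ℕ)! = 120 := by decide
    omega
  set H : Subgroup (alternatingGroup α) := M.subgroupOf (alternatingGroup α) with hH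
  have hHcard : Nat.card H = 20 := by
    rw [← hM]
    exact Nat.card_congr (Subgroup.subgroupOfEquivOfLe hle).toEquiv
  have hidx : H.index = 3 := by
    have h := H.card_mul_index
    rw [hHcard, hA] at h
    omega
  have hker : (MulAction.toPermHom (alternatingGroup α) ((alternatingGroup α) ⧸ H)).ker = ⊥ := by
    rw [← Subgroup.normalCore_eq_ker]
    rcases hsimple.eq_bot_or_eq_top_of_normal H.normalCore inferInstance with h | h
    · exact h
    · exfalso
      have h1 : H = ⊤ := top_le_iff.mp (h ▸ Subgroup.normalCore_le H)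
      rw [h1, Subgroup.index_top] at hidx
      omega
  have hinj : Function.Injective
      (MulAction.toPermHom (alternatingGroup α) ((alternatingGroup α) ⧸ H)) :=
    (MonoidHom.ker_eq_bot_iff _).mp hker
  have hfin : Finite ((alternatingGroup α) ⧸ H) :=
    Subgroup.finite_quotient_of_finiteIndex
  have hdvd := Subgroup.card_dvd_of_injective _ hinj
  rw [hA, Nat.card_perm, ← Subgroup.index_eq_card, hidx] at hdvd
  have : (3 : ℕ)! = 6 := by decide
  omega

/-- **(A-6)** -/
theorem no_two_transitive_fermat {α : Type u} [Fintype α] [DecidableEq α] (M : Subgroup (Perm α))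
    (hle : M ≤ alternatingGroup α) (h2t : IsMultiplyPretransitive M α 2)
    (hd5 : 5 ≤ Fintype.card α) (hdp : (Fintype.card α).Prime)
    (hcard : Nat.card M = 2 ^ (padicValNat 2 (Fintype.card α)! - 1) * Fintype.card α) :
    False := by
  have h1 := two_transitive_dvd_card M h2t (by omega)
  rw [hcard, mul_comm (2 ^ _) _] at h1
  have h2 : Fintype.card α - 1 ∣ 2 ^ (padicValNat 2 (Fintype.card α)! - 1) :=
    Nat.dvd_of_mul_dvd_mul_left (by omega) h1
  obtain ⟨k, -, hk⟩ := (Nat.dvd_prime_pow Nat.prime_two).mp h2
  have hd : Fintype.card α = 2 ^ k + 1 := by omega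
  have hk2 : 2 ≤ k := by
    by_contra hlt
    have : k = 0 ∨ k = 1 := by omega
    rcases this with rfl | rfl <;> simp at hd <;> omega
  have hv : padicValNat 2 (Fintype.card α)! = 2 ^ k - 1 := by
    rw [hd]; exact padicValNat_two_factorial_two_pow_succ k (by omega)
  rw [hv] at hcard
  have h4 : 2 ^ 2 ≤ 2 ^ k := Nat.pow_le_pow_right (by norm_num) hk2
  rcases Nat.eq_or_lt_of_le hk2 with hk2' | hk3
  · -- d = 5
    subst hk2'
    have h5 : Fintype.card α = 5 := by rw [hd]; norm_num
    refine no_card_twenty M hle h5 ?_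
    rw [hcard, h5]; norm_num
  · -- k ≥ 3
    have : Fact (Fintype.card α).Prime := ⟨hdp⟩
    have : IsPretransitive M α := isPretransitive_of_is_two_pretransitive (h2 := h2t)
    obtain ⟨c, hca, hc, hmod, -⟩ := sylow_count (p := Fintype.card α) rfl M (2 ^ k - 1 - 1) hcard
      (by omega)
    have hck : c ≤ k := by
      rw [hk] at hc
      exact (Nat.pow_dvd_pow_iff_le_right (by norm_num)).mp hc
    rw [hd] at hmod
    have hdvd := two_mul_dvd_of_pow_modEq_one (by omega) hmod
    obtain ⟨m, hm⟩ := Nat.pow_of_pow_add_prime (a := 2) (n := k) (by norm_num) (by omega)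
      (hd ▸ hdp)
    have hm2 : 2 ≤ m := by
      by_contra hlt
      have : m = 0 ∨ m = 1 := by omega
      rcases this with rfl | rfl <;> simp at hm <;> omega
    have hmk : m + 1 ≤ k := by
      rw [hm]
      have : m < 2 ^ m := Nat.lt_two_pow_self
      omega
    have h2k : 2 * k ∣ 2 ^ k := by
      rw [hm, ← pow_succ']
      apply pow_dvd_pow
      rw [← hm]; exact hmk
    have h5 : 2 * k ∣ 2 + c := by
      have e : 2 ^ k = (2 ^ k - 1 - 1 - c) + (2 + c) := by omega
      rw [e] at h2k
      exact (Nat.dvd_add_right hdvd).mp h2k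
    have := Nat.le_of_dvd (by omega) h5
    omega

end Cfsg.Agent.Helper93.HallSym
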