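import Mathlib
import Cfsg.Agent.Helper30.HallSym.Defs
import Cfsg.Agent.Helper93.HallSymCore

set_option autoImplicit false
open Equiv Equiv.Perm MulAction Subgroup Cfsg Cfsg.Agent.Helper30.HallSym
open scoped Nat Pointwise
universe u

namespace Cfsg.Agent.Helper93.HallSym

/-- Fermat's little theorem for the base `2`, in divisibility form. -/
theorem prime_dvd_two_pow_sub_two {k : ℕ} (hk : k.Prime) : k ∣ 2 ^ k - 2 := by
  have : Fact k.Prime := ⟨hk⟩
  have h : ((2 ^ k : ℕ) : ZMod k) = ((2 : ℕ) : ZMod k) := by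
    push_cast
    exact ZMod.pow_card 2
  have h2 : 2 ≡ 2 ^ k [MOD k] := ((ZMod.natCast_eq_natCast_iff _ _ _).mp h).symm
  have h3 : 2 ^ 1 ≤ 2 ^ k := Nat.pow_le_pow_right (by norm_num) hk.one_lt.le
  exact (Nat.modEq_iff_dvd' (by omega)).mp h2

/-- the point stabilizer of a doubly transitive group, as a transitive permutation group on the
remaining points. -/
theorem exists_stabilizer_perm {α : Type u} [Fintype α] [DecidableEq α] (M : Subgroup (Perm α))
    (h2t : IsMultiplyPretransitive M α 2) (hd : 2 ≤ Fintype.card α) :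
    ∃ (β : Type u) (_ : Fintype β) (_ : DecidableEq β) (G : Subgroup (Perm β)),
      Fintype.card β = Fintype.card α - 1 ∧ IsPretransitive G β ∧
      Nat.card G * Fintype.card α = Nat.card M := by
  classical
  have htr : IsPretransitive M α := isPretransitive_of_is_two_pretransitive (h2 := h2t)
  obtain ⟨x⟩ : Nonempty α := Fintype.card_pos_iff.mp (by omega)
  set H := stabilizer M x with hH
  set S := SubMulAction.ofStabilizer M x with hS
  have htrS : IsPretransitive H S := by
    have h := (SubMulAction.ofStabilizer.isMultiplyPretransitive (G := M) (α := α) (n := 1)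
      (a := x)).mp h2t
    exact is_one_pretransitive_iff.mp h
  set f : H →* Perm S := MulAction.toPermHom H S with hf
  have hinj : Function.Injective f := by
    rw [← MonoidHom.ker_eq_bot_iff, Subgroup.eq_bot_iff_forall]
    intro h hh
    rw [MonoidHom.mem_ker] at hh
    apply Subtype.ext
    apply Subtype.ext
    apply Equiv.Perm.ext
    intro y
    by_cases hy : y = x
    · subst hy
      have := h.2
      rw [mem_stabilizer_iff] at this
      exact this
    · have hyS : y ∈ S := (SubMulAction.mem_ofStabilizer_iff M x).mpr hy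
      have h1 := congrArg (fun σ : Perm S => ((σ ⟨y, hyS⟩ : S) : α)) hh
      exact h1
  refine ⟨S, inferInstance, inferInstance, f.range, ?_, ?_, ?_⟩
  · rw [← Nat.card_eq_fintype_card, ← Nat.card_eq_fintype_card]
    exact SubMulAction.nat_card_ofStabilizer_eq M x
  · constructor
    intro y z
    obtain ⟨h, hh⟩ := htrS.exists_smul_eq y z
    exact ⟨⟨f h, ⟨h, rfl⟩⟩, hh⟩
  · have h1 : Nat.card f.range = Nat.card H :=
      (Nat.card_congr (MonoidHom.ofInjective hinj).toEquiv).symm
    rw [h1, ← Nat.card_eq_fintype_card, ← index_stabilizer_of_transitive M x]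
    exact H.card_mul_index

/-- **(A-7)** -/
theorem no_two_transitive_mersenne {α : Type u} [Fintype α] [DecidableEq α]
    (M : Subgroup (Perm α)) (hle : M ≤ alternatingGroup α)
    (h2t : IsMultiplyPretransitive M α 2) (hd5 : 5 ≤ Fintype.card α)
    (hdp : (Fintype.card α - 1).Prime)
    (hcard : Nat.card M = 2 ^ (padicValNat 2 (Fintype.card α)! - 1) * (Fintype.card α - 1)) :
    False := by
  have h1 := two_transitive_dvd_card M h2t (by omega)
  rw [hcard] at h1
  have h2 : Fintype.card α ∣ 2 ^ (padicValNat 2 (Fintype.card α)! - 1) :=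
    Nat.dvd_of_mul_dvd_mul_right (by omega) h1
  obtain ⟨k, -, hk⟩ := (Nat.dvd_prime_pow Nat.prime_two).mp h2
  have hk3 : 3 ≤ k := by
    by_contra hlt
    have : k = 0 ∨ k = 1 ∨ k = 2 := by omega
    rcases this with rfl | rfl | rfl <;> simp at hk <;> omega
  have h8 : 2 ^ 3 ≤ 2 ^ k := Nat.pow_le_pow_right (by norm_num) hk3
  have hkk : k + 3 ≤ 2 ^ k := by
    have h5 : ∀ n, 3 ≤ n → n + 3 ≤ 2 ^ n := by
      intro n hn
      induction n, hn using Nat.le_induction with
      | base => norm_num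
      | succ n hn ih => rw [pow_succ]; omega
    exact h5 k hk3
  have hv : padicValNat 2 (Fintype.card α)! = 2 ^ k - 1 := by
    rw [hk]; exact padicValNat_two_factorial_two_pow k
  rw [hv] at hcard
  rw [hk] at hdp hcard
  have hkp : k.Prime := (Nat.prime_of_pow_sub_one_prime (by omega) hdp).2
  obtain ⟨β, hβ1, hβ2, G, hβ, htr, hG⟩ := exists_stabilizer_perm M h2t (by omega)
  rw [hk] at hβ hG
  have : Fact (2 ^ k - 1).Prime := ⟨hdp⟩
  -- the order of `G`
  have hGcard : Nat.card G = 2 ^ (2 ^ k - 1 - 1 - k) * (2 ^ k - 1) := by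
    rw [hcard] at hG
    have e : 2 ^ (2 ^ k - 1 - 1) = 2 ^ (2 ^ k - 1 - 1 - k) * 2 ^ k := by
      rw [← pow_add]; congr 1
      omega
    rw [e] at hG
    have h3 : Nat.card G * 2 ^ k = (2 ^ (2 ^ k - 1 - 1 - k) * (2 ^ k - 1)) * 2 ^ k := by
      rw [hG]; ring
    exact Nat.eq_of_mul_eq_mul_right (by positivity) h3
  obtain ⟨c, hcb, hc, hmod, hc0⟩ := sylow_count (p := 2 ^ k - 1) hβ G (2 ^ k - 1 - 1 - k) hGcard
    (by omega)
  -- `c ≤ 1`
  have hc1 : c ≤ 1 := by
    by_contra hlt
    have h4 : 2 ^ 2 ∣ 2 ^ k - 1 - 1 := (pow_dvd_pow 2 (by omega : 2 ≤ c)).trans hc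
    have e : 2 ^ k = 2 ^ 2 * 2 ^ (k - 2) := by rw [← pow_add]; congr 1; omega
    have h5 : 2 ^ 2 ∣ 2 ^ k := Dvd.intro _ e.symm
    have h6 : 2 ^ 2 ∣ 2 := by
      have e2 : 2 ^ k = (2 ^ k - 1 - 1) + 2 := by omega
      rw [e2] at h5
      exact (Nat.dvd_add_right h4).mp h5
    have := Nat.le_of_dvd (by norm_num) h6
    omega
  have hdvd := dvd_of_pow_modEq_one_sub (by omega) hmod
  have hF := prime_dvd_two_pow_sub_two hkp
  -- `k ∣ c`
  have hkc : k ∣ k + c := by
    have e : 2 ^ k - 2 = (2 ^ k - 1 - 1 - k - c) + (k + c) := by omega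
    rw [e] at hF
    exact (Nat.dvd_add_right hdvd).mp hF
  have hkc' : k ∣ c := (Nat.dvd_add_right dvd_rfl).mp hkc
  have hc00 : c = 0 := by
    by_contra hne
    have := Nat.le_of_dvd (by omega) hkc'
    omega
  have := hc0 hc00
  omega

end Cfsg.Agent.Helper93.HallSym
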