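import Cfsg.Agent.Helper6.SzChar0
import Cfsg.Agent.Helper75.FrobeniusClasses
import Cfsg.Agent.Helper74.CharCount

/-!
# Piece [FA] of helper6's skeleton for S4775: the class number of the Frobenius group
-/

set_option autoImplicit false

namespace Cfsg.Agent.Helper93.Szc

open Cfsg Cfsg.Agent.Helper6
open scoped ComplexConjugate

universe u

section Frob

variable {X : Type u} [Group X] [Fintype X] {K H : Subgroup X} {T : ℕ}

omit [Fintype X] in
/-- a subgroup whose elements commute has as many classes as elements -/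
theorem card_conjClasses_of_comm (H : Subgroup X) (hcomm : ∀ a ∈ H, ∀ b ∈ H, a * b = b * a) :
    Nat.card (ConjClasses H) = Nat.card H := by
  symm
  apply Nat.card_congr
  refine Equiv.ofBijective ConjClasses.mk ⟨?_, ConjClasses.mk_surjective⟩
  intro a b hab
  rw [ConjClasses.mk_eq_mk_iff_isConj, isConj_iff] at hab
  obtain ⟨c, hc⟩ := hab
  have h1 : c * a = a * c := Subtype.ext (hcomm c c.2 a a.2)
  rw [h1, mul_assoc, mul_inv_cancel, mul_one] at hc
  exact hc

/-- FA: the class number of the Frobenius group -/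
theorem szc_frob_card_irr (D : FrobHyp K H T) : Nat.card (IrrCharacter X) = 2 * T ^ 2 + 2 := by
  have := D.normal
  rw [Cfsg.Agent.Helper74.card_irr_eq_card_conjClasses]
  have h1 := Cfsg.Agent.Helper75.cl_class_number D.inf D.sup D.fpf
  rw [card_conjClasses_of_comm H D.comm, D.cardH, D.classes] at h1
  obtain ⟨m, hm, hT⟩ := D.pow
  have hT2 : 2 ≤ T := by
    rw [hT]
    calc 2 = 2 ^ 1 := by norm_num
      _ ≤ 2 ^ m := Nat.pow_le_pow_right (by norm_num) hm
  have hq : 8 ≤ 2 * T ^ 2 := by nlinarith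
  generalize 2 * T ^ 2 = q at h1 hq ⊢
  generalize Nat.card (ConjClasses X) = k at h1 ⊢
  obtain ⟨n, rfl⟩ : ∃ n, q = n + 1 := ⟨q - 1, by omega⟩
  have e1 : n + 1 - 1 = n := by omega
  have e2 : 3 * (n + 1) - 2 = 3 * n + 1 := by omega
  rw [e1, e2] at h1
  have h2 : n * k = n * (n + 3) := by nlinarith
  have hn : 0 < n := by omega
  have := Nat.eq_of_mul_eq_mul_left hn h2
  omega

end Frob

end Cfsg.Agent.Helper93.Szc
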