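import Cfsg.Agent.Helper6.SzChar0
import Cfsg.Agent.Helper80.Pullback
import Cfsg.Agent.Helper74.CharCount
import Cfsg.Agent.Helper76.CharCentral

/-!
# Piece [FB] of helper6's skeleton for S4775: the irreducible characters trivial on the kernel
-/

set_option autoImplicit false

namespace Cfsg.Agent.Helper93.Szc

open Cfsg Cfsg.Agent.Helper6
open scoped ComplexConjugate

universe u

section Frob

variable {X : Type u} [Group X] [Fintype X] {K H : Subgroup X} {T : ℕ}

omit [Fintype X] in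
/-- every element of the quotient by the kernel comes from the complement -/
theorem exists_mk_of_sup_eq_top (K H : Subgroup X) [hK : K.Normal] (hsup : K ⊔ H = ⊤)
    (a : X ⧸ K) : ∃ h : H, (QuotientGroup.mk (h : X) : X ⧸ K) = a := by
  obtain ⟨x, rfl⟩ := QuotientGroup.mk_surjective a
  have hx : x ∈ ((K ⊔ H : Subgroup X) : Set X) := by rw [hsup]; trivial
  rw [Subgroup.normal_mul] at hx
  obtain ⟨k, hk, h, hh, rfl⟩ := Set.mem_mul.mp hx
  refine ⟨⟨h, hh⟩, ?_⟩
  rw [QuotientGroup.mk_mul, (QuotientGroup.eq_one_iff k).mpr hk, one_mul]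

/-- FB: the irreducible characters trivial on the kernel -/
theorem szc_frob_lin (D : FrobHyp K H T) :
    (∀ β : X → ℂ, IsIrrCharacter X β → (∀ n ∈ K, β n = β 1) → β 1 = 1) ∧
    Nat.card {β : IrrCharacter X // ∀ n ∈ K, (β : X → ℂ) n = (β : X → ℂ) 1} = 2 * T ^ 2 - 1 := by
  have hKn := D.normal
  have hsurj := exists_mk_of_sup_eq_top K H D.sup
  have hcomm : ∀ a b : X ⧸ K, a * b = b * a := by
    intro a b
    obtain ⟨h, rfl⟩ := hsurj a
    obtain ⟨h', rfl⟩ := hsurj b
    rw [← QuotientGroup.mk_mul, ← QuotientGroup.mk_mul, D.comm h h.2 h' h'.2]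
  constructor
  · intro β hβ hK
    obtain ⟨ψ, hψ⟩ := (Cfsg.Agent.Helper80.irrQuotientEquiv K).surjective ⟨⟨β, hβ⟩, hK⟩
    have h1 := Cfsg.Agent.Helper80.irrQuotientEquiv_apply K ψ 1
    rw [hψ] at h1
    change β 1 = _ at h1
    rw [h1]
    exact Cfsg.Agent.Helper76.irr_one_of_comm hcomm ψ.2
  · rw [← Nat.card_congr (Cfsg.Agent.Helper80.irrQuotientEquiv K),
      Cfsg.Agent.Helper74.card_irr_eq_card_conjClasses]
    have h1 : Nat.card (ConjClasses (X ⧸ K)) = Nat.card (X ⧸ K) := by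
      symm
      apply Nat.card_congr
      refine Equiv.ofBijective ConjClasses.mk ⟨?_, ConjClasses.mk_surjective⟩
      intro a b hab
      rw [ConjClasses.mk_eq_mk_iff_isConj, isConj_iff] at hab
      obtain ⟨c, hc⟩ := hab
      rw [hcomm c a, mul_assoc, mul_inv_cancel, mul_one] at hc
      exact hc
    rw [h1, ← D.cardH]
    symm
    apply Nat.card_congr
    refine Equiv.ofBijective (fun h : H => (QuotientGroup.mk (h : X) : X ⧸ K)) ⟨?_, hsurj⟩
    intro a b hab
    have h2 : (a : X)⁻¹ * (b : X) ∈ K := QuotientGroup.eq.mp hab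
    have h3 : (a : X)⁻¹ * (b : X) ∈ H := H.mul_mem (H.inv_mem a.2) b.2
    have h4 : (a : X)⁻¹ * (b : X) ∈ K ⊓ H := ⟨h2, h3⟩
    rw [D.inf, Subgroup.mem_bot] at h4
    apply Subtype.ext
    exact inv_mul_eq_one.mp h4

end Frob

end Cfsg.Agent.Helper93.Szc
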