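import Mathlib
import Cfsg.Agent.Helper35.Asch.Defs

/-!
# (T), (U), (S1) of helper35's #8405 (S3401, Aschbacher)
-/

set_option autoImplicit false
set_option linter.unusedSectionVars false
set_option linter.unusedVariables false

namespace Cfsg.Agent.Helper93.Asch

open MulAction Cfsg.Agent.Helper35.Asch

variable {G : Type*} [Group G] [Finite G] {Ω : Type*} [Fintype Ω] [MulAction G Ω]

/-- (T) a nontrivial normal subgroup of a faithful 2-transitive group is transitive. -/
theorem trans_of_normal [FaithfulSMul G Ω] (h2 : TwoTrans (⊤ : Subgroup G) Ω)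
    (N : Subgroup G) [N.Normal] (hN : N ≠ ⊥) : Trans N Ω := by
  obtain ⟨x, hx1⟩ := (Subgroup.ne_bot_iff_exists_ne_one.1 hN)
  have hx1' : (x : G) ≠ 1 := fun h => hx1 (Subtype.ext h)
  have hmove : ∃ a₀ : Ω, (x : G) • a₀ ≠ a₀ := by
    by_contra hcon
    push Not at hcon
    apply hx1'
    apply FaithfulSMul.eq_of_smul_eq_smul (α := Ω)
    intro a
    rw [hcon a, one_smul]
  obtain ⟨a₀, ha₀⟩ := hmove
  intro a b
  by_cases hab : a = b
  · exact ⟨1, N.one_mem, by rw [one_smul, hab]⟩
  · obtain ⟨g, -, hg1, hg2⟩ := h2 (Ne.symm ha₀) hab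
    refine ⟨g * x * g⁻¹, ‹N.Normal›.conj_mem _ x.2 g, ?_⟩
    rw [mul_smul, mul_smul, ← hg1, inv_smul_smul]
    exact hg2

/-- (U) there is a unique minimal normal subgroup, given that centralizers of nontrivial normal
subgroups are trivial. -/
theorem exists_min_normal_of_centralizer [Nontrivial G]
    (hC : ∀ N : Subgroup G, N.Normal → N ≠ ⊥ → Subgroup.centralizer (N : Set G) = ⊥) :
    ∃ M : Subgroup G, M.Normal ∧ M ≠ ⊥ ∧ ∀ N : Subgroup G, N.Normal → N ≠ ⊥ → M ≤ N := by
  let S : Set (Subgroup G) := {M | M.Normal ∧ M ≠ ⊥}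
  have hne : S.Nonempty := ⟨⊤, inferInstance, top_ne_bot⟩
  obtain ⟨M, ⟨hMn, hM1⟩, hmin⟩ :=
    WellFounded.has_min (measure (fun M : Subgroup G => Nat.card M)).wf S hne
  refine ⟨M, hMn, hM1, ?_⟩
  intro N hNn hN1
  have hinf : M ⊓ N ≠ ⊥ := by
    intro h
    have hdis : Disjoint M N := disjoint_iff.2 h
    have hle : N ≤ Subgroup.centralizer (M : Set G) := by
      intro n hn
      rw [Subgroup.mem_centralizer_iff]
      intro m hm
      exact Subgroup.commute_of_normal_of_disjoint M N hMn hNn hdis m n hm hn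
    rw [hC M hMn hM1] at hle
    exact hN1 (le_bot_iff.1 hle)
  have hinfn : (M ⊓ N).Normal := by
    have := hMn
    have := hNn
    infer_instance
  have hnlt : ¬ Nat.card ↥(M ⊓ N) < Nat.card M := hmin (M ⊓ N) ⟨hinfn, hinf⟩
  have heq : M ⊓ N = M := by
    apply Subgroup.eq_of_le_of_card_ge inf_le_left
    omega
  rw [← heq]
  exact inf_le_right

/-- (S1a) stabilizers in a transitive subgroup have the same order. -/
theorem card_stabIn_eq {N : Subgroup G} (hT : Trans N Ω) (a b : Ω) :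
    Nat.card (stabIn N a) = Nat.card (stabIn N b) := by
  obtain ⟨g, hg, hgab⟩ := hT a b
  apply Nat.card_congr
  refine
    { toFun := fun x => ⟨g * x.1 * g⁻¹, ?_⟩
      invFun := fun y => ⟨g⁻¹ * y.1 * g, ?_⟩
      left_inv := ?_
      right_inv := ?_ }
  · refine ⟨N.mul_mem (N.mul_mem hg x.2.1) (N.inv_mem hg), ?_⟩
    show (g * x.1 * g⁻¹) • b = b
    rw [mul_smul, mul_smul, ← hgab, inv_smul_smul]
    have : x.1 • a = a := x.2.2
    rw [this]
  · refine ⟨N.mul_mem (N.mul_mem (N.inv_mem hg) y.2.1) hg, ?_⟩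
    show (g⁻¹ * y.1 * g) • a = a
    rw [mul_smul, mul_smul, hgab]
    have : y.1 • b = b := y.2.2
    rw [this, ← hgab, inv_smul_smul]
  · intro x
    apply Subtype.ext
    show g⁻¹ * (g * x.1 * g⁻¹) * g = x.1
    group
  · intro y
    apply Subtype.ext
    show g * (g⁻¹ * y.1 * g) * g⁻¹ = y.1
    group

/-- (S1b) orbit-stabilizer for a transitive subgroup. -/
theorem card_eq_card_mul {N : Subgroup G} (hT : Trans N Ω) (a : Ω) :
    Nat.card N = Fintype.card Ω * Nat.card (stabIn N a) := by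
  have : IsPretransitive ↥N Ω := by
    constructor
    intro x y
    obtain ⟨g, hg, hgxy⟩ := hT x y
    exact ⟨⟨g, hg⟩, hgxy⟩
  have h1 := MulAction.index_stabilizer_of_transitive (↥N) a
  have h2 := Subgroup.card_mul_index (stabilizer (↥N) a)
  have h3 : Nat.card (stabilizer (↥N) a) = Nat.card (stabIn N a) := by
    apply Nat.card_congr
    exact
      { toFun := fun x => ⟨x.1.1, x.1.2, x.2⟩
        invFun := fun y => ⟨⟨y.1, y.2.1⟩, y.2.2⟩
        left_inv := fun x => rfl
        right_inv := fun y => rfl }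
  rw [← h2, h1, h3, Nat.card_eq_fintype_card (α := Ω), mul_comm]

end Cfsg.Agent.Helper93.Asch
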