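import Cfsg.Agent.Helper36.F4Odd.Defs2

/-!
# Piece (TI) of helper36's S4280 farm (batch II): the torus parameters of `F₄` are determined by the element
-/

set_option autoImplicit false
set_option maxRecDepth 100000

namespace Cfsg.Agent.Helper93.F4Odd

open Cfsg Cfsg.Lie Cfsg.Agent.Helper18 Cfsg.Agent.Helper36.F4Odd Cfsg.Agent.Helper19.Twist
  Cfsg.Agent.Helper36.FieldFix

variable {F : Type*} [Field F]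

/-- the value of a root on a torus element, written out -/
theorem chr_four (s : ℕ) (c : Fin chevF4.rank → Fˣ) :
    chr s c = c (0 : Fin 4) ^ chevF4.cartan 0 s * c (1 : Fin 4) ^ chevF4.cartan 1 s *
      c (2 : Fin 4) ^ chevF4.cartan 2 s * c (3 : Fin 4) ^ chevF4.cartan 3 s := by
  unfold chr
  exact Fin.prod_univ_four (fun i : Fin 4 => c i ^ chevF4.cartan i.val s)

theorem cartan_33 : chevF4.cartan 0 33 = 2 ∧ chevF4.cartan 1 33 = -1 ∧ chevF4.cartan 2 33 = 0 ∧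
    chevF4.cartan 3 33 = 0 := by decide

theorem cartan_27 : chevF4.cartan 0 27 = -1 ∧ chevF4.cartan 1 27 = 2 ∧ chevF4.cartan 2 27 = -1 ∧
    chevF4.cartan 3 27 = 0 := by decide

theorem cartan_25 : chevF4.cartan 0 25 = 0 ∧ chevF4.cartan 1 25 = -2 ∧ chevF4.cartan 2 25 = 2 ∧
    chevF4.cartan 3 25 = -1 := by decide

theorem cartan_24 : chevF4.cartan 0 24 = 0 ∧ chevF4.cartan 1 24 = 0 ∧ chevF4.cartan 2 24 = -1 ∧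
    chevF4.cartan 3 24 = 2 := by decide

/-- inverting the Cartan matrix of `F₄` in a commutative group -/
theorem cartan_inverse {G : Type*} [CommGroup G] (c0 c1 c2 c3 : G) :
    c0 = (c0 ^ (2 : ℤ) * c1 ^ (-1 : ℤ) * c2 ^ (0 : ℤ) * c3 ^ (0 : ℤ)) ^ (2 : ℤ) *
      (c0 ^ (-1 : ℤ) * c1 ^ (2 : ℤ) * c2 ^ (-1 : ℤ) * c3 ^ (0 : ℤ)) ^ (3 : ℤ) *
      (c0 ^ (0 : ℤ) * c1 ^ (-2 : ℤ) * c2 ^ (2 : ℤ) * c3 ^ (-1 : ℤ)) ^ (2 : ℤ) *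
      (c0 ^ (0 : ℤ) * c1 ^ (0 : ℤ) * c2 ^ (-1 : ℤ) * c3 ^ (2 : ℤ)) ^ (1 : ℤ) ∧
    c1 = (c0 ^ (2 : ℤ) * c1 ^ (-1 : ℤ) * c2 ^ (0 : ℤ) * c3 ^ (0 : ℤ)) ^ (3 : ℤ) *
      (c0 ^ (-1 : ℤ) * c1 ^ (2 : ℤ) * c2 ^ (-1 : ℤ) * c3 ^ (0 : ℤ)) ^ (6 : ℤ) *
      (c0 ^ (0 : ℤ) * c1 ^ (-2 : ℤ) * c2 ^ (2 : ℤ) * c3 ^ (-1 : ℤ)) ^ (4 : ℤ) *
      (c0 ^ (0 : ℤ) * c1 ^ (0 : ℤ) * c2 ^ (-1 : ℤ) * c3 ^ (2 : ℤ)) ^ (2 : ℤ) ∧
    c2 = (c0 ^ (2 : ℤ) * c1 ^ (-1 : ℤ) * c2 ^ (0 : ℤ) * c3 ^ (0 : ℤ)) ^ (4 : ℤ) *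
      (c0 ^ (-1 : ℤ) * c1 ^ (2 : ℤ) * c2 ^ (-1 : ℤ) * c3 ^ (0 : ℤ)) ^ (8 : ℤ) *
      (c0 ^ (0 : ℤ) * c1 ^ (-2 : ℤ) * c2 ^ (2 : ℤ) * c3 ^ (-1 : ℤ)) ^ (6 : ℤ) *
      (c0 ^ (0 : ℤ) * c1 ^ (0 : ℤ) * c2 ^ (-1 : ℤ) * c3 ^ (2 : ℤ)) ^ (3 : ℤ) ∧
    c3 = (c0 ^ (2 : ℤ) * c1 ^ (-1 : ℤ) * c2 ^ (0 : ℤ) * c3 ^ (0 : ℤ)) ^ (2 : ℤ) *
      (c0 ^ (-1 : ℤ) * c1 ^ (2 : ℤ) * c2 ^ (-1 : ℤ) * c3 ^ (0 : ℤ)) ^ (4 : ℤ) *
      (c0 ^ (0 : ℤ) * c1 ^ (-2 : ℤ) * c2 ^ (2 : ℤ) * c3 ^ (-1 : ℤ)) ^ (3 : ℤ) *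
      (c0 ^ (0 : ℤ) * c1 ^ (0 : ℤ) * c2 ^ (-1 : ℤ) * c3 ^ (2 : ℤ)) ^ (2 : ℤ) := by
  refine ⟨?_, ?_, ?_, ?_⟩ <;>
  · apply Additive.ofMul.injective
    simp only [ofMul_mul, ofMul_zpow, zero_smul, add_zero, zero_add, one_smul]
    abel

/-- (TI) the torus parameters are determined by the element (the Cartan matrix of `F₄` is unimodular) -/
theorem tor_inj (c d : Fin chevF4.rank → Fˣ) (h : tor (F := F) c = tor d) : c = d := by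
  have key : ∀ s < 48, chr s c = chr s d := by
    intro s hs
    have h1 := tor_conj c s hs (1 : F)
    rw [h, tor_conj d s hs] at h1
    have := X_injective s hs _ _ h1
    rw [mul_one, mul_one] at this
    exact (Units.ext this).symm
  have h33 := key 33 (by norm_num)
  have h27 := key 27 (by norm_num)
  have h25 := key 25 (by norm_num)
  have h24 := key 24 (by norm_num)
  rw [chr_four, chr_four, cartan_33.1, cartan_33.2.1, cartan_33.2.2.1, cartan_33.2.2.2] at h33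
  rw [chr_four, chr_four, cartan_27.1, cartan_27.2.1, cartan_27.2.2.1, cartan_27.2.2.2] at h27
  rw [chr_four, chr_four, cartan_25.1, cartan_25.2.1, cartan_25.2.2.1, cartan_25.2.2.2] at h25
  rw [chr_four, chr_four, cartan_24.1, cartan_24.2.1, cartan_24.2.2.1, cartan_24.2.2.2] at h24
  obtain ⟨ec0, ec1, ec2, ec3⟩ := cartan_inverse (c (0 : Fin 4)) (c (1 : Fin 4)) (c (2 : Fin 4))
    (c (3 : Fin 4))
  obtain ⟨ed0, ed1, ed2, ed3⟩ := cartan_inverse (d (0 : Fin 4)) (d (1 : Fin 4)) (d (2 : Fin 4))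
    (d (3 : Fin 4))
  funext i
  have hi : i = (0 : Fin 4) ∨ i = (1 : Fin 4) ∨ i = (2 : Fin 4) ∨ i = (3 : Fin 4) := by
    have : ∀ j : Fin 4, j = 0 ∨ j = 1 ∨ j = 2 ∨ j = 3 := by decide
    exact this i
  rcases hi with rfl | rfl | rfl | rfl
  · rw [ec0, ed0, h33, h27, h25, h24]
  · rw [ec1, ed1, h33, h27, h25, h24]
  · rw [ec2, ed2, h33, h27, h25, h24]
  · rw [ec3, ed3, h33, h27, h25, h24]

end Cfsg.Agent.Helper93.F4Odd
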