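-- helper93: piece (CKN) `ck_mono` of helper40's S2376 farm (#13182).
import Cfsg.Agent.Helper40.D4Tor.Defs
import Cfsg.Agent.Helper19.Twist.WeylN
import Cfsg.Agent.Helper19.Twist.OrdD4
import Cfsg.Agent.Helper19.Poinc.Data
import Cfsg.Agent.Helper18.BNStruct
import Cfsg.Agent.Helper18.WeylHom
import Cfsg.Agent.Helper18.Aut.ChevGL
import Cfsg.Agent.S1038
import Cfsg.Agent.Helper50.D4TorWEYLFIX

set_option autoImplicit false
set_option maxRecDepth 100000

namespace Cfsg.Agent.Helper93.D4Tor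

open Cfsg Cfsg.Lie Cfsg.Agent.Helper18 Cfsg.Agent.Helper19.Twist Cfsg.Agent.Helper40.D4Tor
open Cfsg.Agent.Helper19.Cox Cfsg.Agent.Helper19.Poinc

/-- the image in the Weyl group of a word in the `n_p` (as helper9's `theta_nWordsGL`) -/
theorem CKN_theta_nWordsGL {K : Type*} [Field K] [hn : (HN chevD4 K).Normal] (w : List ℕ)
    (hw : ∀ i ∈ w, i < chevD4.rank) :
    theta chevD4 memD4 certD4 (nConjHyp (F := K) chevD4 memD4)
      ⟨nWordsGL chevD4 K w, nWordsGL_mem chevD4 memD4 w hw⟩ = gp certD4.M w := by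
  have hs := simpleOK_of_mem chevD4 memD4
  induction w with
  | nil =>
    have : (⟨nWordsGL chevD4 K ([] : List ℕ), nWordsGL_mem chevD4 memD4 [] hw⟩ :
        ↥(chevD4.monomialSubgroup K)) = 1 := by
      apply Subtype.ext
      simp [nWordsGL]
    rw [this, map_one, gp_nil]
  | cons i w ih =>
    have hw' : ∀ j ∈ w, j < chevD4.rank := fun j hj => hw j (List.mem_cons_of_mem _ hj)
    have hi := hw i List.mem_cons_self
    have e : (⟨nWordsGL chevD4 K (i :: w), nWordsGL_mem chevD4 memD4 _ hw⟩ :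
        ↥(chevD4.monomialSubgroup K)) =
        nN chevD4 K (chevD4.simple i) * ⟨nWordsGL chevD4 K w, nWordsGL_mem chevD4 memD4 w hw'⟩ := by
      apply Subtype.ext
      rw [Subgroup.coe_mul, nN_val chevD4 memD4 _ (simple_lt chevD4 hs i hi)]
      simp [nWordsGL]
    rw [e, map_mul, ih hw', theta_nN chevD4 memD4 certD4 _ i hi, gp_cons]

/-- a word acting trivially on the roots gives an element of `H` -/
theorem CKN_nWordsGL_mem_diag {K : Type*} [Field K] (w : List ℕ) (hw : ∀ i ∈ w, i < chevD4.rank)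
    (hrho : ∀ r < chevD4.nroots, rho chevD4 w r = r) :
    nWordsGL chevD4 K w ∈ chevD4.diagonalSubgroup K := by
  have hn : (HN chevD4 K).Normal := Cfsg.Agent.S1038.result chevD4 memD4
  have h1 : gp certD4.M w = gp certD4.M [] := by
    apply gp_eq_of_actW certD4
    intro x hx
    rw [(actW_eq_rho chevD4 certD4.tabs certD4.ht w hw x hx).1, hrho x hx]
    rfl
  have h2 := CKN_theta_nWordsGL (K := K) w hw
  rw [h1, gp_nil] at h2
  exact (theta_eq_one_iff chevD4 memD4 certD4 (nConjHyp (F := K) chevD4 memD4) _).1 h2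

/-- (CK-N) as helper55's `G2Tor.ck_mono`: `n = h n_w` (`mem_monomial_decomp`), `n_w` commutes with `τ`, so
`ent τ (rho w s) = ent τ s` (`nWordsGL_conj_xGL`), so `rho w b = b` on the four roots, so `rho w = id` (WEYLFIX), so
`n_w ∈ H` (e.g. `gp_eq_of_actW` + `theta_eq_one_iff` of helper19, or `exists_weyl` of helper18). -/
theorem ck_mono {K : Type*} [Field K] (τ : GL chevD4.Idx K) (hτ : τ ∈ chevD4.diagonalSubgroup K)
    (hB : ∀ b ∈ [18, 16, 12, 19], ∀ r < 24, ent τ r = ent τ b → r = b)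
    (n : GL chevD4.Idx K) (hn : n ∈ chevD4.monomialSubgroup K) (hcn : n * τ = τ * n) :
    n ∈ chevD4.diagonalSubgroup K := by
  obtain ⟨w, hw, k, hk, rfl⟩ := mem_monomial_decomp chevD4 memD4 n hn
  have hkc : k * τ = τ * k := Cfsg.Agent.Helper18.InvOdd.diag_comm' chevD4 memD4 k τ hk hτ
  set nw := nWordsGL chevD4 K w with hnw
  have hwc : nw * τ = τ * nw := by
    have : k * (nw * τ) = k * (τ * nw) := by
      rw [← mul_assoc, hcn, ← mul_assoc, ← mul_assoc, hkc]
    exact mul_left_cancel this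
  obtain ⟨χ, hχ0, hχd, hχ⟩ := diagonalSubgroup_char chevD4 memD4 τ hτ
  have hent : ∀ r < 24, ent τ r = χ r := by
    intro r hr
    unfold ent
    rw [hχd]
    exact rootEntry_diagonal chevD4 χ r hr
  have hrho : ∀ s < 24, rho chevD4 w s < 24 ∧ χ (rho chevD4 w s) = χ s := by
    intro s hs
    obtain ⟨hlt, η, hη, hconj⟩ := nWordsGL_conj_xGL (F := K) chevD4 memD4 (nConjHyp chevD4 memD4)
      (fun i s hi hs => reflectRoot_lt chevD4 memD4 i s hi hs) w hw s hs
    refine ⟨hlt, ?_⟩
    have hη0 : ((η : ℤ) : K) ≠ 0 := by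
      rcases hη with rfl | rfl
      · simp
      · simp
    -- compare `τ n_w x_s(1)` and `n_w τ x_s(1)`
    have e1 : τ * nw * xGL chevD4 K s 1 =
        xGL chevD4 K (rho chevD4 w s) (χ (rho chevD4 w s) * ((η : K) * 1)) * (τ * nw) := by
      rw [mul_assoc, hconj 1, ← mul_assoc, hχ _ hlt, mul_assoc]
    have e2 : nw * τ * xGL chevD4 K s 1 =
        xGL chevD4 K (rho chevD4 w s) ((η : K) * (χ s * 1)) * (nw * τ) := by
      rw [mul_assoc, hχ s hs, ← mul_assoc, hconj, mul_assoc]
    rw [hwc, e1] at e2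
    have e3 := mul_right_cancel e2
    have e4 := Cfsg.Agent.Helper18.Aut.xGL_injective chevD4 memD4 _ hlt e3
    have e5 : χ (rho chevD4 w s) * (η : K) = χ s * (η : K) := by
      rw [mul_one, mul_one] at e4
      rw [e4, mul_comm]
    exact mul_right_cancel₀ hη0 e5
  have hfix4 : ∀ b ∈ [18, 16, 12, 19], rho chevD4 w b = b := by
    intro b hb
    have hb24 : b < 24 := by
      simp only [List.mem_cons, List.not_mem_nil, or_false] at hb
      rcases hb with rfl | rfl | rfl | rfl <;> norm_num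
    obtain ⟨hlt, he⟩ := hrho b hb24
    apply hB b hb _ hlt
    rw [hent _ hlt, hent _ hb24, he]
  have hall := Cfsg.Agent.Helper50.D4Tor.weyl_fix w hw hfix4
  exact mul_mem hk (CKN_nWordsGL_mem_diag w hw hall)

end Cfsg.Agent.Helper93.D4Tor
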