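-- helper93: piece (DISTB) `E_inj` of helper40's S2376 farm (#13182): integer arithmetic.
import Cfsg.Agent.Helper40.D4Tor.Defs

set_option autoImplicit false
set_option maxRecDepth 100000

namespace Cfsg.Agent.Helper93.D4Tor

open Cfsg Cfsg.Lie Cfsg.Agent.Helper18 Cfsg.Agent.Helper19.Twist Cfsg.Agent.Helper40.D4Tor

theorem DISTB_two : ∀ b ∈ [18, 16, 12, 19], ∀ r < 24,
    (((2 ^ 3 - 1) * (2 + 1) : ℕ) : ℤ) ∣ E ((2 : ℕ) : ℤ) r - E ((2 : ℕ) : ℤ) b → r = b := by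
  decide

/-- the exponents as polynomials in `q` -/
theorem DISTB_table (x : ℤ) :
    E x 0 = -x ^ 3 - x ^ 2 - x ∧ E x 1 = -x ^ 2 - x - 1 ∧ E x 2 = -x - 1 ∧ E x 3 = -x ^ 3 - x ^ 2 ∧
    E x 4 = -x ^ 3 ∧ E x 5 = -1 ∧ E x 6 = -x ^ 2 - x ∧ E x 7 = -x ∧ E x 8 = -x ^ 3 - x ^ 2 + 1 ∧
    E x 9 = -x ^ 3 + 1 ∧ E x 10 = x ^ 3 - x - 1 ∧ E x 11 = -x ^ 2 ∧ E x 12 = x ^ 2 ∧
    E x 13 = -x ^ 3 + x + 1 ∧ E x 14 = x ^ 3 - 1 ∧ E x 15 = x ^ 3 + x ^ 2 - 1 ∧ E x 16 = x ∧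
    E x 17 = x ^ 2 + x ∧ E x 18 = 1 ∧ E x 19 = x ^ 3 ∧ E x 20 = x ^ 3 + x ^ 2 ∧ E x 21 = x + 1 ∧
    E x 22 = x ^ 2 + x + 1 ∧ E x 23 = x ^ 3 + x ^ 2 + x := by
  refine ⟨?_, ?_, ?_, ?_, ?_, ?_, ?_, ?_, ?_, ?_, ?_, ?_, ?_, ?_, ?_, ?_, ?_, ?_, ?_, ?_, ?_, ?_, ?_, ?_⟩ <;>
  · simp only [E, coordD4, List.getD_cons_zero, List.getD_cons_succ]
    ring

/-- a multiple of `N` of absolute value `< N` is zero -/
theorem DISTB_small {N y : ℤ} (h : N ∣ y) (h1 : -N < y) (h2 : y < N) : y = 0 :=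
  Int.eq_zero_of_abs_lt_dvd h (abs_lt.2 ⟨h1, h2⟩)

set_option linter.unusedSimpArgs false in
/-- (DIST-B) `E q 18 = 1`, `E q 16 = q`, `E q 12 = q²`, `E q 19 = q³`; the differences `E q r - E q b` have coefficients in
`[-2, 2]`, so are nonzero and of absolute value `< (q³-1)(q+1)` for `q ≥ 3`; `q = 2` (modulus `21`) by `decide`. -/
theorem E_inj (q : ℕ) (hq : 2 ≤ q) (b : ℕ) (hb : b ∈ [18, 16, 12, 19]) (r : ℕ) (hr : r < 24)
    (h : (((q ^ 3 - 1) * (q + 1) : ℕ) : ℤ) ∣ E q r - E q b) : r = b := by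
  rcases Nat.lt_or_ge q 3 with h3 | h3
  · have h2 : q = 2 := by omega
    subst h2
    exact DISTB_two b hb r hr h
  · have hx3 : (3 : ℤ) ≤ (q : ℤ) := by exact_mod_cast h3
    have hN : (((q ^ 3 - 1) * (q + 1) : ℕ) : ℤ) = (q : ℤ) ^ 4 + (q : ℤ) ^ 3 - (q : ℤ) - 1 := by
      have h1 : 1 ≤ q ^ 3 := Nat.one_le_pow _ _ (by omega)
      push_cast [Nat.cast_sub h1]
      ring
    rw [hN] at h
    generalize (q : ℤ) = x at h hx3
    have e2 : 3 * x ≤ x ^ 2 := by nlinarith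
    have e3 : 3 * x ^ 2 ≤ x ^ 3 := by nlinarith
    have e4 : 3 * x ^ 3 ≤ x ^ 4 := by nlinarith
    obtain ⟨t0, t1, t2, t3, t4, t5, t6, t7, t8, t9, t10, t11, t12, t13, t14, t15, t16, t17, t18,
      t19, t20, t21, t22, t23⟩ := DISTB_table x
    simp only [List.mem_cons, List.not_mem_nil, or_false] at hb
    interval_cases r <;> rcases hb with rfl | rfl | rfl | rfl <;>
    first
    | rfl
    | (exfalso
       simp only [t0, t1, t2, t3, t4, t5, t6, t7, t8, t9, t10, t11, t12, t13, t14, t15, t16, t17, t18,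
         t19, t20, t21, t22, t23] at h
       clear t0 t1 t2 t3 t4 t5 t6 t7 t8 t9 t10 t11 t12 t13 t14 t15 t16 t17 t18 t19 t20 t21 t22 t23
       have h0 := DISTB_small h (by linarith) (by linarith)
       linarith)

end Cfsg.Agent.Helper93.D4Tor
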