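import Mathlib
import Cfsg.Prelude.Def_Solvable
import Cfsg.Prelude.Def_CaseTheorems

/-!
helper93: leaf (BR) of helper42's GD farm (#14513, S4385): transport from `↥H` to the ambient group along `H.subtype`.
-/

set_option autoImplicit false

universe u

namespace Cfsg.Agent.Helper93.GD

open Pointwise Cfsg

/-- conjugation commutes with the inclusion of a subgroup -/
theorem BR_map_conj {G : Type*} [Group G] (H : Subgroup G) (g : ↥H) (K : Subgroup ↥H) :
    (MulAut.conj g • K).map H.subtype = MulAut.conj (g : G) • K.map H.subtype := by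
  ext x
  constructor
  · rintro ⟨y, hy, rfl⟩
    rw [SetLike.mem_coe, Subgroup.mem_pointwise_smul_iff_inv_smul_mem, MulAut.smul_def, ← map_inv,
      MulAut.conj_apply, inv_inv] at hy
    rw [Subgroup.mem_pointwise_smul_iff_inv_smul_mem, MulAut.smul_def, ← map_inv,
      MulAut.conj_apply, inv_inv]
    exact ⟨g⁻¹ * y * g, hy, by simp⟩
  · intro hx
    rw [Subgroup.mem_pointwise_smul_iff_inv_smul_mem, MulAut.smul_def, ← map_inv,
      MulAut.conj_apply, inv_inv] at hx
    obtain ⟨y, hy, hyx⟩ := hx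
    refine ⟨g * y * g⁻¹, ?_, ?_⟩
    · rw [SetLike.mem_coe, Subgroup.mem_pointwise_smul_iff_inv_smul_mem, MulAut.smul_def, ← map_inv,
        MulAut.conj_apply, inv_inv]
      have : g⁻¹ * (g * y * g⁻¹) * g = y := by group
      rw [this]; exact hy
    · have h1 : H.subtype (g * y * g⁻¹) = (g : G) * H.subtype y * (g : G)⁻¹ := by simp
      rw [h1, hyx]; group

/-- (BR) from `↥H` to the ambient group: pure transport along `H.subtype`. -/
theorem bridge {G : Type*} [Group G] [Finite G] (H P : Subgroup G) (hPH : P ≤ H) (n : ℕ)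
    (h1 : Cfsg.pCore 2 ↥H ≤ P.subgroupOf H)
    (h2 : Nat.card (P.subgroupOf H) = 2 * Nat.card (Cfsg.pCore 2 ↥H))
    (h3 : Nat.card ↥H = n * Nat.card (P.subgroupOf H)) (g : ↥H)
    (h4 : P.subgroupOf H ⊔ MulAut.conj g • P.subgroupOf H = ⊤)
    (h5 : P.subgroupOf H ⊓ MulAut.conj g • P.subgroupOf H = Cfsg.pCore 2 ↥H) :
    (Cfsg.pCore 2 ↥H).map H.subtype ≤ P ∧
    Nat.card P = 2 * Nat.card ((Cfsg.pCore 2 ↥H).map H.subtype) ∧
    Nat.card H = n * Nat.card P ∧
    H ≤ Subgroup.normalizer (((Cfsg.pCore 2 ↥H).map H.subtype : Subgroup G) : Set G) ∧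
    P ⊔ MulAut.conj (g : G) • P = H ∧
    P ⊓ MulAut.conj (g : G) • P = (Cfsg.pCore 2 ↥H).map H.subtype := by
  have hinj : Function.Injective H.subtype := H.subtype_injective
  have hmapP : (P.subgroupOf H).map H.subtype = P := Subgroup.map_subgroupOf_eq_of_le hPH
  have hcardP : Nat.card (P.subgroupOf H) = Nat.card P :=
    Nat.card_congr (Subgroup.subgroupOfEquivOfLe hPH).toEquiv
  have hcardQ : Nat.card ((Cfsg.pCore 2 ↥H).map H.subtype) = Nat.card (Cfsg.pCore 2 ↥H) :=
    Subgroup.card_map_of_injective hinj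
  refine ⟨?_, ?_, ?_, ?_, ?_, ?_⟩
  · rw [← hmapP]
    exact Subgroup.map_mono h1
  · rw [hcardQ, ← hcardP, h2]
  · rw [← hcardP, h3]
  · intro x hx
    rw [Subgroup.mem_normalizer_iff]
    intro y
    have hn : (Cfsg.pCore 2 ↥H).Normal := inferInstance
    constructor
    · rintro ⟨z, hz, rfl⟩
      refine ⟨⟨x, hx⟩ * z * ⟨x, hx⟩⁻¹, hn.conj_mem z hz _, by simp⟩
    · rintro ⟨z, hz, hzy⟩
      refine ⟨⟨x, hx⟩⁻¹ * z * ⟨x, hx⟩, ?_, ?_⟩
      · have := hn.conj_mem z hz (⟨x, hx⟩⁻¹)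
        rwa [inv_inv] at this
      · have e1 : H.subtype (⟨x, hx⟩⁻¹ * z * ⟨x, hx⟩) = x⁻¹ * H.subtype z * x := by simp
        rw [e1, hzy]; group
  · have := congrArg (Subgroup.map H.subtype) h4
    rw [Subgroup.map_sup, BR_map_conj, hmapP, ← MonoidHom.range_eq_map, Subgroup.range_subtype] at this
    exact this
  · have := congrArg (Subgroup.map H.subtype) h5
    rw [Subgroup.map_inf _ _ _ hinj, BR_map_conj, hmapP] at this
    exact this

end Cfsg.Agent.Helper93.GD
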