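import Mathlib
import Cfsg.Prelude.Def_Solvable
import Cfsg.Prelude.Def_CaseTheorems

/-!
helper93: leaf (GEN) of helper42's GD farm (#14513, S4385): if `Γ/O_2(Γ) ≅ D_n`, `n ≥ 3` odd, and `S ≥ O_2(Γ)` with
`|S| = 2 |O_2(Γ)|`, then some conjugate of `S` generates `Γ` together with `S` and meets `S` in `O_2(Γ)`.
(General odd `n` version of helper20's (CONJD) for helper88.)
-/

set_option autoImplicit false

universe u

namespace Cfsg.Agent.Helper93.GD

open Pointwise Cfsg

theorem GEN_r_pow {n : ℕ} (j : ZMod n) (k : ℕ) :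
    (DihedralGroup.r j) ^ k = DihedralGroup.r ((k : ZMod n) * j) := by
  induction k with
  | zero => rw [pow_zero, Nat.cast_zero, zero_mul, DihedralGroup.one_def]
  | succ k ih =>
    rw [pow_succ, ih, DihedralGroup.r_mul_r]
    congr 1
    push_cast
    ring

theorem GEN_eq_top {n : ℕ} [NeZero n] (K : Subgroup (DihedralGroup n)) (i j : ZMod n)
    (hj : IsUnit j) (hs : DihedralGroup.sr i ∈ K) (hr : DihedralGroup.r j ∈ K) : K = ⊤ := by
  have hrot : ∀ k : ZMod n, DihedralGroup.r k ∈ K := by
    intro k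
    have h1 : (DihedralGroup.r j) ^ (k * j⁻¹).val ∈ K := K.pow_mem hr _
    rw [GEN_r_pow, ZMod.natCast_zmod_val, mul_assoc, ZMod.inv_mul_of_unit j hj, mul_one] at h1
    exact h1
  rw [eq_top_iff]
  intro g _
  cases g with
  | r k => exact hrot k
  | sr k =>
    have h2 : DihedralGroup.sr i * DihedralGroup.r (k - i) ∈ K := K.mul_mem hs (hrot _)
    rw [DihedralGroup.sr_mul_r] at h2
    have : i + (k - i) = k := by ring
    rw [this] at h2
    exact h2

theorem GEN_two_unit {n : ℕ} (hn : Odd n) : IsUnit (2 : ZMod n) := by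
  have hcop : Nat.Coprime 2 n := Nat.coprime_two_left.mpr hn
  have := (ZMod.unitOfCoprime 2 hcop).isUnit
  rw [ZMod.coe_unitOfCoprime] at this
  exact_mod_cast this

theorem GEN_two_ne_zero {n : ℕ} (hn3 : 3 ≤ n) : (2 : ZMod n) ≠ 0 := by
  intro h
  have h' : ((2 : ℕ) : ZMod n) = 0 := by exact_mod_cast h
  rw [ZMod.natCast_eq_zero_iff] at h'
  have := Nat.le_of_dvd (by norm_num) h'
  omega

/-- an involution of `D_n`, `n` odd, is a reflection -/
theorem GEN_invol {n : ℕ} (hn : Odd n) (x : DihedralGroup n) (hx : x * x = 1) (hx1 : x ≠ 1) :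
    ∃ i : ZMod n, x = DihedralGroup.sr i := by
  cases x with
  | r j =>
    exfalso
    apply hx1
    rw [DihedralGroup.r_mul_r, DihedralGroup.one_def] at hx
    have h1 : j + j = 0 := by
      injection hx
    have h2 : (2 : ZMod n) * j = 0 := by rw [two_mul]; exact h1
    have h3 : j = 0 := by
      have := congrArg (fun t => (2 : ZMod n)⁻¹ * t) h2
      simp only [← mul_assoc, ZMod.inv_mul_of_unit _ (GEN_two_unit hn), one_mul, mul_zero] at this
      exact this
    rw [h3, DihedralGroup.one_def]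
  | sr i => exact ⟨i, rfl⟩

/-- (GEN) -/
theorem exists_conj_gen_inf {Γ : Type*} [Group Γ] [Finite Γ] (S : Subgroup Γ)
    (hQS : Cfsg.pCore 2 Γ ≤ S) (hcard : Nat.card S = 2 * Nat.card (Cfsg.pCore 2 Γ))
    {n : ℕ} (hn : Odd n) (hn3 : 3 ≤ n) (e : Γ ⧸ Cfsg.pCore 2 Γ ≃* DihedralGroup n) :
    ∃ g : Γ, S ⊔ MulAut.conj g • S = ⊤ ∧ S ⊓ MulAut.conj g • S = Cfsg.pCore 2 Γ := by
  classical
  have : NeZero n := ⟨by omega⟩
  set Q : Subgroup Γ := Cfsg.pCore 2 Γ with hQ
  set φ : Γ →* DihedralGroup n := e.toMonoidHom.comp (QuotientGroup.mk' Q) with hφ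
  have hφapp : ∀ x, φ x = e (QuotientGroup.mk x) := fun x => rfl
  have hφsurj : Function.Surjective φ := by
    intro y
    obtain ⟨z, rfl⟩ := e.surjective y
    obtain ⟨x, rfl⟩ := QuotientGroup.mk_surjective z
    exact ⟨x, rfl⟩
  have hker : φ.ker = Q := by
    ext x
    rw [MonoidHom.mem_ker, hφapp]
    constructor
    · intro h
      have : (QuotientGroup.mk x : Γ ⧸ Q) = 1 := e.injective (by rw [h, map_one])
      exact (QuotientGroup.eq_one_iff x).mp this
    · intro h
      rw [(QuotientGroup.eq_one_iff x).mpr h, map_one]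
  have hmemQ : ∀ x, x ∈ Q ↔ φ x = 1 := fun x => by rw [← hker, MonoidHom.mem_ker]
  -- `Q` has index 2 in `S`
  have hQpos : 0 < Nat.card Q := Nat.card_pos
  have hrel : Q.relIndex S = 2 := by
    have h1 := Subgroup.relIndex_mul_relIndex ⊥ Q S bot_le hQS
    rw [Subgroup.relIndex_bot_left, Subgroup.relIndex_bot_left, hcard, mul_comm] at h1
    exact Nat.eq_of_mul_eq_mul_right hQpos h1
  have hidx : (Q.subgroupOf S).index = 2 := hrel
  -- an element of `S` outside `Q`
  obtain ⟨s, hsS, hsQ⟩ : ∃ s ∈ S, s ∉ Q := by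
    by_contra hcon
    have hle : S ≤ Q := fun x hx => by
      by_contra h
      exact hcon ⟨x, hx, h⟩
    have : S = Q := le_antisymm hle hQS
    rw [this] at hcard
    omega
  have hss : s * s ∈ Q := by
    have := Subgroup.mul_self_mem_of_index_two hidx (⟨s, hsS⟩ : S)
    rw [Subgroup.mem_subgroupOf] at this
    exact this
  obtain ⟨i, hi⟩ := GEN_invol hn (φ s) (by rw [← map_mul, (hmemQ _).mp hss])
    (fun h => hsQ ((hmemQ s).mpr h))
  -- the image of `S`
  have himg : ∀ t ∈ S, t ∉ Q → φ t = DihedralGroup.sr i := by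
    intro t htS htQ
    have h1 : (⟨s, hsS⟩ : S)⁻¹ * ⟨t, htS⟩ ∈ Q.subgroupOf S := by
      rw [Subgroup.mul_mem_iff_of_index_two hidx]
      constructor
      · intro h
        exfalso
        rw [Subgroup.mem_subgroupOf] at h
        exact hsQ (by simpa using Q.inv_mem h)
      · intro h
        exfalso
        rw [Subgroup.mem_subgroupOf] at h
        exact htQ h
    rw [Subgroup.mem_subgroupOf] at h1
    have h2 : φ (s⁻¹ * t) = 1 := (hmemQ _).mp h1
    rw [map_mul, map_inv, inv_mul_eq_one] at h2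
    rw [← h2, hi]
  obtain ⟨g, hg⟩ := hφsurj (DihedralGroup.r 1)
  have hconj : φ (g * s * g⁻¹) = DihedralGroup.sr (i - 2) := by
    rw [map_mul, map_mul, map_inv, hg, hi, DihedralGroup.inv_r, DihedralGroup.r_mul_sr,
      DihedralGroup.sr_mul_r]
    congr 1
    ring
  have hgsS : g * s * g⁻¹ ∈ MulAut.conj g • S := by
    have := Subgroup.smul_mem_pointwise_smul s (MulAut.conj g) S hsS
    rwa [MulAut.smul_def, MulAut.conj_apply] at this
  refine ⟨g, ?_, ?_⟩
  · -- generation
    set T : Subgroup Γ := S ⊔ MulAut.conj g • S with hT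
    have hkT : φ.ker ≤ T := by rw [hker]; exact hQS.trans le_sup_left
    have h1 : T.map φ = ⊤ := by
      apply GEN_eq_top (T.map φ) i (-2) (GEN_two_unit hn).neg
      · rw [← hi]
        exact Subgroup.mem_map_of_mem φ (le_sup_left (a := S) hsS)
      · have h3 : s * (g * s * g⁻¹) ∈ T :=
          T.mul_mem (le_sup_left (a := S) hsS) (le_sup_right (a := S) hgsS)
        have h4 := Subgroup.mem_map_of_mem φ h3
        rw [map_mul, hconj, hi, DihedralGroup.sr_mul_sr] at h4
        have : i - 2 - i = -2 := by ring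
        rw [this] at h4
        exact h4
    rw [← Subgroup.comap_map_eq_self hkT, h1, Subgroup.comap_top]
  · -- intersection
    apply le_antisymm
    · intro t ht
      obtain ⟨htS, htgS⟩ := Subgroup.mem_inf.mp ht
      by_contra htQ
      have h1 := himg t htS htQ
      rw [Subgroup.mem_pointwise_smul_iff_inv_smul_mem, MulAut.smul_def, ← map_inv,
        MulAut.conj_apply, inv_inv] at htgS
      have htQ' : g⁻¹ * t * g ∉ Q := by
        intro h
        apply htQ
        have := (hmemQ _).mp h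
        rw [map_mul, map_mul, map_inv] at this
        rw [hmemQ]
        have e1 : φ t = φ g * ((φ g)⁻¹ * φ t * φ g) * (φ g)⁻¹ := by group
        rw [e1, this]; group
      have h2 := himg _ htgS htQ'
      have h3 : φ t = DihedralGroup.sr (i - 2) := by
        have e1 : φ t = φ g * φ (g⁻¹ * t * g) * (φ g)⁻¹ := by
          rw [map_mul, map_mul, map_inv]; group
        rw [e1, h2, hg, DihedralGroup.inv_r, DihedralGroup.r_mul_sr, DihedralGroup.sr_mul_r]
        congr 1
        ring
      rw [h1] at h3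
      have h4 : i = i - 2 := by injection h3
      have h5 : (2 : ZMod n) = 0 := by
        have : i - (i - 2) = 0 := by rw [← h4]; ring
        rw [← this]; ring
      exact GEN_two_ne_zero hn3 h5
    · apply le_inf hQS
      have h1 : MulAut.conj g • Q = Q := Subgroup.Normal.conj_smul_eq_self g Q
      rw [← h1]
      exact Subgroup.pointwise_smul_le_pointwise_smul_iff.mpr hQS

end Cfsg.Agent.Helper93.GD
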