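import Cfsg.Agent.Helper43.G2Vec

/-!
# (G2-B3) `GL₂(F) = F^× · (SL₂(F) ∪ b₀ SL₂(F))` over a finite field of odd characteristic
-/

set_option autoImplicit false

namespace Cfsg.Agent.Helper93.G2S

open Cfsg.Agent.Helper43.G2S Matrix Cfsg.Lie

variable {F : Type*} [Field F]

theorem b0_mul_inv (ν : F) (hν : ν ≠ 0) : b0 ν * (ν⁻¹ • !![0, ν; -1, 0]) = 1 := by
  ext i j
  fin_cases i <;> fin_cases j <;> simp [b0, Matrix.mul_apply, Fin.sum_univ_two, hν]

theorem det_b0_inv (ν : F) (hν : ν ≠ 0) : (ν⁻¹ • !![0, ν; -1, 0] : Matrix (Fin 2) (Fin 2) F).det = ν⁻¹ := by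
  rw [Matrix.det_smul, Matrix.det_fin_two_of]
  simp only [Fintype.card_fin]
  field_simp
  ring

/-- (G2-B3) -/
theorem gl2_decomp [Finite F] (h2 : (2 : F) ≠ 0) (ν : F) (hν : ¬ IsSquare ν) (p : GL (Fin 2) F) :
    ∃ (c : F) (p₁ : SL2 F), c ≠ 0 ∧ (p.1 = c • p₁.1 ∨ p.1 = c • (b0 ν * p₁.1)) := by
  classical
  haveI := Fintype.ofFinite F
  have hν0 : ν ≠ 0 := by
    rintro rfl
    exact hν ⟨0, by simp⟩
  have hd : p.1.det ≠ 0 := by
    have := (Matrix.GeneralLinearGroup.det p).ne_zero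
    rwa [Matrix.GeneralLinearGroup.val_det_apply] at this
  by_cases hsq : IsSquare p.1.det
  · obtain ⟨c, hc⟩ := hsq
    have hc0 : c ≠ 0 := by
      rintro rfl
      rw [mul_zero] at hc
      exact hd hc
    have hdet : (c⁻¹ • p.1).det = 1 := by
      rw [Matrix.det_smul, Fintype.card_fin, hc]
      field_simp
    refine ⟨c, ⟨c⁻¹ • p.1, hdet⟩, hc0, Or.inl ?_⟩
    show p.1 = c • (c⁻¹ • p.1)
    rw [smul_smul, mul_inv_cancel₀ hc0, one_smul]
  · have h1 : quadraticChar F p.1.det = -1 := quadraticChar_neg_one_iff_not_isSquare.2 hsq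
    have h3 : quadraticChar F ν = -1 := quadraticChar_neg_one_iff_not_isSquare.2 hν
    have h4 : quadraticChar F (p.1.det * ν) = 1 := by
      rw [map_mul, h1, h3]
      norm_num
    have h5 : IsSquare (p.1.det * ν) := (quadraticChar_one_iff_isSquare (mul_ne_zero hd hν0)).1 h4
    obtain ⟨e, he⟩ := h5
    have he0 : e ≠ 0 := by
      rintro rfl
      rw [mul_zero] at he
      exact mul_ne_zero hd hν0 he
    -- c := e / ν, so that det p = ν c²
    have hc0 : e / ν ≠ 0 := div_ne_zero he0 hν0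
    have hdet : ((ν⁻¹ • !![0, ν; -1, 0] : Matrix (Fin 2) (Fin 2) F) * ((e / ν)⁻¹ • p.1)).det = 1 := by
      rw [Matrix.det_mul, det_b0_inv ν hν0, Matrix.det_smul, Fintype.card_fin]
      have : p.1.det = e * e / ν := by
        rw [← he]
        field_simp
      rw [this]
      field_simp
    refine ⟨e / ν, ⟨(ν⁻¹ • !![0, ν; -1, 0] : Matrix (Fin 2) (Fin 2) F) * ((e / ν)⁻¹ • p.1), hdet⟩,
      hc0, Or.inr ?_⟩
    show p.1 = (e / ν) • (b0 ν * ((ν⁻¹ • !![0, ν; -1, 0] : Matrix (Fin 2) (Fin 2) F) *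
      ((e / ν)⁻¹ • p.1)))
    rw [← Matrix.mul_assoc, b0_mul_inv ν hν0, Matrix.one_mul, smul_smul, mul_inv_cancel₀ hc0,
      one_smul]

end Cfsg.Agent.Helper93.G2S
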