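import Cfsg.Agent.Helper43.G2Vec

/-!
# (G2-K) The kernel of `(B, p) ↦ Φ(B) Ψ(p)`
-/

set_option autoImplicit false

namespace Cfsg.Agent.Helper93.G2S

open Cfsg.Agent.Helper43.G2S Matrix Cfsg.Lie

variable {F : Type*} [Field F]

/-- (G2-K) -/
theorem PhiM_mul_PsiM_eq_one (B p : Matrix (Fin 2) (Fin 2) F) (hB : B.det = 1) (hp : p.det = 1)
    (h : PhiM B * PsiM p = 1) : (B = 1 ∧ p = 1) ∨ (B = -1 ∧ p = -1) := by
  have e11 := congrFun (congrFun h 1) 1
  have e41 := congrFun (congrFun h 4) 1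
  have e00 := congrFun (congrFun h 0) 0
  have e10 := congrFun (congrFun h 1) 0
  have e22 := congrFun (congrFun h 2) 2
  have e32 := congrFun (congrFun h 3) 2
  have e23 := congrFun (congrFun h 2) 3
  have e33 := congrFun (congrFun h 3) 3
  simp [PhiM, PsiM, Matrix.mul_apply, Fin.sum_univ_eight] at e11 e41 e00 e10 e22 e32 e23 e33
  -- e11 : p 0 0 * p 0 0 = 1, e41 : p 1 0 = 0, e00 : p 0 0 * p 1 1 = 1, e10 : p 0 0 = 0 ∨ p 0 1 = 0
  have hp00 : p 0 0 * p 0 0 = 1 := by simpa using e11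
  have hp00ne : p 0 0 ≠ 0 := by
    intro h0
    rw [h0] at hp00
    simp at hp00
  have hp10 : p 1 0 = 0 := by simpa using e41
  have hp01 : p 0 1 = 0 := by
    rcases mul_eq_zero.1 (by simpa using e10 : p 0 0 * p 0 1 = 0) with h0 | h0
    · exact absurd h0 hp00ne
    · exact h0
  have hp11 : p 1 1 = p 0 0 := by
    have h1 : p 0 0 * p 1 1 = 1 := by simpa using e00
    have : p 0 0 * (p 1 1 - p 0 0) = 0 := by linear_combination h1 - hp00
    rcases mul_eq_zero.1 this with h0 | h0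
    · exact absurd h0 hp00ne
    · exact sub_eq_zero.1 h0
  have hB00 : B 0 0 = p 0 0 := by
    have h1 : B 0 0 * p 1 1 = 1 := by simpa [hp01, hp10] using e22
    rw [hp11] at h1
    have : p 0 0 * (B 0 0 - p 0 0) = 0 := by linear_combination h1 - hp00
    rcases mul_eq_zero.1 this with h0 | h0
    · exact absurd h0 hp00ne
    · exact sub_eq_zero.1 h0
  have hB11 : B 1 1 = p 0 0 := by
    have h1 : B 1 1 * p 1 1 = 1 := by simpa [hp01, hp10] using e33
    rw [hp11] at h1
    have : p 0 0 * (B 1 1 - p 0 0) = 0 := by linear_combination h1 - hp00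
    rcases mul_eq_zero.1 this with h0 | h0
    · exact absurd h0 hp00ne
    · exact sub_eq_zero.1 h0
  have hB10 : B 1 0 = 0 := by
    have h1 : B 1 0 * p 1 1 = 0 := by simpa [hp01, hp10] using e32
    rw [hp11] at h1
    rcases mul_eq_zero.1 h1 with h0 | h0
    · exact h0
    · exact absurd h0 hp00ne
  have hB01 : B 0 1 = 0 := by
    have h1 : B 0 1 * p 1 1 = 0 := by simpa [hp01, hp10] using e23
    rw [hp11] at h1
    rcases mul_eq_zero.1 h1 with h0 | h0
    · exact h0
    · exact absurd h0 hp00ne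
  have hpm : p 0 0 = 1 ∨ p 0 0 = -1 := mul_self_eq_one_iff.1 hp00
  have hBe : B = !![p 0 0, 0; 0, p 0 0] := by
    rw [Matrix.eta_fin_two B, hB00, hB01, hB10, hB11]
  have hpe : p = !![p 0 0, 0; 0, p 0 0] := by
    conv_lhs => rw [Matrix.eta_fin_two p, hp01, hp10, hp11]
  rcases hpm with h1 | h1
  · left
    rw [hBe, hpe, h1]
    constructor <;> exact Matrix.one_fin_two.symm
  · right
    rw [hBe, hpe, h1]
    constructor <;>
    · ext i j
      fin_cases i <;> fin_cases j <;> simp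

end Cfsg.Agent.Helper93.G2S
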