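/-
Helper93: transvections as elements of SL_n inside GL_n (Cfsg.Geo.specialLinear), and elements of SL_n
stabilising / not stabilising subspaces (Cfsg.Geo.subspaceStabilizer).
-/
import Mathlib
import Cfsg.Prelude.Def_GeometricClasses

set_option autoImplicit false

namespace Cfsg.Agent.Helper93

open Cfsg.Geo

variable {F : Type*} [Field F] {n : ℕ}

/-- a transvection `x ↦ x + φ x • v` with `φ v = 0` as an element of `SL_n` inside `GL_n` -/
theorem exists_sl_transvection (φ : Module.Dual F (Fin n → F)) (v : Fin n → F) (h : φ v = 0) :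
    ∃ g : Matrix.GeneralLinearGroup (Fin n) F, g ∈ specialLinear (Fin n) F ∧
      ∀ x : Fin n → F, (g : Matrix (Fin n) (Fin n) F).mulVec x = x + φ x • v := by
  set T : (Fin n → F) →ₗ[F] (Fin n → F) := LinearMap.transvection φ v with hT
  have hdet : (LinearMap.toMatrix' T).det = 1 := by
    rw [LinearMap.det_toMatrix', hT, LinearMap.transvection.det, h, add_zero]
  refine ⟨Matrix.GeneralLinearGroup.mk'' (LinearMap.toMatrix' T) (by rw [hdet]; exact isUnit_one), ?_, ?_⟩
  · unfold specialLinear
    rw [MonoidHom.mem_ker]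
    ext
    simp [hdet]
  · intro x
    rw [show ((Matrix.GeneralLinearGroup.mk'' (LinearMap.toMatrix' T) (by rw [hdet]; exact isUnit_one) : Matrix.GeneralLinearGroup (Fin n) F) : Matrix (Fin n) (Fin n) F) = LinearMap.toMatrix' T from rfl, ← Matrix.toLin'_apply, Matrix.toLin'_toMatrix', hT,
      LinearMap.transvection.apply]

/-- a functional that is `1` at `u` and vanishes on a subspace not containing `u` -/
theorem exists_dual_one_zero (W : Submodule F (Fin n → F)) (u : Fin n → F) (hu : u ∉ W) :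
    ∃ φ : Module.Dual F (Fin n → F), φ u = 1 ∧ ∀ w ∈ W, φ w = 0 := by
  obtain ⟨f, hf, hW⟩ := Submodule.exists_dual_map_eq_bot_of_notMem hu inferInstance
  refine ⟨(f u)⁻¹ • f, by simp [hf], fun w hw => ?_⟩
  have : f w ∈ W.map f := Submodule.mem_map_of_mem hw
  rw [hW, Submodule.mem_bot] at this
  simp [this]

theorem mem_subspaceStabilizer_iff (W : Submodule F (Fin n → F)) (g : Matrix.GeneralLinearGroup (Fin n) F) :
    g ∈ subspaceStabilizer W ↔ ∀ v, v ∈ W ↔ (g : Matrix (Fin n) (Fin n) F).mulVec v ∈ W := Iff.rfl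

/-- an element of `SL_n` fixing `W` pointwise and moving `u` to `u + v`, provided `u ∉ W + ⟨v⟩` -/
theorem exists_sl_stab_move (W : Submodule F (Fin n → F)) (u v : Fin n → F)
    (hu : u ∉ W ⊔ Submodule.span F {v}) :
    ∃ g : Matrix.GeneralLinearGroup (Fin n) F, g ∈ specialLinear (Fin n) F ∧ g ∈ subspaceStabilizer W ∧
      (g : Matrix (Fin n) (Fin n) F).mulVec u = u + v := by
  obtain ⟨φ, hφu, hφW⟩ := exists_dual_one_zero _ u hu
  have hφv : φ v = 0 := hφW v (Submodule.mem_sup_right (Submodule.mem_span_singleton_self v))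
  obtain ⟨g, hg, hgx⟩ := exists_sl_transvection φ v hφv
  refine ⟨g, hg, ?_, by rw [hgx, hφu, one_smul]⟩
  rw [mem_subspaceStabilizer_iff]
  intro x
  rw [hgx]
  constructor
  · intro hx
    rw [hφW x (Submodule.mem_sup_left hx), zero_smul, add_zero]
    exact hx
  · intro hx
    have h0 : φ (x + φ x • v) = 0 := hφW _ (Submodule.mem_sup_left hx)
    rw [map_add, map_smul, hφv, smul_zero, add_zero] at h0
    rwa [h0, zero_smul, add_zero] at hx

/-- for a proper nonzero subspace `W`, some element of `SL_n` does not stabilise `W` -/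
theorem exists_sl_not_stab (W : Submodule F (Fin n → F)) (h0 : W ≠ ⊥) (h1 : W ≠ ⊤) :
    ∃ g : Matrix.GeneralLinearGroup (Fin n) F, g ∈ specialLinear (Fin n) F ∧ g ∉ subspaceStabilizer W := by
  obtain ⟨w, hw, hw0⟩ := Submodule.exists_mem_ne_zero_of_ne_bot h0
  obtain ⟨v, hv⟩ : ∃ v, v ∉ W := by
    by_contra hall
    push Not at hall
    exact h1 (eq_top_iff.mpr fun x _ => hall x)
  have hu : w ∉ (⊥ : Submodule F (Fin n → F)) ⊔ Submodule.span F {v} := by
    rw [bot_sup_eq, Submodule.mem_span_singleton]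
    rintro ⟨c, hc⟩
    have hc0 : c ≠ 0 := by
      rintro rfl
      rw [zero_smul] at hc
      exact hw0 hc.symm
    apply hv
    have : v = c⁻¹ • w := by rw [← hc, smul_smul, inv_mul_cancel₀ hc0, one_smul]
    rw [this]
    exact W.smul_mem _ hw
  obtain ⟨g, hg, -, hgu⟩ := exists_sl_stab_move ⊥ w v hu
  refine ⟨g, hg, fun hstab => ?_⟩
  have := ((mem_subspaceStabilizer_iff W g).mp hstab w).mp hw
  rw [hgu] at this
  exact hv ((W.add_mem_iff_right hw).mp this)

end Cfsg.Agent.Helper93
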