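/-
Helper93: maximality of subspace stabilisers in SL_n (inside GL_n, as Cfsg.Geo.specialLinear):
canonical transvection elements `tv`, the subspace `dirSub M` of transvection directions contained in `M`,
Whitehead decomposition of `diag2n`, and `sl_le_of_dirSub_eq_top` (a subgroup containing all transvections contains SL_n).
-/
import Mathlib
import Cfsg.Agent.Helper93.Transvection

set_option autoImplicit false

namespace Cfsg.Agent.Helper93

open Cfsg.Geo Matrix

variable {F : Type*} [Field F] {n : ℕ}

theorem gl_ext {g g' : Matrix.GeneralLinearGroup (Fin n) F}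
    (h : ∀ x : Fin n → F, (g : Matrix (Fin n) (Fin n) F).mulVec x = (g' : Matrix (Fin n) (Fin n) F).mulVec x) :
    g = g' :=
  Units.ext (Matrix.ext_iff_mulVec.mpr h)

/-- canonical transvection element of `GL_n` -/
noncomputable def tv (φ : Module.Dual F (Fin n → F)) (v : Fin n → F) (h : φ v = 0) :
    Matrix.GeneralLinearGroup (Fin n) F :=
  Classical.choose (exists_sl_transvection φ v h)

theorem tv_mem_sl (φ : Module.Dual F (Fin n → F)) (v : Fin n → F) (h : φ v = 0) :
    tv φ v h ∈ specialLinear (Fin n) F :=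
  (Classical.choose_spec (exists_sl_transvection φ v h)).1

theorem tv_mulVec (φ : Module.Dual F (Fin n → F)) (v : Fin n → F) (h : φ v = 0) (x : Fin n → F) :
    (tv φ v h : Matrix (Fin n) (Fin n) F).mulVec x = x + φ x • v :=
  (Classical.choose_spec (exists_sl_transvection φ v h)).2 x

theorem gl_mul_mulVec (g g' : Matrix.GeneralLinearGroup (Fin n) F) (x : Fin n → F) :
    ((g * g' : Matrix.GeneralLinearGroup (Fin n) F) : Matrix (Fin n) (Fin n) F).mulVec x =
      (g : Matrix (Fin n) (Fin n) F).mulVec ((g' : Matrix (Fin n) (Fin n) F).mulVec x) := by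
  rw [Units.val_mul, Matrix.mulVec_mulVec]

theorem gl_inv_mulVec (g : Matrix.GeneralLinearGroup (Fin n) F) (x : Fin n → F) :
    (g : Matrix (Fin n) (Fin n) F).mulVec (((g⁻¹ : Matrix.GeneralLinearGroup (Fin n) F) :
      Matrix (Fin n) (Fin n) F).mulVec x) = x := by
  rw [← gl_mul_mulVec, mul_inv_cancel, Units.val_one, Matrix.one_mulVec]

theorem gl_inv_mulVec' (g : Matrix.GeneralLinearGroup (Fin n) F) (x : Fin n → F) :
    ((g⁻¹ : Matrix.GeneralLinearGroup (Fin n) F) : Matrix (Fin n) (Fin n) F).mulVec
      ((g : Matrix (Fin n) (Fin n) F).mulVec x) = x := by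
  rw [← gl_mul_mulVec, inv_mul_cancel, Units.val_one, Matrix.one_mulVec]

/-- pull back a functional along a matrix -/
noncomputable def dualPull (φ : Module.Dual F (Fin n → F)) (g : Matrix.GeneralLinearGroup (Fin n) F) :
    Module.Dual F (Fin n → F) :=
  φ.comp (Matrix.mulVecLin (g : Matrix (Fin n) (Fin n) F))

theorem dualPull_apply (φ : Module.Dual F (Fin n → F)) (g : Matrix.GeneralLinearGroup (Fin n) F)
    (x : Fin n → F) : dualPull φ g x = φ ((g : Matrix (Fin n) (Fin n) F).mulVec x) := rfl

/-- conjugating a transvection -/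
theorem tv_conj (g : Matrix.GeneralLinearGroup (Fin n) F) (φ : Module.Dual F (Fin n → F)) (v : Fin n → F)
    (h : φ ((g : Matrix (Fin n) (Fin n) F).mulVec v) = 0) :
    tv φ ((g : Matrix (Fin n) (Fin n) F).mulVec v) h =
      g * tv (dualPull φ g) v (by rw [dualPull_apply]; exact h) * g⁻¹ := by
  apply gl_ext
  intro x
  rw [gl_mul_mulVec, gl_mul_mulVec, tv_mulVec, tv_mulVec, Matrix.mulVec_add, Matrix.mulVec_smul,
    dualPull_apply, gl_inv_mulVec]

theorem tv_smul (φ : Module.Dual F (Fin n → F)) (v : Fin n → F) (c : F) (h : φ (c • v) = 0)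
    (h' : (c • φ) v = 0) : tv φ (c • v) h = tv (c • φ) v h' := by
  apply gl_ext
  intro x
  rw [tv_mulVec, tv_mulVec, LinearMap.smul_apply, smul_smul, smul_eq_mul, mul_comm]


section dir
variable (M : Subgroup (Matrix.GeneralLinearGroup (Fin n) F))

/-- directions `v` all of whose transvections lie in `M` -/
def dirSet : Set (Fin n → F) := {v | ∀ (φ : Module.Dual F (Fin n → F)) (h : φ v = 0), tv φ v h ∈ M}

variable {M}

theorem dirSet_zero : (0 : Fin n → F) ∈ dirSet M := by
  intro φ h
  have : tv φ 0 h = 1 := by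
    apply gl_ext
    intro x
    rw [tv_mulVec, smul_zero, add_zero, Units.val_one, Matrix.one_mulVec]
  rw [this]
  exact M.one_mem

theorem dirSet_smul {v : Fin n → F} (hv : v ∈ dirSet M) (c : F) : c • v ∈ dirSet M := by
  intro φ h
  have h' : (c • φ) v = 0 := by
    rw [LinearMap.smul_apply, ← map_smul]; exact h
  rw [tv_smul φ v c h h']
  exact hv _ h'

/-- moving a direction by an element of `M` -/
theorem dirSet_map {v : Fin n → F} (hv : v ∈ dirSet M) {g : Matrix.GeneralLinearGroup (Fin n) F}
    (hg : g ∈ M) : (g : Matrix (Fin n) (Fin n) F).mulVec v ∈ dirSet M := by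
  intro φ h
  rw [tv_conj g φ v h]
  exact M.mul_mem (M.mul_mem hg (hv _ _)) (M.inv_mem hg)

theorem dirSet_add {u v : Fin n → F} (hu : u ∈ dirSet M) (hv : v ∈ dirSet M) : u + v ∈ dirSet M := by
  by_cases hmem : v ∈ Submodule.span F {u}
  · obtain ⟨c, rfl⟩ := Submodule.mem_span_singleton.mp hmem
    have : u + c • u = (1 + c) • u := by rw [add_smul, one_smul]
    rw [this]
    exact dirSet_smul hu _
  · obtain ⟨ψ, hψv, hψu⟩ := exists_dual_one_zero _ v hmem
    have hψu0 : ψ u = 0 := hψu u (Submodule.mem_span_singleton_self u)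
    have ht : tv ψ u hψu0 ∈ M := hu ψ hψu0
    have := dirSet_map hv ht
    rwa [tv_mulVec, hψv, one_smul, add_comm] at this

/-- the subspace of directions all of whose transvections lie in `M` -/
def dirSub (M : Subgroup (Matrix.GeneralLinearGroup (Fin n) F)) : Submodule F (Fin n → F) where
  carrier := dirSet M
  zero_mem' := dirSet_zero
  add_mem' := dirSet_add
  smul_mem' c _ hv := dirSet_smul hv c

theorem mem_dirSub {v : Fin n → F} :
    v ∈ dirSub M ↔ ∀ (φ : Module.Dual F (Fin n → F)) (h : φ v = 0), tv φ v h ∈ M := Iff.rfl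

/-- transvections with direction in `W` stabilise `W` -/
theorem tv_mem_stab_of_mem (W : Submodule F (Fin n → F)) (φ : Module.Dual F (Fin n → F)) (v : Fin n → F)
    (h : φ v = 0) (hv : v ∈ W) : tv φ v h ∈ subspaceStabilizer W := by
  rw [mem_subspaceStabilizer_iff]
  intro x
  rw [tv_mulVec]
  exact (W.add_mem_iff_left (W.smul_mem _ hv)).symm

/-- transvections whose functional kills `W` stabilise `W` -/
theorem tv_mem_stab_of_ker (W : Submodule F (Fin n → F)) (φ : Module.Dual F (Fin n → F)) (v : Fin n → F)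
    (h : φ v = 0) (hφ : ∀ w ∈ W, φ w = 0) : tv φ v h ∈ subspaceStabilizer W := by
  rw [mem_subspaceStabilizer_iff]
  intro x
  rw [tv_mulVec]
  constructor
  · intro hx
    rw [hφ x hx, zero_smul, add_zero]
    exact hx
  · intro hx
    have h0 : φ (x + φ x • v) = 0 := hφ _ hx
    rw [map_add, map_smul, h, smul_zero, add_zero] at h0
    rwa [h0, zero_smul, add_zero] at hx

theorem le_dirSub (W : Submodule F (Fin n → F))
    (hP : subspaceStabilizer W ⊓ specialLinear (Fin n) F ≤ M) : W ≤ dirSub M := by
  intro v hv φ h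
  exact hP ⟨tv_mem_stab_of_mem W φ v h hv, tv_mem_sl φ v h⟩

theorem dirSub_eq_top (W : Submodule F (Fin n → F))
    (hP : subspaceStabilizer W ⊓ specialLinear (Fin n) F ≤ M) {x : Fin n → F} (hx : x ∈ dirSub M)
    (hxW : x ∉ W) : dirSub M = ⊤ := by
  obtain ⟨φ, hφx, hφW⟩ := exists_dual_one_zero W x hxW
  have hker : ∀ v, φ v = 0 → v ∈ dirSub M := by
    intro v hv
    have ht : tv φ v hv ∈ M := hP ⟨tv_mem_stab_of_ker W φ v hv hφW, tv_mem_sl φ v hv⟩
    have := dirSet_map hx ht
    rw [tv_mulVec, hφx, one_smul] at this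
    exact ((dirSub M).add_mem_iff_right hx).mp this
  rw [eq_top_iff]
  intro y _
  have hy : y = (y - φ y • x) + φ y • x := by abel
  rw [hy]
  refine (dirSub M).add_mem (hker _ ?_) ((dirSub M).smul_mem _ hx)
  rw [map_sub, map_smul, hφx, smul_eq_mul, mul_one, sub_self]

/-- if `M` properly contains the stabiliser of `W` in `SL_n`, then `M` contains all transvections -/
theorem dirSub_eq_top_of_lt (W : Submodule F (Fin n → F))
    (hP : subspaceStabilizer W ⊓ specialLinear (Fin n) F ≤ M) (hM : M ≤ specialLinear (Fin n) F)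
    (hne : M ≠ subspaceStabilizer W ⊓ specialLinear (Fin n) F) : dirSub M = ⊤ := by
  obtain ⟨g, hgM, hgP⟩ := SetLike.exists_of_lt (lt_of_le_of_ne hP (Ne.symm hne))
  have hgW : g ∉ subspaceStabilizer W := fun h => hgP ⟨h, hM hgM⟩
  rw [mem_subspaceStabilizer_iff] at hgW
  push Not at hgW
  obtain ⟨x, hx⟩ := hgW
  rcases hx with ⟨hxW, hgx⟩ | ⟨hxW, hgx⟩
  · exact dirSub_eq_top W hP (dirSet_map (le_dirSub W hP hxW) hgM) hgx
  · have := dirSet_map (le_dirSub W hP hgx) (M.inv_mem hgM)
    rw [gl_inv_mulVec'] at this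
    exact dirSub_eq_top W hP this hxW

end dir


section generation

/-- action of an elementary transvection matrix on a vector -/
theorem elem_mulVec (i j : Fin n) (b : F) (x : Fin n → F) :
    ((1 : Matrix (Fin n) (Fin n) F) + Matrix.single i j b).mulVec x =
      fun k => if k = i then x i + b * x j else x k := by
  funext k
  rw [Matrix.add_mulVec, Matrix.one_mulVec, Pi.add_apply, Matrix.single_mulVec]
  by_cases hk : k = i
  · subst hk
    simp
  · simp [hk]

theorem sl_transvection_mulVec {i j : Fin n} (hij : i ≠ j) (b : F) (x : Fin n → F) :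
    (Matrix.SpecialLinearGroup.transvection hij b : Matrix (Fin n) (Fin n) F).mulVec x =
      fun k => if k = i then x i + b * x j else x k := by
  rw [Matrix.SpecialLinearGroup.transvection_coe, elem_mulVec]

theorem tvec_same {i j : Fin n} (hij : i ≠ j) (b : F) (x : Fin n → F) :
    ((Matrix.SpecialLinearGroup.transvection hij b : Matrix (Fin n) (Fin n) F).mulVec x) i = x i + b * x j := by
  rw [sl_transvection_mulVec]
  exact if_pos rfl

theorem tvec_ne {i j : Fin n} (hij : i ≠ j) (b : F) (x : Fin n → F) {k : Fin n} (hk : k ≠ i) :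
    ((Matrix.SpecialLinearGroup.transvection hij b : Matrix (Fin n) (Fin n) F).mulVec x) k = x k := by
  rw [sl_transvection_mulVec]
  exact if_neg hk

/-- Whitehead: the diagonal element `diag2n` is a product of six elementary transvections -/
theorem diag2n_eq_prod {i j : Fin n} (hij : i ≠ j) (c : F) (hc : c ≠ 0) :
    Matrix.SpecialLinearGroup.diag2n hij c hc =
      Matrix.SpecialLinearGroup.transvection hij c *
      Matrix.SpecialLinearGroup.transvection hij.symm (-c⁻¹) *
      Matrix.SpecialLinearGroup.transvection hij c *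
      Matrix.SpecialLinearGroup.transvection hij (-1) *
      Matrix.SpecialLinearGroup.transvection hij.symm 1 *
      Matrix.SpecialLinearGroup.transvection hij (-1) := by
  apply Subtype.ext
  rw [Matrix.ext_iff_mulVec]
  intro x
  simp only [Matrix.SpecialLinearGroup.coe_mul, ← Matrix.mulVec_mulVec]
  rw [Matrix.SpecialLinearGroup.diag2n_coe]
  funext k
  rw [Matrix.mulVec_diagonal]
  by_cases hki : k = i
  · subst hki
    rw [if_pos rfl]
    simp only [tvec_same, tvec_ne hij.symm _ _ hij, tvec_ne hij _ _ hij.symm]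
    field_simp
    ring
  · by_cases hkj : k = j
    · subst hkj
      rw [if_neg hki, if_pos rfl]
      simp only [tvec_same, tvec_ne hij.symm _ _ hij, tvec_ne hij _ _ hij.symm]
      field_simp
      ring
    · rw [if_neg hki, if_neg hkj, one_mul]
      simp only [tvec_ne hij.symm _ _ hkj, tvec_ne hij _ _ hki]

/-- an elementary transvection, as an element of `GL_n`, is a `tv` -/
theorem toGL_transvection_eq_tv {i j : Fin n} (hij : i ≠ j) (b : F) :
    ∃ (φ : Module.Dual F (Fin n → F)) (v : Fin n → F) (h : φ v = 0),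
      Matrix.SpecialLinearGroup.toGL (Matrix.SpecialLinearGroup.transvection hij b) = tv φ v h := by
  refine ⟨b • LinearMap.proj j, Pi.single i 1, by simp [hij.symm], ?_⟩
  apply gl_ext
  intro x
  rw [tv_mulVec, Matrix.SpecialLinearGroup.coe_GL_coe_matrix, sl_transvection_mulVec]
  funext k
  by_cases hk : k = i
  · subst hk
    simp
  · simp [hk]

/-- a subgroup containing all transvections contains `SL_n` -/
theorem sl_le_of_dirSub_eq_top [Nontrivial (Fin n)] {M : Subgroup (Matrix.GeneralLinearGroup (Fin n) F)}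
    (hM : dirSub M = ⊤) : specialLinear (Fin n) F ≤ M := by
  intro g hg
  have hdet : (g : Matrix (Fin n) (Fin n) F).det = 1 := by
    have : Matrix.GeneralLinearGroup.det g = 1 := hg
    have := congrArg Units.val this
    simpa using this
  have hall : ∀ (φ : Module.Dual F (Fin n → F)) (v : Fin n → F) (h : φ v = 0), tv φ v h ∈ M := by
    intro φ v h
    have : v ∈ dirSub M := by rw [hM]; exact Submodule.mem_top
    exact this φ h
  have hg' : g = Matrix.SpecialLinearGroup.toGL (⟨(g : Matrix (Fin n) (Fin n) F), hdet⟩ :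
      Matrix.SpecialLinearGroup (Fin n) F) := Units.ext rfl
  rw [hg']
  refine Matrix.SpecialLinearGroup.diagonal_transvection_induction'
    (fun A => Matrix.SpecialLinearGroup.toGL A ∈ M) _ ?_ ?_ ?_
  · intro i j hij c hc
    have ht : ∀ (i j : Fin n) (hij : i ≠ j) (a : F),
        Matrix.SpecialLinearGroup.toGL (Matrix.SpecialLinearGroup.transvection hij a) ∈ M := by
      intro i j hij a
      obtain ⟨φ, v, h, heq⟩ := toGL_transvection_eq_tv hij a
      rw [heq]
      exact hall φ v h
    show Matrix.SpecialLinearGroup.toGL (Matrix.SpecialLinearGroup.diag2n hij c hc) ∈ M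
    rw [diag2n_eq_prod hij c hc]
    simp only [map_mul]
    exact M.mul_mem (M.mul_mem (M.mul_mem (M.mul_mem (M.mul_mem (ht _ _ _ _) (ht _ _ _ _)) (ht _ _ _ _))
      (ht _ _ _ _)) (ht _ _ _ _)) (ht _ _ _ _)
  · intro i j hij a
    obtain ⟨φ, v, h, heq⟩ := toGL_transvection_eq_tv hij a
    show Matrix.SpecialLinearGroup.toGL (Matrix.SpecialLinearGroup.transvection hij a) ∈ M
    rw [heq]
    exact hall φ v h
  · intro A B hA hB
    show Matrix.SpecialLinearGroup.toGL (A * B) ∈ M
    rw [map_mul]
    exact M.mul_mem hA hB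

/-- the stabiliser in `SL_n` of a proper nonzero subspace is a maximal subgroup of `SL_n` -/
theorem subspaceStabilizer_isMaximalIn (hn : 2 ≤ n) (W : Submodule F (Fin n → F)) (hW0 : W ≠ ⊥) (hW1 : W ≠ ⊤) :
    IsMaximalIn (specialLinear (Fin n) F) (subspaceStabilizer W ⊓ specialLinear (Fin n) F) := by
  have : Nontrivial (Fin n) := Fin.nontrivial_iff_two_le.mpr hn
  refine ⟨lt_of_le_of_ne inf_le_right fun heq => ?_, fun M hPM hMS => ?_⟩
  · obtain ⟨g, hg, hgW⟩ := exists_sl_not_stab W hW0 hW1
    rw [← heq] at hg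
    exact hgW hg.1
  · by_cases hne : M = subspaceStabilizer W ⊓ specialLinear (Fin n) F
    · exact Or.inl hne
    · right
      exact le_antisymm hMS (sl_le_of_dirSub_eq_top (dirSub_eq_top_of_lt W hPM hMS hne))

end generation

end Cfsg.Agent.Helper93
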