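import Mathlib
import Cfsg.Agent.Helper44.AltSylDefs

set_option autoImplicit false

/-!
# (D1), (X1) of helper44's #8296 (S2221): decomposability is invariant under isomorphism; the join of
two commuting subgroups
-/

namespace Cfsg.Agent.Helper93.AltSyl

open Cfsg.Agent.Helper44.AltSyl

theorem decomp_of_mulEquiv {G H : Type*} [Group G] [Group H] (e : G ≃* H) (h : Decomp G) :
    Decomp H := by
  obtain ⟨S₁, S₂, h1, h2, hc, hi, hs⟩ := h
  have hinj : Function.Injective e.toMonoidHom := e.injective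
  refine ⟨S₁.map e.toMonoidHom, S₂.map e.toMonoidHom, ?_, ?_, ?_, ?_, ?_⟩
  · intro h
    exact h1 ((Subgroup.map_eq_bot_iff_of_injective S₁ hinj).1 h)
  · intro h
    exact h2 ((Subgroup.map_eq_bot_iff_of_injective S₂ hinj).1 h)
  · rintro a ⟨a', ha', rfl⟩ b ⟨b', hb', rfl⟩
    rw [← map_mul, ← map_mul, hc a' ha' b' hb']
  · rw [← Subgroup.map_inf S₁ S₂ e.toMonoidHom hinj, hi, Subgroup.map_bot]
  · rw [← Subgroup.map_sup, hs]
    exact Subgroup.map_top_of_surjective e.toMonoidHom e.surjective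

/-- (D1) -/
theorem decomp_congr {G H : Type*} [Group G] [Group H] (e : G ≃* H) : Decomp G ↔ Decomp H :=
  ⟨decomp_of_mulEquiv e, decomp_of_mulEquiv e.symm⟩

/-- (X1) elements of the join of two commuting subgroups -/
theorem exists_mul_of_mem_sup {G : Type*} [Group G] (A B : Subgroup G)
    (hcomm : ∀ a ∈ A, ∀ b ∈ B, a * b = b * a) (g : G) (hg : g ∈ A ⊔ B) :
    ∃ a ∈ A, ∃ b ∈ B, g = a * b := by
  let T : Subgroup G :=
    { carrier := {g | ∃ a ∈ A, ∃ b ∈ B, g = a * b}
      mul_mem' := by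
        rintro x y ⟨a, ha, b, hb, rfl⟩ ⟨a', ha', b', hb', rfl⟩
        refine ⟨a * a', A.mul_mem ha ha', b * b', B.mul_mem hb hb', ?_⟩
        calc a * b * (a' * b') = a * (b * a') * b' := by group
          _ = a * (a' * b) * b' := by rw [hcomm a' ha' b hb]
          _ = a * a' * (b * b') := by group
      one_mem' := ⟨1, A.one_mem, 1, B.one_mem, (mul_one 1).symm⟩
      inv_mem' := by
        rintro x ⟨a, ha, b, hb, rfl⟩
        refine ⟨a⁻¹, A.inv_mem ha, b⁻¹, B.inv_mem hb, ?_⟩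
        rw [mul_inv_rev, hcomm a⁻¹ (A.inv_mem ha) b⁻¹ (B.inv_mem hb)] }
  have hA : A ≤ T := fun a ha => ⟨a, ha, 1, B.one_mem, (mul_one a).symm⟩
  have hB : B ≤ T := fun b hb => ⟨1, A.one_mem, b, hb, (one_mul b).symm⟩
  exact (sup_le hA hB) hg

end Cfsg.Agent.Helper93.AltSyl
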