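import Mathlib
import Cfsg.Agent.Helper44.AltSylDefs

set_option autoImplicit false

/-!
# (D2), (D4), (D5a), (D5b) of helper44's #8296 (S2221)
-/

namespace Cfsg.Agent.Helper93.AltSyl

open Cfsg.Agent.Helper44.AltSyl

/-- (D2) -/
theorem decomp_subgroup_iff {G : Type*} [Group G] (P : Subgroup G) :
    (∃ S₁ S₂ : Subgroup G, S₁ ≠ ⊥ ∧ S₂ ≠ ⊥ ∧ Cfsg.IsInternalDirectProduct S₁ S₂ P) ↔
      Decomp ↥P := by
  constructor
  · rintro ⟨S₁, S₂, h1, h2, hle1, hle2, hc, hi, hs⟩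
    refine ⟨S₁.subgroupOf P, S₂.subgroupOf P, ?_, ?_, ?_, ?_, ?_⟩
    · intro h
      apply h1
      rw [Subgroup.subgroupOf_eq_bot, disjoint_iff, inf_eq_left.2 hle1] at h
      exact h
    · intro h
      apply h2
      rw [Subgroup.subgroupOf_eq_bot, disjoint_iff, inf_eq_left.2 hle2] at h
      exact h
    · intro a ha b hb
      apply Subtype.ext
      exact hc a.1 (Subgroup.mem_subgroupOf.1 ha) b.1 (Subgroup.mem_subgroupOf.1 hb)
    · rw [eq_bot_iff]
      intro x hx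
      obtain ⟨hx1, hx2⟩ := Subgroup.mem_inf.1 hx
      have : (x : G) ∈ S₁ ⊓ S₂ :=
        Subgroup.mem_inf.2 ⟨Subgroup.mem_subgroupOf.1 hx1, Subgroup.mem_subgroupOf.1 hx2⟩
      rw [hi, Subgroup.mem_bot] at this
      rw [Subgroup.mem_bot]
      exact Subtype.ext this
    · rw [← Subgroup.subgroupOf_sup hle1 hle2, hs, Subgroup.subgroupOf_self]
  · rintro ⟨T₁, T₂, h1, h2, hc, hi, hs⟩
    have hinj : Function.Injective P.subtype := Subgroup.subtype_injective P
    refine ⟨T₁.map P.subtype, T₂.map P.subtype, ?_, ?_, ?_, ?_, ?_, ?_, ?_⟩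
    · intro h
      exact h1 ((Subgroup.map_eq_bot_iff_of_injective T₁ hinj).1 h)
    · intro h
      exact h2 ((Subgroup.map_eq_bot_iff_of_injective T₂ hinj).1 h)
    · exact Subgroup.map_subtype_le T₁
    · exact Subgroup.map_subtype_le T₂
    · rintro a ⟨a', ha', rfl⟩ b ⟨b', hb', rfl⟩
      rw [← map_mul, ← map_mul, hc a' ha' b' hb']
    · rw [← Subgroup.map_inf T₁ T₂ P.subtype hinj, hi, Subgroup.map_bot]
    · rw [← Subgroup.map_sup, hs, ← MonoidHom.range_eq_map, Subgroup.range_subtype]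

/-- (D4) -/
theorem decomp_pi {J : Type*} [DecidableEq J] (Wf : J → Type*) [∀ j, Group (Wf j)]
    (j₁ j₂ : J) (h12 : j₁ ≠ j₂) (h1 : Nontrivial (Wf j₁)) (h2 : Nontrivial (Wf j₂)) :
    Decomp (∀ j, Wf j) := by
  obtain ⟨u₁, hu₁⟩ := exists_ne (1 : Wf j₁)
  obtain ⟨u₂, hu₂⟩ := exists_ne (1 : Wf j₂)
  refine ⟨(MonoidHom.mulSingle Wf j₁).range, (Pi.evalMonoidHom Wf j₁).ker, ?_, ?_, ?_, ?_, ?_⟩
  · intro h
    have hm : MonoidHom.mulSingle Wf j₁ u₁ ∈ (MonoidHom.mulSingle Wf j₁).range := ⟨u₁, rfl⟩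
    rw [h, Subgroup.mem_bot] at hm
    apply hu₁
    have := congrFun hm j₁
    simpa using this
  · intro h
    have hm : MonoidHom.mulSingle Wf j₂ u₂ ∈ (Pi.evalMonoidHom Wf j₁).ker := by
      rw [MonoidHom.mem_ker]
      show Pi.mulSingle j₂ u₂ j₁ = 1
      exact Pi.mulSingle_eq_of_ne h12 u₂
    rw [h, Subgroup.mem_bot] at hm
    apply hu₂
    have := congrFun hm j₂
    simpa using this
  · rintro a ⟨x, rfl⟩ b hb
    have hb' : b j₁ = 1 := hb
    funext j
    by_cases hj : j = j₁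
    · subst hj
      simp [hb']
    · simp [Pi.mulSingle_eq_of_ne hj]
  · rw [eq_bot_iff]
    rintro a ⟨⟨x, rfl⟩, ha⟩
    have ha' : Pi.mulSingle (M := Wf) j₁ x j₁ = 1 := ha
    rw [Pi.mulSingle_eq_same] at ha'
    rw [Subgroup.mem_bot, ha']
    exact map_one _
  · rw [eq_top_iff]
    intro w _
    have hw : w = MonoidHom.mulSingle Wf j₁ (w j₁) * ((MonoidHom.mulSingle Wf j₁ (w j₁))⁻¹ * w) := by
      group
    rw [hw]
    apply Subgroup.mul_mem_sup
    · exact ⟨w j₁, rfl⟩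
    · rw [MonoidHom.mem_ker]
      show ((MonoidHom.mulSingle Wf j₁ (w j₁))⁻¹ * w) j₁ = 1
      simp

/-- the evaluation at `j₀` is bijective if the other factors are trivial -/
theorem eval_bijective_of_subsingleton {J : Type*} [DecidableEq J] (Wf : J → Type*)
    [∀ j, Group (Wf j)] (j₀ : J) (h : ∀ j, j ≠ j₀ → Subsingleton (Wf j)) :
    Function.Bijective (Pi.evalMonoidHom Wf j₀) := by
  constructor
  · intro a b hab
    funext j
    by_cases hj : j = j₀
    · subst hj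
      exact hab
    · have := h j hj
      exact Subsingleton.elim _ _
  · intro x
    exact ⟨Pi.mulSingle j₀ x, Pi.mulSingle_eq_same j₀ x⟩

/-- (D5a) -/
theorem pi_equiv_of_subsingleton {J : Type*} [DecidableEq J] (Wf : J → Type*)
    [∀ j, Group (Wf j)] (j₀ : J) (h : ∀ j, j ≠ j₀ → Subsingleton (Wf j)) :
    Nonempty ((∀ j, Wf j) ≃* Wf j₀) :=
  ⟨MulEquiv.ofBijective (Pi.evalMonoidHom Wf j₀) (eval_bijective_of_subsingleton Wf j₀ h)⟩

/-- (D5b) -/
theorem ker_piSign_equiv_of_subsingleton {J : Type*} [Fintype J] [DecidableEq J]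
    (Wf : J → Type*) [∀ j, Group (Wf j)] (s : ∀ j, Wf j →* ℤˣ) (j₀ : J)
    (h : ∀ j, j ≠ j₀ → Subsingleton (Wf j)) :
    Nonempty (↥(piSign s).ker ≃* ↥(s j₀).ker) := by
  have hval : ∀ w : ∀ j, Wf j, piSign s w = s j₀ (w j₀) := by
    intro w
    rw [piSign_apply, Finset.prod_eq_single j₀]
    · intro j _ hj
      have := h j hj
      rw [Subsingleton.elim (w j) 1, map_one]
    · intro hj
      exact absurd (Finset.mem_univ _) hj
  have hbij := eval_bijective_of_subsingleton Wf j₀ h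
  let f : ↥(piSign s).ker →* ↥(s j₀).ker :=
    { toFun := fun w => ⟨(w : ∀ j, Wf j) j₀, by
        rw [MonoidHom.mem_ker, ← hval]
        exact w.2⟩
      map_one' := rfl
      map_mul' := fun a b => rfl }
  refine ⟨MulEquiv.ofBijective f ⟨?_, ?_⟩⟩
  · intro a b hab
    apply Subtype.ext
    apply hbij.1
    exact congrArg Subtype.val hab
  · intro x
    obtain ⟨w, hw⟩ := hbij.2 x.1
    have hw' : w j₀ = x.1 := hw
    refine ⟨⟨w, ?_⟩, ?_⟩
    · rw [MonoidHom.mem_ker, hval, hw']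
      exact x.2
    · apply Subtype.ext
      exact hw'

end Cfsg.Agent.Helper93.AltSyl
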