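-- helper93: piece (GEN) `iSup_adz_range_eq_top` of helper45's S3777 farm (#13620).
import Mathlib
import Cfsg.Agent.Helper45.VL.Defs

set_option autoImplicit false

universe u

namespace Cfsg.Agent.Helper93.VL

open Cfsg.Agent.Helper1.HKK Cfsg.Agent.Helper93.HKKLG Cfsg.Agent.Helper45.VL
open scoped commutatorElement

variable {G : Type u} [Group G]

theorem GEN_brk_neg_left {i j : ℕ} (a : A G i) (b : A G j) : brkFun (-a) b = - brkFun a b := by
  have h := brkFun_add_left a (-a) b
  rw [add_neg_cancel, brkFun_zero_left] at h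
  exact eq_neg_of_add_eq_zero_right h.symm

/-- (GEN) if the classes of the `z i` generate `A₁` then the brackets with them generate
each graded piece. -/
theorem iSup_adz_range_eq_top {ι : Type*} (z : ι → G)
    (hz : AddSubgroup.closure (Set.range fun i => cls 1 (z i)) = ⊤) (k : ℕ) (hk : 1 ≤ k) :
    ⨆ i, (adz (z i) k).range = ⊤ := by
  set S : AddSubgroup (A G (1 + k)) := ⨆ i, (adz (z i) k).range with hS
  -- step 1: all brackets lie in `S`
  have h1 : ∀ (a : A G 1) (b : A G k), brkFun a b ∈ S := by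
    intro a b
    have ha : a ∈ AddSubgroup.closure (Set.range fun i => cls 1 (z i)) := by
      rw [hz]; trivial
    induction ha using AddSubgroup.closure_induction with
    | mem x hx =>
      obtain ⟨i, rfl⟩ := hx
      exact AddSubgroup.mem_iSup_of_mem i ⟨b, rfl⟩
    | zero => rw [brkFun_zero_left]; exact S.zero_mem
    | add x y _ _ hx hy => rw [brkFun_add_left]; exact S.add_mem hx hy
    | neg x _ hx => rw [GEN_brk_neg_left]; exact S.neg_mem hx
  -- step 2: every element of `γ_{1+k}` has its class in `S`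
  have h2 : ∀ x ∈ Gam G (1 + k), cls (1 + k) x ∈ S := by
    obtain ⟨k', rfl⟩ : ∃ k', k = k' + 1 := ⟨k - 1, by omega⟩
    have hG : Gam G (1 + (k' + 1)) = ⁅Gam G (k' + 1), (⊤ : Subgroup G)⁆ := by
      unfold Gam
      have e1 : 1 + (k' + 1) - 1 = k' + 1 := by omega
      have e2 : k' + 1 - 1 = k' := by omega
      rw [e1, e2, Subgroup.lowerCentralSeries_succ]
    have key : ∀ y ∈ Subgroup.closure {g : G | ∃ g₁ ∈ Gam G (k' + 1), ∃ g₂ ∈ (⊤ : Subgroup G), ⁅g₁, g₂⁆ = g},
        y ∈ Gam G (1 + (k' + 1)) ∧ cls (1 + (k' + 1)) y ∈ S := by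
      intro y hy
      induction hy using Subgroup.closure_induction with
      | mem y hy =>
        obtain ⟨g₁, hg₁, g₂, -, rfl⟩ := hy
        have hg₂ : g₂ ∈ Gam G 1 := Subgroup.mem_top g₂
        have hmem2 : ⁅g₂, g₁⁆ ∈ Gam G (1 + (k' + 1)) := comm_mem_Gam hg₂ hg₁
        have e : ⁅g₁, g₂⁆ = ⁅g₂, g₁⁆⁻¹ := (commutatorElement_inv g₂ g₁).symm
        refine ⟨by rw [e]; exact Subgroup.inv_mem _ hmem2, ?_⟩
        rw [e, cls_inv hmem2, ← brkFun_cls hg₂ hg₁]
        exact S.neg_mem (h1 _ _)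
      | one => exact ⟨Subgroup.one_mem _, by rw [cls_one]; exact S.zero_mem⟩
      | mul a b _ _ ha hb =>
        exact ⟨Subgroup.mul_mem _ ha.1 hb.1, by rw [cls_mul ha.1 hb.1]; exact S.add_mem ha.2 hb.2⟩
      | inv a _ ha =>
        exact ⟨Subgroup.inv_mem _ ha.1, by rw [cls_inv ha.1]; exact S.neg_mem ha.2⟩
    intro x hx
    rw [hG, Subgroup.commutator_def] at hx
    exact (key x hx).2
  rw [eq_top_iff]
  intro a _
  obtain ⟨x, hx, rfl⟩ := cls_surj (1 + k) a
  exact h2 x hx

end Cfsg.Agent.Helper93.VL
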