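-- helper93: piece (NAK) `nak` of helper45's S3777 farm (#13620).
import Mathlib
import Cfsg.Agent.Helper45.VL.Defs

set_option autoImplicit false

universe u

namespace Cfsg.Agent.Helper93.VL

open Cfsg.Agent.Helper1.HKK Cfsg.Agent.Helper93.HKKLG Cfsg.Agent.Helper45.VL

variable {G : Type u} [Group G]

/-- (NAK) Nakayama for finite abelian p-groups. -/
theorem nak {A : Type*} [AddCommGroup A] [Finite A] {p : ℕ} [Fact p.Prime]
    (hA : ∀ a : A, ∃ n : ℕ, p ^ n • a = 0) (B : AddSubgroup A)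
    (h : ∀ a : A, ∃ b ∈ B, ∃ c : A, a = b + p • c) : B = ⊤ := by
  classical
  have := Fintype.ofFinite A
  choose f hf using hA
  let N := Finset.univ.sup f
  have hN : ∀ a : A, p ^ N • a = 0 := by
    intro a
    have hle : f a ≤ N := Finset.le_sup (Finset.mem_univ a)
    obtain ⟨k, hk⟩ := Nat.exists_eq_add_of_le hle
    rw [hk, pow_add, mul_comm, mul_smul, hf a, smul_zero]
  have key : ∀ k : ℕ, ∀ a : A, ∃ b ∈ B, ∃ c : A, a = b + p ^ k • c := by
    intro k
    induction k with
    | zero =>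
      intro a
      exact ⟨0, B.zero_mem, a, by simp⟩
    | succ k ih =>
      intro a
      obtain ⟨b, hb, c, rfl⟩ := ih a
      obtain ⟨b', hb', c', rfl⟩ := h c
      refine ⟨b + p ^ k • b', B.add_mem hb (B.nsmul_mem hb' _), c', ?_⟩
      rw [smul_add, pow_succ, mul_smul, add_assoc]
  rw [eq_top_iff]
  intro a _
  obtain ⟨b, hb, c, rfl⟩ := key N a
  rw [hN c, add_zero]
  exact hb

end Cfsg.Agent.Helper93.VL
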