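-- helper93: piece (PGRP) `A_pgroup` of helper45's S3777 farm (#13620).
import Mathlib
import Cfsg.Agent.Helper45.VL.Defs

set_option autoImplicit false

universe u

namespace Cfsg.Agent.Helper93.VL

open Cfsg.Agent.Helper1.HKK Cfsg.Agent.Helper93.HKKLG Cfsg.Agent.Helper45.VL

variable {G : Type u} [Group G]

/-- `cls n` of a power -/
theorem PGRP_cls_pow {n : ℕ} {x : G} (hx : x ∈ Gam G n) (k : ℕ) :
    cls n (x ^ k) = k • cls n x := by
  induction k with
  | zero => rw [pow_zero, cls_one, zero_smul]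
  | succ k ih =>
    rw [pow_succ, cls_mul (Subgroup.pow_mem _ hx k) hx, ih, succ_nsmul]

/-- (PGRP) the graded pieces of a p-group are p-groups. -/
theorem A_pgroup {p : ℕ} [Fact p.Prime] (hG : IsPGroup p G) (n : ℕ) (a : A G n) :
    ∃ m : ℕ, p ^ m • a = 0 := by
  obtain ⟨x, hx, rfl⟩ := cls_surj n a
  obtain ⟨m, hm⟩ := hG x
  refine ⟨m, ?_⟩
  rw [← PGRP_cls_pow hx, hm, cls_one]

end Cfsg.Agent.Helper93.VL
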