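import Cfsg.Agent.Helper43.PsuM.RDefs

/-!
helper93: piece (PL4) of helper43's block R (#14254, S2089): the canonical lift `plift` is equivariant
under conjugation.
-/

set_option autoImplicit false

namespace Cfsg.Agent.Helper93.PsuM

open scoped commutatorElement
open Cfsg.Agent.Helper96.StLift Cfsg.Agent.Helper43.PsuM

universe u

section plift

variable {Γ G : Type u} [Group Γ] [Group G] [Finite Γ] (τ : Γ →* G) (hτ : Function.Surjective τ)
  (hc : τ.ker ≤ Subgroup.center Γ) (p : ℕ) [Fact p.Prime] (hcop : (Nat.card τ.ker).Coprime p)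

include hτ hc hcop

omit [Finite Γ] [Fact p.Prime] hτ hc hcop in
/-- (PL4) equivariance (no hypotheses needed) -/
theorem plift_conj (X : Subgroup G) (g : Γ) :
    (plift τ p X).map (MulAut.conj g).toMonoidHom =
      plift τ p (X.map (MulAut.conj (τ g)).toMonoidHom) := by
  unfold plift
  rw [MonoidHom.map_closure]
  congr 1
  ext h
  simp only [Set.mem_image, Set.mem_ofPred_eq, Subgroup.mem_map, MulEquiv.coe_toMonoidHom,
    MulAut.conj_apply]
  constructor
  · rintro ⟨s, ⟨hs, k, hk⟩, rfl⟩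
    refine ⟨⟨τ s, hs, ?_⟩, k, ?_⟩
    · simp only [map_mul, map_inv]
    · rw [conj_pow, hk]; group
  · rintro ⟨⟨x, hx, hxh⟩, k, hk⟩
    refine ⟨g⁻¹ * h * g, ⟨?_, k, ?_⟩, by group⟩
    · have : τ (g⁻¹ * h * g) = x := by
        rw [map_mul, map_mul, map_inv, ← hxh]; group
      rw [this]; exact hx
    · have : g⁻¹ * h * g = g⁻¹ * h * g⁻¹⁻¹ := by rw [inv_inv]
      rw [this, conj_pow, hk]; group

end plift

end Cfsg.Agent.Helper93.PsuM
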