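import Cfsg.Agent.Helper43.PsuM.RDefs
import Cfsg.Agent.Helper30.PsuM_PL1

/-!
helper93: piece (PL5) of helper43's block R (#14254, S2089), on top of helper30's (PL1).
-/

set_option autoImplicit false
set_option linter.unusedSectionVars false
set_option linter.unusedVariables false

namespace Cfsg.Agent.Helper93.PsuM

open scoped commutatorElement
open Cfsg.Agent.Helper96.StLift Cfsg.Agent.Helper43.PsuM

universe u

section plift

variable {Γ G : Type u} [Group Γ] [Group G] [Finite Γ] (τ : Γ →* G) (hτ : Function.Surjective τ)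
  (hc : τ.ker ≤ Subgroup.center Γ) (p : ℕ) [Fact p.Prime] (hcop : (Nat.card τ.ker).Coprime p)

include hτ hc hcop

/-- (PL5) -/
theorem mem_plift_of_le {X Y : Subgroup G} (hXY : X ≤ Y) (hY : IsPGroup p Y) {g : Γ}
    (hg : g ∈ plift τ p Y) (hgX : τ g ∈ X) : g ∈ plift τ p X := by
  obtain ⟨-, k, hk⟩ := (Cfsg.Agent.Helper30.PsuM.mem_plift_iff τ hτ hc p hcop Y hY g).mp hg
  exact Subgroup.subset_closure ⟨hgX, k, hk⟩

end plift

end Cfsg.Agent.Helper93.PsuM
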