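import Mathlib

/-!
# (DC) of helper54's #8994 (S0679): the double count against elements of order 3 moving 6 points

`|α| = 11`, `|G| = 7920`, `s ∈ G` of order 3 with `|N_G(⟨s⟩)| ∣ 72`, at most 16 subgroups of order 3 in
every two-point stabiliser.  If `s` moved exactly 6 points, every conjugate `g s g⁻¹` would fix `5 * 4 = 20`
embeddings `Fin 2 ↪ α`; counting the pairs `(x, g)` with `g s g⁻¹ ∈ G_x` in two ways gives
`7920 * 20 ≤ 110 * (72 * 16)`, absurd (the map `g ↦ ⟨g s g⁻¹⟩` has fibres of size `|N_G(⟨s⟩)|`).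
-/

set_option autoImplicit false
set_option linter.unusedSectionVars false
set_option linter.unusedVariables false

namespace Cfsg.Agent.Helper93.D11

open Equiv MulAction

/-- a map all of whose fibres have at most `n` elements -/
theorem card_le_mul_of_fibers {A B : Type*} [Finite A] [Finite B] (f : A → B) (n : ℕ)
    (h : ∀ b, Nat.card {a // f a = b} ≤ n) : Nat.card A ≤ n * Nat.card B := by
  classical
  have := Fintype.ofFinite B
  rw [Nat.card_congr (Equiv.sigmaFiberEquiv f).symm, Nat.card_sigma]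
  calc ∑ b, Nat.card {a // f a = b} ≤ ∑ _b : B, n := Finset.sum_le_sum (fun b _ => h b)
    _ = n * Nat.card B := by
      rw [Finset.sum_const, Finset.card_univ, Nat.card_eq_fintype_card, smul_eq_mul, mul_comm]

section grp

variable {H : Type*} [Group H]

/-- if `g s g⁻¹` and `g₀ s g₀⁻¹` generate the same subgroup then `g₀⁻¹ g` normalises `⟨s⟩` -/
theorem conj_mem_normalizer (s g₀ g : H)
    (h1 : g * s * g⁻¹ ∈ Subgroup.zpowers (g₀ * s * g₀⁻¹))
    (h2 : g₀ * s * g₀⁻¹ ∈ Subgroup.zpowers (g * s * g⁻¹)) :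
    g₀⁻¹ * g ∈ Subgroup.normalizer ((Subgroup.zpowers s : Subgroup H) : Set H) := by
  obtain ⟨k, hk⟩ := Subgroup.mem_zpowers_iff.1 h1
  obtain ⟨k', hk'⟩ := Subgroup.mem_zpowers_iff.1 h2
  rw [conj_zpow] at hk hk'
  have e1 : (g₀⁻¹ * g) * s * (g₀⁻¹ * g)⁻¹ = s ^ k := by
    have : (g₀⁻¹ * g) * s * (g₀⁻¹ * g)⁻¹ = g₀⁻¹ * (g * s * g⁻¹) * g₀ := by group
    rw [this, ← hk]
    group
  have e2 : (g₀⁻¹ * g)⁻¹ * s * (g₀⁻¹ * g) = s ^ k' := by
    have : (g₀⁻¹ * g)⁻¹ * s * (g₀⁻¹ * g) = g⁻¹ * (g₀ * s * g₀⁻¹) * g := by group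
    rw [this, ← hk']
    group
  rw [Subgroup.mem_normalizer_iff]
  intro h
  constructor
  · intro hh
    obtain ⟨j, rfl⟩ := Subgroup.mem_zpowers_iff.1 hh
    rw [← conj_zpow, e1]
    exact Subgroup.zpow_mem _ (Subgroup.zpow_mem _ (Subgroup.mem_zpowers s) k) j
  · intro hh
    obtain ⟨j, hj⟩ := Subgroup.mem_zpowers_iff.1 hh
    have e3 : h = (g₀⁻¹ * g)⁻¹ * s ^ j * (g₀⁻¹ * g) := by
      rw [hj]
      group
    have e4 : (g₀⁻¹ * g)⁻¹ * s ^ j * (g₀⁻¹ * g) = ((g₀⁻¹ * g)⁻¹ * s * (g₀⁻¹ * g)) ^ j := by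
      have := conj_zpow (i := j) (a := (g₀⁻¹ * g)⁻¹) (b := s)
      rw [inv_inv] at this
      exact this.symm
    rw [e3, e4, e2]
    exact Subgroup.zpow_mem _ (Subgroup.zpow_mem _ (Subgroup.mem_zpowers s) k') j

end grp

variable {α : Type*} [Fintype α] [DecidableEq α]

/-- a permutation of 11 points moving 6 of them fixes at least 20 injective pairs -/
theorem twenty_le_card_fixed_emb (hα : Fintype.card α = 11) (t : Perm α)
    (ht : t.support.card = 6) :
    20 ≤ Nat.card {x : Fin 2 ↪ α // ∀ i, t (x i) = x i} := by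
  classical
  have hcard : Fintype.card {a // t a = a} = 5 := by
    rw [Fintype.card_of_subtype (t.support)ᶜ (by
      intro x
      rw [Finset.mem_compl, Equiv.Perm.mem_support, not_not])]
    rw [Finset.card_compl, hα, ht]
  have h20 : Fintype.card (Fin 2 ↪ {a // t a = a}) = 20 := by
    rw [Fintype.card_embedding_eq, hcard, Fintype.card_fin]
    rfl
  rw [← h20, ← Nat.card_eq_fintype_card]
  apply Nat.card_le_card_of_injective
    (fun y : Fin 2 ↪ {a // t a = a} =>
      (⟨y.trans (Function.Embedding.subtype _), fun i => (y i).2⟩ :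
        {x : Fin 2 ↪ α // ∀ i, t (x i) = x i}))
  intro y y' h
  have h1 := congrArg Subtype.val h
  ext i
  have h2 := congrArg (fun e : Fin 2 ↪ α => e i) h1
  exact h2

/-- (DC) -/
theorem no_order_three_support_six (hα : Fintype.card α = 11) (G : Subgroup (Perm α))
    (hcard : Nat.card G = 7920)
    (h16 : ∀ x : Fin 2 ↪ α,
      Nat.card {K : Subgroup (stabilizer G x) // Nat.card K = 3} ≤ 16)
    (s : G) (hs : orderOf s = 3)
    (hN : Nat.card (Subgroup.normalizer ((Subgroup.zpowers s : Subgroup G) : Set G)) ∣ 72) :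
    (s : Perm α).support.card ≠ 6 := by
  classical
  intro hss
  set N := Subgroup.normalizer ((Subgroup.zpowers s : Subgroup G) : Set G) with hNdef
  have hN72 : Nat.card N ≤ 72 := Nat.le_of_dvd (by norm_num) hN
  have : Fintype G := Fintype.ofFinite G
  -- the relation
  let r : (Fin 2 ↪ α) → G → Prop := fun x g => g * s * g⁻¹ ∈ stabilizer G x
  have hord : ∀ g : G, orderOf (g * s * g⁻¹) = 3 := by
    intro g
    have := orderOf_injective (MulAut.conj g).toMonoidHom (MulAut.conj g).injective s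
    rw [← hs, ← this]
    rfl
  -- (c) for each `x`
  have hc : ∀ x : Fin 2 ↪ α, (Finset.univ.filter (fun g : G => r x g)).card ≤ Nat.card N * 16 := by
    intro x
    rw [← Fintype.card_subtype, ← Nat.card_eq_fintype_card]
    let f : {g : G // r x g} → {K : Subgroup (stabilizer G x) // Nat.card K = 3} := fun a =>
      ⟨Subgroup.zpowers (⟨a.1 * s * a.1⁻¹, a.2⟩ : stabilizer G x), by
        rw [Nat.card_zpowers, Subgroup.orderOf_mk]
        exact hord a.1⟩
    have hfib : ∀ b, Nat.card {a // f a = b} ≤ Nat.card N := by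
      intro b
      by_cases hne : Nonempty {a // f a = b}
      · obtain ⟨a₀⟩ := hne
        have key : ∀ a : {a // f a = b}, a₀.1.1⁻¹ * a.1.1 ∈ N := by
          intro a
          have hab : f a.1 = f a₀.1 := a.2.trans a₀.2.symm
          have hab' : Subgroup.zpowers (⟨a.1.1 * s * a.1.1⁻¹, a.1.2⟩ : stabilizer G x) =
              Subgroup.zpowers (⟨a₀.1.1 * s * a₀.1.1⁻¹, a₀.1.2⟩ : stabilizer G x) :=
            congrArg Subtype.val hab
          apply conj_mem_normalizer
          · have h1 : (⟨a.1.1 * s * a.1.1⁻¹, a.1.2⟩ : stabilizer G x) ∈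
                Subgroup.zpowers (⟨a₀.1.1 * s * a₀.1.1⁻¹, a₀.1.2⟩ : stabilizer G x) := by
              rw [← hab']
              exact Subgroup.mem_zpowers _
            obtain ⟨k, hk⟩ := Subgroup.mem_zpowers_iff.1 h1
            rw [Subgroup.mem_zpowers_iff]
            refine ⟨k, ?_⟩
            have := congrArg Subtype.val hk
            simpa using this
          · have h1 : (⟨a₀.1.1 * s * a₀.1.1⁻¹, a₀.1.2⟩ : stabilizer G x) ∈
                Subgroup.zpowers (⟨a.1.1 * s * a.1.1⁻¹, a.1.2⟩ : stabilizer G x) := by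
              rw [hab']
              exact Subgroup.mem_zpowers _
            obtain ⟨k, hk⟩ := Subgroup.mem_zpowers_iff.1 h1
            rw [Subgroup.mem_zpowers_iff]
            refine ⟨k, ?_⟩
            have := congrArg Subtype.val hk
            simpa using this
        apply Nat.card_le_card_of_injective (fun a : {a // f a = b} => (⟨a₀.1.1⁻¹ * a.1.1, key a⟩ : N))
        intro a a' h
        have h1 : a₀.1.1⁻¹ * a.1.1 = a₀.1.1⁻¹ * a'.1.1 := congrArg Subtype.val h
        exact Subtype.ext (Subtype.ext (mul_left_cancel h1))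
      · rw [not_nonempty_iff] at hne
        rw [Nat.card_of_isEmpty]
        exact Nat.zero_le _
    calc Nat.card {g : G // r x g}
        ≤ Nat.card N * Nat.card {K : Subgroup (stabilizer G x) // Nat.card K = 3} :=
          card_le_mul_of_fibers f _ hfib
      _ ≤ Nat.card N * 16 := Nat.mul_le_mul_left _ (h16 x)
  -- (d) for each `g`
  have hd : ∀ g : G, 20 ≤ (Finset.univ.filter (fun x : Fin 2 ↪ α => r x g)).card := by
    intro g
    have hsupp : ((g * s * g⁻¹ : G) : Perm α).support.card = 6 := by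
      have : ((g * s * g⁻¹ : G) : Perm α) = (g : Perm α) * (s : Perm α) * (g : Perm α)⁻¹ := by
        simp
      rw [this, Equiv.Perm.card_support_conj, hss]
    have h20 := twenty_le_card_fixed_emb hα _ hsupp
    rw [Nat.card_eq_fintype_card, Fintype.card_subtype] at h20
    refine h20.trans (Finset.card_le_card ?_)
    intro x hx
    rw [Finset.mem_filter] at hx ⊢
    refine ⟨Finset.mem_univ _, ?_⟩
    show g * s * g⁻¹ ∈ stabilizer G x
    rw [MulAction.mem_stabilizer_iff]
    ext i
    exact hx.2 i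
  -- double counting
  have hdc := Finset.sum_card_bipartiteAbove_eq_sum_card_bipartiteBelow
    (s := (Finset.univ : Finset (Fin 2 ↪ α))) (t := (Finset.univ : Finset G)) r
  have hlow : 7920 * 20 ≤ ∑ g ∈ (Finset.univ : Finset G),
      (Finset.bipartiteBelow r (Finset.univ : Finset (Fin 2 ↪ α)) g).card := by
    calc 7920 * 20 = ∑ _g ∈ (Finset.univ : Finset G), 20 := by
          rw [Finset.sum_const, Finset.card_univ, ← Nat.card_eq_fintype_card, hcard, smul_eq_mul]
      _ ≤ _ := Finset.sum_le_sum (fun g _ => hd g)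
  have hup : ∑ x ∈ (Finset.univ : Finset (Fin 2 ↪ α)),
      (Finset.bipartiteAbove r (Finset.univ : Finset G) x).card ≤ 110 * (72 * 16) := by
    calc _ ≤ ∑ _x ∈ (Finset.univ : Finset (Fin 2 ↪ α)), 72 * 16 :=
          Finset.sum_le_sum (fun x _ => (hc x).trans (Nat.mul_le_mul_right _ hN72))
      _ = 110 * (72 * 16) := by
          rw [Finset.sum_const, Finset.card_univ, Fintype.card_embedding_eq, hα, Fintype.card_fin,
            smul_eq_mul]
          rfl
  rw [hdc] at hup
  have := hlow.trans hup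
  norm_num at this

end Cfsg.Agent.Helper93.D11
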