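import Mathlib

/-!
# (N3a) of helper54's #8994 (S0679): `16 ∤ |N_G(⟨s⟩)|` for `s` of order 3 moving 6 of 11 points

A subgroup `W` of order 16 of the normaliser acts on the 5 fixed points of `s`; as `16 ∤ 120` some
involution of `W` fixes them all, hence moves at most 6 points.
-/

set_option autoImplicit false
set_option linter.unusedSectionVars false
set_option linter.unusedVariables false

namespace Cfsg.Agent.Helper93.D11

open Equiv MulAction

variable {α : Type*} [Fintype α] [DecidableEq α]

/-- an element of the normaliser of `zpowers s` preserves the fixed points of `s` -/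
theorem fix_of_mem_normalizer (G : Subgroup (Perm α)) (s n : G)
    (hn : n ∈ Subgroup.normalizer ((Subgroup.zpowers s : Subgroup G) : Set G)) (a : α)
    (ha : (s : Perm α) a = a) : (s : Perm α) ((n : Perm α) a) = (n : Perm α) a := by
  have h1 := (Subgroup.mem_normalizer_iff''.1 hn s).1 (Subgroup.mem_zpowers s)
  obtain ⟨i, hi⟩ := Subgroup.mem_zpowers_iff.1 h1
  have h2 : s * n = n * s ^ i := by
    rw [hi]
    group
  have h3 : (s : Perm α) * (n : Perm α) = (n : Perm α) * (s : Perm α) ^ i := by
    have := congrArg (fun g : G => (g : Perm α)) h2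
    simpa using this
  have h4 := congrArg (fun g : Perm α => g a) h3
  simp only [Perm.mul_apply] at h4
  rw [h4, Equiv.Perm.zpow_apply_eq_self_of_apply_eq_self ha i]

theorem fix_iff_of_mem_normalizer (G : Subgroup (Perm α)) (s n : G)
    (hn : n ∈ Subgroup.normalizer ((Subgroup.zpowers s : Subgroup G) : Set G)) (a : α) :
    (s : Perm α) ((n : Perm α) a) = (n : Perm α) a ↔ (s : Perm α) a = a := by
  constructor
  · intro h
    have := fix_of_mem_normalizer G s n⁻¹ (Subgroup.inv_mem _ hn) _ h
    simpa using this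
  · exact fix_of_mem_normalizer G s n hn a

/-- the action of a subgroup preserving a predicate on the subtype -/
def subtypeHom (H : Subgroup (Perm α)) (p : α → Prop)
    (hp : ∀ h ∈ H, ∀ a, p ((h : Perm α) a) ↔ p a) : H →* Perm {a // p a} where
  toFun h := (h : Perm α).subtypePerm (hp h.1 h.2)
  map_one' := by
    ext a
    rfl
  map_mul' := by
    intro h k
    ext a
    rfl

/-- a subgroup of order 16 acting on 5 points contains an involution fixing them all -/
theorem exists_invol_fixing (H : Subgroup (Perm α)) (p : α → Prop) [DecidablePred p]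
    (hp : ∀ h ∈ H, ∀ a, p ((h : Perm α) a) ↔ p a) (hH : Nat.card H = 16)
    (hcard : Fintype.card {a // p a} = 5) :
    ∃ t ∈ H, orderOf t = 2 ∧ ∀ a, p a → t a = a := by
  classical
  have hfin : Finite H := Nat.finite_of_card_ne_zero (by rw [hH]; norm_num)
  set φ := subtypeHom H p hp with hφ
  have hker : φ.ker ≠ ⊥ := by
    intro hbot
    have hinj : Function.Injective φ := (MonoidHom.ker_eq_bot_iff φ).1 hbot
    have hdvd := Subgroup.card_dvd_of_injective φ hinj
    rw [hH, Nat.card_eq_fintype_card, Fintype.card_perm, hcard] at hdvd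
    revert hdvd
    decide
  have hk1 : Nat.card φ.ker ≠ 1 := fun h => hker (Subgroup.card_eq_one.1 h)
  have hk2 : Nat.card φ.ker ∣ 2 ^ 4 := by
    have := Subgroup.card_subgroup_dvd_card φ.ker
    rw [hH] at this
    exact this
  obtain ⟨i, -, hi⟩ := (Nat.dvd_prime_pow Nat.prime_two).1 hk2
  have h2 : 2 ∣ Nat.card φ.ker := by
    rw [hi]
    rcases i with _ | i
    · exact absurd hi (by simpa using hk1)
    · exact Dvd.intro_left _ rfl
  have : Fact (Nat.Prime 2) := ⟨Nat.prime_two⟩
  obtain ⟨t, ht⟩ := exists_prime_orderOf_dvd_card' 2 h2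
  refine ⟨((t : H) : Perm α), (t : H).2, ?_, ?_⟩
  · rw [Subgroup.orderOf_coe, Subgroup.orderOf_coe]
    exact ht
  · intro a ha
    have h1 : φ (t : H) = 1 := t.2
    have h3 := congrArg (fun g : Perm {a // p a} => ((g ⟨a, ha⟩ : {a // p a}) : α)) h1
    exact h3

/-- (N3a) -/
theorem not_16_dvd_card_normalizer (hα : Fintype.card α = 11) (G : Subgroup (Perm α))
    (hinv : ∀ t ∈ G, orderOf t = 2 → 8 ≤ t.support.card)
    (s : G) (hs : orderOf s = 3) (hss : (s : Perm α).support.card = 6) :
    ¬ 16 ∣ Nat.card (Subgroup.normalizer ((Subgroup.zpowers s : Subgroup G) : Set G)) := by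
  classical
  intro hdvd
  have : Fact (Nat.Prime 2) := ⟨Nat.prime_two⟩
  set N := Subgroup.normalizer ((Subgroup.zpowers s : Subgroup G) : Set G) with hN
  obtain ⟨W, hW⟩ := Sylow.exists_subgroup_card_pow_prime 2 (n := 4) (by
    show 2 ^ 4 ∣ Nat.card N
    exact hdvd)
  set W' : Subgroup (Perm α) := (W.map N.subtype).map G.subtype with hW'
  have hW'card : Nat.card W' = 16 := by
    rw [hW', Subgroup.card_map_of_injective (Subgroup.subtype_injective G),
      Subgroup.card_map_of_injective (Subgroup.subtype_injective N), hW]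
    norm_num
  have hmem : ∀ h ∈ W', ∃ n : G, n ∈ N ∧ (n : Perm α) = h := by
    intro h hh
    obtain ⟨g, hg, rfl⟩ := Subgroup.mem_map.1 hh
    obtain ⟨n, -, rfl⟩ := Subgroup.mem_map.1 hg
    exact ⟨n.1, n.2, rfl⟩
  have hp : ∀ h ∈ W', ∀ a, (s : Perm α) ((h : Perm α) a) = (h : Perm α) a ↔ (s : Perm α) a = a := by
    intro h hh a
    obtain ⟨n, hn, rfl⟩ := hmem h hh
    exact fix_iff_of_mem_normalizer G s n hn a
  have hcard : Fintype.card {a // (s : Perm α) a = a} = 5 := by
    rw [Fintype.card_of_subtype ((s : Perm α).support)ᶜ (by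
      intro x
      rw [Finset.mem_compl, Equiv.Perm.mem_support, not_not])]
    rw [Finset.card_compl, hα, hss]
  obtain ⟨t, htW, hto, htfix⟩ := exists_invol_fixing W' (fun a => (s : Perm α) a = a) hp hW'card hcard
  have htG : t ∈ G := by
    obtain ⟨n, -, rfl⟩ := hmem t htW
    exact n.2
  have h8 := hinv t htG hto
  have hsub : t.support ⊆ (s : Perm α).support := by
    intro a ha
    rw [Equiv.Perm.mem_support] at ha ⊢
    intro hsa
    exact ha (htfix a hsa)
  have := Finset.card_le_card hsub
  omega

end Cfsg.Agent.Helper93.D11
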