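import Cfsg.Agent.Helper78.HKDefs

/-!
# Harris–Knörr (S4674), piece C1: block induction inside `K` along an identification

For subgroups `X, K` of `G`, a subgroup `Y` of `↥K` and an isomorphism `τ : ↥X ≃* ↥Y` which is the
identity on underlying elements of `G`, block induction "inside `K`" from `X`
(`IsInducedBlockIn M K X`) is the same as block induction of the group `↥K` from its subgroup `Y`
(`IsInducedBlock M Y`), the blocks of `X` being transported along `τ`.
(helper93, for helper78's WANTED board #3512.)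
-/

set_option autoImplicit false
set_option linter.unusedSectionVars false

namespace Cfsg.Agent.Helper93.HKC1

open Cfsg Cfsg.Agent.Helper78

universe u

variable {G : Type u} [Group G] [Fintype G] {M : Ideal AlgInt} {p : ℕ}

omit [Fintype G] in
/-- The induced central character computed in the group `↥K` from `Y` agrees with the one computed
inside `K` from `X`, when `τ : ↥X ≃* ↥Y` is the identity on underlying elements. -/
theorem inducedCentralChar_irrMap_eq {K X : Subgroup G} (Y : Subgroup ↥K) (τ : ↥X ≃* ↥Y)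
    (hτ : ∀ x : X, ((τ x : ↥K) : G) = (x : G)) (ξ : IrrCharacter ↥X) (k : ↥K) :
    inducedCentralChar Y (irrMap τ ξ : ↥Y → ℂ) k =
      inducedCentralCharIn K X (ξ : ↥X → ℂ) (k : G) := by
  unfold inducedCentralChar inducedCentralCharIn
  symm
  apply finsum_mem_eq_of_bijOn τ
  · refine ⟨?_, τ.injective.injOn, ?_⟩
    · rintro c ⟨x, hx⟩
      show IsConj k ((τ c : ↥Y) : ↥K)
      rw [isConj_iff]
      refine ⟨x⁻¹, ?_⟩
      apply Subtype.ext
      show ((x : G))⁻¹ * (k : G) * ((x : G))⁻¹⁻¹ = ((τ c : ↥K) : G)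
      rw [hτ, ← hx]
      group
    · rintro c' hc'
      have hc'' : IsConj k ((c' : ↥Y) : ↥K) := hc'
      rw [isConj_iff] at hc''
      obtain ⟨x, hx⟩ := hc''
      refine ⟨τ.symm c', ⟨x⁻¹, ?_⟩, τ.apply_symm_apply c'⟩
      show ((x : G))⁻¹ * ((τ.symm c' : ↥X) : G) * ((x : G))⁻¹⁻¹ = (k : G)
      have h1 : ((τ.symm c' : ↥X) : G) = ((c' : ↥K) : G) := by
        rw [← hτ, τ.apply_symm_apply]
      rw [h1]
      have h2 := congrArg Subtype.val hx
      rw [← h2]
      show ((x : G))⁻¹ * ((x : G) * (k : G) * ((x : G))⁻¹) * ((x : G))⁻¹⁻¹ = (k : G)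
      group
  · intro c _
    rw [irrMap_apply, irrMap_apply, map_one, τ.symm_apply_apply]

/-- **Piece C1**: block induction inside `K` from `X` is block induction of the group `↥K` from
the copy `Y` of `X`. -/
theorem isInducedBlockIn_iff_of_equiv {K X : Subgroup G} (Y : Subgroup ↥K) (τ : ↥X ≃* ↥Y)
    (hτ : ∀ x : X, ((τ x : ↥K) : G) = (x : G)) {b : Set (IrrCharacter ↥X)}
    {β : Set (IrrCharacter ↥K)} :
    IsInducedBlockIn M K X b β ↔ IsInducedBlock M Y (irrMap τ '' b) β := by
  constructor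
  · rintro ⟨hb, hβ, hind⟩
    refine ⟨Helper77.isPBlock_image_irrMap τ hb, hβ, ?_⟩
    rintro _ ⟨ξ, hξ, rfl⟩ χ hχ k
    rw [inducedCentralChar_irrMap_eq Y τ hτ ξ k]
    exact hind ξ hξ χ hχ k
  · rintro ⟨hb', hβ, hind⟩
    have hb : IsPBlock M b := by
      have h := Helper77.isPBlock_image_irrMap (M := M) τ.symm hb'
      rwa [image_irrMap_symm_image_irrMap] at h
    refine ⟨hb, hβ, ?_⟩
    intro ξ hξ χ hχ k
    have h := hind (irrMap τ ξ) (Set.mem_image_of_mem _ hξ) χ hχ k
    rwa [inducedCentralChar_irrMap_eq Y τ hτ ξ k] at h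

end Cfsg.Agent.Helper93.HKC1
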