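import Cfsg.Agent.Helper6.SPweil1
import Cfsg.Agent.Helper5.SpPerfect
import Cfsg.Agent.Helper73.SUR

/-!
# (W10c) of helper6's part W (S2347): the odd part of the Weil representation

`exists_oddRep_of` is the assembly of (W10c) from the statements of (W9) `exists_weil_hom`,
(W6d) `intertwiner_mem_oddPart`, (W8) `exists_intertwiner_not_scalar` and (W5')
`intertwiner_unique`, taken as hypotheses for ONE nontrivial additive character `ψ`.
-/

set_option autoImplicit false

namespace Cfsg.Agent.Helper93.SPweil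

open Matrix Module Cfsg.Agent.Helper6.SPweil

variable {F : Type*} [Field F] {n : ℕ}

/-- the restriction to the odd functions of a homomorphism into the invertible operators all of
whose values preserve the odd functions -/
noncomputable def oddRestrict {G : Type*} [Group G]
    (s : G →* (((Fin n → F) → ℂ) ≃ₗ[ℂ] ((Fin n → F) → ℂ)))
    (hs : ∀ (g : G) (f : (Fin n → F) → ℂ), f ∈ oddPart F n → s g f ∈ oddPart F n) :
    Representation ℂ G ↥(oddPart F n) where
  toFun g := (s g).toLinearMap.restrict (hs g)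
  map_one' := by
    apply LinearMap.ext
    intro f
    apply Subtype.ext
    show s 1 (f : (Fin n → F) → ℂ) = f
    rw [map_one]
    rfl
  map_mul' := by
    intro g h
    apply LinearMap.ext
    intro f
    apply Subtype.ext
    show s (g * h) (f : (Fin n → F) → ℂ) = s g (s h f)
    rw [map_mul]
    rfl

theorem oddRestrict_apply {G : Type*} [Group G]
    (s : G →* (((Fin n → F) → ℂ) ≃ₗ[ℂ] ((Fin n → F) → ℂ)))
    (hs : ∀ (g : G) (f : (Fin n → F) → ℂ), f ∈ oddPart F n → s g f ∈ oddPart F n)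
    (g : G) (f : ↥(oddPart F n)) :
    ((oddRestrict s hs g f : ↥(oddPart F n)) : (Fin n → F) → ℂ) = s g f := rfl

/-- (W10c), from the statements of (W9), (W6d), (W8), (W5') for one character `ψ` -/
theorem exists_oddRep_of (ψ : AddChar F ℂ)
    (W9 : ∃ s : Matrix.symplecticGroup (Fin n) F →*
      (((Fin n → F) → ℂ) ≃ₗ[ℂ] ((Fin n → F) → ℂ)), ∀ g, Intertwines ψ g (s g))
    (W6d : ∀ (g : Matrix.symplecticGroup (Fin n) F)
      (T : ((Fin n → F) → ℂ) ≃ₗ[ℂ] ((Fin n → F) → ℂ)), Intertwines ψ g T →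
      ∀ f : (Fin n → F) → ℂ, f ∈ oddPart F n → T f ∈ oddPart F n)
    (W8 : ∃ (g : Matrix.symplecticGroup (Fin n) F)
      (T : ((Fin n → F) → ℂ) ≃ₗ[ℂ] ((Fin n → F) → ℂ)) (f : (Fin n → F) → ℂ),
      Intertwines ψ g T ∧ f ∈ oddPart F n ∧ ∀ c : ℂ, T f ≠ c • f)
    (W5' : ∀ (g : Matrix.symplecticGroup (Fin n) F)
      (T T' : ((Fin n → F) → ℂ) ≃ₗ[ℂ] ((Fin n → F) → ℂ)), Intertwines ψ g T →
      Intertwines ψ g T' → ∃ c : ℂ, c ≠ 0 ∧ ∀ f, T' f = c • T f) :
    ∃ (ρ : Representation ℂ (Matrix.symplecticGroup (Fin n) F) ↥(oddPart F n))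
      (g₀ : Matrix.symplecticGroup (Fin n) F), ρ g₀ ≠ 1 := by
  obtain ⟨s, hs⟩ := W9
  obtain ⟨g, T, f, hT, hf, hne⟩ := W8
  refine ⟨oddRestrict s (fun g f hf => W6d g (s g) (hs g) f hf), g, ?_⟩
  intro h1
  obtain ⟨c, hc, hcT⟩ := W5' g T (s g) hT (hs g)
  have h2 : s g f = f := by
    have := congrArg (fun A : ↥(oddPart F n) →ₗ[ℂ] ↥(oddPart F n) =>
      ((A ⟨f, hf⟩ : ↥(oddPart F n)) : (Fin n → F) → ℂ)) h1
    exact this
  apply hne c⁻¹
  rw [← h2, hcT f, smul_smul, inv_mul_cancel₀ hc, one_smul]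
  rw [← hcT f, h2]

/-- a nontrivial additive character of a finite field -/
theorem exists_addChar_ne_zero [Finite F] : ∃ ψ : AddChar F ℂ, ψ ≠ 0 := by
  obtain ⟨ψ, hψ⟩ := (AddChar.exists_apply_ne_zero (α := F) (a := 1)).2 one_ne_zero
  refine ⟨ψ, ?_⟩
  intro h
  apply hψ
  rw [h]
  rfl

/-- `2 ≠ 0` in a finite field of odd order -/
theorem two_ne_zero_of_odd_card [Fintype F] (hodd : Odd (Fintype.card F)) : (2 : F) ≠ 0 := by
  intro h2
  have := FiniteField.even_card_of_char_two (F := F)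
    (CharP.ringChar_of_prime_eq_zero Nat.prime_two h2)
  exact (Nat.not_even_iff_odd.2 hodd) (Nat.even_iff.2 this)

end Cfsg.Agent.Helper93.SPweil
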