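import Mathlib
import Cfsg.Agent.Helper62.D8.Defs

/-!
# (K5) of helper62's #9665 (S3716): the embedding of type 5 is impossible

In signed degrees `X_c`, `E1 - E2 = 0` gives `X_{e₄} = X_{e₁}`; then `∑ d (w₁ - w₄) = 0` reads
`1 + X_{e₁} - X_{e₄} - X_{f₁} = 0`, so `f₁` has degree 1 and is the principal character.

The file also contains the small kit used for (K6): sums of functions supported on the image of an injective
`φ : Fin m → ι` and the evaluation of the indicators `ind`.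
-/

set_option autoImplicit false
set_option linter.unusedSectionVars false
set_option linter.unusedVariables false
set_option linter.unusedSimpArgs false

namespace Cfsg.Agent.Helper93.D8

open Cfsg Cfsg.Agent.Helper62.D8 Finset

variable {ι : Type*} [Fintype ι] [DecidableEq ι]

/-- a sum of a function vanishing outside the image of an injective `φ : Fin m → ι` -/
theorem sum_eq_sum_fin {m : ℕ} {M : Type*} [AddCommMonoid M] (φ : Fin m → ι)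
    (hφ : Function.Injective φ) (g : ι → M) (h0 : ∀ i, (∀ k, φ k ≠ i) → g i = 0) :
    ∑ i, g i = ∑ k, g (φ k) := by
  symm
  apply Finset.sum_of_injOn φ hφ.injOn
  · intro k _
    exact Finset.mem_coe.2 (Finset.mem_univ _)
  · intro i _ hi
    apply h0
    intro k hk
    exact hi ⟨k, Finset.mem_coe.2 (Finset.mem_univ k), hk⟩
  · intro k _
    rfl

theorem ind_apply_inj {m : ℕ} (φ : Fin m → ι) (hφ : Function.Injective φ) (a b : Fin m) :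
    ind (φ a) (φ b) = if b = a then 1 else 0 := by
  unfold ind
  simp only [hφ.eq_iff]

theorem ind_apply_out {m : ℕ} (φ : Fin m → ι) (i : ι) (hi : ∀ k, φ k ≠ i) (a : Fin m) :
    ind (φ a) i = 0 := by
  unfold ind
  rw [if_neg]
  exact fun h => hi a h.symm

/-- `∑ d w₁ = 0` etc. from the arithmetic data -/
theorem sum_d_w {o : ι} {d : ι → ℕ} {A B P Q : ι → ℤ} {n : ℕ} (h : Arith o d A B P Q n)
    (w₁ w₂ w₃ w₄ : ι → ℤ)
    (hA : ∀ i, A i = 2 * (w₃ i + w₄ i) - (w₁ i + w₂ i))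
    (hB : ∀ i, B i = 2 * (w₁ i + w₂ i) - (w₃ i + w₄ i))
    (hP : ∀ i, P i = w₁ i - w₂ i) (hQ : ∀ i, Q i = w₃ i - w₄ i) :
    ∑ i, (d i : ℤ) * w₁ i = 0 ∧ ∑ i, (d i : ℤ) * w₂ i = 0 ∧ ∑ i, (d i : ℤ) * w₃ i = 0 ∧
      ∑ i, (d i : ℤ) * w₄ i = 0 := by
  have key : ∀ (c₁ c₂ c₃ c₄ : ℤ), ∑ i, (d i : ℤ) * (c₁ * A i + c₂ * B i + c₃ * P i + c₄ * Q i) = 0 := by
    intro c₁ c₂ c₃ c₄
    have : ∀ i, (d i : ℤ) * (c₁ * A i + c₂ * B i + c₃ * P i + c₄ * Q i) =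
        c₁ * ((d i : ℤ) * A i) + c₂ * ((d i : ℤ) * B i) + c₃ * ((d i : ℤ) * P i) +
          c₄ * ((d i : ℤ) * Q i) := fun i => by ring
    rw [Finset.sum_congr rfl (fun i _ => this i), Finset.sum_add_distrib, Finset.sum_add_distrib,
      Finset.sum_add_distrib, ← Finset.mul_sum, ← Finset.mul_sum, ← Finset.mul_sum, ← Finset.mul_sum,
      h.dA, h.dB, h.dP, h.dQ]
    ring
  refine ⟨?_, ?_, ?_, ?_⟩
  · have h6 : ∑ i, (d i : ℤ) * (6 * w₁ i) = 0 := by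
      rw [← key 1 2 3 0]
      exact Finset.sum_congr rfl (fun i _ => by rw [hA, hB, hP]; ring)
    rw [Finset.sum_congr rfl (fun i _ => (by ring : (d i : ℤ) * (6 * w₁ i) = 6 * ((d i : ℤ) * w₁ i))),
      ← Finset.mul_sum] at h6
    omega
  · have h6 : ∑ i, (d i : ℤ) * (6 * w₂ i) = 0 := by
      rw [← key 1 2 (-3) 0]
      exact Finset.sum_congr rfl (fun i _ => by rw [hA, hB, hP]; ring)
    rw [Finset.sum_congr rfl (fun i _ => (by ring : (d i : ℤ) * (6 * w₂ i) = 6 * ((d i : ℤ) * w₂ i))),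
      ← Finset.mul_sum] at h6
    omega
  · have h6 : ∑ i, (d i : ℤ) * (6 * w₃ i) = 0 := by
      rw [← key 2 1 0 3]
      exact Finset.sum_congr rfl (fun i _ => by rw [hA, hB, hQ]; ring)
    rw [Finset.sum_congr rfl (fun i _ => (by ring : (d i : ℤ) * (6 * w₃ i) = 6 * ((d i : ℤ) * w₃ i))),
      ← Finset.mul_sum] at h6
    omega
  · have h6 : ∑ i, (d i : ℤ) * (6 * w₄ i) = 0 := by
      rw [← key 2 1 0 (-3)]
      exact Finset.sum_congr rfl (fun i _ => by rw [hA, hB, hQ]; ring)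
    rw [Finset.sum_congr rfl (fun i _ => (by ring : (d i : ℤ) * (6 * w₄ i) = 6 * ((d i : ℤ) * w₄ i))),
      ← Finset.mul_sum] at h6
    omega

/-- `E1 - E2 = 0` -/
theorem sum_E_sub {o : ι} {d : ι → ℕ} {A B P Q : ι → ℤ} {n : ℕ} (h : Arith o d A B P Q n) :
    ∑ i, (((A i : ℚ) ^ 2 * (B i : ℚ)) / (d i : ℚ) - ((A i : ℚ) * (B i : ℚ) ^ 2) / (d i : ℚ)) = 0 := by
  rw [Finset.sum_sub_distrib, h.E1, h.E2, sub_self]

theorem isSign_sq {s : ℤ} (hs : IsSign s) : s * s = 1 := by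
  rcases hs with rfl | rfl <;> norm_num

/-- (K5) type 5 is impossible. -/
theorem shape5_false (o : ι) (d : ι → ℕ) (A B P Q : ι → ℤ) (n : ℕ) (h : Arith o d A B P Q n)
    (w₁ w₂ w₃ w₄ : ι → ℤ)
    (hA : ∀ i, A i = 2 * (w₃ i + w₄ i) - (w₁ i + w₂ i))
    (hB : ∀ i, B i = 2 * (w₁ i + w₂ i) - (w₃ i + w₄ i))
    (hP : ∀ i, P i = w₁ i - w₂ i) (hQ : ∀ i, Q i = w₃ i - w₄ i)
    (hs : Shape5 o w₁ w₂ w₃ w₄) : False := by
  obtain ⟨e₄, f₁, f₂, f₂', e₁, k₃, k₄, hnd, σ₄, τ₁, τ₂, τ₂', σ₁, κ₃, κ₄, hσ₄, hτ₁, hτ₂, hτ₂', hσ₁,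
    hκ₃, hκ₄, hw₁, hw₂, hw₃, hw₄⟩ := hs
  obtain ⟨φ, hφ, h0, h1, h2, h3, h4, h5, h6, h7⟩ : ∃ φ : Fin 8 → ι, Function.Injective φ ∧
      φ 0 = o ∧ φ 1 = e₄ ∧ φ 2 = f₁ ∧ φ 3 = f₂ ∧ φ 4 = f₂' ∧ φ 5 = e₁ ∧ φ 6 = k₃ ∧ φ 7 = k₄ := by
    refine ⟨fun k => [o, e₄, f₁, f₂, f₂', e₁, k₃, k₄].get (Fin.cast rfl k), ?_, rfl, rfl, rfl, rfl,
      rfl, rfl, rfl, rfl⟩
    exact (List.nodup_iff_injective_get.1 hnd).comp (Fin.cast_injective _)
  subst h0 h1 h2 h3 h4 h5 h6 h7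
  have W₁ : ∀ k, w₁ (φ k) = ![1, 0, 0, 0, 0, σ₁, κ₃, κ₄] k := by
    intro k
    rw [hw₁]
    simp only [ind_apply_inj φ hφ]
    fin_cases k <;> simp
  have W₄ : ∀ k, w₄ (φ k) = ![0, σ₄, τ₁, 0, 0, 0, κ₃, κ₄] k := by
    intro k
    rw [hw₄]
    simp only [ind_apply_inj φ hφ]
    fin_cases k <;> simp
  have W₂ : ∀ k, w₂ (φ k) = ![0, 0, τ₁, τ₂, τ₂', 0, 0, κ₄] k := by
    intro k
    rw [hw₂]
    simp only [ind_apply_inj φ hφ]
    fin_cases k <;> simp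
  have W₃ : ∀ k, w₃ (φ k) = ![1, 0, 0, τ₂, τ₂', 0, κ₃, 0] k := by
    intro k
    rw [hw₃]
    simp only [ind_apply_inj φ hφ]
    fin_cases k <;> simp
  have hout : ∀ i, (∀ k, φ k ≠ i) → w₁ i = 0 ∧ w₂ i = 0 ∧ w₃ i = 0 ∧ w₄ i = 0 := by
    intro i hi
    rw [hw₁, hw₂, hw₃, hw₄]
    simp only [ind_apply_out φ i hi]
    simp
  obtain ⟨hS1, -, -, hS4⟩ := sum_d_w h w₁ w₂ w₃ w₄ hA hB hP hQ
  rw [sum_eq_sum_fin φ hφ _ (fun i hi => by rw [(hout i hi).1, mul_zero]), Fin.sum_univ_eight] at hS1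
  rw [sum_eq_sum_fin φ hφ _ (fun i hi => by rw [(hout i hi).2.2.2, mul_zero]), Fin.sum_univ_eight]
    at hS4
  simp only [W₁, W₄] at hS1 hS4
  simp at hS1 hS4
  have hE := sum_E_sub h
  rw [sum_eq_sum_fin φ hφ _ (fun i hi => by
    obtain ⟨a1, a2, a3, a4⟩ := hout i hi
    rw [hA, hB, a1, a2, a3, a4]
    simp), Fin.sum_univ_eight] at hE
  simp only [hA, hB, W₁, W₂, W₃, W₄] at hE
  simp at hE
  have hd0 : d (φ 0) = 1 := h.d_o
  have hd1 := h.dpos (φ 1)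
  have hd5 := h.dpos (φ 5)
  have hd2 := h.dpos (φ 2)
  have e4 : (σ₄ : ℚ) ^ 2 = 1 := by
    have := isSign_sq hσ₄
    rw [pow_two]
    exact_mod_cast this
  have e1 : (σ₁ : ℚ) ^ 2 = 1 := by
    have := isSign_sq hσ₁
    rw [pow_two]
    exact_mod_cast this
  have key : (σ₄ : ℚ) * ((d (φ 1) : ℚ))⁻¹ - (σ₁ : ℚ) * ((d (φ 5) : ℚ))⁻¹ = 0 := by
    linear_combination (-1 / 6 : ℚ) * hE + (-(σ₄ : ℚ) * ((d (φ 1) : ℚ))⁻¹) * e4 +
      ((σ₁ : ℚ) * ((d (φ 5) : ℚ))⁻¹) * e1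
  have hq1 : (d (φ 1) : ℚ) ≠ 0 := by exact_mod_cast hd1.ne'
  have hq5 : (d (φ 5) : ℚ) ≠ 0 := by exact_mod_cast hd5.ne'
  have key2 : (σ₄ : ℚ) * (d (φ 5) : ℚ) = (σ₁ : ℚ) * (d (φ 1) : ℚ) := by
    field_simp at key
    linarith
  have key3 : σ₄ * (d (φ 5) : ℤ) = σ₁ * (d (φ 1) : ℤ) := by exact_mod_cast key2
  have hdiff : (d (φ 0) : ℤ) + (d (φ 5) : ℤ) * σ₁ - (d (φ 1) : ℤ) * σ₄ - (d (φ 2) : ℤ) * τ₁ = 0 := by
    linarith
  have hd2' : d (φ 2) = 1 := by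
    rcases hσ₄ with rfl | rfl <;> rcases hσ₁ with rfl | rfl <;> rcases hτ₁ with rfl | rfl <;> omega
  have := hφ (h.lin (φ 2) hd2')
  exact absurd this (by decide)

end Cfsg.Agent.Helper93.D8
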