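import Mathlib
import Cfsg.Agent.Helper62.D8.Defs
import Cfsg.Agent.Helper93.D8K5
import Cfsg.Agent.Helper41.D8KD6

/-!
# (K6) of helper62's #9665 (S3716): the embedding of type 6 is impossible

Signed degrees `Z_c = s_c * d(c)`.  `E1 - E2 = 0` gives `X_{e₂} = X_{e₄}`; the four relations `∑ d w_j = 0` then give
`Y_{f₂} = Y_{f₃} =: Y`, `K_{k₁} = K_{k₄} =: K`, `X = -Y - 2K`, `F = -1 - Y - K`; `E1` and `∑ d² = 72 n` are the two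
hypotheses of helper41's `dioph_6`.
-/

set_option autoImplicit false
set_option linter.unusedSectionVars false
set_option linter.unusedVariables false
set_option linter.unusedSimpArgs false

namespace Cfsg.Agent.Helper93.D8

open Cfsg Cfsg.Agent.Helper62.D8 Finset

variable {ι : Type*} [Fintype ι] [DecidableEq ι]

/-- residue and range of the signed degree of a column of type `f` -/
theorem f_type (dd : ℕ) (s p : ℤ) (hs : IsSign s) (hp : p = s ∨ p = -s) (hpos : 0 < dd) (hne : dd ≠ 1)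
    (hm0 : ∃ k : ℕ, (dd : ℤ) + 8 * s = 9 * (k : ℤ))
    (hkill : (dd : ℤ) + 8 * s = 0 → (4 : ℤ) ∣ (dd : ℤ) + 2 * p) :
    (s * dd) % 9 = 1 ∧ (10 ≤ s * dd ∨ s * dd ≤ -17) := by
  obtain ⟨k, hk⟩ := hm0
  rcases hs with rfl | rfl
  · refine ⟨by omega, Or.inl (by omega)⟩
  · have hk0 : k ≠ 0 := by
      rintro rfl
      have h4 := hkill (by omega)
      rcases hp with rfl | rfl <;> omega
    refine ⟨by omega, Or.inr (by omega)⟩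

/-- residue and range of the signed degree of a column of type `k` -/
theorem k_type (dd : ℕ) (s : ℤ) (hs : IsSign s) (hpos : 0 < dd)
    (hm0 : ∃ k : ℕ, (dd : ℤ) + 12 * s = 9 * (k : ℤ)) :
    (s * dd) % 9 = 6 ∧ (6 ≤ s * dd ∨ s * dd ≤ -12) := by
  obtain ⟨k, hk⟩ := hm0
  rcases hs with rfl | rfl
  · refine ⟨by omega, Or.inl (by omega)⟩
  · refine ⟨by omega, Or.inr (by omega)⟩

/-- range of the signed degree of a column of type `e` -/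
theorem e_type (dd : ℕ) (s p : ℤ) (hs : IsSign s) (hp : p = s ∨ p = -s) (hpos : 0 < dd)
    (hm0 : ∃ k : ℕ, (dd : ℤ) + 4 * s = 9 * (k : ℤ))
    (hkill : (dd : ℤ) + 4 * s = 0 → (4 : ℤ) ∣ (dd : ℤ) + 2 * p) :
    (5 ≤ s * dd ∨ s * dd ≤ -13) := by
  obtain ⟨k, hk⟩ := hm0
  rcases hs with rfl | rfl
  · exact Or.inl (by omega)
  · have hk0 : k ≠ 0 := by
      rintro rfl
      have h4 := hkill (by omega)
      rcases hp with rfl | rfl <;> omega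
    exact Or.inr (by omega)

theorem sign_mul_inv (s : ℤ) (hs : IsSign s) (x : ℚ) : (s : ℚ) * x⁻¹ = 1 / ((s : ℚ) * x) := by
  rcases hs with rfl | rfl
  · simp
  · rw [Int.cast_neg, Int.cast_one, neg_one_mul, neg_one_mul, one_div, inv_neg]

/-- (K6) type 6 is impossible. -/
theorem shape6_false (o : ι) (d : ι → ℕ) (A B P Q : ι → ℤ) (n : ℕ) (h : Arith o d A B P Q n)
    (w₁ w₂ w₃ w₄ : ι → ℤ)
    (hA : ∀ i, A i = 2 * (w₃ i + w₄ i) - (w₁ i + w₂ i))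
    (hB : ∀ i, B i = 2 * (w₁ i + w₂ i) - (w₃ i + w₄ i))
    (hP : ∀ i, P i = w₁ i - w₂ i) (hQ : ∀ i, Q i = w₃ i - w₄ i)
    (hs : Shape6 o w₁ w₂ w₃ w₄) : False := by
  obtain ⟨e₄, e₂, f₂, k₁, f₃, f₀, k₄, hnd, σ₄, σ₂, τ₂, κ₁, τ₃, φs, κ₄, hσ₄, hσ₂, hτ₂, hκ₁, hτ₃, hφs,
    hκ₄, hw₁, hw₂, hw₃, hw₄⟩ := hs
  obtain ⟨φ, hφ, h0, h1, h2, h3, h4, h5, h6, h7⟩ : ∃ φ : Fin 8 → ι, Function.Injective φ ∧
      φ 0 = o ∧ φ 1 = e₄ ∧ φ 2 = e₂ ∧ φ 3 = f₂ ∧ φ 4 = k₁ ∧ φ 5 = f₃ ∧ φ 6 = f₀ ∧ φ 7 = k₄ := by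
    refine ⟨fun k => [o, e₄, e₂, f₂, k₁, f₃, f₀, k₄].get (Fin.cast rfl k), ?_, rfl, rfl, rfl, rfl,
      rfl, rfl, rfl, rfl⟩
    exact (List.nodup_iff_injective_get.1 hnd).comp (Fin.cast_injective _)
  subst h0 h1 h2 h3 h4 h5 h6 h7
  have W₁ : ∀ k, w₁ (φ k) = ![1, 0, 0, 0, 0, τ₃, φs, κ₄] k := by
    intro k
    rw [hw₁]
    simp only [ind_apply_inj φ hφ]
    fin_cases k <;> simp
  have W₂ : ∀ k, w₂ (φ k) = ![0, 0, σ₂, τ₂, κ₁, 0, 0, κ₄] k := by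
    intro k
    rw [hw₂]
    simp only [ind_apply_inj φ hφ]
    fin_cases k <;> simp
  have W₃ : ∀ k, w₃ (φ k) = ![1, 0, 0, τ₂, κ₁, 0, φs, 0] k := by
    intro k
    rw [hw₃]
    simp only [ind_apply_inj φ hφ]
    fin_cases k <;> simp
  have W₄ : ∀ k, w₄ (φ k) = ![0, σ₄, 0, 0, κ₁, τ₃, 0, κ₄] k := by
    intro k
    rw [hw₄]
    simp only [ind_apply_inj φ hφ]
    fin_cases k <;> simp
  have hout : ∀ i, (∀ k, φ k ≠ i) → w₁ i = 0 ∧ w₂ i = 0 ∧ w₃ i = 0 ∧ w₄ i = 0 := by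
    intro i hi
    rw [hw₁, hw₂, hw₃, hw₄]
    simp only [ind_apply_out φ i hi]
    simp
  have VA : ∀ k, A (φ k) = ![1, 2 * σ₄, -σ₂, τ₂, 3 * κ₁, τ₃, φs, 0] k := by
    intro k
    rw [hA, W₁, W₂, W₃, W₄]
    fin_cases k <;> simp <;> ring
  have VB : ∀ k, B (φ k) = ![1, -σ₄, 2 * σ₂, τ₂, 0, τ₃, φs, 3 * κ₄] k := by
    intro k
    rw [hB, W₁, W₂, W₃, W₄]
    fin_cases k <;> simp <;> ring
  have VP : ∀ k, P (φ k) = ![1, 0, -σ₂, -τ₂, -κ₁, τ₃, φs, 0] k := by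
    intro k
    rw [hP, W₁, W₂]
    fin_cases k <;> simp
  have VQ : ∀ k, Q (φ k) = ![1, -σ₄, 0, τ₂, 0, -τ₃, φs, -κ₄] k := by
    intro k
    rw [hQ, W₃, W₄]
    fin_cases k <;> simp
  obtain ⟨hS1, hS2, hS3, hS4⟩ := sum_d_w h w₁ w₂ w₃ w₄ hA hB hP hQ
  rw [sum_eq_sum_fin φ hφ _ (fun i hi => by rw [(hout i hi).1, mul_zero]), Fin.sum_univ_eight] at hS1
  rw [sum_eq_sum_fin φ hφ _ (fun i hi => by rw [(hout i hi).2.1, mul_zero]), Fin.sum_univ_eight] at hS2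
  rw [sum_eq_sum_fin φ hφ _ (fun i hi => by rw [(hout i hi).2.2.1, mul_zero]), Fin.sum_univ_eight]
    at hS3
  rw [sum_eq_sum_fin φ hφ _ (fun i hi => by rw [(hout i hi).2.2.2, mul_zero]), Fin.sum_univ_eight]
    at hS4
  simp only [W₁, W₂, W₃, W₄] at hS1 hS2 hS3 hS4
  simp at hS1 hS2 hS3 hS4
  have hE := sum_E_sub h
  rw [sum_eq_sum_fin φ hφ _ (fun i hi => by
    obtain ⟨a1, a2, a3, a4⟩ := hout i hi
    rw [hA, hB, a1, a2, a3, a4]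
    simp), Fin.sum_univ_eight] at hE
  simp only [VA, VB] at hE
  simp at hE
  have hE1 := h.E1
  rw [sum_eq_sum_fin φ hφ _ (fun i hi => by
    obtain ⟨a1, a2, a3, a4⟩ := hout i hi
    rw [hA, hB, a1, a2, a3, a4]
    simp), Fin.sum_univ_eight] at hE1
  simp only [VA, VB] at hE1
  simp at hE1
  have hdd := h.dd
  have hd0 : d (φ 0) = 1 := h.d_o
  simp only [hd0, Nat.cast_one, inv_one] at hE1 hS1 hS3
  -- sign squares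
  have sq : ∀ s : ℤ, IsSign s → (s : ℚ) ^ 2 = 1 := by
    intro s hs
    have := isSign_sq hs
    rw [pow_two]
    exact_mod_cast this
  have s4 := sq σ₄ hσ₄
  have s2 := sq σ₂ hσ₂
  have t2 := sq τ₂ hτ₂
  have t3 := sq τ₃ hτ₃
  have sf := sq φs hφs
  have key1 : (σ₄ : ℚ) * ((d (φ 1) : ℚ))⁻¹ = (σ₂ : ℚ) * ((d (φ 2) : ℚ))⁻¹ := by
    linear_combination (-1 / 6 : ℚ) * hE + (-(σ₄ : ℚ) * ((d (φ 1) : ℚ))⁻¹) * s4 +
      ((σ₂ : ℚ) * ((d (φ 2) : ℚ))⁻¹) * s2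
  have hE1' : (1 : ℚ) - 4 * ((σ₄ : ℚ) * ((d (φ 1) : ℚ))⁻¹) + 2 * ((σ₂ : ℚ) * ((d (φ 2) : ℚ))⁻¹) +
      (τ₂ : ℚ) * ((d (φ 3) : ℚ))⁻¹ + (τ₃ : ℚ) * ((d (φ 5) : ℚ))⁻¹ + (φs : ℚ) * ((d (φ 6) : ℚ))⁻¹ =
      9 / (n : ℚ) := by
    linear_combination hE1 + (4 * (σ₄ : ℚ) * ((d (φ 1) : ℚ))⁻¹) * s4 -
      (2 * (σ₂ : ℚ) * ((d (φ 2) : ℚ))⁻¹) * s2 - ((τ₂ : ℚ) * ((d (φ 3) : ℚ))⁻¹) * t2 -
      ((τ₃ : ℚ) * ((d (φ 5) : ℚ))⁻¹) * t3 - ((φs : ℚ) * ((d (φ 6) : ℚ))⁻¹) * sf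
  -- `X₄ = X₂`
  have hX42 : σ₄ * (d (φ 1) : ℤ) = σ₂ * (d (φ 2) : ℤ) := by
    rw [sign_mul_inv _ hσ₄, sign_mul_inv _ hσ₂, one_div, one_div, inv_inj] at key1
    exact_mod_cast key1
  -- the integer unknowns
  obtain ⟨Y, hYdef⟩ : ∃ Y : ℤ, Y = τ₂ * (d (φ 3) : ℤ) := ⟨_, rfl⟩
  obtain ⟨K, hKdef⟩ : ∃ K : ℤ, K = κ₁ * (d (φ 4) : ℤ) := ⟨_, rfl⟩
  have hY3 : τ₃ * (d (φ 5) : ℤ) = Y := by linarith
  have hK4 : κ₄ * (d (φ 7) : ℤ) = K := by linarith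
  have hX2 : σ₂ * (d (φ 2) : ℤ) = -Y - 2 * K := by linarith
  have hX4 : σ₄ * (d (φ 1) : ℤ) = -Y - 2 * K := by linarith
  have hF : φs * (d (φ 6) : ℤ) = -1 - Y - K := by linarith
  -- values of `A B P Q` at the points needed
  have A1 : A (φ 1) = 2 * σ₄ := by rw [VA]; simp
  have B1 : B (φ 1) = -σ₄ := by rw [VB]; simp
  have Q1 : Q (φ 1) = -σ₄ := by rw [VQ]; simp
  have A3 : A (φ 3) = τ₂ := by rw [VA]; simp
  have B3 : B (φ 3) = τ₂ := by rw [VB]; simp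
  have P3 : P (φ 3) = -τ₂ := by rw [VP]; simp
  have A4 : A (φ 4) = 3 * κ₁ := by rw [VA]; simp
  have B4 : B (φ 4) = 0 := by rw [VB]; simp
  have A6 : A (φ 6) = φs := by rw [VA]; simp
  have B6 : B (φ 6) = φs := by rw [VB]; simp
  have P6 : P (φ 6) = φs := by rw [VP]; simp
  have ne3 : d (φ 3) ≠ 1 := fun hd => absurd (hφ (h.lin (φ 3) hd)) (by decide)
  have ne6 : d (φ 6) ≠ 1 := fun hd => absurd (hφ (h.lin (φ 6) hd)) (by decide)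
  obtain ⟨hYm, rY⟩ : Y % 9 = 1 ∧ (10 ≤ Y ∨ Y ≤ -17) := by
    rw [hYdef]
    refine f_type (d (φ 3)) τ₂ (-τ₂) hτ₂ (Or.inr rfl) (h.dpos _) ne3 ?_ ?_
    · obtain ⟨k, hk⟩ := h.m0 (φ 3)
      exact ⟨k, by rw [A3, B3] at hk; linarith⟩
    · intro h0
      have := h.killP (φ 3) (by rw [A3, B3]; linarith)
      rwa [P3] at this
  obtain ⟨hKm, rK⟩ : K % 9 = 6 ∧ (6 ≤ K ∨ K ≤ -12) := by
    rw [hKdef]
    refine k_type (d (φ 4)) κ₁ hκ₁ (h.dpos _) ?_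
    obtain ⟨k, hk⟩ := h.m0 (φ 4)
    exact ⟨k, by rw [A4, B4] at hk; linarith⟩
  have rX : 5 ≤ -Y - 2 * K ∨ -Y - 2 * K ≤ -13 := by
    rw [← hX4]
    refine e_type (d (φ 1)) σ₄ (-σ₄) hσ₄ (Or.inr rfl) (h.dpos _) ?_ ?_
    · obtain ⟨k, hk⟩ := h.m0 (φ 1)
      exact ⟨k, by rw [A1, B1] at hk; linarith⟩
    · intro h0
      have := h.killQ (φ 1) (by rw [A1, B1]; linarith)
      rwa [Q1] at this
  have rF : 10 ≤ -1 - Y - K ∨ -1 - Y - K ≤ -17 := by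
    rw [← hF]
    refine (f_type (d (φ 6)) φs φs hφs (Or.inl rfl) (h.dpos _) ne6 ?_ ?_).2
    · obtain ⟨k, hk⟩ := h.m0 (φ 6)
      exact ⟨k, by rw [A6, B6] at hk; linarith⟩
    · intro h0
      have := h.killP (φ 6) (by rw [A6, B6]; linarith)
      rwa [P6] at this
  -- the equation `E1`
  have qX4 : (σ₄ : ℚ) * (d (φ 1) : ℚ) = -(Y : ℚ) - 2 * (K : ℚ) := by exact_mod_cast hX4
  have qX2 : (σ₂ : ℚ) * (d (φ 2) : ℚ) = -(Y : ℚ) - 2 * (K : ℚ) := by exact_mod_cast hX2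
  have qY2 : (τ₂ : ℚ) * (d (φ 3) : ℚ) = (Y : ℚ) := by exact_mod_cast hYdef.symm
  have qY3 : (τ₃ : ℚ) * (d (φ 5) : ℚ) = (Y : ℚ) := by exact_mod_cast hY3
  have qF : (φs : ℚ) * (d (φ 6) : ℚ) = -1 - (Y : ℚ) - (K : ℚ) := by exact_mod_cast hF
  rw [sign_mul_inv _ hσ₄, sign_mul_inv _ hσ₂, sign_mul_inv _ hτ₂, sign_mul_inv _ hτ₃,
    sign_mul_inv _ hφs, qX4, qX2, qY2, qY3, qF] at hE1'
  have hEfin : (1 : ℚ) - 2 / (-(Y : ℚ) - 2 * (K : ℚ)) + 2 / (Y : ℚ) + 1 / (-1 - (Y : ℚ) - (K : ℚ)) =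
      9 / (n : ℚ) := by
    linear_combination hE1'
  -- the bound `S ≤ 72 n`
  have hSle : ∑ k, (d (φ k) : ℤ) ^ 2 ≤ ∑ i, (d i : ℤ) ^ 2 := by
    rw [← Finset.sum_image (s := Finset.univ) (g := φ) (f := fun i => (d i : ℤ) ^ 2)
      (fun a _ b _ hab => hφ hab)]
    exact Finset.sum_le_sum_of_subset_of_nonneg (Finset.subset_univ _) (fun i _ _ => sq_nonneg _)
  rw [hdd, Fin.sum_univ_eight, hd0] at hSle
  have sqd : ∀ (s : ℤ) (dd : ℕ) (Z : ℤ), IsSign s → s * (dd : ℤ) = Z → (dd : ℤ) ^ 2 = Z ^ 2 := by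
    intro s dd Z hs hZ
    rw [← hZ]
    linear_combination (-(dd : ℤ) ^ 2) * (isSign_sq hs)
  rw [sqd _ _ _ hσ₄ hX4, sqd _ _ _ hσ₂ hX2, sqd _ _ _ hτ₂ hYdef.symm, sqd _ _ _ hκ₁ hKdef.symm,
    sqd _ _ _ hτ₃ hY3, sqd _ _ _ hφs hF, sqd _ _ _ hκ₄ hK4] at hSle
  refine Cfsg.Agent.Helper41.D8.dioph_6 Y K n hYm hKm rY rK rX rF h.n10 hEfin ?_
  push_cast at hSle
  linarith

end Cfsg.Agent.Helper93.D8
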