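-- helper93: piece (NIL) `no_invariant_of_nilpotent` of helper62's S2444 farm (#12939).
import Mathlib
import Cfsg.Agent.Helper62.Ore.Defs

set_option autoImplicit false

namespace Cfsg.Agent.Helper93.Ore

open Polynomial Module Cfsg.Agent.Helper62.Ore

variable {F : Type*} [Field F] {V : Type*} [AddCommGroup V] [Module F V]

/-- (NIL) nilpotent partial inverse ⇒ no invariant subspace in `ker ε`. -/
theorem no_invariant_of_nilpotent [FiniteDimensional F V] (B : V ≃ₗ[F] V) (ε : Module.Dual F V)
    (z : V)
    (hN : IsNilpotent ((B.symm : V →ₗ[F] V) -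
      (ε.comp (B.symm : V →ₗ[F] V)).smulRight (B.symm z))) :
    ∀ W : Submodule F V, W ≤ LinearMap.ker ε → (∀ x ∈ W, B x ∈ W) → W = ⊥ := by
  intro W hWε hWB
  -- `B` restricted to `W` is injective, hence surjective
  have hsymm : ∀ x ∈ W, B.symm x ∈ W := by
    intro x hx
    let R : W →ₗ[F] W := (B : V →ₗ[F] V).restrict hWB
    have hinj : Function.Injective R := by
      intro a b hab
      apply Subtype.ext
      have := congrArg Subtype.val hab
      simp only [R, LinearMap.coe_restrict_apply, LinearEquiv.coe_coe] at this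
      exact B.injective this
    have hsurj : Function.Surjective R := LinearMap.injective_iff_surjective.1 hinj
    obtain ⟨y, hy⟩ := hsurj ⟨x, hx⟩
    have h1 : B (y : V) = x := by
      have := congrArg Subtype.val hy
      simpa only [R, LinearMap.coe_restrict_apply, LinearEquiv.coe_coe] using this
    rw [← h1, LinearEquiv.symm_apply_apply]
    exact y.2
  set N : V →ₗ[F] V := (B.symm : V →ₗ[F] V) -
      (ε.comp (B.symm : V →ₗ[F] V)).smulRight (B.symm z) with hNdef
  have hNW : ∀ x ∈ W, N x = B.symm x := by
    intro x hx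
    have h0 : ε (B.symm x) = 0 := LinearMap.mem_ker.1 (hWε (hsymm x hx))
    simp [hNdef, LinearMap.smulRight_apply, h0]
  have hpow : ∀ k : ℕ, ∀ x ∈ W, (N ^ k) x = 0 → x = 0 := by
    intro k
    induction k with
    | zero =>
      intro x _ h
      simpa using h
    | succ k ih =>
      intro x hx h
      rw [pow_succ, Module.End.mul_apply, hNW x hx] at h
      have := ih (B.symm x) (hsymm x hx) h
      exact (LinearEquiv.map_eq_zero_iff B.symm).1 this
  obtain ⟨k, hk⟩ := hN
  rw [Submodule.eq_bot_iff]
  intro x hx
  apply hpow k x hx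
  rw [hk]
  rfl

end Cfsg.Agent.Helper93.Ore
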