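import Mathlib
import Cfsg.Agent.Helper84.SU3P.Defs

/-!
# Piece (BUL) of helper84's S2289 farm: uniqueness in the Bruhat decomposition, left factor
-/

set_option autoImplicit false

namespace Cfsg.Agent.Helper93.SU3P

open Matrix Polynomial Cfsg.Agent.Helper84.RU3 Cfsg.Agent.Helper96.SLPres
  Cfsg.Agent.Helper96.StemSLTwo Cfsg.Agent.Helper96.StPres Cfsg.Agent.Helper84.SU3P

section B

variable {K : Type*} [Field K] (bar : K →+* K) (hb : ∀ x, bar (bar x) = x)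

/-- (BUL) uniqueness in the Bruhat decomposition, left factor -/
theorem bruhat_left {ε : K} (hε : ε ≠ 0) (hεb : bar ε = -ε) {a b : K}
    (hab : b + bar b + a * bar a = 0) (hb0 : b ≠ 0)
    (B₄ : Matrix (Fin 3) (Fin 3) K) (hB₄ : B₄ 1 0 = 0 ∧ B₄ 2 0 = 0) (a₃ b₃ l₃ : K) (hl₃ : l₃ ≠ 0)
    (h : tM ε * uM bar a b * tM (-ε) = uM bar a₃ b₃ * hM bar l₃ * tM ε * B₄) :
    a₃ = a / (ε * b) ∧ b₃ = -1 / (ε ^ 2 * b) := by
  have hbl : bar l₃ ≠ 0 := (map_ne_zero bar).2 hl₃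
  have e0 : (tM ε * uM bar a b * tM (-ε)) 0 0 = 1 := by
    simp [tM, uM, Matrix.mul_apply, Fin.sum_univ_three]
    field_simp
  have e1 : (tM ε * uM bar a b * tM (-ε)) 1 0 = -(ε * a) := by
    simp [tM, uM, Matrix.mul_apply, Fin.sum_univ_three]
    ring
  have e2 : (tM ε * uM bar a b * tM (-ε)) 2 0 = -(ε ^ 2 * b) := by
    simp [tM, uM, Matrix.mul_apply, Fin.sum_univ_three]
    ring
  have r0 : (uM bar a₃ b₃ * hM bar l₃ * tM ε * B₄) 0 0 = b₃ * (B₄ 0 0 * ε / bar l₃) := by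
    simp [tM, uM, hM, Matrix.mul_apply, Fin.sum_univ_three, hB₄.1, hB₄.2]
    ring
  have r1 : (uM bar a₃ b₃ * hM bar l₃ * tM ε * B₄) 1 0 = a₃ * (B₄ 0 0 * ε / bar l₃) := by
    simp [tM, uM, hM, Matrix.mul_apply, Fin.sum_univ_three, hB₄.1, hB₄.2]
    ring
  have r2 : (uM bar a₃ b₃ * hM bar l₃ * tM ε * B₄) 2 0 = B₄ 0 0 * ε / bar l₃ := by
    simp [tM, uM, hM, Matrix.mul_apply, Fin.sum_univ_three, hB₄.1, hB₄.2]
    ring
  rw [h] at e0 e1 e2
  rw [r0] at e0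
  rw [r1] at e1
  rw [r2] at e2
  rw [e2] at e0 e1
  have hκ : ε ^ 2 * b ≠ 0 := mul_ne_zero (pow_ne_zero 2 hε) hb0
  constructor
  · have h1 : ε * (a₃ * (ε * b)) = ε * a := by linear_combination (-1 : K) * e1
    have h2 := mul_left_cancel₀ hε h1
    rw [eq_div_iff (mul_ne_zero hε hb0)]
    exact h2
  · rw [eq_div_iff hκ]
    linear_combination (-1 : K) * e0

end B

end Cfsg.Agent.Helper93.SU3P
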