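import Cfsg.Agent.Helper74.SN.Defs
import Cfsg.Agent.Helper67.CyclicSub

/-!
helper93, SN farm of helper74 (#14619, S4073), core of the leaf (C3B) `centralizer_solvable_false`:
the statement with (CT3A) taken as a hypothesis.
-/

set_option autoImplicit false
set_option linter.unusedSectionVars false
set_option linter.unusedVariables false
set_option linter.dupNamespace false
set_option linter.style.haveILetI false

namespace Cfsg.Agent.Helper93.SNG

open Cfsg Cfsg.Agent.Helper74.SNG Pointwise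

universe u

/-- conjugation by an element normalizing `⟨x⟩` preserves the centralizer of `x` -/
theorem C3B_conj_mem {G : Type u} [Group G] (x h y : G)
    (hh : h ∈ Subgroup.normalizer ((Subgroup.zpowers x : Subgroup G) : Set G))
    (hy : y ∈ Subgroup.centralizer ({x} : Set G)) :
    h * y * h⁻¹ ∈ Subgroup.centralizer ({x} : Set G) := by
  rw [Subgroup.mem_centralizer_singleton_iff] at hy ⊢
  rw [Subgroup.mem_normalizer_iff] at hh
  have h1 : h⁻¹ * x * h ∈ Subgroup.zpowers x := by
    rw [hh (h⁻¹ * x * h)]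
    have : h * (h⁻¹ * x * h) * h⁻¹ = x := by group
    rw [this]
    exact Subgroup.mem_zpowers x
  obtain ⟨k, hk⟩ := Subgroup.mem_zpowers_iff.mp h1
  have h2 : Commute y (h⁻¹ * x * h) := by
    rw [← hk]
    exact (Commute.zpow_right hy k)
  have e1 : h * y * h⁻¹ * x = h * (y * (h⁻¹ * x * h)) * h⁻¹ := by group
  have e2 : x * (h * y * h⁻¹) = h * ((h⁻¹ * x * h) * y) * h⁻¹ := by group
  rw [e1, e2, h2.eq]

theorem C3B_normalizer_zpowers_le {G : Type u} [Group G] (x : G) :
    Subgroup.normalizer ((Subgroup.zpowers x : Subgroup G) : Set G) ≤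
      Subgroup.normalizer ((Subgroup.centralizer ({x} : Set G) : Subgroup G) : Set G) := by
  intro g hg
  rw [Subgroup.mem_normalizer_iff]
  intro y
  constructor
  · exact C3B_conj_mem x g y hg
  · intro hy
    have := C3B_conj_mem x g⁻¹ _ (Subgroup.inv_mem _ hg) hy
    have e : g⁻¹ * (g * y * g⁻¹) * g⁻¹⁻¹ = y := by group
    rwa [e] at this


section Cases

variable {G : Type u} [Group G] [Finite G] [IsSimpleGroup G]

/-- (CT3B) from (CT3A) -/
theorem C3B_of
    (hCT3A : ∀ (H : Type u) [Group H] [Finite H] [Group.IsSolvable H], SN H →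
      ¬ Group.IsNilpotent H → ∀ x : H, x ∈ Subgroup.center H → ∀ (r : ℕ) [Fact r.Prime],
      orderOf x = r → ∀ S : Sylow r H,
      IsCyclic (S : Subgroup H) ∧ Subgroup.normalizer ((S : Subgroup H) : Set H) = S)
    (hna : ¬ IsMulCommutative G) (hSN : SN G) (x : G) {r : ℕ}
    [Fact r.Prime] (hxr : orderOf x = r)
    (hsol : Group.IsSolvable (Subgroup.centralizer ({x} : Set G)))
    (hnn : ¬ Group.IsNilpotent (Subgroup.centralizer ({x} : Set G))) : False := by
  classical
  have hr : r.Prime := Fact.out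
  set C : Subgroup G := Subgroup.centralizer ({x} : Set G) with hC
  have hx1 : x ≠ 1 := by
    intro h
    rw [h, orderOf_one] at hxr
    exact hr.ne_one hxr.symm
  have hxC : x ∈ C := Subgroup.mem_centralizer_singleton_iff.mpr rfl
  have hCcomm : ∀ c ∈ C, c * x = x * c := fun c hc => Subgroup.mem_centralizer_singleton_iff.mp hc
  -- `C` is not abelian
  have hCna : ¬ IsMulCommutative C := by
    intro h
    apply hnn
    haveI : IsMulCommutative ↥C := h
    letI : CommGroup ↥C := { (inferInstance : Group ↥C) with mul_comm := h.is_comm.comm }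
    exact CommGroup.isNilpotent
  -- the element `x` inside `C`
  set x' : C := ⟨x, hxC⟩ with hx'
  have hx'c : x' ∈ Subgroup.center ↥C := by
    rw [Subgroup.mem_center_iff]
    intro c
    exact Subtype.ext (hCcomm c.1 c.2)
  have hx'r : orderOf x' = r := by rw [hx', Subgroup.orderOf_mk, hxr]
  have hZ' : IsPGroup r (Subgroup.zpowers x') :=
    IsPGroup.of_card (n := 1) (by rw [Nat.card_zpowers, hx'r, pow_one])
  obtain ⟨S₀, hS₀⟩ := hZ'.exists_le_sylow
  haveI := hsol
  obtain ⟨hcyc, hnorm⟩ := hCT3A ↥C (hSN.subgroup C) hnn x' hx'c r hx'r S₀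
  -- the image `S` of `S₀` in `G`
  set S : Subgroup G := (S₀ : Subgroup ↥C).map C.subtype with hS
  have hSC : S ≤ C := Subgroup.map_subtype_le _
  have hxS : x ∈ S := ⟨x', hS₀ (Subgroup.mem_zpowers x'), rfl⟩
  have hSp : IsPGroup r S := S₀.isPGroup'.map C.subtype
  haveI hScyc : IsCyclic S := by
    haveI := hcyc
    exact isCyclic_of_surjective ((S₀ : Subgroup ↥C).equivMapOfInjective C.subtype
      C.subtype_injective).toMonoidHom
      ((S₀ : Subgroup ↥C).equivMapOfInjective C.subtype C.subtype_injective).surjective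
  have hmemS : ∀ g (hg : g ∈ C), g ∈ S ↔ (⟨g, hg⟩ : C) ∈ (S₀ : Subgroup ↥C) := by
    intro g hg
    constructor
    · rintro ⟨y, hy, hyg⟩
      have : y = ⟨g, hg⟩ := Subtype.ext hyg
      rw [← this]; exact hy
    · intro h
      exact ⟨⟨g, hg⟩, h, rfl⟩
  obtain ⟨Q, hSQ⟩ := hSp.exists_le_sylow
  -- `C ⊓ Q ≤ S`
  have hCQ : C ⊓ (Q : Subgroup G) ≤ S := by
    have hD : IsPGroup r ((C ⊓ (Q : Subgroup G)).subgroupOf C) :=
      (Q.isPGroup'.to_le inf_le_right).comap_subtype
    have hle : (S₀ : Subgroup ↥C) ≤ (C ⊓ (Q : Subgroup G)).subgroupOf C := by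
      intro y hy
      rw [Subgroup.mem_subgroupOf]
      exact ⟨y.2, hSQ ⟨y, hy, rfl⟩⟩
    have heq := S₀.is_maximal' hD hle
    intro g hg
    have hgC : g ∈ C := hg.1
    rw [hmemS g hgC, ← heq, Subgroup.mem_subgroupOf]
    exact hg
  -- an element of order `r` in the center of `Q`
  have hxQ : x ∈ (Q : Subgroup G) := hSQ hxS
  haveI : Nontrivial ↥(Q : Subgroup G) := ⟨⟨⟨x, hxQ⟩, 1, fun h => hx1 (congrArg Subtype.val h)⟩⟩
  haveI := Q.isPGroup'.center_nontrivial
  have hdvd : r ∣ Nat.card (Subgroup.center ↥(Q : Subgroup G)) := by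
    have hZQ : IsPGroup r (Subgroup.center ↥(Q : Subgroup G)) :=
      Q.isPGroup'.to_subgroup _
    rcases hZQ.card_eq_or_dvd with h | h
    · exfalso
      have := (Nat.card_eq_one_iff_unique.mp h).1
      exact not_nontrivial _ ‹Nontrivial ↥(Subgroup.center ↥(Q : Subgroup G))›
    · exact h
  obtain ⟨z, hz⟩ := exists_prime_orderOf_dvd_card' r hdvd
  set zG : G := ((z : ↥(Q : Subgroup G)) : G) with hzG
  have hzr : orderOf zG = r := by
    rw [hzG, Subgroup.orderOf_coe, Subgroup.orderOf_coe, hz]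
  have hzQ : zG ∈ (Q : Subgroup G) := (z : ↥(Q : Subgroup G)).2
  have hzcomm : ∀ q ∈ (Q : Subgroup G), q * zG = zG * q := by
    intro q hq
    have := Subgroup.mem_center_iff.mp z.2 ⟨q, hq⟩
    exact congrArg Subtype.val this
  have hzS : zG ∈ S := hCQ ⟨Subgroup.mem_centralizer_singleton_iff.mpr (hzcomm x hxQ).symm, hzQ⟩
  -- `⟨z⟩ = ⟨x⟩`
  have hzx : Subgroup.zpowers zG = Subgroup.zpowers x := by
    apply Cfsg.Agent.Helper67.eq_of_card_eq_of_le_cyclic S
    · rw [Subgroup.zpowers_le]; exact hzS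
    · rw [Subgroup.zpowers_le]; exact hxS
    · rw [Nat.card_zpowers, Nat.card_zpowers, hzr, hxr]
  -- `Q ≤ C`, hence `Q = S`
  have hQC : (Q : Subgroup G) ≤ C := by
    intro q hq
    rw [hC, Subgroup.mem_centralizer_singleton_iff]
    have hxz : x ∈ Subgroup.zpowers zG := by rw [hzx]; exact Subgroup.mem_zpowers x
    obtain ⟨k, hk⟩ := Subgroup.mem_zpowers_iff.mp hxz
    rw [← hk]
    exact (Commute.zpow_right (hzcomm q hq) k).eq
  have hQS : (Q : Subgroup G) = S := le_antisymm (fun q hq => hCQ ⟨hQC hq, hq⟩) hSQ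
  -- the normalizer of `S` is `S`
  have hNS : Subgroup.normalizer ((S : Subgroup G) : Set G) ≤ S := by
    intro g hg
    -- `g` normalizes `⟨x⟩`
    have hgx : g ∈ Subgroup.normalizer ((Subgroup.zpowers x : Subgroup G) : Set G) := by
      have hle : MulAut.conj g • Subgroup.zpowers x ≤ S := by
        intro t ht
        rw [Subgroup.mem_pointwise_smul_iff_inv_smul_mem, MulAut.smul_def, ← map_inv,
          MulAut.conj_apply, inv_inv] at ht
        have h1 : g⁻¹ * t * g ∈ S := (Subgroup.zpowers_le.mpr hxS) ht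
        have h2 := (Subgroup.mem_normalizer_iff.mp hg (g⁻¹ * t * g)).mp h1
        have e : g * (g⁻¹ * t * g) * g⁻¹ = t := by group
        rwa [e] at h2
      have hcard : Nat.card (MulAut.conj g • Subgroup.zpowers x : Subgroup G) =
          Nat.card (Subgroup.zpowers x) :=
        (Nat.card_congr (Subgroup.equivSMul (MulAut.conj g) (Subgroup.zpowers x)).toEquiv).symm
      have heq : MulAut.conj g • Subgroup.zpowers x = Subgroup.zpowers x :=
        Cfsg.Agent.Helper67.eq_of_card_eq_of_le_cyclic S _ _ hle (Subgroup.zpowers_le.mpr hxS) hcard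
      rw [Subgroup.mem_normalizer_iff]
      intro y
      have h3 : g * y * g⁻¹ ∈ MulAut.conj g • Subgroup.zpowers x ↔ y ∈ Subgroup.zpowers x := by
        rw [Subgroup.mem_pointwise_smul_iff_inv_smul_mem, MulAut.smul_def, ← map_inv,
          MulAut.conj_apply, inv_inv]
        have e : g⁻¹ * (g * y * g⁻¹) * g = y := by group
        rw [e]
      rw [heq] at h3
      exact h3.symm
    have hgC : g ∈ C := by
      have h1 := C3B_normalizer_zpowers_le x hgx
      rw [hSN C hCna] at h1
      exact h1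
    -- `g` normalizes `S₀` inside `C`
    have h2 : (⟨g, hgC⟩ : C) ∈ Subgroup.normalizer ((S₀ : Subgroup ↥C) : Set ↥C) := by
      rw [Subgroup.mem_normalizer_iff]
      intro y
      rw [← hmemS y.1 y.2]
      have : (⟨g, hgC⟩ * y * ⟨g, hgC⟩⁻¹ : C) = ⟨g * y.1 * g⁻¹, (⟨g, hgC⟩ * y * ⟨g, hgC⟩⁻¹ : C).2⟩ := rfl
      rw [this, ← hmemS]
      exact Subgroup.mem_normalizer_iff.mp hg y.1
    rw [hnorm] at h2
    exact (hmemS g hgC).mpr h2
  -- Burnside
  have hScomm : ∀ a ∈ S, ∀ b ∈ S, a * b = b * a :=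
    (isMulCommutative_iff S).mp inferInstance
  have hNC : Subgroup.normalizer ((Q : Subgroup G) : Set G) ≤
      Subgroup.centralizer ((Q : Subgroup G) : Set G) := by
    intro g hg
    rw [hQS] at hg ⊢
    have hgS := hNS hg
    rw [Subgroup.mem_centralizer_iff]
    intro q hq
    exact hScomm q hq g hgS
  have hcompl := MonoidHom.ker_transferSylow_isComplement' Q hNC
  rcases (MonoidHom.normal_ker (MonoidHom.transferSylow Q hNC)).eq_bot_or_eq_top with hK | hK
  · -- `Q = ⊤`
    rw [hK] at hcompl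
    have hQtop : (Q : Subgroup G) = ⊤ := by
      have := hcompl.sup_eq_top
      rwa [bot_sup_eq] at this
    apply hna
    rw [isMulCommutative_type_iff]
    intro a b
    have ha : a ∈ S := by rw [← hQS, hQtop]; trivial
    have hb : b ∈ S := by rw [← hQS, hQtop]; trivial
    exact hScomm a ha b hb
  · -- `Q = ⊥`
    rw [hK] at hcompl
    have hQbot : (Q : Subgroup G) = ⊥ := by
      have := hcompl.disjoint
      rwa [top_disjoint] at this
    rw [hQbot, Subgroup.mem_bot] at hxQ
    exact hx1 hxQ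

end Cases

end Cfsg.Agent.Helper93.SNG
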