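import Cfsg.Agent.Helper74.SN.Defs
import Cfsg.Agent.Helper74.SN_FS

/-!
helper93, SN farm of helper74 (#14619, S4073), bundle (FG): `IsCT.comm_of_isPGroup` (CTS) and `SN.sylow_comm` (FG).
-/

set_option autoImplicit false
set_option linter.unusedSectionVars false
set_option linter.unusedVariables false
set_option linter.dupNamespace false
set_option linter.style.haveILetI false

namespace Cfsg.Agent.Helper93.SNG

open Cfsg Cfsg.Agent.Helper74.SNG

universe u

/-- (CTS) In a finite CT-group every `p`-subgroup is abelian. -/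
theorem IsCT.comm_of_isPGroup {G : Type u} [Group G] [Finite G] (h : IsCT G) {p : ℕ} [Fact p.Prime]
    (P : Subgroup G) (hP : IsPGroup p P) : IsMulCommutative P := by
  rw [Cfsg.Agent.Helper74.SNG.isMulCommutative_iff]
  intro a ha b hb
  by_cases ha1 : a = 1
  · rw [ha1, one_mul, mul_one]
  by_cases hb1 : b = 1
  · rw [hb1, one_mul, mul_one]
  haveI : Nontrivial ↥P := ⟨⟨⟨a, ha⟩, 1, fun h => ha1 (congrArg Subtype.val h)⟩⟩
  haveI := hP.center_nontrivial
  obtain ⟨z, hz⟩ := exists_ne (1 : Subgroup.center ↥P)
  have hz1 : ((z : ↥P) : G) ≠ 1 := by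
    intro h
    apply hz
    exact Subtype.ext (Subtype.ext h)
  have hzc : ∀ q ∈ P, q * ((z : ↥P) : G) = ((z : ↥P) : G) * q := by
    intro q hq
    have := Subgroup.mem_center_iff.mp z.2 ⟨q, hq⟩
    exact congrArg Subtype.val this
  exact (h a _ b ha1 hz1 hb1 (hzc a ha) (hzc b hb).symm).eq

/-- a finite group which is not solvable has a normal subgroup with simple nonabelian quotient -/
theorem FG_exists_max_normal {H : Type u} [Group H] [Finite H] (hns : ¬ Group.IsSolvable H) :
    ∃ R : Subgroup H, R.Normal ∧ R ≠ ⊤ ∧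
      ∀ N : Subgroup H, N.Normal → R ≤ N → N = R ∨ N = ⊤ := by
  classical
  have hbt : (⊥ : Subgroup H) ≠ ⊤ := by
    intro h
    apply hns
    apply Group.isSolvable_of_comm
    intro a b
    have ha : a ∈ (⊥ : Subgroup H) := by rw [h]; trivial
    have hb : b ∈ (⊥ : Subgroup H) := by rw [h]; trivial
    rw [Subgroup.mem_bot] at ha hb
    rw [ha, hb]
  haveI : Nonempty {N : Subgroup H // N.Normal ∧ N ≠ ⊤} := ⟨⟨⊥, inferInstance, hbt⟩⟩
  obtain ⟨R, hR⟩ := Finite.exists_max (fun N : {N : Subgroup H // N.Normal ∧ N ≠ ⊤} => Nat.card N.1)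
  refine ⟨R.1, R.2.1, R.2.2, ?_⟩
  intro N hN hRN
  by_cases hNt : N = ⊤
  · exact Or.inr hNt
  · left
    have h1 := hR ⟨N, hN, hNt⟩
    exact (Subgroup.eq_of_le_of_card_ge hRN h1).symm

/-- (FG) In an SN-group whose simple nonabelian quotients are CT, a Sylow subgroup which is not the
whole group is abelian. -/
theorem SN.sylow_comm {H : Type u} [Group H] [Finite H] (h : SN H)
    (IH : ∀ (R : Subgroup H) [R.Normal], IsSimpleGroup (H ⧸ R) → ¬ IsMulCommutative (H ⧸ R) →
      IsCT (H ⧸ R))
    {p : ℕ} [Fact p.Prime] (P : Sylow p H) (hP : (P : Subgroup H) ≠ ⊤) :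
    IsMulCommutative (P : Subgroup H) := by
  classical
  by_cases hsolv : Group.IsSolvable H
  · haveI := hsolv
    exact Cfsg.Agent.Helper74.SNG.SN.sylow_comm_of_solvable h P hP
  obtain ⟨R, hRn, hRt, hRmax⟩ := FG_exists_max_normal hsolv
  haveI := hRn
  have hRab : IsMulCommutative R := h.comm_of_normal R hRt
  have hRcomm := (Cfsg.Agent.Helper74.SNG.isMulCommutative_iff R).mp hRab
  set π : H →* H ⧸ R := QuotientGroup.mk' R with hπ
  have hπs : Function.Surjective π := QuotientGroup.mk'_surjective R
  have hker : π.ker = R := QuotientGroup.ker_mk' R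
  -- the quotient is simple
  have hsimple : IsSimpleGroup (H ⧸ R) := by
    obtain ⟨g, hg⟩ : ∃ g : H, g ∉ R := by
      by_contra hall
      push Not at hall
      exact hRt (eq_top_iff.mpr fun x _ => hall x)
    refine { exists_pair_ne := ⟨π g, 1, fun h1 => hg ?_⟩, eq_bot_or_eq_top_of_normal := ?_ }
    · rw [← hker, MonoidHom.mem_ker]; exact h1
    · intro N' hN'
      have hle : R ≤ N'.comap π := by
        intro x hx
        have h0 : π x = 1 := by rw [← MonoidHom.mem_ker, hker]; exact hx
        show π x ∈ N'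
        rw [h0]; exact N'.one_mem
      rcases hRmax (N'.comap π) (hN'.comap π) hle with h1 | h1
      · left
        rw [eq_bot_iff]
        intro y hy
        obtain ⟨x, rfl⟩ := hπs y
        have : x ∈ N'.comap π := hy
        rw [h1, ← hker, MonoidHom.mem_ker] at this
        rw [Subgroup.mem_bot]; exact this
      · right
        rw [eq_top_iff]
        intro y _
        obtain ⟨x, rfl⟩ := hπs y
        have : x ∈ N'.comap π := by rw [h1]; trivial
        exact this
  -- the quotient is not abelian
  have hnaQ : ¬ IsMulCommutative (H ⧸ R) := by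
    intro hab
    apply hsolv
    haveI : Group.IsSolvable ↥R := Group.isSolvable_of_comm fun a b => Subtype.ext (hRcomm a.1 a.2 b.1 b.2)
    haveI : Group.IsSolvable (H ⧸ R) := Group.isSolvable_of_comm hab.is_comm.comm
    refine Group.isSolvable_of_ker_le_range R.subtype π ?_
    rw [hker, Subgroup.range_subtype]
  have hCT : IsCT (H ⧸ R) := IH R hsimple hnaQ
  -- the image of `P` is abelian
  have hPb : IsMulCommutative ((P : Subgroup H).map π) :=
    IsCT.comm_of_isPGroup hCT _ (P.isPGroup'.map π)
  have hPbcomm := (Cfsg.Agent.Helper74.SNG.isMulCommutative_iff _).mp hPb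
  by_cases hRP : R ≤ (P : Subgroup H)
  · -- `P` is the full preimage of its image
    have hcm : ((P : Subgroup H).map π).comap π = P :=
      Subgroup.comap_map_eq_self (by rw [hker]; exact hRP)
    have hmemP : ∀ y : H, y ∈ (P : Subgroup H) ↔ π y ∈ (P : Subgroup H).map π := by
      intro y
      rw [← Subgroup.mem_comap, hcm]
    by_cases hPbot : (P : Subgroup H).map π = ⊥
    · have hPR : (P : Subgroup H) ≤ R := by
        rw [← hker]
        exact (Subgroup.map_eq_bot_iff _).mp hPbot
      exact isMulCommutative_mono hPR hRab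
    · set Pb : Sylow p (H ⧸ R) := P.mapSurjective hπs with hPbdef
      have hPbcoe : (Pb : Subgroup (H ⧸ R)) = (P : Subgroup H).map π := Sylow.coe_mapSurjective hπs P
      -- the normalizer of `Pb` is bigger than `Pb`
      have hex : ∃ y : H ⧸ R, y ∈ Subgroup.normalizer ((Pb : Subgroup (H ⧸ R)) : Set (H ⧸ R)) ∧
          y ∉ (Pb : Subgroup (H ⧸ R)) := by
        by_contra hcon
        push Not at hcon
        have hNC : Subgroup.normalizer ((Pb : Subgroup (H ⧸ R)) : Set (H ⧸ R)) ≤
            Subgroup.centralizer ((Pb : Subgroup (H ⧸ R)) : Set (H ⧸ R)) := by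
          intro y hy
          have hyP := hcon y hy
          rw [Subgroup.mem_centralizer_iff]
          intro q hq
          rw [SetLike.mem_coe, hPbcoe] at hq
          rw [hPbcoe] at hyP
          exact hPbcomm q hq y hyP
        have hcompl := MonoidHom.ker_transferSylow_isComplement' Pb hNC
        rcases (MonoidHom.normal_ker (MonoidHom.transferSylow Pb hNC)).eq_bot_or_eq_top with hK | hK
        · rw [hK] at hcompl
          have hQtop : (Pb : Subgroup (H ⧸ R)) = ⊤ := by
            have := hcompl.sup_eq_top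
            rwa [bot_sup_eq] at this
          apply hnaQ
          rw [isMulCommutative_type_iff]
          intro a b
          have ha : a ∈ (P : Subgroup H).map π := by rw [← hPbcoe, hQtop]; trivial
          have hb : b ∈ (P : Subgroup H).map π := by rw [← hPbcoe, hQtop]; trivial
          exact hPbcomm a ha b hb
        · rw [hK] at hcompl
          have hQbot : (Pb : Subgroup (H ⧸ R)) = ⊥ := by
            have := hcompl.disjoint
            rwa [top_disjoint] at this
          rw [hPbcoe] at hQbot
          exact hPbot hQbot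
      obtain ⟨y, hyN, hyP⟩ := hex
      obtain ⟨g, rfl⟩ := hπs y
      have hgN : g ∈ Subgroup.normalizer ((P : Subgroup H) : Set H) := by
        rw [Subgroup.mem_normalizer_iff]
        intro t
        rw [hmemP t, hmemP (g * t * g⁻¹), map_mul, map_mul, map_inv, ← hPbcoe]
        exact Subgroup.mem_normalizer_iff.mp hyN (π t)
      have hgP : g ∉ (P : Subgroup H) := by
        intro hg
        apply hyP
        rw [hPbcoe]
        exact Subgroup.mem_map_of_mem π hg
      exact h.comm_of_normalizer hgN hgP
  · -- `L = P ⊔ R` is solvable and `P ≠ L`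
    set L : Subgroup H := (P : Subgroup H) ⊔ R with hL
    have hPL : (P : Subgroup H) ≤ L := le_sup_left
    have hRL : R ≤ L := le_sup_right
    have hLimg : ∀ l ∈ L, π l ∈ (P : Subgroup H).map π := by
      intro l hl
      have h1 : π l ∈ L.map π := Subgroup.mem_map_of_mem π hl
      rw [hL, Subgroup.map_sup] at h1
      have h2 : R.map π = ⊥ := (Subgroup.map_eq_bot_iff _).mpr hker.ge
      rw [h2, sup_bot_eq] at h1
      exact h1
    haveI : Group.IsSolvable ↥L := by
      set g : ↥L →* H ⧸ R := π.comp L.subtype with hg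
      haveI : Group.IsSolvable ↥R := Group.isSolvable_of_comm fun a b => Subtype.ext (hRcomm a.1 a.2 b.1 b.2)
      haveI : Group.IsSolvable ↥g.range := by
        apply Group.isSolvable_of_comm
        rintro ⟨a, l, rfl⟩ ⟨b, l', rfl⟩
        apply Subtype.ext
        exact hPbcomm _ (hLimg l.1 l.2) _ (hLimg l'.1 l'.2)
      refine Group.isSolvable_of_ker_le_range (Subgroup.inclusion hRL) g.rangeRestrict ?_
      intro l hl
      rw [MonoidHom.mem_ker] at hl
      have h1 : g l = 1 := by
        have := congrArg Subtype.val hl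
        exact this
      have h2 : (l : H) ∈ R := by
        rw [← hker, MonoidHom.mem_ker]; exact h1
      exact ⟨⟨l.1, h2⟩, Subtype.ext rfl⟩
    have hSNL : SN ↥L := h.subgroup L
    set P' : Sylow p ↥L := P.subtype hPL with hP'
    have hP'coe : (P' : Subgroup ↥L) = (P : Subgroup H).subgroupOf L := Sylow.coe_subtype P hPL
    have hP't : (P' : Subgroup ↥L) ≠ ⊤ := by
      intro ht
      apply hRP
      intro x hx
      have : (⟨x, hRL hx⟩ : L) ∈ (P' : Subgroup ↥L) := by rw [ht]; trivial
      rw [hP'coe, Subgroup.mem_subgroupOf] at this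
      exact this
    have hab := Cfsg.Agent.Helper74.SNG.SN.sylow_comm_of_solvable hSNL P' hP't
    rw [hP'coe] at hab
    have habc := (Cfsg.Agent.Helper74.SNG.isMulCommutative_iff _).mp hab
    rw [Cfsg.Agent.Helper74.SNG.isMulCommutative_iff]
    intro a ha b hb
    have := habc ⟨a, hPL ha⟩ (Subgroup.mem_subgroupOf.mpr ha) ⟨b, hPL hb⟩ (Subgroup.mem_subgroupOf.mpr hb)
    exact congrArg Subtype.val this

end Cfsg.Agent.Helper93.SNG
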