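import Mathlib

/-!
# (ORB) of helper78's #9400 (S4931): orbit counting for a `p`-group with a single fixed point

`f` is constant on the orbits, so its fibres are stable; each fibre has `[v = f x₀]` fixed points, hence
`#fibre ≡ [v = f x₀]` mod `p`, and `∑ f = f x₀ - p β` with `β` an algebraic integer; if the sum vanished,
`n / p = β` would be a rational algebraic integer.
-/

set_option autoImplicit false
set_option linter.unusedSectionVars false
set_option linter.unusedVariables false

namespace Cfsg.Agent.Helper93.NC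

/-- a quotient of naturals that is an algebraic integer forces divisibility -/
theorem dvd_of_isIntegral_natCast_div {a b : ℕ} (hb : b ≠ 0)
    (h : IsIntegral ℤ ((a : ℂ) / (b : ℂ))) : b ∣ a := by
  have h1 : ((a : ℂ) / (b : ℂ)) = algebraMap ℚ ℂ ((a : ℚ) / (b : ℚ)) := by simp
  rw [h1, isIntegral_algebraMap_iff (algebraMap ℚ ℂ).injective] at h
  obtain ⟨m, hm⟩ := IsIntegrallyClosed.algebraMap_eq_of_integral h
  have hbq : (b : ℚ) ≠ 0 := by exact_mod_cast hb
  have h2 : (a : ℚ) = (m : ℚ) * (b : ℚ) := by
    have : (m : ℚ) = (a : ℚ) / (b : ℚ) := by simpa using hm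
    rw [this]; field_simp
  have h3 : (a : ℤ) = m * (b : ℤ) := by exact_mod_cast h2
  have h4 : (b : ℤ) ∣ (a : ℤ) := ⟨m, by rw [h3, mul_comm]⟩
  exact_mod_cast h4

/-- (ORB) orbit counting for a `p`-group acting on a finite set with a single fixed point. -/
theorem sum_ne_zero_of_isPGroup_smul {p : ℕ} [Fact p.Prime] {U : Type*} [Group U] [Finite U]
    (hU : IsPGroup p U) {X : Type*} [Fintype X] [MulAction U X] (f : X → ℂ)
    (hf : ∀ (u : U) (x : X), f (u • x) = f x) (hint : ∀ x, IsIntegral ℤ (f x)) (x₀ : X)
    (hx₀ : ∀ u : U, u • x₀ = x₀)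
    (hfix : ∀ x : X, (∀ u : U, u • x = x) → x = x₀) (n : ℕ) (hn : f x₀ = (n : ℂ))
    (hpn : ¬ p ∣ n) : ∑ x : X, f x ≠ 0 := by
  classical
  intro hsum
  have hp : p ≠ 0 := (Fact.out : p.Prime).ne_zero
  -- the fibres as sub-actions
  let S : ℂ → SubMulAction U X := fun v =>
    { carrier := {x | f x = v}
      smul_mem' := fun u x hx => by
        show f (u • x) = v
        rw [hf]
        exact hx }
  have hmemS : ∀ v x, x ∈ S v ↔ f x = v := fun v x => Iff.rfl
  have hcard : ∀ v : ℂ, (Finset.univ.filter (fun x => f x = v)).card ≡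
      (if f x₀ = v then 1 else 0) [MOD p] := by
    intro v
    have h1 := hU.card_modEq_card_fixedPoints (S v)
    have h2 : Nat.card (S v) = (Finset.univ.filter (fun x => f x = v)).card := by
      apply Nat.subtype_card
      intro x
      rw [Finset.mem_filter]
      exact ⟨fun h => h.2, fun h => ⟨Finset.mem_univ _, h⟩⟩
    have hfixed : ∀ y : MulAction.fixedPoints U (S v), ((y : S v) : X) = x₀ := by
      intro y
      apply hfix
      intro u
      have := y.2 u
      have h' := congrArg (fun z : S v => (z : X)) this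
      simpa using h'
    have h3 : Nat.card (MulAction.fixedPoints U (S v)) = if f x₀ = v then 1 else 0 := by
      by_cases hv : f x₀ = v
      · rw [if_pos hv, Nat.card_eq_one_iff_unique]
        constructor
        · constructor
          intro y y'
          apply Subtype.ext
          apply Subtype.ext
          rw [hfixed y, hfixed y']
        · exact ⟨⟨⟨x₀, hv⟩, fun u => Subtype.ext (hx₀ u)⟩⟩
      · rw [if_neg hv]
        have : IsEmpty (MulAction.fixedPoints U (S v)) := by
          constructor
          intro y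
          apply hv
          have h4 : f ((y : S v) : X) = v := (y : S v).2
          rw [hfixed y] at h4
          exact h4
        exact Nat.card_of_isEmpty
    rw [h2, h3] at h1
    exact h1
  -- integers `m v`
  have hm : ∀ v : ℂ, ∃ m : ℤ, (((Finset.univ.filter (fun x => f x = v)).card : ℕ) : ℤ) =
      ((if f x₀ = v then 1 else 0 : ℕ) : ℤ) + (p : ℤ) * m := by
    intro v
    have h := (Nat.modEq_iff_dvd.1 (hcard v).symm)
    obtain ⟨m, hm⟩ := h
    exact ⟨m, by linarith⟩
  choose m hm using hm
  -- regroup the sum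
  have hsum' : ∑ x : X, f x = ∑ v ∈ Finset.univ.image f,
      (Finset.univ.filter (fun x => f x = v)).card • v := by
    have := Finset.sum_comp (s := (Finset.univ : Finset X)) (fun v : ℂ => v) f
    simpa using this
  have hcast : ∀ v : ℂ, (((Finset.univ.filter (fun x => f x = v)).card : ℕ) : ℂ) =
      (if f x₀ = v then 1 else 0) + (p : ℂ) * (m v : ℂ) := by
    intro v
    have := congrArg (fun z : ℤ => (z : ℂ)) (hm v)
    push_cast at this
    rw [this]
  have h5 : ∑ x : X, f x = f x₀ + (p : ℂ) * ∑ v ∈ Finset.univ.image f, (m v : ℂ) * v := by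
    rw [hsum', Finset.mul_sum]
    have : ∀ v ∈ Finset.univ.image f, (Finset.univ.filter (fun x => f x = v)).card • v =
        (if f x₀ = v then v else 0) + (p : ℂ) * ((m v : ℂ) * v) := by
      intro v _
      rw [nsmul_eq_mul, hcast v]
      split_ifs <;> ring
    rw [Finset.sum_congr rfl this, Finset.sum_add_distrib, Finset.sum_ite_eq,
      if_pos (Finset.mem_image_of_mem f (Finset.mem_univ x₀))]
  set β : ℂ := ∑ v ∈ Finset.univ.image f, (m v : ℂ) * v with hβ
  have hβint : IsIntegral ℤ β := by
    apply IsIntegral.sum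
    intro v hv
    obtain ⟨x, -, rfl⟩ := Finset.mem_image.1 hv
    exact (isIntegral_algebraMap (R := ℤ) (A := ℂ) (x := m (f x))).mul (hint x)
  rw [h5, hn] at hsum
  have hpc : (p : ℂ) ≠ 0 := by exact_mod_cast hp
  have h6 : (n : ℂ) / (p : ℂ) = -β := by
    field_simp
    linear_combination hsum
  have h7 : IsIntegral ℤ ((n : ℂ) / (p : ℂ)) := by
    rw [h6]
    exact hβint.neg
  exact hpn (dvd_of_isIntegral_natCast_div hp h7)

end Cfsg.Agent.Helper93.NC
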