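-- helper93: piece (ID2) `iso_S3` of helper8's Sims3 farm (#12989): a nonabelian group of order 6 is `S₃`.
import Cfsg.Agent.Helper8.Sims3Defs

set_option autoImplicit false

namespace Cfsg.Agent.Helper93.Sims3

open Cfsg.Agent.Helper8.Sims3 Pointwise

/-- (ID2) a nonabelian group of order 6 is `S₃` (faithful action on the cosets of a subgroup
of order 2). -/
theorem iso_S3 {H : Type*} [Group H] (hc : Nat.card H = 6) (a b : H) (hab : ¬ Commute a b) :
    Nonempty (H ≃* Equiv.Perm (Fin 3)) := by
  classical
  have : Finite H := Nat.finite_of_card_ne_zero (by rw [hc]; norm_num)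
  have : Fact (Nat.Prime 2) := ⟨Nat.prime_two⟩
  have : Fact (Nat.Prime 3) := ⟨Nat.prime_three⟩
  obtain ⟨d, hd⟩ := exists_prime_orderOf_dvd_card' (G := H) 2 (by rw [hc]; norm_num)
  obtain ⟨x, hx⟩ := exists_prime_orderOf_dvd_card' (G := H) 3 (by rw [hc]; norm_num)
  have hdd : d * d = 1 := by
    have := pow_orderOf_eq_one d
    rwa [hd, pow_two] at this
  have hd1 : d ≠ 1 := by
    intro h
    rw [h, orderOf_one] at hd
    omega
  set P : Subgroup H := Subgroup.zpowers d with hP
  have hPcard : Nat.card P = 2 := by rw [hP, Nat.card_zpowers, hd]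
  have hidx : P.index = 3 := by
    have h1 : P.index * Nat.card P = Nat.card H := Subgroup.index_mul_card P
    rw [hPcard, hc] at h1
    omega
  have hcard3 : Nat.card (H ⧸ P) = 3 := by rw [← Subgroup.index_eq_card]; exact hidx
  have hPmem : ∀ k ∈ P, k = 1 ∨ k = d := by
    intro k hk
    obtain ⟨n, rfl⟩ := Subgroup.mem_zpowers_iff.1 hk
    rcases Int.emod_two_eq_zero_or_one n with h | h
    · left
      have : n = 2 * (n / 2) := by omega
      rw [this, zpow_mul, zpow_ofNat, pow_two, hdd, one_zpow]
    · right
      have : n = 2 * (n / 2) + 1 := by omega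
      rw [this, zpow_add, zpow_mul, zpow_ofNat, pow_two, hdd, one_zpow, one_mul, zpow_one]
  -- `d` is not central
  have hnc : ¬ ∀ g : H, g * d * g⁻¹ ∈ P := by
    intro hall
    have hcent : ∀ g : H, g * d = d * g := by
      intro g
      rcases hPmem _ (hall g) with h | h
      · exfalso
        apply hd1
        calc d = g⁻¹ * (g * d * g⁻¹) * g := by group
          _ = 1 := by rw [h]; group
      · calc g * d = g * d * g⁻¹ * g := by group
          _ = d * g := by rw [h]
    have hcomm : Commute d x := (hcent x).symm
    have h6 : orderOf (d * x) = 6 := by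
      rw [hcomm.orderOf_mul_eq_mul_orderOf_of_coprime (by rw [hd, hx]; norm_num), hd, hx]
    have : IsCyclic H := isCyclic_of_orderOf_eq_card (d * x) (by rw [h6, hc])
    exact hab ((IsCyclic.isMulCommutative (α := H)).is_comm.comm a b)
  -- the action on the cosets of `P` is faithful
  let φ : H →* Equiv.Perm (H ⧸ P) := MulAction.toPermHom H (H ⧸ P)
  have hinj : Function.Injective φ := by
    rw [injective_iff_map_eq_one]
    intro k hk
    have hkker : k ∈ φ.ker := hk
    rw [← Subgroup.normalCore_eq_ker] at hkker
    rcases hPmem k (Subgroup.normalCore_le P hkker) with h | h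
    · exact h
    · exfalso
      apply hnc
      intro g
      rw [← h]
      exact hkker g
  have hbij : Function.Bijective φ := by
    apply hinj.bijective_of_nat_card_le
    rw [Nat.card_perm, hcard3, hc]
    decide
  let e : H ⧸ P ≃ Fin 3 := (Finite.equivFin (H ⧸ P)).trans (finCongr hcard3)
  exact ⟨(MulEquiv.ofBijective φ hbij).trans e.permCongrHom⟩

end Cfsg.Agent.Helper93.Sims3
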