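-- helper93: piece (HN) `conj_Ut` of helper84's S2289 farm (#12729): `h` normalises `Ũ`.
import Mathlib
import Cfsg.Agent.Helper84.SU3P.Defs
import Cfsg.Agent.Helper21.SLPresBorel
import Cfsg.Agent.Helper59.SLPresComm

set_option autoImplicit false

namespace Cfsg.Agent.Helper93.SU3P

open Matrix Polynomial Cfsg.Agent.Helper84.RU3 Cfsg.Agent.Helper96.SLPres
  Cfsg.Agent.Helper96.StemSLTwo Cfsg.Agent.Helper96.StPres Cfsg.Agent.Helper84.SU3P

section C

variable {K : Type*} [Field K] (bar : K →+* K) (hb : ∀ x, bar (bar x) = x)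
  {K₀ : Type*} [Field K₀] (ι : K₀ →+* K) {D : Type*} [Group D]

/-- conjugation by `g` preserves `Ũ` as soon as it permutes the `u_i` and maps `Z̃` to itself -/
theorem HN_conj_mem (φ : SL2 K₀ →* D) (h u g : D)
    (h1 : ∀ i : ℤ, ∃ j : ℤ, g * uz h u i * g⁻¹ = uz h u j)
    (h2 : ∀ s : K₀, ∃ s' : K₀, g * φ (uMat K₀ s) * g⁻¹ = φ (uMat K₀ s')) :
    ∀ x ∈ Ut φ h u, g * x * g⁻¹ ∈ Ut φ h u := by
  have key : (Ut φ h u).map (MulAut.conj g).toMonoidHom ≤ Ut φ h u := by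
    unfold Ut
    rw [Subgroup.map_sup, MonoidHom.map_closure]
    apply sup_le
    · refine le_trans ?_ le_sup_left
      rw [Subgroup.closure_le]
      rintro _ ⟨_, ⟨i, rfl⟩, rfl⟩
      obtain ⟨j, hj⟩ := h1 i
      apply Subgroup.subset_closure
      refine ⟨j, ?_⟩
      simp only [MulEquiv.coe_toMonoidHom, MulAut.conj_apply]
      exact hj.symm
    · refine le_trans ?_ le_sup_right
      rintro _ ⟨z, hz, rfl⟩
      obtain ⟨s, rfl⟩ := mem_Zt.1 hz
      obtain ⟨s', hs'⟩ := h2 s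
      simp only [MulEquiv.coe_toMonoidHom, MulAut.conj_apply]
      rw [hs']
      exact mem_Zt.2 ⟨s', rfl⟩
  intro x hx
  have := key (Subgroup.mem_map_of_mem _ hx)
  simpa only [MulEquiv.coe_toMonoidHom, MulAut.conj_apply] using this

include hb in
/-- (HN) `h` normalises `Ũ` -/
theorem conj_Ut (φ : SL2 K₀ →* D) (h u : D) {ν₀ : K₀} (hν₀ : ν₀ ≠ 0)
    (hconj : ∀ s : K₀, h * φ (uMat K₀ s) * h⁻¹ = φ (uMat K₀ (ν₀ * s))) :
    ∀ x ∈ Ut φ h u, h * x * h⁻¹ ∈ Ut φ h u ∧ h⁻¹ * x * h ∈ Ut φ h u := by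
  intro x hx
  constructor
  · refine HN_conj_mem φ h u h ?_ ?_ x hx
    · intro i
      refine ⟨i + 1, ?_⟩
      unfold uz
      rw [_root_.zpow_add_one, _root_.mul_inv_rev]
      have hc : h ^ i * h = h * h ^ i := (Commute.refl h).zpow_left i |>.eq
      rw [hc]
      group
    · intro s
      exact ⟨ν₀ * s, hconj s⟩
  · have := HN_conj_mem φ h u h⁻¹ ?_ ?_ x hx
    · simpa only [inv_inv] using this
    · intro i
      refine ⟨i - 1, ?_⟩
      unfold uz
      rw [inv_inv, _root_.zpow_sub_one, _root_.mul_inv_rev, inv_inv]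
      have hc : h ^ i * h⁻¹ = h⁻¹ * h ^ i := ((Commute.refl h).inv_right.zpow_left i).eq
      rw [hc]
      group
    · intro s
      refine ⟨ν₀⁻¹ * s, ?_⟩
      have h3 := hconj (ν₀⁻¹ * s)
      rw [← mul_assoc, mul_inv_cancel₀ hν₀, one_mul] at h3
      rw [← h3, inv_inv]
      group

end C

end Cfsg.Agent.Helper93.SU3P
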