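import Mathlib
import Cfsg.Agent.Helper84.SU3P.Defs

/-!
# Piece (PHI2) of helper84's S2289 farm: two homomorphisms from `SL₂(K₀)` agreeing on the generators agree
-/

set_option autoImplicit false

namespace Cfsg.Agent.Helper93.SU3P

open Matrix Polynomial Cfsg.Agent.Helper84.RU3 Cfsg.Agent.Helper96.SLPres
  Cfsg.Agent.Helper96.StemSLTwo Cfsg.Agent.Helper96.StPres Cfsg.Agent.Helper84.SU3P

section A

variable {D : Type*} [Group D] {K₀ : Type*} [Field K₀]

/-- (PHI2) two homomorphisms from `SL₂(K₀)` agreeing on the generators agree -/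
theorem hom_ext_slp {G : Type*} [Group G] (d : SLP K₀) (f g : SL2 K₀ →* G)
    (h : ∀ i, f (d.pi (PresentedGroup.of i)) = g (d.pi (PresentedGroup.of i))) : f = g := by
  have h1 : f.comp d.pi = g.comp d.pi := by
    apply PresentedGroup.ext
    intro i
    exact h i
  exact (MonoidHom.cancel_right d.bij.2).1 h1

end A

end Cfsg.Agent.Helper93.SU3P
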