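/-
Helper93: self-dual binary codes of length 24 with minimum weight at least 8
(sphere-packing count, covering radius 4, octads through five points, and consequences).
-/
import Mathlib

set_option autoImplicit false

namespace Cfsg.Agent.Helper93

abbrev V24 := Fin 24 → ZMod 2

/-- pointwise identity on ZMod 2 for weights of differences -/
theorem zmod2_ind_sub (a b : ZMod 2) :
    (if a - b ≠ 0 then 1 else 0 : ℕ) + 2 * (if a ≠ 0 ∧ b ≠ 0 then 1 else 0) =
      (if a ≠ 0 then 1 else 0) + (if b ≠ 0 then 1 else 0) := by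
  revert a b; decide

theorem zmod2_ind_add (a b : ZMod 2) :
    (if a + b ≠ 0 then 1 else 0 : ℕ) + 2 * (if a ≠ 0 ∧ b ≠ 0 then 1 else 0) =
      (if a ≠ 0 then 1 else 0) + (if b ≠ 0 then 1 else 0) := by
  revert a b; decide

theorem wt_eq_sum {n : ℕ} (u : Fin n → ZMod 2) : hammingNorm u = ∑ i, (if u i ≠ 0 then 1 else 0 : ℕ) := by
  unfold hammingNorm
  rw [Finset.card_filter]

theorem inter_card_eq_sum {n : ℕ} (u v : Fin n → ZMod 2) :
    ((Finset.univ.filter fun i => u i ≠ 0) ∩ (Finset.univ.filter fun i => v i ≠ 0)).card =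
      ∑ i, (if u i ≠ 0 ∧ v i ≠ 0 then 1 else 0 : ℕ) := by
  rw [← Finset.filter_and, Finset.card_filter]

theorem wt_sub_add {n : ℕ} (u v : Fin n → ZMod 2) :
    hammingNorm (u - v) + 2 * ((Finset.univ.filter fun i => u i ≠ 0) ∩ (Finset.univ.filter fun i => v i ≠ 0)).card =
      hammingNorm u + hammingNorm v := by
  rw [wt_eq_sum, wt_eq_sum, wt_eq_sum, inter_card_eq_sum, Finset.mul_sum, ← Finset.sum_add_distrib,
    ← Finset.sum_add_distrib]
  exact Finset.sum_congr rfl fun i _ => zmod2_ind_sub (u i) (v i)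

theorem wt_add_add {n : ℕ} (u v : Fin n → ZMod 2) :
    hammingNorm (u + v) + 2 * ((Finset.univ.filter fun i => u i ≠ 0) ∩ (Finset.univ.filter fun i => v i ≠ 0)).card =
      hammingNorm u + hammingNorm v := by
  rw [wt_eq_sum, wt_eq_sum, wt_eq_sum, inter_card_eq_sum, Finset.mul_sum, ← Finset.sum_add_distrib,
    ← Finset.sum_add_distrib]
  exact Finset.sum_congr rfl fun i _ => zmod2_ind_add (u i) (v i)

theorem zmod2_mul_ind (a b : ZMod 2) : a * b = ((if a ≠ 0 ∧ b ≠ 0 then 1 else 0 : ℕ) : ZMod 2) := by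
  revert a b; decide

theorem inter_card_cast {n : ℕ} (u v : Fin n → ZMod 2) :
    ((((Finset.univ.filter fun i => u i ≠ 0) ∩ (Finset.univ.filter fun i => v i ≠ 0)).card : ℕ) : ZMod 2) =
      ∑ i, u i * v i := by
  rw [inter_card_eq_sum, Nat.cast_sum]
  exact Finset.sum_congr rfl fun i _ => (zmod2_mul_ind (u i) (v i)).symm

theorem inter_card_even {n : ℕ} (u v : Fin n → ZMod 2) (h : ∑ i, u i * v i = 0) :
    Even ((Finset.univ.filter fun i => u i ≠ 0) ∩ (Finset.univ.filter fun i => v i ≠ 0)).card := by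
  rw [← inter_card_cast] at h
  exact (ZMod.natCast_eq_zero_iff_even).mp h

theorem wt_even {n : ℕ} (u : Fin n → ZMod 2) (h : ∑ i, u i * u i = 0) : Even (hammingNorm u) := by
  have := inter_card_even u u h
  rwa [Finset.inter_self] at this

/-- words over `ZMod 2` correspond to their supports -/
def suppEquiv (n : ℕ) : (Fin n → ZMod 2) ≃ Finset (Fin n) where
  toFun u := Finset.univ.filter fun i => u i ≠ 0
  invFun S := fun i => if i ∈ S then 1 else 0
  left_inv u := by
    funext i
    have h : ∀ a : ZMod 2, (if a ≠ 0 then (1 : ZMod 2) else 0) = a := by decide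
    simpa using h (u i)
  right_inv S := by
    ext i
    simp

theorem card_wt_eq (n k : ℕ) :
    (Finset.univ.filter fun u : Fin n → ZMod 2 => hammingNorm u = k).card = n.choose k := by
  have h := Finset.card_equiv (suppEquiv n)
    (s := Finset.univ.filter fun u : Fin n → ZMod 2 => hammingNorm u = k)
    (t := Finset.powersetCard k (Finset.univ : Finset (Fin n))) (by
      intro u
      simp [Finset.mem_powersetCard, suppEquiv, hammingNorm])
  rw [h, Finset.card_powersetCard, Finset.card_univ, Fintype.card_fin]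

theorem card_wt_le_three :
    (Finset.univ.filter fun u : Fin 24 → ZMod 2 => hammingNorm u ≤ 3).card = 2325 := by
  have h := Finset.card_eq_sum_card_fiberwise
    (s := Finset.univ.filter fun u : Fin 24 → ZMod 2 => hammingNorm u ≤ 3)
    (t := Finset.range 4) (f := fun u => hammingNorm u) (by
      intro u hu
      simp only [Finset.coe_filter, Finset.mem_univ, true_and, Set.mem_ofPred_eq] at hu
      simp only [Finset.coe_range, Set.mem_Iio]
      omega)
  rw [h]
  have h2 : ∀ k ∈ Finset.range 4,
      ((Finset.univ.filter fun u : Fin 24 → ZMod 2 => hammingNorm u ≤ 3).filter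
        fun u => hammingNorm u = k).card = (24).choose k := by
    intro k hk
    rw [← card_wt_eq 24 k, Finset.filter_filter]
    congr 1
    ext u
    simp only [Finset.mem_filter, Finset.mem_univ, true_and, Finset.mem_range] at hk ⊢
    constructor
    · rintro ⟨_, h⟩; exact h
    · intro h; exact ⟨by omega, h⟩
  rw [Finset.sum_congr rfl h2]
  decide

theorem card_wt_four :
    (Finset.univ.filter fun u : Fin 24 → ZMod 2 => hammingNorm u = 4).card = 10626 := by
  rw [card_wt_eq]
  decide


/-- the hypotheses on the code, bundled -/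
structure IsGolayLike (C : Submodule (ZMod 2) (Fin 24 → ZMod 2)) : Prop where
  hdim : Module.finrank (ZMod 2) C = 12
  horth : ∀ v ∈ C, ∀ w ∈ C, ∑ i, v i * w i = 0
  hmin : ∀ w ∈ C, w ≠ 0 → 8 ≤ hammingNorm w

variable {C : Submodule (ZMod 2) (Fin 24 → ZMod 2)}

theorem IsGolayLike.card_quot (hC : IsGolayLike C) : Nat.card ((Fin 24 → ZMod 2) ⧸ C) = 4096 := by
  have h1 := Submodule.card_eq_card_quotient_mul_card C
  have h2 : Nat.card C = 2 ^ 12 := by
    rw [← hC.hdim]
    have := Module.natCard_eq_pow_finrank (K := ZMod 2) (V := C)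
    simpa using this
  have h3 : Nat.card (Fin 24 → ZMod 2) = 2 ^ 24 := by
    simp
  rw [h2, h3] at h1
  have : (2:ℕ) ^ 24 = 2 ^ 12 * 4096 := by norm_num
  rw [this] at h1
  exact (Nat.eq_of_mul_eq_mul_left (by norm_num) h1).symm

/-- two distinct words of weight at most 4 in the same coset have weight 4 and disjoint supports -/
theorem IsGolayLike.coset_pair (hC : IsGolayLike C) {u u' : Fin 24 → ZMod 2} (hu : hammingNorm u ≤ 4)
    (hu' : hammingNorm u' ≤ 4) (hne : u ≠ u') (hmem : u - u' ∈ C) :
    hammingNorm u = 4 ∧ hammingNorm u' = 4 ∧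
      Disjoint (Finset.univ.filter fun i => u i ≠ 0) (Finset.univ.filter fun i => u' i ≠ 0) := by
  have h8 := hC.hmin _ hmem (sub_ne_zero.mpr hne)
  have h := wt_sub_add u u'
  refine ⟨by omega, by omega, ?_⟩
  rw [Finset.disjoint_iff_inter_eq_empty, ← Finset.card_eq_zero]
  omega


section counting
open Classical

variable (C)

/-- the quotient map -/
noncomputable abbrev qmk : (Fin 24 → ZMod 2) → (Fin 24 → ZMod 2) ⧸ C := Submodule.Quotient.mk

@[instance_reducible] noncomputable def quotFintype : Fintype ((Fin 24 → ZMod 2) ⧸ C) := Fintype.ofFinite _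

attribute [local instance] quotFintype

abbrev W3 : Finset (Fin 24 → ZMod 2) := Finset.univ.filter fun u => hammingNorm u ≤ 3
abbrev W4 : Finset (Fin 24 → ZMod 2) := Finset.univ.filter fun u => hammingNorm u = 4

variable {C}

theorem IsGolayLike.injOn_W3 (hC : IsGolayLike C) : Set.InjOn (qmk C) (W3 : Finset _) := by
  intro u hu u' hu' h
  by_contra hne
  simp only [Finset.coe_filter, Finset.mem_univ, true_and, Set.mem_ofPred_eq] at hu hu'
  have hmem : u - u' ∈ C := (Submodule.Quotient.eq C).mp h
  have := hC.coset_pair (by omega) (by omega) hne hmem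
  omega

theorem IsGolayLike.card_A (hC : IsGolayLike C) : (W3.image (qmk C)).card = 2325 := by
  rw [Finset.card_image_of_injOn hC.injOn_W3, card_wt_le_three]

theorem IsGolayLike.disjoint_AB (hC : IsGolayLike C) : Disjoint (W3.image (qmk C)) (W4.image (qmk C)) := by
  rw [Finset.disjoint_left]
  intro y hy hy'
  obtain ⟨u, hu, rfl⟩ := Finset.mem_image.mp hy
  obtain ⟨u', hu', h⟩ := Finset.mem_image.mp hy'
  simp only [Finset.mem_filter, Finset.mem_univ, true_and] at hu hu'
  have hne : u' ≠ u := by
    rintro rfl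
    omega
  have hmem : u' - u ∈ C := (Submodule.Quotient.eq C).mp h
  have := hC.coset_pair (by omega) (by omega) hne hmem
  omega

theorem IsGolayLike.fibre_le (hC : IsGolayLike C) (y : (Fin 24 → ZMod 2) ⧸ C) :
    (W4.filter fun u => qmk C u = y).card ≤ 6 := by
  set F := W4.filter fun u => qmk C u = y with hF
  have hdisj : ∀ u ∈ F, ∀ u' ∈ F, u ≠ u' →
      Disjoint (Finset.univ.filter fun i => u i ≠ 0) (Finset.univ.filter fun i => u' i ≠ 0) := by
    intro u hu u' hu' hne
    simp only [hF, Finset.mem_filter, Finset.mem_univ, true_and] at hu hu'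
    have hmem : u - u' ∈ C := (Submodule.Quotient.eq C).mp (hu.2.trans hu'.2.symm)
    exact (hC.coset_pair (by omega) (by omega) hne hmem).2.2
  have hcard := Finset.card_biUnion hdisj
  have h4 : ∀ u ∈ F, (Finset.univ.filter fun i => u i ≠ 0).card = 4 := by
    intro u hu
    simp only [hF, Finset.mem_filter, Finset.mem_univ, true_and] at hu
    exact hu.1
  rw [Finset.sum_congr rfl h4, Finset.sum_const, smul_eq_mul] at hcard
  have hle := Finset.card_le_univ (F.biUnion fun u => Finset.univ.filter fun i => u i ≠ 0)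
  rw [Fintype.card_fin] at hle
  omega

theorem IsGolayLike.card_B_le (hC : IsGolayLike C) : (W4.image (qmk C)).card ≤ 1771 := by
  have h := Finset.card_union_of_disjoint hC.disjoint_AB
  have hle := Finset.card_le_univ (W3.image (qmk C) ∪ W4.image (qmk C))
  rw [← Nat.card_eq_fintype_card, hC.card_quot] at hle
  rw [hC.card_A] at h
  omega

theorem IsGolayLike.card_B_ge (hC : IsGolayLike C) : 1771 ≤ (W4.image (qmk C)).card := by
  have h := Finset.card_le_mul_card_image (f := qmk C) W4 6 (fun y _ => hC.fibre_le y)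
  rw [card_wt_four] at h
  omega

theorem IsGolayLike.union_eq_univ (hC : IsGolayLike C) :
    W3.image (qmk C) ∪ W4.image (qmk C) = Finset.univ := by
  apply Finset.eq_univ_of_card
  rw [Finset.card_union_of_disjoint hC.disjoint_AB, hC.card_A, ← Nat.card_eq_fintype_card, hC.card_quot]
  have := hC.card_B_ge
  have := hC.card_B_le
  omega

/-- covering radius 4: every coset has a representative of weight at most 4 -/
theorem IsGolayLike.covering (hC : IsGolayLike C) (w : Fin 24 → ZMod 2) :
    ∃ u : Fin 24 → ZMod 2, u - w ∈ C ∧ hammingNorm u ≤ 4 := by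
  have h : qmk C w ∈ W3.image (qmk C) ∪ W4.image (qmk C) := by
    rw [hC.union_eq_univ]; exact Finset.mem_univ _
  rcases Finset.mem_union.mp h with h | h
  · obtain ⟨u, hu, hu'⟩ := Finset.mem_image.mp h
    simp only [Finset.mem_filter, Finset.mem_univ, true_and] at hu
    exact ⟨u, (Submodule.Quotient.eq C).mp hu', by omega⟩
  · obtain ⟨u, hu, hu'⟩ := Finset.mem_image.mp h
    simp only [Finset.mem_filter, Finset.mem_univ, true_and] at hu
    exact ⟨u, (Submodule.Quotient.eq C).mp hu', by omega⟩

theorem IsGolayLike.fibre_eq (hC : IsGolayLike C) (y : (Fin 24 → ZMod 2) ⧸ C) (hy : y ∈ W4.image (qmk C)) :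
    (W4.filter fun u => qmk C u = y).card = 6 := by
  by_contra hne
  have hlt : (W4.filter fun u => qmk C u = y).card < 6 := lt_of_le_of_ne (hC.fibre_le y) hne
  have hsum := Finset.card_eq_sum_card_image (qmk C) W4
  have hlt2 : ∑ b ∈ W4.image (qmk C), (W4.filter fun u => qmk C u = b).card <
      ∑ _b ∈ W4.image (qmk C), 6 :=
    Finset.sum_lt_sum (fun b _ => hC.fibre_le b) ⟨y, hy, hlt⟩
  rw [Finset.sum_const, smul_eq_mul, ← hsum, card_wt_four] at hlt2
  have := hC.card_B_le
  omega

end counting


section consequences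

variable {C : Submodule (ZMod 2) (Fin 24 → ZMod 2)}

theorem IsGolayLike.even_wt (hC : IsGolayLike C) {c : Fin 24 → ZMod 2} (hc : c ∈ C) : Even (hammingNorm c) :=
  wt_even c (hC.horth c hc c hc)

/-- every 5-set of coordinates lies in the support of a codeword of weight 8 -/
theorem IsGolayLike.exists_octad (hC : IsGolayLike C) (S : Finset (Fin 24)) (hS : S.card = 5) :
    ∃ c ∈ C, hammingNorm c = 8 ∧ S ⊆ Finset.univ.filter fun i => c i ≠ 0 := by
  set v : Fin 24 → ZMod 2 := (suppEquiv 24).symm S with hv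
  have hsupp : (Finset.univ.filter fun i => v i ≠ 0) = S := (suppEquiv 24).apply_symm_apply S
  have hwv : hammingNorm v = 5 := by
    unfold hammingNorm
    rw [hsupp, hS]
  obtain ⟨u, hu, hu4⟩ := hC.covering v
  have hne : u ≠ v := by
    rintro rfl
    omega
  have h8 := hC.hmin _ hu (sub_ne_zero.mpr hne)
  have hadd := wt_sub_add u v
  obtain ⟨m, hm⟩ := hC.even_wt hu
  have hk : ((Finset.univ.filter fun i => u i ≠ 0) ∩ (Finset.univ.filter fun i => v i ≠ 0)).card = 0 := by
    omega
  refine ⟨u - v, hu, by omega, ?_⟩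
  intro i hi
  rw [← hsupp] at hi
  simp only [Finset.mem_filter, Finset.mem_univ, true_and] at hi ⊢
  have hui : u i = 0 := by
    by_contra hui
    have : i ∈ (Finset.univ.filter fun i => u i ≠ 0) ∩ (Finset.univ.filter fun i => v i ≠ 0) := by
      simp [hui, hi]
    rw [Finset.card_eq_zero] at hk
    rw [hk] at this
    exact absurd this (Finset.notMem_empty i)
  simp [hui, hi]

/-- reduction step: a nonzero codeword minus a suitable octad is a codeword of smaller weight -/
theorem IsGolayLike.reduce (hC : IsGolayLike C) {c : Fin 24 → ZMod 2} (hc : c ∈ C) (hc0 : c ≠ 0) :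
    ∃ o ∈ C, hammingNorm o = 8 ∧ hammingNorm (c - o) < hammingNorm c ∧
      ∃ k, hammingNorm (c - o) + 4 * k = hammingNorm c + 8 := by
  have h8 := hC.hmin c hc hc0
  obtain ⟨S, hSsub, hScard⟩ := Finset.exists_subset_card_eq (s := Finset.univ.filter fun i => c i ≠ 0)
    (n := 5) (by unfold hammingNorm at h8; omega)
  obtain ⟨o, ho, ho8, hSo⟩ := hC.exists_octad S hScard
  have hadd := wt_sub_add c o
  have hk5 : 5 ≤ ((Finset.univ.filter fun i => c i ≠ 0) ∩ (Finset.univ.filter fun i => o i ≠ 0)).card := by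
    rw [← hScard]
    exact Finset.card_le_card (Finset.subset_inter hSsub hSo)
  obtain ⟨m, hm⟩ := inter_card_even c o (hC.horth c hc o ho)
  exact ⟨o, ho, ho8, by omega, m, by omega⟩

theorem IsGolayLike.doubly_even (hC : IsGolayLike C) : ∀ w ∈ C, 4 ∣ hammingNorm w := by
  have key : ∀ n, ∀ w ∈ C, hammingNorm w = n → 4 ∣ n := by
    intro n
    induction n using Nat.strong_induction_on with
    | _ n ih =>
      intro w hw hn
      by_cases h0 : w = 0
      · subst h0
        simp at hn
        subst hn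
        exact dvd_zero 4
      · obtain ⟨o, ho, -, hlt, k, hk⟩ := hC.reduce hw h0
        have := ih _ (hn ▸ hlt) (w - o) (C.sub_mem hw ho) rfl
        omega
  exact fun w hw => key _ w hw rfl

theorem IsGolayLike.span_octads (hC : IsGolayLike C) :
    Submodule.span (ZMod 2) {w : Fin 24 → ZMod 2 | w ∈ C ∧ hammingNorm w = 8} = C := by
  apply le_antisymm
  · exact Submodule.span_le.mpr fun w hw => hw.1
  · have key : ∀ n, ∀ w ∈ C, hammingNorm w = n →
        w ∈ Submodule.span (ZMod 2) {w : Fin 24 → ZMod 2 | w ∈ C ∧ hammingNorm w = 8} := by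
      intro n
      induction n using Nat.strong_induction_on with
      | _ n ih =>
        intro w hw hn
        by_cases h0 : w = 0
        · subst h0
          exact Submodule.zero_mem _
        · obtain ⟨o, ho, ho8, hlt, -⟩ := hC.reduce hw h0
          have h1 := ih _ (hn ▸ hlt) (w - o) (C.sub_mem hw ho) rfl
          have h2 : o ∈ Submodule.span (ZMod 2) {w : Fin 24 → ZMod 2 | w ∈ C ∧ hammingNorm w = 8} :=
            Submodule.subset_span ⟨ho, ho8⟩
          have := Submodule.add_mem _ h1 h2
          simpa using this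
    exact fun w hw => key _ w hw rfl

/-- two codewords of weight 8 whose supports share 5 points are equal -/
theorem IsGolayLike.octad_unique (hC : IsGolayLike C) {c c' : Fin 24 → ZMod 2} (hc : c ∈ C) (hc' : c' ∈ C)
    (h8 : hammingNorm c = 8) (h8' : hammingNorm c' = 8) (S : Finset (Fin 24)) (hS : S.card = 5)
    (hSc : S ⊆ Finset.univ.filter fun i => c i ≠ 0) (hSc' : S ⊆ Finset.univ.filter fun i => c' i ≠ 0) :
    c = c' := by
  by_contra hne
  have hmin := hC.hmin _ (C.sub_mem hc hc') (sub_ne_zero.mpr hne)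
  have hadd := wt_sub_add c c'
  have hk5 : 5 ≤ ((Finset.univ.filter fun i => c i ≠ 0) ∩ (Finset.univ.filter fun i => c' i ≠ 0)).card := by
    rw [← hS]
    exact Finset.card_le_card (Finset.subset_inter hSc hSc')
  omega

open Classical in
/-- the structure of the low-weight part of a coset -/
theorem IsGolayLike.coset_structure (hC : IsGolayLike C) (w : Fin 24 → ZMod 2) :
    (∃ u : Fin 24 → ZMod 2, {u : Fin 24 → ZMod 2 | u - w ∈ C ∧ hammingNorm u ≤ 4} = {u} ∧ hammingNorm u ≤ 3) ∨
    ({u : Fin 24 → ZMod 2 | u - w ∈ C ∧ hammingNorm u ≤ 4}.ncard = 6 ∧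
      ∀ u ∈ {u : Fin 24 → ZMod 2 | u - w ∈ C ∧ hammingNorm u ≤ 4}, hammingNorm u = 4 ∧
        ∀ u' ∈ {u : Fin 24 → ZMod 2 | u - w ∈ C ∧ hammingNorm u ≤ 4}, u ≠ u' →
          Disjoint (Finset.univ.filter fun i => u i ≠ 0) (Finset.univ.filter fun i => u' i ≠ 0)) := by
  by_cases hex : ∃ u : Fin 24 → ZMod 2, (u - w ∈ C ∧ hammingNorm u ≤ 4) ∧ hammingNorm u ≤ 3
  · obtain ⟨u, ⟨hu, hu4⟩, hu3⟩ := hex
    left
    refine ⟨u, ?_, hu3⟩
    ext u'
    simp only [Set.mem_ofPred_eq, Set.mem_singleton_iff]
    constructor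
    · rintro ⟨hu', hu'4⟩
      by_contra hne
      have hmem : u' - u ∈ C := by
        have := C.sub_mem hu' hu
        simpa using this
      have := hC.coset_pair hu'4 hu4 hne hmem
      omega
    · rintro rfl
      exact ⟨hu, hu4⟩
  · right
    push Not at hex
    have hall : ∀ u : Fin 24 → ZMod 2, u - w ∈ C ∧ hammingNorm u ≤ 4 → hammingNorm u = 4 := by
      intro u hu
      have := hex u hu
      omega
    have hset : {u : Fin 24 → ZMod 2 | u - w ∈ C ∧ hammingNorm u ≤ 4} =
        ((W4.filter fun u => qmk C u = qmk C w : Finset (Fin 24 → ZMod 2)) : Set (Fin 24 → ZMod 2)) := by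
      ext u
      simp only [Set.mem_ofPred_eq, Finset.coe_filter, Finset.mem_filter, Finset.mem_univ, true_and]
      constructor
      · intro hu
        exact ⟨hall u hu, (Submodule.Quotient.eq C).mpr hu.1⟩
      · rintro ⟨h4, hq⟩
        exact ⟨(Submodule.Quotient.eq C).mp hq, by omega⟩
    refine ⟨?_, ?_⟩
    · rw [hset, Set.ncard_coe_finset]
      apply hC.fibre_eq
      obtain ⟨u, hu, hu4⟩ := hC.covering w
      refine Finset.mem_image.mpr ⟨u, ?_, (Submodule.Quotient.eq C).mpr hu⟩
      simp only [Finset.mem_filter, Finset.mem_univ, true_and]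
      exact hall u ⟨hu, hu4⟩
    · intro u hu
      refine ⟨hall u hu, ?_⟩
      intro u' hu' hne
      have hmem : u - u' ∈ C := by
        have := C.sub_mem hu.1 hu'.1
        simpa using this
      exact (hC.coset_pair hu.2 hu'.2 hne hmem).2.2

end consequences

end Cfsg.Agent.Helper93
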