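/-
Helper93: the block graph of the octads (two octads adjacent when disjoint): connected, and the
distance of two distinct octads is 1, 2, 3 according to the intersection size 0, 4, 2.
-/
import Cfsg.Agent.Helper93.BlockGraphData

set_option autoImplicit false
set_option maxRecDepth 100000

namespace Cfsg.Agent.Helper93

open Cfsg Cfsg.Agent.Helper7
open scoped Pointwise

theorem disjoint_sm_iff {x y : ℕ} (hx : x < 2 ^ 24) : Disjoint (sm x) (sm y) ↔ x &&& y = 0 := by
  rw [Finset.disjoint_iff_inter_eq_empty, ← sm_land,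
    sm_eq_empty_iff' (lt_of_le_of_lt Nat.and_le_left hx)]

theorem octArr_lt {i : ℕ} (hi : i < 759) : octArr.a i < 2 ^ 24 := by
  have hok := octArr_ok
  rw [Arr.ok, Bool.and_eq_true] at hok
  have hg := allB_spec hok.1 i hi
  change Nat.blt (octArr.a i) 16777216 = true at hg
  simpa [Nat.blt_eq] using hg

theorem mem_octads_arr {i : ℕ} (hi : i < 759) : encSet.dec (octArr.a i) ∈ octads := by
  rw [octads_eq]; exact ⟨i, hi, rfl⟩

/-! ### facts relative to the base octad -/

theorem bgA0 {i : ℕ} (hi : i < 759) (hl : getW 8 koOctOID i = 1) :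
    ∃ c ∈ octads, Disjoint c oct0 ∧ Disjoint c (encSet.dec (octArr.a i)) := by
  have h := allB_spec bg_c4 i hi
  rw [hl] at h
  simp only [Nat.beq_refl, Bool.not_true, Bool.false_or, Bool.and_eq_true] at h
  obtain ⟨⟨h1, h2⟩, h3⟩ := h
  have hj : getW 16 bgW4 i < 759 := by simpa [Nat.blt_eq] using h1
  refine ⟨encSet.dec (octArr.a (getW 16 bgW4 i)), mem_octads_arr hj, ?_, ?_⟩
  · exact (disjoint_sm_iff (octArr_lt hj)).mpr (Nat.eq_of_beq_eq_true h2)
  · exact (disjoint_sm_iff (octArr_lt hj)).mpr (Nat.eq_of_beq_eq_true h3)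

theorem bgC0 {i : ℕ} (hi : i < 759) (hl : getW 8 koOctOID i = 0) :
    ∃ a ∈ octads, ∃ b ∈ octads, Disjoint oct0 a ∧ Disjoint a b ∧
      Disjoint b (encSet.dec (octArr.a i)) := by
  have h := allB_spec bg_c2 i hi
  rw [hl] at h
  simp only [Nat.beq_refl, Bool.not_true, Bool.false_or, Bool.and_eq_true] at h
  obtain ⟨⟨⟨⟨h1, h2⟩, h3⟩, h4⟩, h5⟩ := h
  have ha : getW 16 bgWA i < 759 := by simpa [Nat.blt_eq] using h1
  have hb : getW 16 bgWB i < 759 := by simpa [Nat.blt_eq] using h2
  refine ⟨encSet.dec (octArr.a (getW 16 bgWA i)), mem_octads_arr ha,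
    encSet.dec (octArr.a (getW 16 bgWB i)), mem_octads_arr hb, ?_, ?_, ?_⟩
  · exact (disjoint_sm_iff (octArr_lt (by decide))).mpr (Nat.eq_of_beq_eq_true h3)
  · exact (disjoint_sm_iff (octArr_lt ha)).mpr (Nat.eq_of_beq_eq_true h4)
  · exact (disjoint_sm_iff (octArr_lt hb)).mpr (Nat.eq_of_beq_eq_true h5)

theorem label_of_disjoint {j : ℕ} (hj : j < 759) (hd : Disjoint (encSet.dec (octArr.a j)) oct0) :
    getW 8 koOctOID j = 2 := by
  have h1 := inter_oct0 hj
  have h2 : (oct0 ∩ encSet.dec (octArr.a j)).card = 0 := by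
    rw [Finset.card_eq_zero, ← Finset.disjoint_iff_inter_eq_empty]
    exact hd.symm
  rw [h2] at h1
  have h3 := labels_lt' koOct_labels j hj
  have hcases : getW 8 koOctOID j = 0 ∨ getW 8 koOctOID j = 1 ∨ getW 8 koOctOID j = 2 ∨
      getW 8 koOctOID j = 3 := by omega
  rcases hcases with h | h | h | h
  · rw [h] at h1; exact absurd h1 (by decide)
  · rw [h] at h1; exact absurd h1 (by decide)
  · exact h
  · rw [h] at h1; exact absurd h1 (by decide)

theorem bgB0 {i : ℕ} (hi : i < 759) (hl : getW 8 koOctOID i = 0) :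
    ∀ c ∈ octads, ¬(Disjoint c oct0 ∧ Disjoint c (encSet.dec (octArr.a i))) := by
  intro c hc ⟨hd1, hd2⟩
  rw [octads_eq] at hc
  obtain ⟨j, hj, rfl⟩ := hc
  have hlj := label_of_disjoint hj hd1
  have hL := allB_spec bg_cL j hj
  rw [hlj] at hL
  simp only [Nat.beq_refl, Bool.not_true, Bool.false_or, Bool.not_eq_true'] at hL
  -- some entry of the list is `j`
  have hex : ∃ t < 30, getW 16 bgL30 t = j := by
    by_contra hcon
    push_neg at hcon
    have : allB 30 (fun t => !Nat.beq (getW 16 bgL30 t) j) = true := by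
      unfold allB
      rw [List.all_eq_true]
      intro t ht
      have := hcon t (List.mem_range.mp ht)
      simp only [Bool.not_eq_true', Bool.eq_false_iff]
      intro h
      exact this (Nat.eq_of_beq_eq_true h)
    rw [this] at hL
    exact absurd hL (by decide)
  obtain ⟨t, ht, htj⟩ := hex
  have hB := allB_spec bg_cB i hi
  rw [hl] at hB
  simp only [Nat.beq_refl, Bool.not_true, Bool.false_or] at hB
  have hBt := allB_spec hB t ht
  rw [htj] at hBt
  have h0 := (disjoint_sm_iff (octArr_lt hj)).mp hd2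
  rw [h0] at hBt
  exact absurd hBt (by decide)

/-! ### general facts -/

theorem exists_base {o o' : Finset GolayPt} (ho : o ∈ octads) (ho' : o' ∈ octads) :
    ∃ h ∈ M24, ∃ j < 759, o = h • oct0 ∧ o' = h • encSet.dec (octArr.a j) := by
  obtain ⟨i, hi, rfl⟩ : ∃ i < 759, o = encSet.dec (octArr.a i) := by
    rw [octads_eq] at ho; exact ho
  obtain ⟨h, hh, hho⟩ := oct_exists_smul (i := 500) (i' := i) (by decide) hi
  have ho'' : h⁻¹ • o' ∈ octads := smul_mem_octads (M24.inv_mem hh) ho'
  obtain ⟨j, hj, hj'⟩ : ∃ j < 759, h⁻¹ • o' = encSet.dec (octArr.a j) := by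
    rw [octads_eq] at ho''; exact ho''
  exact ⟨h, hh, j, hj, hho.symm, by rw [← hj', smul_inv_smul]⟩

theorem disjoint_smul_iff (h : Equiv.Perm GolayPt) (s t : Finset GolayPt) :
    Disjoint (h • s) (h • t) ↔ Disjoint s t := by
  rw [Finset.disjoint_iff_inter_eq_empty, Finset.disjoint_iff_inter_eq_empty,
    ← Finset.smul_finset_inter, Finset.smul_finset_eq_empty]

theorem card_inter_smul (h : Equiv.Perm GolayPt) (s t : Finset GolayPt) :
    (h • s ∩ h • t).card = (s ∩ t).card := by
  rw [← Finset.smul_finset_inter, Finset.card_smul_finset]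

/-- distinct octads meet in 0, 2 or 4 points; the three cases -/
theorem octad_pair_cases {o o' : Finset GolayPt} (ho : o ∈ octads) (ho' : o' ∈ octads)
    (hne : o ≠ o') :
    ((o ∩ o').card = 0 ∨ (o ∩ o').card = 4 ∨ (o ∩ o').card = 2) ∧
    ((o ∩ o').card = 4 → ∃ c ∈ octads, Disjoint c o ∧ Disjoint c o') ∧
    ((o ∩ o').card = 2 → ∀ c ∈ octads, ¬(Disjoint c o ∧ Disjoint c o')) ∧
    ((o ∩ o').card = 2 → ∃ a ∈ octads, ∃ b ∈ octads, Disjoint o a ∧ Disjoint a b ∧
      Disjoint b o') := by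
  obtain ⟨h, hh, j, hj, rfl, rfl⟩ := exists_base ho ho'
  rw [card_inter_smul, inter_oct0 hj]
  have h3 := labels_lt' koOct_labels j hj
  have hcases : getW 8 koOctOID j = 0 ∨ getW 8 koOctOID j = 1 ∨ getW 8 koOctOID j = 2 ∨
      getW 8 koOctOID j = 3 := by omega
  rcases hcases with hl | hl | hl | hl <;> rw [hl]
  · refine ⟨by decide, fun h0 => absurd h0 (by decide), fun _ => ?_, fun _ => ?_⟩
    · intro c hc ⟨hd1, hd2⟩
      refine bgB0 hj hl (h⁻¹ • c) (smul_mem_octads (M24.inv_mem hh) hc) ⟨?_, ?_⟩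
      · rw [← disjoint_smul_iff h, smul_inv_smul]; exact hd1
      · rw [← disjoint_smul_iff h, smul_inv_smul]; exact hd2
    · obtain ⟨a, ha, b, hb, h1, h2, h3⟩ := bgC0 hj hl
      exact ⟨h • a, smul_mem_octads hh ha, h • b, smul_mem_octads hh hb,
        (disjoint_smul_iff h _ _).mpr h1, (disjoint_smul_iff h _ _).mpr h2,
        (disjoint_smul_iff h _ _).mpr h3⟩
  · refine ⟨by decide, fun _ => ?_, fun h0 => absurd h0 (by decide),
      fun h0 => absurd h0 (by decide)⟩
    obtain ⟨c, hc, h1, h2⟩ := bgA0 hj hl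
    exact ⟨h • c, smul_mem_octads hh hc, (disjoint_smul_iff h _ _).mpr h1,
      (disjoint_smul_iff h _ _).mpr h2⟩
  · exact ⟨by decide, fun h0 => absurd h0 (by decide), fun h0 => absurd h0 (by decide),
      fun h0 => absurd h0 (by decide)⟩
  · exfalso
    have h5 := allB_spec bg_c3 j hj
    rw [hl] at h5
    simp only [Nat.beq_refl, Bool.not_true, Bool.false_or] at h5
    have : j = 500 := Nat.eq_of_beq_eq_true h5
    subst this
    exact hne rfl

end Cfsg.Agent.Helper93

namespace Cfsg.Agent.Helper93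

open Cfsg

theorem bg_adj (a b : ↥octads) : (blockGraph octads).Adj a b ↔ a ≠ b ∧ Disjoint a.1 b.1 := by
  rw [blockGraph, SimpleGraph.fromRel_adj]
  constructor
  · rintro ⟨h1, h2 | h2⟩
    · exact ⟨h1, h2⟩
    · exact ⟨h1, h2.symm⟩
  · rintro ⟨h1, h2⟩
    exact ⟨h1, Or.inl h2⟩

theorem octad_ne_of_disjoint {a b : ↥octads} (h : Disjoint a.1 b.1) : a ≠ b := by
  intro hab
  subst hab
  have h8 : a.1.card = 8 := a.2.2
  rw [Finset.disjoint_self_iff_empty] at h
  rw [h] at h8
  simp at h8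

theorem bg_dist (a b : ↥octads) (hne : a ≠ b) :
    (blockGraph octads).Reachable a b ∧
    ((a.1 ∩ b.1).card = 0 → (blockGraph octads).dist a b = 1) ∧
    ((a.1 ∩ b.1).card = 4 → (blockGraph octads).dist a b = 2) ∧
    ((a.1 ∩ b.1).card = 2 → (blockGraph octads).dist a b = 3) := by
  have hne' : a.1 ≠ b.1 := fun h => hne (Subtype.ext h)
  obtain ⟨hc, hA, hB, hC⟩ := octad_pair_cases a.2 b.2 hne'
  have hnadj : (a.1 ∩ b.1).card ≠ 0 → ¬(blockGraph octads).Adj a b := by
    intro h0 hadj
    rw [bg_adj] at hadj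
    apply h0
    rw [Finset.card_eq_zero, ← Finset.disjoint_iff_inter_eq_empty]
    exact hadj.2
  have h1 : (a.1 ∩ b.1).card = 0 → (blockGraph octads).Adj a b := by
    intro h0
    rw [bg_adj]
    refine ⟨hne, ?_⟩
    rw [Finset.disjoint_iff_inter_eq_empty, ← Finset.card_eq_zero]
    exact h0
  have hdist0 : (blockGraph octads).Reachable a b → (blockGraph octads).dist a b ≠ 0 := by
    intro hr h0
    exact hne (hr.dist_eq_zero_iff.mp h0)
  have h4 : (a.1 ∩ b.1).card = 4 → (blockGraph octads).Reachable a b ∧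
      (blockGraph octads).dist a b = 2 := by
    intro h4
    obtain ⟨c, hc, hd1, hd2⟩ := hA h4
    have hac : (blockGraph octads).Adj a ⟨c, hc⟩ := by
      rw [bg_adj]
      exact ⟨(octad_ne_of_disjoint (a := ⟨c, hc⟩) (b := a) hd1).symm, hd1.symm⟩
    have hcb : (blockGraph octads).Adj ⟨c, hc⟩ b := by
      rw [bg_adj]
      exact ⟨octad_ne_of_disjoint (a := ⟨c, hc⟩) (b := b) hd2, hd2⟩
    let p : (blockGraph octads).Walk a b := SimpleGraph.Walk.cons hac (SimpleGraph.Walk.cons hcb
      SimpleGraph.Walk.nil)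
    have hr : (blockGraph octads).Reachable a b := ⟨p⟩
    have hle : (blockGraph octads).dist a b ≤ 2 := SimpleGraph.dist_le p
    have hn0 := hdist0 hr
    have hn1 : (blockGraph octads).dist a b ≠ 1 := by
      intro h
      exact hnadj (by rw [h4]; decide) (SimpleGraph.dist_eq_one_iff_adj.mp h)
    exact ⟨hr, by omega⟩
  have h2 : (a.1 ∩ b.1).card = 2 → (blockGraph octads).Reachable a b ∧
      (blockGraph octads).dist a b = 3 := by
    intro h2
    obtain ⟨x, hx, y, hy, hd1, hd2, hd3⟩ := hC h2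
    have hax : (blockGraph octads).Adj a ⟨x, hx⟩ := by
      rw [bg_adj]
      exact ⟨octad_ne_of_disjoint (a := a) (b := ⟨x, hx⟩) hd1, hd1⟩
    have hxy : (blockGraph octads).Adj ⟨x, hx⟩ ⟨y, hy⟩ := by
      rw [bg_adj]
      exact ⟨octad_ne_of_disjoint (a := ⟨x, hx⟩) (b := ⟨y, hy⟩) hd2, hd2⟩
    have hyb : (blockGraph octads).Adj ⟨y, hy⟩ b := by
      rw [bg_adj]
      exact ⟨octad_ne_of_disjoint (a := ⟨y, hy⟩) (b := b) hd3, hd3⟩
    let p : (blockGraph octads).Walk a b := SimpleGraph.Walk.cons hax (SimpleGraph.Walk.cons hxy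
      (SimpleGraph.Walk.cons hyb SimpleGraph.Walk.nil))
    have hr : (blockGraph octads).Reachable a b := ⟨p⟩
    have hle : (blockGraph octads).dist a b ≤ 3 := SimpleGraph.dist_le p
    have hn0 := hdist0 hr
    have hn1 : (blockGraph octads).dist a b ≠ 1 := by
      intro h
      exact hnadj (by rw [h2]; decide) (SimpleGraph.dist_eq_one_iff_adj.mp h)
    have hn2 : (blockGraph octads).dist a b ≠ 2 := by
      intro h
      obtain ⟨q, hq⟩ := hr.exists_walk_length_eq_dist
      rw [h] at hq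
      cases q with
      | nil => simp at hq
      | cons h' q' =>
        cases q' with
        | nil => simp at hq
        | cons h'' q'' =>
          cases q'' with
          | nil =>
            rename_i c
            rw [bg_adj] at h' h''
            exact hB h2 c.1 c.2 ⟨h'.2.symm, h''.2⟩
          | cons _ _ => simp at hq
    exact ⟨hr, by omega⟩
  rcases hc with h0 | h0 | h0
  · have hadj := h1 h0
    exact ⟨hadj.reachable, fun _ => SimpleGraph.dist_eq_one_iff_adj.mpr hadj,
      fun h => by rw [h0] at h; exact absurd h (by decide),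
      fun h => by rw [h0] at h; exact absurd h (by decide)⟩
  · exact ⟨(h4 h0).1, fun h => by rw [h0] at h; exact absurd h (by decide), fun _ => (h4 h0).2,
      fun h => by rw [h0] at h; exact absurd h (by decide)⟩
  · exact ⟨(h2 h0).1, fun h => by rw [h0] at h; exact absurd h (by decide),
      fun h => by rw [h0] at h; exact absurd h (by decide), fun _ => (h2 h0).2⟩

theorem bg_main (o o' : Finset GolayPt) (ho : o ∈ octads) (ho' : o' ∈ octads) (hne : o ≠ o') :
    (blockGraph octads).Connected ∧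
    ((blockGraph octads).dist ⟨o, ho⟩ ⟨o', ho'⟩ = 1 ↔ (o ∩ o').card = 0) ∧
    ((blockGraph octads).dist ⟨o, ho⟩ ⟨o', ho'⟩ = 2 ↔ (o ∩ o').card = 4) ∧
    ((blockGraph octads).dist ⟨o, ho⟩ ⟨o', ho'⟩ = 3 ↔ (o ∩ o').card = 2) := by
  have hne' : (⟨o, ho⟩ : ↥octads) ≠ ⟨o', ho'⟩ := fun h => hne (congrArg Subtype.val h)
  obtain ⟨_, d1, d2, d3⟩ := bg_dist ⟨o, ho⟩ ⟨o', ho'⟩ hne'
  obtain ⟨hc, _⟩ := octad_pair_cases ho ho' hne
  refine ⟨?_, ?_, ?_, ?_⟩
  · have : Nonempty ↥octads := ⟨⟨o, ho⟩⟩
    refine ⟨fun a b => ?_⟩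
    by_cases hab : a = b
    · subst hab; exact SimpleGraph.Reachable.refl _
    · exact (bg_dist a b hab).1
  · constructor
    · intro h
      rcases hc with h0 | h0 | h0
      · exact h0
      · have := d2 h0; omega
      · have := d3 h0; omega
    · exact d1
  · constructor
    · intro h
      rcases hc with h0 | h0 | h0
      · have := d1 h0; omega
      · exact h0
      · have := d3 h0; omega
    · exact d2
  · constructor
    · intro h
      rcases hc with h0 | h0 | h0
      · have := d1 h0; omega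
      · have := d2 h0; omega
      · exact h0
    · exact d3

end Cfsg.Agent.Helper93
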