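/-
Helper93: multiple transitivity from a chain of transversals whose orbits are "everything not
yet fixed"; applied to the chain of `M24` (Helper7): `M24` is 5-transitive.
-/
import Cfsg.Agent.Helper93.StabChain

set_option autoImplicit false
set_option maxRecDepth 100000

namespace Cfsg.Agent.Helper93

open Cfsg Cfsg.Agent.Helper7
open scoped Pointwise

/-- every index `< 24` outside `F` lies in the orbit of the level -/
def levelFull (F : List ℕ) (L : Level) : Bool :=
  allB 24 (fun q => F.contains q || L.orb.contains q)

/-- all levels of the chain are full -/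
def chainFull : List ℕ → List Level → Bool
  | _, [] => true
  | F, L :: Ls => levelFull F L && chainFull (L.b :: F) Ls

/-- base points of a chain -/
def chainBase (Ls : List Level) : List ℕ := Ls.map (fun L => L.b)

theorem exists_of_fullChain {H : Subgroup (Equiv.Perm GolayPt)} :
    ∀ (Ls : List Level) (F : List ℕ), (∀ L ∈ Ls, ∀ l ∈ L.T, Tabled H l) → chainOK F Ls = true →
      chainFull F Ls = true → ∀ tgt : List GolayPt, tgt.length = Ls.length → tgt.Nodup →
      (∀ a ∈ tgt, ∀ i ∈ F, a ≠ pt i) →
      ∃ g ∈ fixG H F, ∀ k (hk : k < Ls.length) (hk' : k < tgt.length),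
        g (pt (Ls[k]).b) = tgt[k] := by
  intro Ls
  induction Ls with
  | nil =>
    intro F _ _ _ tgt _ _ _
    exact ⟨1, (fixG H F).one_mem, fun k hk => absurd hk (by simp)⟩
  | cons L Ls ih =>
    intro F hT hok hfull tgt hlen hnd hF
    cases tgt with
    | nil => simp at hlen
    | cons a as =>
      rw [chainOK, Bool.and_eq_true, Bool.and_eq_true, Bool.and_eq_true] at hok
      obtain ⟨⟨⟨h1, _⟩, h3⟩, h4⟩ := hok
      rw [chainFull, Bool.and_eq_true] at hfull
      have hb : L.b < 24 := by simpa [Nat.blt_eq] using h3
      -- the first target lies in the orbit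
      have haF : idx a ∉ F := by
        intro hcon
        exact hF a (List.mem_cons_self ..) (idx a) hcon (pt_idx a).symm
      have hq : idx a ∈ L.orb := by
        have := allB_spec hfull.1 (idx a) (idx_lt a)
        rw [Bool.or_eq_true, List.contains_iff_mem, List.contains_iff_mem] at this
        rcases this with h | h
        · exact absurd h haF
        · exact h
      obtain ⟨_, _, t, ht, _, htq⟩ := Level.cover
        (fun l hl => hT L (List.mem_cons_self ..) l hl) h1 hb _ hq
      rw [pt_idx] at htq
      have hnd' := List.nodup_cons.mp hnd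
      -- the remaining targets, pulled back
      obtain ⟨g', hg', hg'k⟩ := ih (L.b :: F) (fun L' hL' => hT L' (List.mem_cons_of_mem _ hL')) h4
        hfull.2 (as.map (fun x => t⁻¹ x)) (by simpa using hlen)
        (hnd'.2.map (fun x y hxy => by simpa using hxy)) (by
          intro x hx i hi hcon
          obtain ⟨y, hy, rfl⟩ := List.mem_map.mp hx
          rw [Equiv.Perm.inv_eq_iff_eq] at hcon
          rw [List.mem_cons] at hi
          rcases hi with rfl | hi
          · rw [htq] at hcon
            exact hnd'.1 (hcon ▸ hy)
          · rw [ht.2 i hi] at hcon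
            exact hF y (List.mem_cons_of_mem _ hy) i hi hcon)
      refine ⟨t * g', ?_, ?_⟩
      · refine ⟨H.mul_mem ht.1 hg'.1, fun i hi => ?_⟩
        rw [Equiv.Perm.mul_apply, hg'.2 i (List.mem_cons_of_mem _ hi), ht.2 i hi]
      · intro k hk hk'
        cases k with
        | zero =>
          simp only [List.getElem_cons_zero]
          rw [Equiv.Perm.mul_apply, hg'.2 L.b (List.mem_cons_self ..), htq]
        | succ k =>
          simp only [List.getElem_cons_succ]
          have hk1 : k < Ls.length := by simpa using hk
          have hk2 : k < (as.map (fun x => t⁻¹ x)).length := by simpa using hk'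
          have := hg'k k hk1 hk2
          rw [Equiv.Perm.mul_apply, this, List.getElem_map]
          simp

/-- the first five levels of the chain of `M24` -/
def m24Levels5 : List Level := m24Levels.take 5

theorem m24Levels5_ok : chainOK [] m24Levels5 = true := by decide +kernel
theorem m24Levels5_full : chainFull [] m24Levels5 = true := by decide +kernel

/-- `M24` is 5-transitive: the points `pt 0, …, pt 4` can be sent to any five distinct points. -/
theorem m24_five_transitive (a₀ a₁ a₂ a₃ a₄ : GolayPt) (h : [a₀, a₁, a₂, a₃, a₄].Nodup) :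
    ∃ g ∈ M24, g (pt 0) = a₀ ∧ g (pt 1) = a₁ ∧ g (pt 2) = a₂ ∧ g (pt 3) = a₃ ∧ g (pt 4) = a₄ := by
  have hT : ∀ L ∈ m24Levels5, ∀ l ∈ L.T, Tabled M24 l := fun L hL l hl =>
    tabled_m24Levels L (List.mem_of_mem_take hL) l hl
  have hlen : m24Levels5.length = 5 := by decide
  obtain ⟨g, hg, hk⟩ := exists_of_fullChain m24Levels5 [] hT m24Levels5_ok m24Levels5_full
    [a₀, a₁, a₂, a₃, a₄] (by rw [hlen]; rfl) h (fun _ _ i hi => absurd hi (by simp))
  refine ⟨g, hg.1, ?_, ?_, ?_, ?_, ?_⟩
  · have := hk 0 (by rw [hlen]; norm_num) (by simp)
    simpa [m24Levels5, m24Levels, m24Specs, mkLevel] using this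
  · have := hk 1 (by rw [hlen]; norm_num) (by simp)
    simpa [m24Levels5, m24Levels, m24Specs, mkLevel] using this
  · have := hk 2 (by rw [hlen]; norm_num) (by simp)
    simpa [m24Levels5, m24Levels, m24Specs, mkLevel] using this
  · have := hk 3 (by rw [hlen]; norm_num) (by simp)
    simpa [m24Levels5, m24Levels, m24Specs, mkLevel] using this
  · have := hk 4 (by rw [hlen]; norm_num) (by simp)
    simpa [m24Levels5, m24Levels, m24Specs, mkLevel] using this

end Cfsg.Agent.Helper93
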