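/-
Helper93: elements of `M24` with prescribed images of the first base points are among explicitly
computable candidates (sifting through the chain of Helper7); conjugation certificates.
-/
import Cfsg.Agent.Helper93.ChainTrans
import Cfsg.Agent.Helper93.M24Tables
import Cfsg.Agent.Helper93.Words

set_option autoImplicit false
set_option maxRecDepth 100000

namespace Cfsg.Agent.Helper93

open Cfsg Cfsg.Agent.Helper7
open scoped Pointwise

theorem IsTable.unique {l l' : List ℕ} {g : Equiv.Perm GolayPt} (h : IsTable l g)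
    (h' : IsTable l' g) : l = l' := by
  rw [h.eq_map, h'.eq_map]

/-- boolean equality of lists of numbers -/
def eqL : List ℕ → List ℕ → Bool
  | [], [] => true
  | a :: as, b :: bs => Nat.beq a b && eqL as bs
  | _, _ => false

theorem eqL_spec : ∀ {a b : List ℕ}, eqL a b = true → a = b
  | [], [], _ => rfl
  | a :: as, b :: bs, h => by
    rw [eqL, Bool.and_eq_true] at h
    rw [Nat.eq_of_beq_eq_true h.1, eqL_spec h.2]
  | [], _ :: _, h => by simp [eqL] at h
  | _ :: _, [], h => by simp [eqL] at h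

theorem eqL_refl : ∀ a : List ℕ, eqL a a = true
  | [] => rfl
  | a :: as => by rw [eqL, Bool.and_eq_true]; exact ⟨Nat.beq_refl a, eqL_refl as⟩

/-- powers of a table -/
def powT : ℕ → List ℕ → List ℕ
  | 0, _ => idT
  | n + 1, l => compT l (powT n l)

theorem isTable_pow {l : List ℕ} {g : Equiv.Perm GolayPt} (h : IsTable l g) (n : ℕ) :
    IsTable (powT n l) (g ^ n) := by
  induction n with
  | zero => simpa [powT] using isTable_one
  | succ n ih => rw [powT, pow_succ']; exact h.mul ih

/-- the table has order exactly the prime `p` -/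
def isOrdT (p : ℕ) (l : List ℕ) : Bool := eqL (powT p l) idT && !eqL l idT

theorem isOrdT_of_orderOf {l : List ℕ} {g : Equiv.Perm GolayPt} (h : IsTable l g) {p : ℕ}
    (hp : p.Prime) (ho : orderOf g = p) : isOrdT p l = true := by
  rw [isOrdT, Bool.and_eq_true]
  constructor
  · have h1 : g ^ p = 1 := by rw [← ho]; exact pow_orderOf_eq_one g
    have h2 := isTable_pow h p
    rw [h1] at h2
    rw [IsTable.unique h2 isTable_one]
    exact eqL_refl _
  · rw [Bool.not_eq_true', Bool.eq_false_iff]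
    intro hcon
    have h1 := eqL_spec hcon
    rw [h1] at h
    have : g = 1 := h.inj isTable_one
    rw [this, orderOf_one] at ho
    exact hp.one_lt.ne ho

theorem getD_congr_default (l : List ℕ) (i a b : ℕ) (h : i < l.length) :
    l.getD i a = l.getD i b := by
  rw [List.getD_eq_getElem _ _ h, List.getD_eq_getElem _ _ h]

/-- number of fixed points of a table -/
def fixCount (l : List ℕ) : ℕ := countB 24 (fun i => Nat.beq (l.getD i 99) i)

theorem fixCount_eq {l : List ℕ} {g : Equiv.Perm GolayPt} (h : IsTable l g) :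
    (Finset.univ.filter fun p => g p = p).card = fixCount l := by
  classical
  rw [fixCount, countB, ← List.toFinset_card_of_nodup (List.nodup_range.filter _)]
  apply Finset.card_nbij' idx pt
  · intro p hp
    simp only [Finset.coe_filter, Finset.mem_univ, true_and, Set.mem_ofPred_eq] at hp
    simp only [List.coe_toFinset, List.mem_filter, List.mem_range, Set.mem_ofPred_eq]
    refine ⟨idx_lt p, ?_⟩
    have h1 := h.2 p
    rw [hp] at h1
    have h2 : l.getD (idx p) 99 = l.getD (idx p) 0 :=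
      getD_congr_default l _ _ _ (by rw [h.1]; exact idx_lt p)
    rw [h2, ← h1]
    exact Nat.beq_refl _
  · intro i hi
    simp only [List.coe_toFinset, List.mem_filter, List.mem_range, Set.mem_ofPred_eq] at hi
    simp only [Finset.coe_filter, Finset.mem_univ, true_and, Set.mem_ofPred_eq]
    have h1 := Nat.eq_of_beq_eq_true hi.2
    have h2 : l.getD i 99 = l.getD i 0 :=
      getD_congr_default l _ _ _ (by rw [h.1]; exact hi.1)
    rw [h.apply, idx_pt hi.1, ← h2, h1]
  · intro p _; exact pt_idx p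
  · intro i hi
    simp only [List.coe_toFinset, List.mem_filter, List.mem_range, Set.mem_ofPred_eq] at hi
    exact idx_pt hi.1

/-- the tail of a chain of bounds -/
theorem bounds_drop {H : Subgroup (Equiv.Perm GolayPt)} :
    ∀ (n : ℕ) (F : List ℕ) (Ls : List Level), Bounds H F Ls →
      Bounds H (((Ls.take n).map (fun L => L.b)).reverse ++ F) (Ls.drop n)
  | 0, F, Ls, h => by simpa using h
  | n + 1, F, [], h => by simpa using h
  | n + 1, F, L :: Ls, h => by
    have := bounds_drop n (L.b :: F) Ls h.2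
    simpa [List.take, List.drop, List.reverse_cons, List.append_assoc] using this

/-- the candidates: the coset `t₀ * (pointwise stabiliser)` -/
theorem exists_cand {Ls : List Level} {F : List ℕ}
    (hT : ∀ L ∈ Ls, ∀ l ∈ L.T, Tabled M24 l) (hok : chainOK F Ls = true) (hB : Bounds M24 F Ls)
    {T₀ : List ℕ} {t₀ : Equiv.Perm GolayPt} (ht₀ : IsTable T₀ t₀) (ht₀M : t₀ ∈ M24)
    {g : Equiv.Perm GolayPt} (hg : g ∈ M24) (himg : ∀ i ∈ F, g (pt i) = t₀ (pt i)) :
    ∃ l ∈ (prodTables Ls).map (compT T₀), IsTable l g := by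
  have hs : t₀⁻¹ * g ∈ fixG M24 F := by
    refine ⟨M24.mul_mem (M24.inv_mem ht₀M) hg, fun i hi => ?_⟩
    rw [Equiv.Perm.mul_apply, himg i hi]
    simp
  obtain ⟨l', hl', hl's⟩ := chain_sift hT hok hB _ hs
  refine ⟨compT T₀ l', List.mem_map.mpr ⟨l', hl', rfl⟩, ?_⟩
  have := ht₀.mul hl's
  rwa [mul_inv_cancel_left] at this

/-- membership test of a table in `M24` -/
def m24B (K : List ℕ) : Bool :=
  gmasks.all (fun x => Nat.beq (enc (pullMask K x % 4096)) (pullMask K x))

/-- boolean check of `ValidTables` -/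
def validB (l l' : List ℕ) : Bool :=
  Nat.beq l.length 24 && allB 24 (fun i => Nat.blt (l.getD i 0) 24 && Nat.blt (l'.getD i 0) 24 &&
    Nat.beq (l'.getD (l.getD i 0) 0) i && Nat.beq (l.getD (l'.getD i 0) 0) i)

theorem validB_spec {l l' : List ℕ} (h : validB l l' = true) : ValidTables l l' := by
  rw [validB, Bool.and_eq_true] at h
  refine ⟨Nat.eq_of_beq_eq_true h.1, fun i hi => ?_⟩
  have h2 := allB_spec h.2 i hi
  rw [Bool.and_eq_true, Bool.and_eq_true, Bool.and_eq_true] at h2
  obtain ⟨⟨⟨h3, h4⟩, h5⟩, h6⟩ := h2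
  exact ⟨by simpa [Nat.blt_eq] using h3, by simpa [Nat.blt_eq] using h4,
    Nat.eq_of_beq_eq_true h5, Nat.eq_of_beq_eq_true h6⟩

/-- conjugation certificate: every candidate with property `P` is conjugated to the table `R`
by one of the listed tables -/
def conjOK (R : List ℕ) (P : List ℕ → Bool) (cands : List (List ℕ))
    (conjs : List (List ℕ × List ℕ)) (idxs : List ℕ) : Bool :=
  conjs.all (fun K => validB K.1 K.2 && m24B K.1) &&
  (cands.zip idxs).all (fun c => !P c.1 ||
    (match conjs[c.2]? with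
     | some K => eqL (compT K.1 c.1) (compT R K.1)
     | none => false))

theorem conj_of_conjOK {R : List ℕ} {P : List ℕ → Bool} {cands : List (List ℕ)}
    {conjs : List (List ℕ × List ℕ)} {idxs : List ℕ}
    (hok : conjOK R P cands conjs idxs = true) (hlen : cands.length ≤ idxs.length)
    {r : Equiv.Perm GolayPt} (hr : IsTable R r) {g : Equiv.Perm GolayPt} {l : List ℕ}
    (hl : l ∈ cands) (hlg : IsTable l g) (hP : P l = true) :
    ∃ k ∈ M24, k * g * k⁻¹ = r := by
  rw [conjOK, Bool.and_eq_true, List.all_eq_true, List.all_eq_true] at hok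
  obtain ⟨t, ht, rfl⟩ := List.getElem_of_mem hl
  have hz : (cands[t], idxs[t]'(by omega)) ∈ cands.zip idxs := by
    rw [List.mem_iff_getElem]
    refine ⟨t, by rw [List.length_zip]; omega, ?_⟩
    rw [List.getElem_zip]
  have h1 := hok.2 _ hz
  rw [hP] at h1
  simp only [Bool.not_true, Bool.false_or] at h1
  split at h1
  · rename_i K hK
    have hKmem : K ∈ conjs := List.mem_of_getElem? hK
    have h2 := hok.1 K hKmem
    rw [Bool.and_eq_true] at h2
    have hv : ValidTables K.1 K.2 := validB_spec h2.1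
    have hM : tablePerm K.1 K.2 hv ∈ M24 := by
      apply tablePerm_mem_M24
      intro x hx
      have := h2.2
      rw [m24B, List.all_eq_true] at this
      exact Nat.eq_of_beq_eq_true (this x hx)
    refine ⟨tablePerm K.1 K.2 hv, hM, ?_⟩
    have hk := isTable_tablePerm K.1 K.2 hv
    have e1 := hk.mul hlg
    have e2 := hr.mul hk
    rw [eqL_spec h1] at e1
    have : tablePerm K.1 K.2 hv * g = r * tablePerm K.1 K.2 hv := e1.inj e2
    rw [this, mul_inv_cancel_right]
  · exact absurd h1 (by decide)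

/-! ### Reduction to candidates by 5-transitivity -/

theorem exists_cand_conj {Ls : List Level} {F : List ℕ}
    (hT : ∀ L ∈ Ls, ∀ l ∈ L.T, Tabled M24 l) (hok : chainOK F Ls = true) (hB : Bounds M24 F Ls)
    (hF : ∀ i ∈ F, i < 5)
    {T₀ : List ℕ} {t₀ : Equiv.Perm GolayPt} (ht₀ : IsTable T₀ t₀) (ht₀M : t₀ ∈ M24)
    {g : Equiv.Perm GolayPt} (hg : g ∈ M24) (a : ℕ → GolayPt)
    (hnd : [a 0, a 1, a 2, a 3, a 4].Nodup)
    (himg : ∀ i ∈ F, T₀.getD i 0 < 5 ∧ g (a i) = a (T₀.getD i 0)) :
    ∃ k ∈ M24, ∃ l ∈ (prodTables Ls).map (compT T₀), IsTable l (k⁻¹ * g * k) := by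
  obtain ⟨k, hk, h0, h1, h2, h3, h4⟩ := m24_five_transitive (a 0) (a 1) (a 2) (a 3) (a 4) hnd
  have hka : ∀ i < 5, k (pt i) = a i := by
    intro i hi
    interval_cases i
    · exact h0
    · exact h1
    · exact h2
    · exact h3
    · exact h4
  refine ⟨k, hk, ?_⟩
  apply exists_cand hT hok hB ht₀ ht₀M (M24.mul_mem (M24.mul_mem (M24.inv_mem hk) hg) hk)
  intro i hi
  obtain ⟨h5, h6⟩ := himg i hi
  have hi5 := hF i hi
  rw [Equiv.Perm.mul_apply, Equiv.Perm.mul_apply, hka i hi5, h6, ← hka _ h5, ht₀.apply,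
    idx_pt (by omega)]
  simp

theorem card_fixed_conj (g k : Equiv.Perm GolayPt) :
    (Finset.univ.filter fun x => (k⁻¹ * g * k) x = x).card =
      (Finset.univ.filter fun x => g x = x).card := by
  apply Finset.card_equiv k
  intro x
  rw [Finset.mem_filter, Finset.mem_filter]
  simp only [Finset.mem_univ, true_and, Equiv.Perm.mul_apply]
  rw [Equiv.Perm.inv_eq_iff_eq]

theorem orderOf_conj' (g k : Equiv.Perm GolayPt) : orderOf (k⁻¹ * g * k) = orderOf g := by
  have := MulEquiv.orderOf_eq (MulAut.conj k⁻¹) g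
  rwa [MulAut.conj_apply, inv_inv] at this

/-- an element of `M24` of prime order `p` with `f` fixed points and the prescribed pattern on
five points is conjugate in `M24` to the representative, given a conjugation certificate for the
candidates -/
theorem conj_rep {Ls : List Level} {F : List ℕ}
    (hT : ∀ L ∈ Ls, ∀ l ∈ L.T, Tabled M24 l) (hok : chainOK F Ls = true) (hB : Bounds M24 F Ls)
    (hF : ∀ i ∈ F, i < 5)
    {T₀ : List ℕ} {t₀ : Equiv.Perm GolayPt} (ht₀ : IsTable T₀ t₀) (ht₀M : t₀ ∈ M24)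
    {R : List ℕ} {r : Equiv.Perm GolayPt} (hr : IsTable R r) {p f : ℕ} (hp : p.Prime)
    {conjs : List (List ℕ × List ℕ)} {idxs : List ℕ}
    (hconj : conjOK R (fun l => isOrdT p l && Nat.beq (fixCount l) f)
      ((prodTables Ls).map (compT T₀)) conjs idxs = true)
    (hlen : ((prodTables Ls).map (compT T₀)).length ≤ idxs.length)
    {g : Equiv.Perm GolayPt} (hg : g ∈ M24) (ho : orderOf g = p)
    (hf : (Finset.univ.filter fun x => g x = x).card = f) (a : ℕ → GolayPt)
    (hnd : [a 0, a 1, a 2, a 3, a 4].Nodup)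
    (himg : ∀ i ∈ F, T₀.getD i 0 < 5 ∧ g (a i) = a (T₀.getD i 0)) :
    ∃ k ∈ M24, k * g * k⁻¹ = r := by
  obtain ⟨k, hk, l, hl, hlg⟩ := exists_cand_conj hT hok hB hF ht₀ ht₀M hg a hnd himg
  have hP : (fun l => isOrdT p l && Nat.beq (fixCount l) f) l = true := by
    show (isOrdT p l && Nat.beq (fixCount l) f) = true
    rw [Bool.and_eq_true]
    refine ⟨isOrdT_of_orderOf hlg hp (by rw [orderOf_conj', ho]), ?_⟩
    rw [← fixCount_eq hlg, card_fixed_conj, hf]
    exact Nat.beq_refl _
  obtain ⟨k', hk', hk'g⟩ := conj_of_conjOK hconj hlen hr hl hlg hP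
  refine ⟨k' * k⁻¹, M24.mul_mem hk' (M24.inv_mem hk), ?_⟩
  rw [← hk'g]
  group

/-! ### Counting fixed members of a class -/

theorem ncard_filter_arr {X : Type*} (x : ℕ → X) (n : ℕ)
    (hinj : ∀ i < n, ∀ i' < n, x i = x i' → i = i') (p : ℕ → Bool) :
    {y | ∃ i < n, p i = true ∧ y = x i}.ncard = countB n p := by
  classical
  have h1 : {y | ∃ i < n, p i = true ∧ y = x i} =
      x '' (((Finset.range n).filter (fun i => p i = true) : Finset ℕ) : Set ℕ) := by
    ext y
    simp only [Set.mem_ofPred_eq, Set.mem_image, Finset.coe_filter, Finset.mem_range]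
    constructor
    · rintro ⟨i', hi', ho, rfl⟩
      exact ⟨i', ⟨hi', ho⟩, rfl⟩
    · rintro ⟨i', ⟨hi', ho⟩, rfl⟩
      exact ⟨i', hi', ho, rfl⟩
  rw [h1, Set.InjOn.ncard_image, Set.ncard_coe_finset]
  · rw [countB, ← List.toFinset_card_of_nodup (List.nodup_range.filter _)]
    congr 1
    ext i
    simp
  · intro a ha b hb hab
    simp only [Finset.coe_filter, Finset.mem_range, Set.mem_ofPred_eq] at ha hb
    exact hinj a ha.1 b hb.1 hab

section

variable {X : Type} [MulAction (Equiv.Perm GolayPt) X] (E : Enc X)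

/-- the number of members of a class array fixed by a word -/
theorem ncard_fixed_word {A : Arr} (hA : A.ok E = true) {Ps : List ℕ} (hacts : Acts E A gens5 Ps)
    {w : List ℕ} (hw : wordOK Ps.length w = true) :
    {y | (∃ i < A.n, y = E.dec (A.a i)) ∧ evalW gens5 w • y = y}.ncard =
      countB A.n (fun i => Nat.beq (idxW Ps w i) i) := by
  rw [← ncard_filter_arr (fun i => E.dec (A.a i)) A.n (Arr.inj E hA)]
  congr 1
  ext y
  simp only [Set.mem_ofPred_eq]
  constructor
  · rintro ⟨⟨i, hi, rfl⟩, h2⟩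
    refine ⟨i, hi, ?_, rfl⟩
    obtain ⟨h3, h4⟩ := word_act E hacts hw hi
    have h5 : (evalW gens5 w)⁻¹ • E.dec (A.a i) = E.dec (A.a i) := inv_smul_eq_iff.mpr h2.symm
    rw [Arr.inj E hA _ h4 _ hi (h3.symm.trans h5)]
    exact Nat.beq_refl _
  · rintro ⟨i, hi, h2, rfl⟩
    refine ⟨⟨i, hi, rfl⟩, ?_⟩
    obtain ⟨h3, _⟩ := word_act E hacts hw hi
    rw [Nat.eq_of_beq_eq_true h2, inv_smul_eq_iff] at h3
    exact h3.symm

/-- the number of fixed members of an invariant class is a class function -/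
theorem ncard_fixed_conj {C : Set X} (hC : ∀ k ∈ M24, ∀ x ∈ C, k • x ∈ C)
    {k g r : Equiv.Perm GolayPt} (hk : k ∈ M24) (hkg : k * g * k⁻¹ = r) :
    {x | x ∈ C ∧ g • x = x}.ncard = {x | x ∈ C ∧ r • x = x}.ncard := by
  have : {x | x ∈ C ∧ r • x = x} = (fun x => k • x) '' {x | x ∈ C ∧ g • x = x} := by
    ext x
    simp only [Set.mem_ofPred_eq, Set.mem_image]
    constructor
    · rintro ⟨h1, h2⟩
      refine ⟨k⁻¹ • x, ⟨hC _ (M24.inv_mem hk) _ h1, ?_⟩, smul_inv_smul k x⟩
      rw [← hkg, mul_smul, mul_smul] at h2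
      exact eq_inv_smul_iff.mpr h2
    · rintro ⟨y, ⟨h1, h2⟩, rfl⟩
      refine ⟨hC _ hk _ h1, ?_⟩
      rw [← hkg, mul_smul, mul_smul, inv_smul_smul, h2]
  rw [this, Set.ncard_image_of_injective _ (MulAction.injective k)]

/-- the count of fixed members of a class for any conjugate of a word -/
theorem count_of_conj {A : Arr} (hA : A.ok E = true) {Ps : List ℕ} (hacts : Acts E A gens5 Ps)
    {w : List ℕ} (hw : wordOK Ps.length w = true) {C : Set X}
    (hCeq : C = {y | ∃ i < A.n, y = E.dec (A.a i)}) (hC : ∀ k ∈ M24, ∀ x ∈ C, k • x ∈ C)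
    {k g : Equiv.Perm GolayPt} (hk : k ∈ M24) (hkg : k * g * k⁻¹ = evalW gens5 w) :
    {x | x ∈ C ∧ g • x = x}.ncard = countB A.n (fun i => Nat.beq (idxW Ps w i) i) := by
  rw [ncard_fixed_conj hC hk hkg, ← ncard_fixed_word E hA hacts hw]
  subst hCeq
  rfl

end

/-! ### Cycles of elements of order 2 and 3 -/

theorem exists_moved {g : Equiv.Perm GolayPt} (h : g ≠ 1) : ∃ a, g a ≠ a := by
  by_contra hcon
  push Not at hcon
  exact h (Equiv.ext hcon)

theorem exists_three_cycle {g : Equiv.Perm GolayPt} (h : orderOf g = 3) :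
    ∃ a, g a ≠ a ∧ g (g a) ≠ a ∧ g (g a) ≠ g a ∧ g (g (g a)) = a := by
  have h1 : g ≠ 1 := by
    intro h1
    rw [h1, orderOf_one] at h
    omega
  obtain ⟨a, ha⟩ := exists_moved h1
  have h3 : g (g (g a)) = a := by
    have := pow_orderOf_eq_one g
    rw [h] at this
    have h4 := congrArg (fun f => f a) this
    simpa [pow_succ, Equiv.Perm.mul_apply] using h4
  refine ⟨a, ha, ?_, ?_, h3⟩
  · intro h4
    rw [h4] at h3
    exact ha h3
  · intro h4
    exact ha (g.injective h4)

theorem exists_two_cycle {g : Equiv.Perm GolayPt} (h : orderOf g = 2) :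
    ∃ a, g a ≠ a ∧ g (g a) = a := by
  have h1 : g ≠ 1 := by
    intro h1
    rw [h1, orderOf_one] at h
    omega
  obtain ⟨a, ha⟩ := exists_moved h1
  refine ⟨a, ha, ?_⟩
  have := pow_orderOf_eq_one g
  rw [h] at this
  have h4 := congrArg (fun f => f a) this
  simpa [pow_succ, Equiv.Perm.mul_apply] using h4

theorem exists_notMem_golay (s : Finset GolayPt) (h : s.card < 24) : ∃ x, x ∉ s := by
  by_contra hcon
  push Not at hcon
  have : s = Finset.univ := Finset.eq_univ_iff_forall.mpr hcon
  rw [this, Finset.card_univ] at h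
  have : Fintype.card GolayPt = 24 := by simp [GolayPt, Fintype.card_option, ZMod.card]
  omega

end Cfsg.Agent.Helper93
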