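/-
Helper93: the tails of the stabiliser chain of `M24` (Helper7) after the first five / four base
points `0, 1, 2, 3, 4`.
-/
import Cfsg.Agent.Helper93.ElemClass

set_option autoImplicit false
set_option maxRecDepth 100000

namespace Cfsg.Agent.Helper93

open Cfsg Cfsg.Agent.Helper7
open scoped Pointwise

theorem m24_drop5_ok : chainOK [4, 3, 2, 1, 0] (m24Levels.drop 5) = true := by decide +kernel

theorem m24_drop4_ok : chainOK [3, 2, 1, 0] (m24Levels.drop 4) = true := by decide +kernel

theorem m24_drop5_bounds : Bounds M24 [4, 3, 2, 1, 0] (m24Levels.drop 5) := by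
  have := bounds_drop 5 [] m24Levels m24_bounds
  have h : ((m24Levels.take 5).map (fun L => L.b)).reverse ++ [] = [4, 3, 2, 1, 0] := by
    decide +kernel
  rwa [h] at this

theorem m24_drop4_bounds : Bounds M24 [3, 2, 1, 0] (m24Levels.drop 4) := by
  have := bounds_drop 4 [] m24Levels m24_bounds
  have h : ((m24Levels.take 4).map (fun L => L.b)).reverse ++ [] = [3, 2, 1, 0] := by
    decide +kernel
  rwa [h] at this

theorem tabled_drop (n : ℕ) : ∀ L ∈ m24Levels.drop n, ∀ l ∈ L.T, Tabled M24 l :=
  fun L hL l hl => tabled_m24Levels L (List.mem_of_mem_drop hL) l hl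

end Cfsg.Agent.Helper93
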