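/-
Helper93: generated data (by a Python script) -- conjugation certificates for the elements of order 3 with 6 fixed points of M24
-/
import Cfsg.Agent.Helper93.ElemChain

set_option autoImplicit false
set_option maxRecDepth 100000

namespace Cfsg.Agent.Helper93

open Cfsg Cfsg.Agent.Helper7
open scoped Pointwise

/-- the word of the representative -/
def e3A_w : List ℕ := [0, 2, 0, 2]

/-- an element of `M24` with the pattern on the first base points -/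
def e3A_T0 : List ℕ := [1, 2, 0, 3, 4, 21, 22, 12, 23, 11, 7, 9, 10, 8, 13, 5, 14, 18, 15, 17, 16, 19, 6, 20]

def e3A_T0i : List ℕ := [2, 0, 1, 3, 4, 15, 22, 10, 13, 11, 12, 9, 7, 14, 16, 18, 20, 19, 17, 21, 23, 5, 6, 8]

/-- conjugating elements -/
def e3A_conjs : List (List ℕ × List ℕ) := [
  ([10, 17, 9, 20, 21, 8, 19, 23, 3, 2, 4, 18, 11, 7, 1, 14, 5, 6, 16, 15, 0, 12, 13, 22], [20, 14, 9, 8, 10, 16, 17, 13, 5, 2, 0, 12, 21, 22, 15, 19, 18, 1, 11, 6, 3, 4, 23, 7]),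
  ([19, 1, 0, 4, 23, 16, 9, 3, 22, 5, 11, 2, 20, 13, 14, 6, 15, 7, 12, 10, 8, 21, 18, 17], [2, 1, 11, 7, 3, 9, 15, 17, 20, 6, 19, 10, 18, 13, 14, 16, 5, 23, 22, 0, 12, 21, 8, 4]),
  ([9, 10, 17, 4, 11, 13, 5, 23, 2, 6, 20, 16, 21, 7, 12, 22, 14, 3, 15, 0, 1, 18, 19, 8], [19, 20, 8, 17, 3, 6, 9, 13, 23, 0, 1, 4, 14, 5, 16, 18, 11, 2, 21, 22, 10, 12, 15, 7]),
  ([7, 2, 6, 23, 4, 10, 21, 13, 11, 19, 8, 0, 12, 5, 3, 16, 22, 9, 14, 18, 20, 15, 1, 17], [11, 22, 1, 14, 4, 13, 2, 0, 10, 17, 5, 8, 12, 7, 18, 21, 15, 23, 19, 9, 20, 6, 16, 3]),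
  ([10, 17, 9, 4, 11, 2, 16, 23, 18, 5, 20, 6, 21, 8, 22, 15, 7, 0, 12, 1, 3, 13, 19, 14], [17, 19, 5, 20, 3, 9, 11, 16, 13, 2, 0, 4, 18, 21, 23, 15, 6, 1, 8, 22, 10, 12, 14, 7]),
  ([16, 18, 22, 20, 11, 0, 10, 14, 3, 19, 15, 12, 5, 7, 9, 4, 23, 8, 1, 21, 17, 13, 6, 2], [5, 18, 23, 8, 15, 12, 22, 13, 17, 14, 6, 4, 11, 21, 7, 10, 0, 20, 1, 9, 3, 19, 2, 16]),
  ([7, 2, 6, 21, 11, 22, 12, 20, 17, 16, 4, 10, 3, 19, 14, 15, 13, 8, 23, 18, 0, 1, 5, 9], [20, 21, 1, 12, 10, 22, 2, 0, 17, 23, 11, 4, 6, 16, 14, 15, 9, 8, 19, 13, 7, 3, 5, 18]),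
  ([12, 13, 8, 23, 20, 22, 2, 21, 16, 7, 11, 6, 3, 14, 1, 0, 15, 17, 19, 9, 10, 18, 4, 5], [15, 14, 6, 12, 22, 23, 11, 9, 2, 19, 20, 10, 0, 1, 13, 16, 8, 17, 21, 18, 4, 7, 5, 3]),
  ([1, 0, 19, 23, 4, 15, 5, 11, 2, 10, 3, 12, 20, 14, 18, 21, 7, 13, 22, 6, 9, 8, 16, 17], [1, 0, 8, 10, 4, 6, 19, 16, 21, 20, 9, 7, 11, 17, 13, 5, 22, 23, 14, 2, 12, 15, 18, 3]),
  ([12, 13, 8, 11, 20, 4, 2, 21, 10, 15, 3, 19, 23, 6, 16, 7, 0, 22, 14, 5, 1, 9, 17, 18], [16, 20, 6, 10, 5, 19, 13, 15, 2, 21, 8, 3, 0, 1, 18, 9, 14, 22, 23, 11, 4, 7, 17, 12]),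
  ([12, 13, 8, 4, 20, 3, 6, 15, 0, 23, 14, 7, 5, 16, 17, 19, 1, 9, 11, 21, 18, 22, 2, 10], [8, 16, 22, 5, 3, 12, 6, 11, 2, 17, 23, 18, 0, 1, 10, 7, 13, 14, 20, 15, 4, 19, 21, 9]),
  ([5, 15, 14, 11, 20, 21, 2, 18, 6, 0, 16, 8, 22, 17, 23, 12, 10, 4, 1, 19, 7, 13, 9, 3], [9, 18, 6, 23, 17, 0, 8, 20, 11, 22, 16, 3, 15, 21, 2, 1, 10, 13, 7, 19, 4, 5, 12, 14]),
  ([13, 8, 12, 20, 21, 5, 6, 23, 10, 18, 11, 17, 3, 19, 15, 16, 1, 14, 9, 2, 22, 7, 0, 4], [22, 16, 19, 12, 23, 5, 6, 21, 1, 18, 8, 10, 2, 0, 17, 14, 15, 11, 9, 13, 3, 4, 20, 7]),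
  ([16, 18, 22, 11, 23, 19, 15, 6, 8, 5, 7, 20, 2, 17, 1, 4, 12, 21, 9, 13, 10, 3, 14, 0], [23, 14, 12, 21, 15, 9, 7, 10, 8, 18, 20, 3, 16, 19, 22, 6, 0, 13, 1, 5, 11, 17, 2, 4]),
  ([9, 10, 17, 4, 23, 7, 19, 21, 12, 6, 20, 5, 11, 14, 15, 8, 13, 18, 2, 3, 22, 0, 16, 1], [21, 23, 18, 19, 3, 11, 9, 5, 15, 0, 1, 12, 8, 16, 13, 14, 22, 2, 17, 6, 10, 7, 20, 4]),
  ([17, 9, 10, 21, 3, 13, 11, 1, 18, 4, 19, 23, 0, 15, 22, 6, 14, 7, 8, 12, 16, 2, 20, 5], [12, 7, 21, 4, 9, 23, 15, 17, 18, 1, 2, 6, 19, 5, 16, 13, 20, 0, 8, 10, 22, 3, 14, 11]),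
  ([13, 8, 12, 21, 20, 22, 4, 23, 14, 19, 3, 1, 11, 18, 15, 16, 17, 10, 9, 7, 5, 2, 0, 6], [22, 11, 21, 10, 6, 20, 23, 19, 1, 18, 17, 12, 2, 0, 8, 14, 15, 16, 13, 9, 4, 3, 5, 7]),
  ([6, 7, 2, 23, 21, 14, 13, 0, 18, 8, 19, 12, 1, 3, 15, 16, 11, 5, 9, 22, 17, 10, 4, 20], [7, 12, 2, 13, 22, 17, 0, 1, 9, 18, 21, 16, 11, 6, 5, 14, 15, 20, 8, 10, 23, 4, 19, 3]),
  ([22, 16, 18, 4, 20, 13, 15, 21, 5, 17, 23, 2, 3, 6, 11, 0, 10, 8, 1, 7, 14, 9, 19, 12], [15, 18, 11, 12, 3, 8, 13, 19, 17, 21, 16, 14, 23, 5, 20, 6, 1, 9, 2, 22, 4, 7, 0, 10]),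
  ([5, 15, 14, 23, 4, 1, 7, 21, 22, 2, 3, 20, 11, 17, 9, 13, 0, 12, 16, 10, 19, 8, 6, 18], [16, 5, 9, 10, 4, 0, 22, 6, 21, 14, 19, 12, 17, 15, 2, 1, 18, 13, 23, 20, 11, 7, 8, 3]),
  ([7, 2, 6, 3, 23, 0, 13, 9, 12, 1, 17, 16, 10, 20, 8, 22, 15, 18, 21, 19, 4, 11, 14, 5], [5, 9, 1, 3, 20, 23, 2, 0, 14, 7, 12, 21, 8, 6, 22, 16, 11, 10, 17, 19, 13, 18, 15, 4]),
  ([7, 2, 6, 11, 20, 15, 22, 21, 0, 23, 4, 18, 3, 19, 10, 12, 17, 1, 5, 14, 13, 9, 16, 8], [8, 17, 1, 12, 10, 18, 2, 0, 23, 21, 14, 3, 15, 20, 19, 5, 22, 16, 11, 13, 4, 7, 6, 9]),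
  ([1, 0, 19, 20, 11, 13, 8, 3, 17, 10, 23, 7, 4, 21, 6, 12, 22, 9, 14, 2, 5, 15, 18, 16], [1, 0, 19, 7, 12, 20, 14, 11, 6, 17, 9, 4, 15, 5, 18, 21, 23, 8, 22, 2, 3, 13, 16, 10]),
  ([2, 6, 7, 11, 21, 9, 12, 3, 16, 14, 4, 17, 20, 1, 5, 18, 23, 13, 8, 22, 10, 15, 0, 19], [22, 13, 0, 7, 10, 14, 1, 2, 18, 5, 20, 3, 6, 17, 9, 21, 8, 11, 15, 23, 12, 4, 19, 16])]

def e3A_idxs : List ℕ := [0, 0, 0, 0, 1, 0, 2, 3, 0, 4, 0, 0, 0, 5, 6, 7, 0, 0, 0, 8, 0, 9, 10, 11, 0, 12, 13, 14, 0, 15, 16, 0, 0, 17, 0, 18, 0, 0, 19, 0, 20, 21, 22, 0, 0, 0, 23, 0]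

/-- the candidates -/
def e3A_cands : List (List ℕ) := (prodTables (m24Levels.drop 5)).map (compT e3A_T0)

theorem e3A_T0_ok : (validB e3A_T0 e3A_T0i && m24B e3A_T0) = true := by decide +kernel

theorem e3A_conjOK : conjOK (tableW tabs5 e3A_w) (fun l => isOrdT 3 l && Nat.beq (fixCount l) 6)
    e3A_cands e3A_conjs e3A_idxs = true := by decide +kernel

theorem e3A_len : e3A_cands.length ≤ e3A_idxs.length := by decide +kernel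

theorem e3A_fix : e3A_cands.all (fun l => !isOrdT 3 l || Nat.beq (fixCount l) 6) = true := by decide +kernel

theorem e3A_pat : [0, 1, 2, 3, 4].all (fun i => Nat.blt (e3A_T0.getD i 0) 5) = true := by decide +kernel

end Cfsg.Agent.Helper93
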