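/-
Helper93: the classes of elements of order 2 and 3 of `M24`: every such element is conjugate to
a representative given by a word, determined by the number of fixed points.
-/
import Cfsg.Agent.Helper93.ElemData3A
import Cfsg.Agent.Helper93.ElemData3B
import Cfsg.Agent.Helper93.ElemData2A
import Cfsg.Agent.Helper93.ElemData2B

set_option autoImplicit false
set_option maxRecDepth 100000

namespace Cfsg.Agent.Helper93

open Cfsg Cfsg.Agent.Helper7
open scoped Pointwise

theorem t0_facts {T T' : List ℕ} (h : (validB T T' && m24B T) = true) :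
    IsTable T (tablePerm T T' (validB_spec (Bool.and_eq_true _ _ ▸ h).1)) ∧
      tablePerm T T' (validB_spec (Bool.and_eq_true _ _ ▸ h).1) ∈ M24 := by
  have h' := h
  rw [Bool.and_eq_true] at h'
  refine ⟨isTable_tablePerm _ _ _, tablePerm_mem_M24 _ _ _ ?_⟩
  intro x hx
  have := h'.2
  rw [m24B, List.all_eq_true] at this
  exact Nat.eq_of_beq_eq_true (this x hx)

theorem ne_of_moved_fixed {g : Equiv.Perm GolayPt} {x d : GolayPt} (hx : g x ≠ x) (hd : g d = d) :
    x ≠ d := by
  rintro rfl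
  exact hx hd

/-- the number of fixed points -/
noncomputable def nfix (g : Equiv.Perm GolayPt) : ℕ := (Finset.univ.filter fun p => g p = p).card

theorem nfix_def (g : Equiv.Perm GolayPt) :
    (Finset.univ.filter fun p => g p = p).card = nfix g := rfl

theorem mem_fix {g : Equiv.Perm GolayPt} {x : GolayPt} :
    x ∈ (Finset.univ.filter fun p => g p = p) ↔ g x = x := by
  rw [Finset.mem_filter]; simp

/-- from a candidate to the representative -/
theorem conj_of_cand {cands : List (List ℕ)} {R : List ℕ} {r : Equiv.Perm GolayPt}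
    (hr : IsTable R r) {p f : ℕ} (hp : p.Prime)
    {conjs : List (List ℕ × List ℕ)} {idxs : List ℕ}
    (hconj : conjOK R (fun l => isOrdT p l && Nat.beq (fixCount l) f) cands conjs idxs = true)
    (hlen : cands.length ≤ idxs.length)
    {g k : Equiv.Perm GolayPt} (hk : k ∈ M24) (ho : orderOf g = p) (hf : nfix g = f)
    {l : List ℕ} (hl : l ∈ cands) (hlg : IsTable l (k⁻¹ * g * k)) :
    ∃ k ∈ M24, k * g * k⁻¹ = r := by
  have hP : (fun l => isOrdT p l && Nat.beq (fixCount l) f) l = true := by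
    show (isOrdT p l && Nat.beq (fixCount l) f) = true
    rw [Bool.and_eq_true]
    refine ⟨isOrdT_of_orderOf hlg hp (by rw [orderOf_conj', ho]), ?_⟩
    rw [← fixCount_eq hlg, card_fixed_conj, nfix_def, hf]
    exact Nat.beq_refl _
  obtain ⟨k', hk', hk'g⟩ := conj_of_conjOK hconj hlen hr hl hlg hP
  refine ⟨k' * k⁻¹, M24.mul_mem hk' (M24.inv_mem hk), ?_⟩
  rw [← hk'g]
  group

/-- the number of fixed points, from a candidate -/
theorem nfix_of_cand {cands : List (List ℕ)} {p : ℕ} (hp : p.Prime) {Q : ℕ → Bool}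
    (hall : cands.all (fun l => !isOrdT p l || Q (fixCount l)) = true)
    {g k : Equiv.Perm GolayPt} (ho : orderOf g = p)
    {l : List ℕ} (hl : l ∈ cands) (hlg : IsTable l (k⁻¹ * g * k)) : Q (nfix g) = true := by
  rw [List.all_eq_true] at hall
  have h1 := hall l hl
  rw [isOrdT_of_orderOf hlg hp (by rw [orderOf_conj', ho])] at h1
  rw [← fixCount_eq hlg, card_fixed_conj, nfix_def] at h1
  simpa using h1

/-! ### Patterns -/

/-- order 3, two fixed points -/
theorem pattern_3A {g : Equiv.Perm GolayPt} (hg : g ∈ M24) (h₃ : orderOf g = 3)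
    (h : 1 < nfix g) : ∃ k ∈ M24, ∃ l ∈ e3A_cands, IsTable l (k⁻¹ * g * k) := by
  obtain ⟨a, ha1, ha2, ha3, ha4⟩ := exists_three_cycle h₃
  obtain ⟨d, hd, e, he, hde⟩ := Finset.one_lt_card.mp h
  rw [mem_fix] at hd he
  have hb : g (g a) ≠ g a := ha3
  have hc : g (g (g a)) ≠ g (g a) := by rw [ha4]; exact fun h => ha2 h.symm
  obtain ⟨ht1, ht2⟩ := t0_facts e3A_T0_ok
  refine exists_cand_conj (tabled_drop 5) m24_drop5_ok m24_drop5_bounds (by decide) ht1 ht2 hg
    (fun i => [a, g a, g (g a), d, e].getD i a) ?_ ?_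
  · simp only [List.getD_cons_zero, List.getD_cons_succ, List.nodup_cons, List.mem_cons,
      List.not_mem_nil, or_false, not_or, List.nodup_nil, and_true, not_false_eq_true]
    exact ⟨⟨ha1.symm, ha2.symm, ne_of_moved_fixed ha1 hd, ne_of_moved_fixed ha1 he⟩,
      ⟨hb.symm, ne_of_moved_fixed hb hd, ne_of_moved_fixed hb he⟩,
      ⟨ne_of_moved_fixed hc hd, ne_of_moved_fixed hc he⟩, hde⟩
  · intro i hi
    simp only [List.mem_cons, List.not_mem_nil, or_false] at hi
    rcases hi with rfl | rfl | rfl | rfl | rfl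
    · exact ⟨by decide, by simpa [e3A_T0] using he⟩
    · exact ⟨by decide, by simpa [e3A_T0] using hd⟩
    · exact ⟨by decide, by simpa [e3A_T0] using ha4⟩
    · exact ⟨by decide, by simp [e3A_T0]⟩
    · exact ⟨by decide, by simp [e3A_T0]⟩

/-- a point outside a small set and the fixed points -/
theorem exists_moved_outside {g : Equiv.Perm GolayPt} (s : Finset GolayPt) (h : s.card + nfix g < 24) :
    ∃ x, x ∉ s ∧ g x ≠ x := by
  classical
  obtain ⟨x, hx⟩ := exists_notMem_golay (s ∪ Finset.univ.filter fun p => g p = p)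
    (lt_of_le_of_lt (Finset.card_union_le _ _) h)
  rw [Finset.mem_union, not_or, mem_fix] at hx
  exact ⟨x, hx.1, hx.2⟩

/-- order 3, at most one fixed point -/
theorem pattern_3B {g : Equiv.Perm GolayPt} (hg : g ∈ M24) (h₃ : orderOf g = 3)
    (h : nfix g ≤ 1) : ∃ k ∈ M24, ∃ l ∈ e3B_cands, IsTable l (k⁻¹ * g * k) := by
  classical
  obtain ⟨a, ha1, ha2, ha3, ha4⟩ := exists_three_cycle h₃
  obtain ⟨d, hd, hgd⟩ := exists_moved_outside (g := g) {a, g a, g (g a)} (by
    have := Finset.card_le_three (a := a) (b := g a) (c := g (g a))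
    omega)
  simp only [Finset.mem_insert, Finset.mem_singleton, not_or] at hd
  obtain ⟨hd1, hd2, hd3⟩ := hd
  obtain ⟨ht1, ht2⟩ := t0_facts e3B_T0_ok
  refine exists_cand_conj (tabled_drop 4) m24_drop4_ok m24_drop4_bounds (by decide) ht1 ht2 hg
    (fun i => [a, g a, g (g a), d, g d].getD i a) ?_ ?_
  · simp only [List.getD_cons_zero, List.getD_cons_succ, List.nodup_cons, List.mem_cons,
      List.not_mem_nil, or_false, not_or, List.nodup_nil, and_true, not_false_eq_true]
    refine ⟨⟨ha1.symm, ha2.symm, Ne.symm hd1, ?_⟩, ⟨Ne.symm ha3, Ne.symm hd2, ?_⟩,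
      ⟨Ne.symm hd3, ?_⟩, Ne.symm hgd⟩
    · intro h1
      rw [← ha4] at h1
      exact hd3 (g.injective h1).symm
    · intro h1
      exact hd1 (g.injective h1).symm
    · intro h1
      exact hd2 (g.injective h1).symm
  · intro i hi
    simp only [List.mem_cons, List.not_mem_nil, or_false] at hi
    rcases hi with rfl | rfl | rfl | rfl
    · exact ⟨by decide, by simp [e3B_T0]⟩
    · exact ⟨by decide, by simpa [e3B_T0] using ha4⟩
    · exact ⟨by decide, by simp [e3B_T0]⟩
    · exact ⟨by decide, by simp [e3B_T0]⟩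

/-- order 2, three fixed points -/
theorem pattern_2A {g : Equiv.Perm GolayPt} (hg : g ∈ M24) (h₂ : orderOf g = 2)
    (h : 2 < nfix g) : ∃ k ∈ M24, ∃ l ∈ e2A_cands, IsTable l (k⁻¹ * g * k) := by
  obtain ⟨a, ha1, ha2⟩ := exists_two_cycle h₂
  obtain ⟨c, hc, d, hd, e, he, hcd, hce, hde⟩ := Finset.two_lt_card.mp h
  rw [mem_fix] at hc hd he
  have hb : g (g a) ≠ g a := by rw [ha2]; exact Ne.symm ha1
  obtain ⟨ht1, ht2⟩ := t0_facts e2A_T0_ok
  refine exists_cand_conj (tabled_drop 5) m24_drop5_ok m24_drop5_bounds (by decide) ht1 ht2 hg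
    (fun i => [a, g a, c, d, e].getD i a) ?_ ?_
  · simp only [List.getD_cons_zero, List.getD_cons_succ, List.nodup_cons, List.mem_cons,
      List.not_mem_nil, or_false, not_or, List.nodup_nil, and_true, not_false_eq_true]
    exact ⟨⟨ha1.symm, ne_of_moved_fixed ha1 hc, ne_of_moved_fixed ha1 hd, ne_of_moved_fixed ha1 he⟩,
      ⟨ne_of_moved_fixed hb hc, ne_of_moved_fixed hb hd, ne_of_moved_fixed hb he⟩,
      ⟨hcd, hce⟩, hde⟩
  · intro i hi
    simp only [List.mem_cons, List.not_mem_nil, or_false] at hi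
    rcases hi with rfl | rfl | rfl | rfl | rfl
    · exact ⟨by decide, by simpa [e2A_T0] using he⟩
    · exact ⟨by decide, by simpa [e2A_T0] using hd⟩
    · exact ⟨by decide, by simpa [e2A_T0] using hc⟩
    · exact ⟨by decide, by simpa [e2A_T0] using ha2⟩
    · exact ⟨by decide, by simp [e2A_T0]⟩

/-- order 2, at most two fixed points -/
theorem pattern_2B {g : Equiv.Perm GolayPt} (hg : g ∈ M24) (h₂ : orderOf g = 2)
    (h : nfix g ≤ 2) : ∃ k ∈ M24, ∃ l ∈ e2B_cands, IsTable l (k⁻¹ * g * k) := by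
  classical
  obtain ⟨a, ha1, ha2⟩ := exists_two_cycle h₂
  have hgg : ∀ x, g (g x) = x := by
    intro x
    have := pow_orderOf_eq_one g
    rw [h₂] at this
    have h4 := congrArg (fun f => f x) this
    simpa [pow_succ, Equiv.Perm.mul_apply] using h4
  obtain ⟨c, hc, hgc⟩ := exists_moved_outside (g := g) {a, g a} (by
    have := Finset.card_le_two (a := a) (b := g a)
    omega)
  simp only [Finset.mem_insert, Finset.mem_singleton, not_or] at hc
  obtain ⟨hc1, hc2⟩ := hc
  obtain ⟨e, he⟩ := exists_notMem_golay {a, g a, c, g c} (by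
    have := Finset.card_le_four (a := a) (b := g a) (c := c) (d := g c)
    omega)
  simp only [Finset.mem_insert, Finset.mem_singleton, not_or] at he
  obtain ⟨he1, he2, he3, he4⟩ := he
  obtain ⟨ht1, ht2⟩ := t0_facts e2B_T0_ok
  refine exists_cand_conj (tabled_drop 4) m24_drop4_ok m24_drop4_bounds (by decide) ht1 ht2 hg
    (fun i => [a, g a, c, g c, e].getD i a) ?_ ?_
  · simp only [List.getD_cons_zero, List.getD_cons_succ, List.nodup_cons, List.mem_cons,
      List.not_mem_nil, or_false, not_or, List.nodup_nil, and_true, not_false_eq_true]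
    refine ⟨⟨ha1.symm, Ne.symm hc1, ?_, Ne.symm he1⟩, ⟨Ne.symm hc2, ?_, Ne.symm he2⟩,
      ⟨Ne.symm hgc, Ne.symm he3⟩, Ne.symm he4⟩
    · intro h1
      apply hc2
      rw [h1, hgg]
    · intro h1
      exact hc1 (g.injective h1).symm
  · intro i hi
    simp only [List.mem_cons, List.not_mem_nil, or_false] at hi
    rcases hi with rfl | rfl | rfl | rfl
    · exact ⟨by decide, by simpa [e2B_T0] using hgg c⟩
    · exact ⟨by decide, by simp [e2B_T0]⟩
    · exact ⟨by decide, by simpa [e2B_T0] using ha2⟩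
    · exact ⟨by decide, by simp [e2B_T0]⟩

/-! ### Numbers of fixed points -/

/-- an element of order 3 of `M24` has 6 or 0 fixed points -/
theorem nfix_order3 {g : Equiv.Perm GolayPt} (hg : g ∈ M24) (h₃ : orderOf g = 3) :
    nfix g = 6 ∨ nfix g = 0 := by
  by_cases h : 1 < nfix g
  · obtain ⟨k, _, l, hl, hlg⟩ := pattern_3A hg h₃ h
    have := nfix_of_cand (Q := fun n => Nat.beq n 6) (by norm_num) e3A_fix h₃ hl hlg
    exact Or.inl (Nat.eq_of_beq_eq_true this)
  · obtain ⟨k, _, l, hl, hlg⟩ := pattern_3B hg h₃ (by omega)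
    have := nfix_of_cand (Q := fun n => Nat.beq n 0 || Nat.beq n 6) (by norm_num)
      (by
        have := e3B_fix
        simpa only [Bool.or_assoc] using this) h₃ hl hlg
    rw [Bool.or_eq_true] at this
    rcases this with h1 | h1
    · exact Or.inr (Nat.eq_of_beq_eq_true h1)
    · exact Or.inl (Nat.eq_of_beq_eq_true h1)

/-- an involution of `M24` has 8 or 0 fixed points -/
theorem nfix_order2 {g : Equiv.Perm GolayPt} (hg : g ∈ M24) (h₂ : orderOf g = 2) :
    nfix g = 8 ∨ nfix g = 0 := by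
  by_cases h : 2 < nfix g
  · obtain ⟨k, _, l, hl, hlg⟩ := pattern_2A hg h₂ h
    have := nfix_of_cand (Q := fun n => Nat.beq n 8) (by norm_num) e2A_fix h₂ hl hlg
    exact Or.inl (Nat.eq_of_beq_eq_true this)
  · obtain ⟨k, _, l, hl, hlg⟩ := pattern_2B hg h₂ (by omega)
    have := nfix_of_cand (Q := fun n => Nat.beq n 0 || Nat.beq n 8) (by norm_num)
      (by
        have := e2B_fix
        simpa only [Bool.or_assoc] using this) h₂ hl hlg
    rw [Bool.or_eq_true] at this
    rcases this with h1 | h1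
    · exact Or.inr (Nat.eq_of_beq_eq_true h1)
    · exact Or.inl (Nat.eq_of_beq_eq_true h1)

/-! ### Conjugacy to the representatives -/

/-- elements of order 3 with 6 fixed points: class `3A` -/
theorem conj_3A {g : Equiv.Perm GolayPt} (hg : g ∈ M24) (h₃ : orderOf g = 3) (h₆ : nfix g = 6) :
    ∃ k ∈ M24, k * g * k⁻¹ = evalW gens5 e3A_w := by
  obtain ⟨k, hk, l, hl, hlg⟩ := pattern_3A hg h₃ (by omega)
  exact conj_of_cand (isTable_evalW tablesOf_gens5 e3A_w) (by norm_num) e3A_conjOK e3A_len hk h₃ h₆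
    hl hlg

/-- elements of order 3 without fixed points: class `3B` -/
theorem conj_3B {g : Equiv.Perm GolayPt} (hg : g ∈ M24) (h₃ : orderOf g = 3) (h₀ : nfix g = 0) :
    ∃ k ∈ M24, k * g * k⁻¹ = evalW gens5 e3B_w := by
  obtain ⟨k, hk, l, hl, hlg⟩ := pattern_3B hg h₃ (by omega)
  exact conj_of_cand (isTable_evalW tablesOf_gens5 e3B_w) (by norm_num) e3B_conjOK e3B_len hk h₃ h₀
    hl hlg

/-- involutions with 8 fixed points: class `2A` -/
theorem conj_2A {g : Equiv.Perm GolayPt} (hg : g ∈ M24) (h₂ : orderOf g = 2) (h₈ : nfix g = 8) :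
    ∃ k ∈ M24, k * g * k⁻¹ = evalW gens5 e2A_w := by
  obtain ⟨k, hk, l, hl, hlg⟩ := pattern_2A hg h₂ (by omega)
  exact conj_of_cand (isTable_evalW tablesOf_gens5 e2A_w) (by norm_num) e2A_conjOK e2A_len hk h₂ h₈
    hl hlg

/-- involutions without fixed points: class `2B` -/
theorem conj_2B {g : Equiv.Perm GolayPt} (hg : g ∈ M24) (h₂ : orderOf g = 2) (h₀ : nfix g = 0) :
    ∃ k ∈ M24, k * g * k⁻¹ = evalW gens5 e2B_w := by
  obtain ⟨k, hk, l, hl, hlg⟩ := pattern_2B hg h₂ (by omega)
  exact conj_of_cand (isTable_evalW tablesOf_gens5 e2B_w) (by norm_num) e2B_conjOK e2B_len hk h₂ h₀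
    hl hlg

theorem nfix_eq_zero {g : Equiv.Perm GolayPt} (h : ∀ p, g p ≠ p) : nfix g = 0 := by
  rw [nfix, Finset.card_eq_zero, Finset.filter_eq_empty_iff]
  intro x _
  exact h x

end Cfsg.Agent.Helper93
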