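/-
Helper93: the family of 2-cycles of a fixed-point-free involution; the centraliser of the
involution is the stabiliser of the family.
-/
import Cfsg.Agent.Helper93.M24Enc
import Cfsg.Agent.Helper93.Classes

set_option autoImplicit false
set_option maxRecDepth 100000

namespace Cfsg.Agent.Helper93

open Cfsg Cfsg.Agent.Helper7
open scoped Pointwise

/-- the family of the sets `{p, t p}` -/
def pairFam (t : Equiv.Perm GolayPt) : Finset (Finset GolayPt) :=
  Finset.univ.image (fun p => {p, t p})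

theorem mem_pairFam {t : Equiv.Perm GolayPt} {s : Finset GolayPt} :
    s ∈ pairFam t ↔ ∃ p, s = {p, t p} := by
  rw [pairFam, Finset.mem_image]
  constructor
  · rintro ⟨p, _, rfl⟩; exact ⟨p, rfl⟩
  · rintro ⟨p, rfl⟩; exact ⟨p, Finset.mem_univ _, rfl⟩

theorem smul_pair' (c : Equiv.Perm GolayPt) (p q : GolayPt) :
    c • ({p, q} : Finset GolayPt) = {c p, c q} := by
  ext x
  simp only [Finset.mem_smul_finset, Finset.mem_insert, Finset.mem_singleton]
  constructor
  · rintro ⟨y, rfl | rfl, rfl⟩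
    · exact Or.inl rfl
    · exact Or.inr rfl
  · rintro (rfl | rfl)
    · exact ⟨p, Or.inl rfl, rfl⟩
    · exact ⟨q, Or.inr rfl, rfl⟩

theorem smul_pairFam (c t : Equiv.Perm GolayPt) : c • pairFam t = pairFam (c * t * c⁻¹) := by
  ext s
  rw [Finset.mem_smul_finset, mem_pairFam]
  constructor
  · rintro ⟨s', hs', rfl⟩
    obtain ⟨p, rfl⟩ := mem_pairFam.mp hs'
    refine ⟨c p, ?_⟩
    rw [smul_pair']
    simp
  · rintro ⟨q, rfl⟩
    refine ⟨{c⁻¹ q, t (c⁻¹ q)}, mem_pairFam.mpr ⟨c⁻¹ q, rfl⟩, ?_⟩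
    rw [smul_pair']
    simp

theorem pairFam_inj {t t' : Equiv.Perm GolayPt} (ht : ∀ p, t p ≠ p) (ht' : ∀ p, t' (t' p) = p)
    (h : pairFam t = pairFam t') : t = t' := by
  apply Equiv.ext
  intro p
  have h1 : ({p, t p} : Finset GolayPt) ∈ pairFam t' := by
    rw [← h]; exact mem_pairFam.mpr ⟨p, rfl⟩
  obtain ⟨q, hq⟩ := mem_pairFam.mp h1
  have hp : p ∈ ({q, t' q} : Finset GolayPt) := by rw [← hq]; simp
  have htp : t p ∈ ({q, t' q} : Finset GolayPt) := by rw [← hq]; simp
  simp only [Finset.mem_insert, Finset.mem_singleton] at hp htp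
  rcases hp with rfl | rfl
  · rcases htp with h2 | h2
    · exact absurd h2 (ht _)
    · exact h2
  · rcases htp with h2 | h2
    · rw [h2, ht']
    · exact absurd h2 (ht _)

/-- commuting with a fixed-point-free involution means fixing its family of 2-cycles -/
theorem commute_iff_smul_pairFam {c t : Equiv.Perm GolayPt} (ht0 : ∀ p, t p ≠ p)
    (ht2 : ∀ p, t (t p) = p) : c * t = t * c ↔ c • pairFam t = pairFam t := by
  rw [smul_pairFam]
  constructor
  · intro h
    rw [h, mul_inv_cancel_right]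
  · intro h
    have h1 : c * t * c⁻¹ = t := by
      apply pairFam_inj _ ht2 h
      intro p hp
      simp only [Equiv.Perm.mul_apply] at hp
      exact ht0 (c⁻¹ p) (Equiv.Perm.eq_inv_iff_eq.mpr hp)
    rw [← h1, inv_mul_cancel_right, h1]

theorem sm_two_pow {i : ℕ} (hi : i < 24) : sm (2 ^ i) = {pt i} := by
  ext p
  rw [mem_sm, Finset.mem_singleton, Nat.testBit_two_pow]
  simp only [decide_eq_true_eq]
  constructor
  · intro h; rw [h, pt_idx]
  · intro h; rw [h, idx_pt hi]

theorem sm_pair {i j : ℕ} (hi : i < 24) (hj : j < 24) : sm (2 ^ i ||| 2 ^ j) = {pt i, pt j} := by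
  rw [sm_lor, sm_two_pow hi, sm_two_pow hj]
  rfl

/-- the family of 2-cycles of a permutation with table `l`, as a list of masks -/
def pairMasks (l : List ℕ) : List ℕ := (List.range 24).map (fun i => 2 ^ i ||| 2 ^ (l.getD i 0))

theorem pairFam_eq_smL {l : List ℕ} {t : Equiv.Perm GolayPt} (h : IsTable l t) :
    pairFam t = smL (pairMasks l) := by
  ext s
  rw [mem_pairFam, mem_smL]
  constructor
  · rintro ⟨p, rfl⟩
    refine ⟨2 ^ (idx p) ||| 2 ^ (l.getD (idx p) 0), ?_, ?_⟩
    · exact List.mem_map.mpr ⟨idx p, List.mem_range.mpr (idx_lt p), rfl⟩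
    · rw [sm_pair (idx_lt p) (h.getD_lt (idx_lt p)), pt_idx, h.apply]
  · rintro ⟨m, hm, rfl⟩
    obtain ⟨i, hi, rfl⟩ := List.mem_map.mp hm
    rw [List.mem_range] at hi
    refine ⟨pt i, ?_⟩
    rw [sm_pair hi (h.getD_lt hi), h.apply, idx_pt hi]

theorem smL_congr {ms ms' : List ℕ} (h1 : ∀ m ∈ ms, m ∈ ms') (h2 : ∀ m ∈ ms', m ∈ ms) :
    smL ms = smL ms' := by
  ext s
  rw [mem_smL, mem_smL]
  constructor
  · rintro ⟨m, hm, rfl⟩; exact ⟨m, h1 m hm, rfl⟩
  · rintro ⟨m, hm, rfl⟩; exact ⟨m, h2 m hm, rfl⟩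

/-- boolean check that two lists of masks have the same members -/
def sameMembers (ms ms' : List ℕ) : Bool :=
  ms.all (fun m => ms'.contains m) && ms'.all (fun m => ms.contains m)

theorem smL_eq_of_sameMembers {ms ms' : List ℕ} (h : sameMembers ms ms' = true) :
    smL ms = smL ms' := by
  rw [sameMembers, Bool.and_eq_true, List.all_eq_true, List.all_eq_true] at h
  apply smL_congr
  · intro m hm; simpa using h.1 m hm
  · intro m hm; simpa using h.2 m hm

end Cfsg.Agent.Helper93
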