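/-
Helper93: intersections of two stabilisers in `M24`: transport under `M24` and orbit-stabiliser.
-/
import Cfsg.Agent.Helper93.StabChain

set_option autoImplicit false

namespace Cfsg.Agent.Helper93

open Cfsg Cfsg.Agent.Helper7
open scoped Pointwise

section

variable {X Y : Type} [MulAction (Equiv.Perm GolayPt) X] [MulAction (Equiv.Perm GolayPt) Y]

theorem stab_inf_smul (h : ↥M24) (a : X) (y : Y) :
    MulAction.stabilizer (↥M24) (h • a) ⊓ MulAction.stabilizer (↥M24) (h • y) =
      (MulAction.stabilizer (↥M24) a ⊓ MulAction.stabilizer (↥M24) y).map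
        (MulAut.conj h).toMonoidHom := by
  rw [MulAction.stabilizer_smul_eq_stabilizer_map_conj,
    MulAction.stabilizer_smul_eq_stabilizer_map_conj,
    Subgroup.map_inf_eq _ _ _ (MulAut.conj h).injective]

/-- conjugation by `h` between intersections of two stabilisers -/
noncomputable def stabInfEquiv (h : ↥M24) (a : X) (y : Y) :
    ↥(MulAction.stabilizer (↥M24) a ⊓ MulAction.stabilizer (↥M24) y) ≃*
      ↥(MulAction.stabilizer (↥M24) (h • a) ⊓ MulAction.stabilizer (↥M24) (h • y)) :=
  ((MulAut.conj h).subgroupMap _).trans (MulEquiv.subgroupCongr (stab_inf_smul h a y).symm)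

theorem card_stab_inf_smul {h : Equiv.Perm GolayPt} (hh : h ∈ M24) (a : X) (y : Y) :
    Nat.card ↥(MulAction.stabilizer (↥M24) (h • a) ⊓ MulAction.stabilizer (↥M24) (h • y)) =
      Nat.card ↥(MulAction.stabilizer (↥M24) a ⊓ MulAction.stabilizer (↥M24) y) :=
  (Nat.card_congr (stabInfEquiv ⟨h, hh⟩ a y).toEquiv).symm

/-- orbit-stabiliser inside a stabiliser -/
theorem card_stab_inf_mul (a : X) (y : Y) :
    Nat.card ↥(MulAction.stabilizer (↥M24) a ⊓ MulAction.stabilizer (↥M24) y) *
      (MulAction.orbit (↥(stabPerm a)) y).ncard = Nat.card (stabPerm a) := by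
  have h1 : Nat.card ↥(MulAction.stabilizer (↥M24) a ⊓ MulAction.stabilizer (↥M24) y) =
      Nat.card (MulAction.stabilizer (↥(stabPerm a)) y) := by
    apply Nat.card_congr
    exact
      { toFun := fun g => ⟨⟨g.1.1, mem_stabPerm.mpr ⟨g.1.2, by
            have := (Subgroup.mem_inf.mp g.2).1
            rw [MulAction.mem_stabilizer_iff] at this; exact this⟩⟩, by
            have := (Subgroup.mem_inf.mp g.2).2
            rw [MulAction.mem_stabilizer_iff] at this ⊢; exact this⟩
        invFun := fun g => ⟨⟨g.1.1, (mem_stabPerm.mp g.1.2).1⟩, Subgroup.mem_inf.mpr ⟨by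
            rw [MulAction.mem_stabilizer_iff]; exact (mem_stabPerm.mp g.1.2).2, by
            have := g.2
            rw [MulAction.mem_stabilizer_iff] at this ⊢; exact this⟩⟩
        left_inv := fun g => rfl
        right_inv := fun g => rfl }
  rw [h1, ← MulAction.index_stabilizer, Subgroup.card_mul_index]

end

end Cfsg.Agent.Helper93
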