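/-
Helper93: the centraliser in `M24` of a fixed-point-free involution: order 7680, transitive on
the 24 points, contained in the stabiliser of a sextet.
-/
import Cfsg.Agent.Helper93.CentData
import Cfsg.Agent.Helper93.PairFam
import Cfsg.Agent.Helper93.ElemMain
import Cfsg.Agent.Helper93.StabInf

set_option autoImplicit false
set_option maxRecDepth 100000

namespace Cfsg.Agent.Helper93

open Cfsg Cfsg.Agent.Helper7
open scoped Pointwise

/-- the representative fixed-point-free involution -/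
noncomputable def tB1 : Equiv.Perm GolayPt := evalW gens5 cB_w

/-- its table -/
def TB1 : List ℕ := tableW tabs5 cB_w

theorem isTable_tB1 : IsTable TB1 tB1 := isTable_evalW tablesOf_gens5 cB_w

theorem tB1_mem : tB1 ∈ M24 := evalW_mem gens5_mem cB_w

theorem TB1_sq : eqL (compT TB1 TB1) idT = true := by decide +kernel

theorem TB1_fpf : allB 24 (fun i => !Nat.beq (TB1.getD i 0) i) = true := by decide +kernel

theorem tB1_invol (p : GolayPt) : tB1 (tB1 p) = p := by
  have h := isTable_tB1.mul isTable_tB1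
  rw [eqL_spec TB1_sq] at h
  have h1 : tB1 * tB1 = 1 := h.inj isTable_one
  have := congrArg (fun f => f p) h1
  simpa [Equiv.Perm.mul_apply] using this

theorem tB1_fpf (p : GolayPt) : tB1 p ≠ p := by
  intro h
  have h1 := allB_spec TB1_fpf (idx p) (idx_lt p)
  rw [isTable_tB1.apply] at h
  have h2 : TB1.getD (idx p) 0 = idx p := by
    have := congrArg idx h
    rwa [idx_pt (isTable_tB1.getD_lt (idx_lt p))] at this
  rw [h2, Nat.beq_refl] at h1
  simp at h1

/-- the base sextet -/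
def sext0 : Finset (Finset GolayPt) := (encFam 6).dec (sextArr.a 0)

theorem sext0_mem : sext0 ∈ sextets := by
  rw [sextets_eq]; exact ⟨0, by decide, rfl⟩

theorem card_stabPerm_sext0 : Nat.card (stabPerm sext0) = 138240 := by
  have h := card_stabPerm_mul sext0
  rw [sext0, sext_orbit (by decide), sext_ncard] at h
  rw [sext0]
  omega

theorem tablesOf_words (ws : List (List ℕ)) :
    TablesOf (ws.map (tableW tabs5)) (ws.map (evalW gens5)) := by
  induction ws with
  | nil => trivial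
  | cons w ws ih => exact ⟨isTable_evalW tablesOf_gens5 w, ih⟩

theorem pairFam_tB1 : pairFam tB1 = (encFam 12).dec (pfArr.a pfIdx) := by
  rw [pairFam_eq_smL isTable_tB1]
  exact smL_eq_of_sameMembers (by decide +kernel)

theorem pf_orbit : MulAction.orbit (↥(stabPerm sext0)) (pairFam tB1) =
    {y | ∃ i' < 18, y = (encFam 12).dec (pfArr.a i')} := by
  have h := orbit_cert (encFam 12) 0 pfPAR pfDEP [0] (tablesOf_words ksWords) pf_rels pf_orb
    (i := pfIdx) (by decide)
  rw [pairFam_tB1, sext0, ← ks_closure, h]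
  ext y
  simp only [getW_zero, Set.mem_ofPred_eq, true_and]
  rfl

theorem pf_ncard : {y | ∃ i' < 18, y = (encFam 12).dec (pfArr.a i')}.ncard = 18 :=
  ncard_arr (encFam 12) pfArr_ok

theorem card_inf_tB1 : Nat.card ↥(MulAction.stabilizer (↥M24) sext0 ⊓
    MulAction.stabilizer (↥M24) (pairFam tB1)) = 7680 := by
  have h := card_stab_inf_mul sext0 (pairFam tB1)
  rw [pf_orbit, pf_ncard, card_stabPerm_sext0] at h
  omega

/-- all the tetrads (masks of the packed code) are fixed by the table -/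
def fixTetr (l : List ℕ) (c : ℕ) : Bool := (unpackL 6 c).all (fun m => Nat.beq (pullMask l m) m)

theorem TB1_fix0 : fixTetr TB1 (sextArr.a 0) = true := by decide +kernel

theorem TB1_unique : allB 1771 (fun i => Nat.beq i 0 || !fixTetr TB1 (sextArr.a i)) = true := by
  decide +kernel

theorem tB1_smul_tetrad {T : Finset GolayPt} (hT : T ∈ sext0) : tB1 • T = T := by
  rw [sext0] at hT
  obtain ⟨m, hm, rfl⟩ := (mem_smL _ _).mp hT
  have h := TB1_fix0
  rw [fixTetr, List.all_eq_true] at h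
  have h1 := inv_smul_sm isTable_tB1 m
  rw [Nat.eq_of_beq_eq_true (h m hm), inv_smul_eq_iff] at h1
  exact h1.symm

theorem sext_unique {i : ℕ} (hi : i < 1771)
    (h : ∀ T ∈ (encFam 6).dec (sextArr.a i), tB1 • T = T) : i = 0 := by
  have h1 := allB_spec TB1_unique i hi
  rw [Bool.or_eq_true] at h1
  rcases h1 with h1 | h1
  · exact Nat.eq_of_beq_eq_true h1
  · exfalso
    rw [Bool.not_eq_true', fixTetr, List.all_eq_false] at h1
    obtain ⟨m, hm, hne⟩ := h1
    have h2 := h (sm m) ((mem_smL _ _).mpr ⟨m, hm, rfl⟩)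
    have h3 := inv_smul_sm isTable_tB1 m
    rw [inv_smul_eq_iff.mpr h2.symm] at h3
    have := sm_inj (unpackL_lt 6 _ m hm) (pullMask_lt24 isTable_tB1 m) h3
    apply hne
    rw [← this]
    exact Nat.beq_refl _

/-- the centraliser of the representative fixes the base sextet -/
theorem cent_le_sext0 {c : Equiv.Perm GolayPt} (hc : c ∈ M24) (hct : c * tB1 = tB1 * c) :
    c • sext0 = sext0 := by
  have h1 := smul_mem_sextets hc sext0_mem
  rw [sextets_eq] at h1
  obtain ⟨i, hi, hci⟩ := h1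
  have h2 : i = 0 := by
    apply sext_unique hi
    intro T hT
    rw [← hci] at hT
    obtain ⟨T', hT', rfl⟩ := Finset.mem_smul_finset.mp hT
    rw [← mul_smul, ← hct, mul_smul, tB1_smul_tetrad hT']
  rw [hci, h2]
  rfl

theorem card_cent_tB1 :
    Nat.card {c : Equiv.Perm GolayPt // c ∈ M24 ∧ c * tB1 = tB1 * c} = 7680 := by
  rw [← card_inf_tB1]
  apply Nat.card_congr
  exact
    { toFun := fun c => ⟨⟨c.1, c.2.1⟩, Subgroup.mem_inf.mpr ⟨by
          rw [MulAction.mem_stabilizer_iff]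
          exact cent_le_sext0 c.2.1 c.2.2, by
          rw [MulAction.mem_stabilizer_iff]
          exact (commute_iff_smul_pairFam tB1_fpf tB1_invol).mp c.2.2⟩⟩
      invFun := fun g => ⟨g.1.1, g.1.2, (commute_iff_smul_pairFam tB1_fpf tB1_invol).mpr (by
          have := (Subgroup.mem_inf.mp g.2).2
          rw [MulAction.mem_stabilizer_iff] at this
          exact this)⟩
      left_inv := fun c => rfl
      right_inv := fun g => rfl }

/-! ### Transitivity -/

theorem cB_trans_ok : cB_trans.all (fun K => validB K.1 K.2 && m24B K.1 &&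
    eqL (compT K.1 TB1) (compT TB1 K.1)) = true := by decide +kernel

theorem cB_trans_img : allB 24 (fun q => match cB_trans[q]? with
    | some K => Nat.beq (K.1.getD 0 0) q
    | none => false) = true := by decide +kernel

theorem cent_trans0 {q : ℕ} (hq : q < 24) :
    ∃ c ∈ M24, c * tB1 = tB1 * c ∧ c (pt 0) = pt q := by
  have h1 := allB_spec cB_trans_img q hq
  split at h1
  · rename_i K hK
    have hKmem : K ∈ cB_trans := List.mem_of_getElem? hK
    have h2 := cB_trans_ok
    rw [List.all_eq_true] at h2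
    have h3 := h2 K hKmem
    rw [Bool.and_eq_true] at h3
    obtain ⟨h31, h32⟩ := h3
    obtain ⟨ht1, ht2⟩ := t0_facts h31
    refine ⟨_, ht2, ?_, ?_⟩
    · have e1 := ht1.mul isTable_tB1
      have e2 := isTable_tB1.mul ht1
      rw [eqL_spec h32] at e1
      exact e1.inj e2
    · rw [ht1.apply, idx_pt (by norm_num), Nat.eq_of_beq_eq_true h1]
  · exact absurd h1 (by decide)

theorem cent_trans_tB1 (p q : GolayPt) : ∃ c ∈ M24, c * tB1 = tB1 * c ∧ c p = q := by
  obtain ⟨c1, hc1, hc1t, hc1p⟩ := cent_trans0 (idx_lt p)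
  obtain ⟨c2, hc2, hc2t, hc2q⟩ := cent_trans0 (idx_lt q)
  rw [pt_idx] at hc1p hc2q
  refine ⟨c2 * c1⁻¹, M24.mul_mem hc2 (M24.inv_mem hc1), ?_, ?_⟩
  · have h1 : c1⁻¹ * tB1 = tB1 * c1⁻¹ := by
      rw [eq_mul_inv_iff_mul_eq, mul_assoc, ← hc1t, ← mul_assoc, inv_mul_cancel, one_mul]
    rw [mul_assoc, h1, ← mul_assoc, hc2t, mul_assoc]
  · rw [Equiv.Perm.mul_apply, ← hc1p]
    simpa using hc2q

/-! ### All fixed-point-free involutions -/

theorem cB_u_ok : eqL (compT (tableW tabs5 cB_u) TB1)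
    (compT (tableW tabs5 e2B_w) (tableW tabs5 cB_u)) = true := by decide +kernel

/-- every fixed-point-free involution of `M24` is conjugate to the representative -/
theorem conj_tB1 {t : Equiv.Perm GolayPt} (ht : t ∈ M24) (h₂ : orderOf t = 2)
    (h₀ : ∀ p, t p ≠ p) : ∃ k ∈ M24, k * t * k⁻¹ = tB1 := by
  obtain ⟨k, hk, hkt⟩ := conj_2B ht h₂ (nfix_eq_zero h₀)
  have hu := isTable_evalW tablesOf_gens5 cB_u
  have e1 := hu.mul isTable_tB1
  have e2 := (isTable_evalW tablesOf_gens5 e2B_w).mul hu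
  rw [eqL_spec cB_u_ok] at e1
  have h1 : evalW gens5 cB_u * tB1 = evalW gens5 e2B_w * evalW gens5 cB_u := e1.inj e2
  refine ⟨(evalW gens5 cB_u)⁻¹ * k, M24.mul_mem (M24.inv_mem (evalW_mem gens5_mem _)) hk, ?_⟩
  rw [mul_inv_rev, inv_inv]
  calc (evalW gens5 cB_u)⁻¹ * k * t * (k⁻¹ * evalW gens5 cB_u)
      = (evalW gens5 cB_u)⁻¹ * (k * t * k⁻¹) * evalW gens5 cB_u := by group
    _ = (evalW gens5 cB_u)⁻¹ * (evalW gens5 cB_u * tB1) := by rw [hkt, mul_assoc, h1]
    _ = tB1 := by rw [inv_mul_cancel_left]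

theorem commute_conj {k t c t₁ : Equiv.Perm GolayPt} (h : k * t * k⁻¹ = t₁) (hc : c * t = t * c) :
    (k * c * k⁻¹) * t₁ = t₁ * (k * c * k⁻¹) := by
  rw [← h]
  calc k * c * k⁻¹ * (k * t * k⁻¹) = k * (c * t) * k⁻¹ := by group
    _ = k * (t * c) * k⁻¹ := by rw [hc]
    _ = k * t * k⁻¹ * (k * c * k⁻¹) := by group

theorem commute_conj' {k t c t₁ : Equiv.Perm GolayPt} (h : k * t * k⁻¹ = t₁)
    (hc : c * t₁ = t₁ * c) : (k⁻¹ * c * k) * t = t * (k⁻¹ * c * k) := by
  have ht : t = k⁻¹ * t₁ * k := by rw [← h]; group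
  rw [ht]
  calc k⁻¹ * c * k * (k⁻¹ * t₁ * k) = k⁻¹ * (c * t₁) * k := by group
    _ = k⁻¹ * (t₁ * c) * k := by rw [hc]
    _ = k⁻¹ * t₁ * k * (k⁻¹ * c * k) := by group

/-- the centraliser in `M24` of a fixed-point-free involution -/
theorem cent_main (t : Equiv.Perm GolayPt) (ht : t ∈ M24) (h₂ : orderOf t = 2)
    (h₀ : ∀ p, t p ≠ p) :
    Nat.card {c : Equiv.Perm GolayPt // c ∈ M24 ∧ c * t = t * c} = 7680 ∧
    (∀ p q : GolayPt, ∃ c ∈ M24, c * t = t * c ∧ c p = q) ∧
    ∃ S ∈ sextets, t • S = S ∧ ∀ c ∈ M24, c * t = t * c → c • S = S := by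
  obtain ⟨k, hk, hkt⟩ := conj_tB1 ht h₂ h₀
  have hki := M24.inv_mem hk
  refine ⟨?_, ?_, ?_⟩
  · rw [← card_cent_tB1]
    apply Nat.card_congr
    exact
      { toFun := fun c => ⟨k * c.1 * k⁻¹, M24.mul_mem (M24.mul_mem hk c.2.1) hki,
          commute_conj hkt c.2.2⟩
        invFun := fun c => ⟨k⁻¹ * c.1 * k, M24.mul_mem (M24.mul_mem hki c.2.1) hk,
          commute_conj' hkt c.2.2⟩
        left_inv := fun c => by
          apply Subtype.ext
          show k⁻¹ * (k * c.1 * k⁻¹) * k = c.1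
          group
        right_inv := fun c => by
          apply Subtype.ext
          show k * (k⁻¹ * c.1 * k) * k⁻¹ = c.1
          group }
  · intro p q
    obtain ⟨c, hc, hct, hcp⟩ := cent_trans_tB1 (k p) (k q)
    refine ⟨k⁻¹ * c * k, M24.mul_mem (M24.mul_mem hki hc) hk, commute_conj' hkt hct, ?_⟩
    rw [Equiv.Perm.mul_apply, Equiv.Perm.mul_apply, hcp]
    simp
  · refine ⟨k⁻¹ • sext0, smul_mem_sextets hki sext0_mem, ?_, ?_⟩
    · have h1 : t = k⁻¹ * tB1 * k := by rw [← hkt]; group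
      have h2 := cent_le_sext0 tB1_mem rfl
      rw [h1, mul_smul, mul_smul, smul_inv_smul, h2]
    · intro c hc hct
      have h2 := cent_le_sext0 (M24.mul_mem (M24.mul_mem hk hc) hki) (commute_conj hkt hct)
      rw [mul_smul, mul_smul] at h2
      exact eq_inv_smul_iff.mpr h2

end Cfsg.Agent.Helper93
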