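/-
Helper93: the central subgroup generated by negation has no complement in the automorphism
group of the Leech lattice: negation is the square of a monomial automorphism.
-/
import Cfsg.Agent.Helper8.Co0Center
import Cfsg.Prelude.Def_Spor_Mathieu

set_option autoImplicit false
set_option maxRecDepth 100000

namespace Cfsg.Agent.Helper93

open Cfsg Cfsg.Agent.Helper8
open scoped Pointwise

theorem squareDodecad_mem_supports :
    Spor.squareDodecad ∈ supports (golayCode : Set (GolayPt → ZMod 2)) :=
  ⟨qrWord 0, Cfsg.Agent.Helper26.qrWord_mem_golayCode 0, rfl⟩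

theorem projInv_smul_squareDodecad :
    projInv • Spor.squareDodecad = Finset.univ \ Spor.squareDodecad := by
  decide +kernel

theorem projInv_symm_mem_iff (i : GolayPt) :
    projInv.symm i ∈ Spor.squareDodecad ↔ i ∉ Spor.squareDodecad := by
  have h1 : projInv.symm i = projInv⁻¹ • i := rfl
  rw [h1, Finset.inv_smul_mem_iff, projInv_smul_squareDodecad]
  simp

theorem projInv_symm_symm (i : GolayPt) : projInv.symm (projInv.symm i) = i := by
  revert i
  decide

/-- the monomial automorphism: negate the dodecad of squares, then apply `x ↦ -1/x` -/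
noncomputable def sqrtNeg : ↥Co0 :=
  monoCo0 Cfsg.Agent.Helper7.projInv_mem_M24 squareDodecad_mem_supports

theorem sqrtNeg_sq : sqrtNeg * sqrtNeg = negCo0 := by
  apply co0_ext
  intro v
  rw [mul_smul, negCo0_smul]
  apply Subtype.ext
  unfold sqrtNeg
  rw [monoCo0_smul, monoCo0_smul, AddSubgroup.coe_neg]
  ext i
  simp only [signedPerm, Pi.neg_apply, projInv_symm_symm]
  by_cases hi : i ∈ Spor.squareDodecad
  · have h2 : projInv.symm i ∉ Spor.squareDodecad := by
      rw [projInv_symm_mem_iff]; exact not_not.mpr hi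
    rw [if_pos hi, if_neg h2]
  · have h2 : projInv.symm i ∈ Spor.squareDodecad := (projInv_symm_mem_iff i).mpr hi
    rw [if_neg hi, if_pos h2]

theorem negCo0_sq : negCo0 * negCo0 = 1 := by
  apply co0_ext
  intro v
  rw [mul_smul, negCo0_smul, negCo0_smul, neg_neg, one_smul]

/-- negation has no complement -/
theorem no_complement (K : Subgroup ↥Co0) : ¬ (Subgroup.zpowers negCo0).IsComplement' K := by
  intro hK
  obtain ⟨⟨z, k⟩, hzk⟩ := hK.2 sqrtNeg
  simp only at hzk
  have hzc : (z : ↥Co0) ∈ Subgroup.center ↥Co0 :=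
    (Subgroup.zpowers_le.mpr negCo0_mem_center) z.2
  have hz2 : (z : ↥Co0) * z = 1 := by
    obtain ⟨m, hm⟩ := Subgroup.mem_zpowers_iff.mp z.2
    rw [← hm, ← zpow_add, ← two_mul, zpow_mul, zpow_two, negCo0_sq, one_zpow]
  have hcomm : (k : ↥Co0) * z = z * k := (Subgroup.mem_center_iff.mp hzc k)
  have h1 : sqrtNeg * sqrtNeg = (k : ↥Co0) * k := by
    rw [← hzk]
    calc (z : ↥Co0) * k * (z * k) = z * (k * z) * k := by group
      _ = z * (z * k) * k := by rw [hcomm]
      _ = (z * z) * (k * k) := by group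
      _ = k * k := by rw [hz2, one_mul]
  rw [sqrtNeg_sq] at h1
  have h2 : negCo0 ∈ Subgroup.zpowers negCo0 ⊓ K :=
    Subgroup.mem_inf.mpr ⟨Subgroup.mem_zpowers _, by rw [h1]; exact K.mul_mem k.2 k.2⟩
  have h3 := hK.disjoint
  rw [disjoint_iff] at h3
  rw [h3, Subgroup.mem_bot] at h2
  exact negCo0_ne_one h2

end Cfsg.Agent.Helper93
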