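import Cfsg.Agent.Helper4.D4Inv.Defs
import Cfsg.Agent.S1031
import Cfsg.Agent.S1032

/-!
# (HZ) of helper4's #9273 (S2183): the torus element `h₁₄(c)` of `³D₄(q)` scales `x₂₃`

Also the generic conjugation formulas in `GL`: `hG_conj` (S1032) and, in characteristic 2, `nG_conj` (S1031).
-/

set_option autoImplicit false
set_option linter.unusedSectionVars false
set_option linter.unusedVariables false

namespace Cfsg.Agent.Helper93.D4I

open Cfsg Cfsg.Lie Cfsg.Agent.Helper18 Cfsg.Agent.Helper4.D4Inv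

variable {K : Type*} [Field K]

theorem htri : triOK chevD4 (hlfOf chevD4) = true := triOK_of_mem chevD4 hD4

theorem x_mat (r : ℕ) (t : K) :
    ((xGL chevD4 K r t : GL chevD4.Idx K) : Matrix chevD4.Idx chevD4.Idx K) = chevD4.x K r t :=
  xGL_val chevD4 _ htri r t

/-- conjugation of a root element by `h_i(c)` (S1032) -/
theorem hG_conj (i : ℕ) (hi : i < chevD4.rank) (s : ℕ) (hs : s < chevD4.nroots) (c : K) (hc : c ≠ 0)
    (t : K) :
    Cfsg.Agent.Helper19.Twist.hG chevD4 K (chevD4.simple i) c * xGL chevD4 K s t *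
        (Cfsg.Agent.Helper19.Twist.hG chevD4 K (chevD4.simple i) c)⁻¹ =
      xGL chevD4 K s (c ^ (chevD4.cartan i s) * t) := by
  have h := Cfsg.Agent.S1032.result (F := K) chevD4 hD4 i s hi hs c hc t
  rw [mul_inv_eq_iff_eq_mul]
  apply Units.ext
  simp only [Units.val_mul, x_mat]
  unfold Cfsg.Agent.Helper19.Twist.hG
  rw [hWordGL_val chevD4 hD4]
  exact h

/-- conjugation of a root element by `n_i(1)` in characteristic 2 (S1031) -/
theorem nG_conj [CharP K 2] (i : ℕ) (hi : i < chevD4.rank) (s : ℕ) (hs : s < chevD4.nroots) (t : K) :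
    Cfsg.Agent.Helper19.Twist.nG chevD4 K (chevD4.simple i) 1 * xGL chevD4 K s t *
        (Cfsg.Agent.Helper19.Twist.nG chevD4 K (chevD4.simple i) 1)⁻¹ =
      xGL chevD4 K (chevD4.reflectRoot i s) t := by
  obtain ⟨η, hη, h⟩ := Cfsg.Agent.S1031.result (F := K) chevD4 hD4 i s hi hs
  have hη1 : ((η : ℤ) : K) = 1 := by
    rcases hη with rfl | rfl
    · simp
    · rw [Int.cast_neg, Int.cast_one, CharTwo.neg_eq]
  rw [mul_inv_eq_iff_eq_mul]
  apply Units.ext
  simp only [Units.val_mul, x_mat]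
  have := h t
  rw [hη1, one_mul] at this
  unfold Cfsg.Agent.Helper19.Twist.nG
  rw [nWordGL_val chevD4 hD4]
  exact this

theorem d4_tab : chevD4.simple 1 = 14 ∧ chevD4.cartan 1 23 = 1 ∧ chevD4.rank = 4 ∧
    chevD4.nroots = 24 := by
  decide +kernel

/-- (HZ) the torus element `h₁₄(c)`, `c` in the fixed field -/
theorem torus_Z (q : ℕ) (f : K ≃+* K) (hf : ∀ t, f t = t ^ q) (c : K) (hc : c ≠ 0) (hfc : f c = c) :
    ∃ h ∈ twistedD4 K q, ∀ t : K, h * xGL chevD4 K 23 t * h⁻¹ = xGL chevD4 K 23 (c * t) := by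
  refine ⟨Cfsg.Agent.Helper19.Twist.hG chevD4 K 14 c,
    Cfsg.Agent.Helper19.Twist.h2D4_mem f hf c hfc, fun t => ?_⟩
  have h := hG_conj (K := K) 1 (by rw [d4_tab.2.2.1]; norm_num) 23 (by rw [d4_tab.2.2.2]; norm_num) c hc t
  rw [d4_tab.1, d4_tab.2.1, zpow_one] at h
  exact h

end Cfsg.Agent.Helper93.D4I
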