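import Cfsg.Agent.Helper4.D4Inv.Defs
import Cfsg.Agent.Helper93.D4IHZ

/-!
# (NB) of helper4's #9273 (S2183): the Weyl element `n_B = n₁₄(1)` of `³D₄(q)`, `q` even
-/

set_option autoImplicit false
set_option linter.unusedSectionVars false
set_option linter.unusedVariables false

namespace Cfsg.Agent.Helper93.D4I

open Cfsg Cfsg.Lie Cfsg.Agent.Helper18 Cfsg.Agent.Helper4.D4Inv

variable {K : Type*} [Field K]

theorem refl_tab_B : chevD4.reflectRoot 1 18 = 19 ∧ chevD4.reflectRoot 1 13 = 16 ∧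
    chevD4.reflectRoot 1 12 = 15 ∧ chevD4.reflectRoot 1 22 = 23 := by
  decide +kernel

/-- (NB) the Weyl element `n_B = n₁₄` of `³D₄(q)` -/
theorem weyl_nB [CharP K 2] (q : ℕ) (f : K ≃+* K) (hf : ∀ t, f t = t ^ q) :
    ∃ n ∈ twistedD4 K q, ∀ t : K,
      n * xGL chevD4 K 18 t * n⁻¹ = xGL chevD4 K 19 t ∧
      n * xGL chevD4 K 13 t * n⁻¹ = xGL chevD4 K 16 t ∧
      n * xGL chevD4 K 12 t * n⁻¹ = xGL chevD4 K 15 t ∧
      n * xGL chevD4 K 22 t * n⁻¹ = xGL chevD4 K 23 t := by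
  have hr : (1 : ℕ) < chevD4.rank := by rw [d4_tab.2.2.1]; norm_num
  have hn : ∀ s : ℕ, s < 24 → s < chevD4.nroots := by
    intro s hs
    rw [d4_tab.2.2.2]
    exact hs
  refine ⟨Cfsg.Agent.Helper19.Twist.nG chevD4 K 14 1,
    Cfsg.Agent.Helper19.Twist.n2D4_mem f hf 1 (map_one f), fun t => ⟨?_, ?_, ?_, ?_⟩⟩
  · have h := nG_conj (K := K) 1 hr 18 (hn 18 (by norm_num)) t
    rw [d4_tab.1, refl_tab_B.1] at h
    exact h
  · have h := nG_conj (K := K) 1 hr 13 (hn 13 (by norm_num)) t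
    rw [d4_tab.1, refl_tab_B.2.1] at h
    exact h
  · have h := nG_conj (K := K) 1 hr 12 (hn 12 (by norm_num)) t
    rw [d4_tab.1, refl_tab_B.2.2.1] at h
    exact h
  · have h := nG_conj (K := K) 1 hr 22 (hn 22 (by norm_num)) t
    rw [d4_tab.1, refl_tab_B.2.2.2] at h
    exact h

end Cfsg.Agent.Helper93.D4I
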