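import Cfsg.Agent.Helper16.DT.Defs
import Cfsg.Agent.Helper16.SubsectionCount
import Cfsg.Agent.Helper80.Pullback

/-!
helper93, DT farm of helper16 (#13881), cores of the pieces (E4C) and (E5B): the statements with the
pieces they depend on ((E4), resp. (E4C) and (E5A)) taken as hypotheses.
-/

set_option autoImplicit false
set_option linter.unusedSectionVars false
set_option linter.unusedVariables false

namespace Cfsg.Agent.Helper93.DT

open Cfsg Cfsg.Agent.Helper16 Cfsg.Agent.Helper16.DT Polynomial Matrix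

universe u v w

section Decomp

variable {p : ℕ} [Fact p.Prime] {M : Ideal AlgInt} [M.IsMaximal] {G : Type u} [Group G]

/-- (E4C) from (E4) -/
theorem E4C_of
    (hE4 : ∀ (Q : Type u) [Group Q] [Finite Q] (n : ℕ)
      (τ : Q →* Matrix (Fin n) (Fin n) (AlgInt ⧸ M)), ¬ p ∣ Nat.card Q →
      IsCharacter Q (brauerFull p M τ))
    {H : Type u} [Group H]
    [Finite H] {n : ℕ} (τ : H →* Matrix (Fin n) (Fin n) (AlgInt ⧸ M))
    (hτ : ∀ h, ∃ m : ℕ, ¬ p ∣ m ∧ τ h ^ m = 1) : IsCharacter H (brauerFull p M τ) := by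
  classical
  have hp : p.Prime := Fact.out
  -- the induced representation of the quotient by the kernel
  set τ' : H ⧸ τ.ker →* Matrix (Fin n) (Fin n) (AlgInt ⧸ M) :=
    QuotientGroup.lift τ.ker τ (fun x hx => hx) with hτ'
  have h0 : ∀ h : H, τ' (QuotientGroup.mk h) = τ h := fun h => QuotientGroup.lift_mk _ _ h
  -- the quotient by the kernel has order prime to `p`
  have hQ : ¬ p ∣ Nat.card (H ⧸ τ.ker) := by
    intro hdvd
    obtain ⟨x, hx⟩ := exists_prime_orderOf_dvd_card' p hdvd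
    obtain ⟨h, rfl⟩ := QuotientGroup.mk_surjective x
    obtain ⟨m, hm, hpow⟩ := hτ h
    have h1 : τ (h ^ m) = 1 := by rw [map_pow, hpow]
    have h2 : (QuotientGroup.mk h : H ⧸ τ.ker) ^ m = 1 := by
      rw [← QuotientGroup.mk_pow, QuotientGroup.eq_one_iff]
      exact h1
    have h3 : orderOf (QuotientGroup.mk h : H ⧸ τ.ker) ∣ m := orderOf_dvd_of_pow_eq_one h2
    rw [hx] at h3
    exact hm h3
  have h4 := hE4 _ n τ' hQ
  have h5 := Cfsg.Agent.Helper80.IsCharacter.comp_hom h4 (QuotientGroup.mk' τ.ker)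
  have e : (fun g : H => brauerFull p M τ' (QuotientGroup.mk' τ.ker g)) =
      brauerFull p M τ := by
    funext g
    unfold brauerFull
    rw [QuotientGroup.mk'_apply, h0]
  rw [e] at h5
  exact h5

/-- the `p`-part of an element of a subgroup, computed in the subgroup -/
theorem E5B_isPPart_coe {E : Subgroup G} {e x : E} (h : IsPPart p e x) :
    IsPPart p (e : G) (x : G) := by
  obtain ⟨y, hxy, hc, ⟨k, hk⟩, hy⟩ := h
  refine ⟨(y : G), ?_, ?_, ⟨k, ?_⟩, ?_⟩
  · rw [← hxy]; rfl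
  · have := congrArg (Subtype.val) hc.eq
    exact this
  · rw [Subgroup.orderOf_coe]; exact hk
  · rw [Subgroup.orderOf_coe]; exact hy

/-- (E5B) from (E4C) and (E5A) -/
theorem E5B_of
    (hE4C : ∀ (H : Type u) [Group H] [Finite H] (n : ℕ)
      (τ : H →* Matrix (Fin n) (Fin n) (AlgInt ⧸ M)),
      (∀ h, ∃ m : ℕ, ¬ p ∣ m ∧ τ h ^ m = 1) → IsCharacter H (brauerFull p M τ))
    (hE5A : ∀ (E : Type u) [Group E] [Finite E] (q : ℕ), q.Prime → IsElementary q E →
      ∃ π : E →* E, ∀ e, IsPPart p e (e * (π e)⁻¹))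
    [Fintype G] {n : ℕ}
    (ρ : G →* Matrix (Fin n) (Fin n) (AlgInt ⧸ M)) (E : Subgroup G) (q : ℕ) (hq : q.Prime)
    (hE : IsElementary q E) :
    IsCharacter E (fun e : E => brauerFull p M ρ ((pPartOf p (e : G))⁻¹ * (e : G))) := by
  classical
  obtain ⟨π, hπ⟩ := hE5A E q hq hE
  -- the `p'`-part of `e` is `π e`
  have hpart : ∀ e : E, (pPartOf p (e : G))⁻¹ * (e : G) = ((π e : E) : G) := by
    intro e
    have h1 : pPartOf p (e : G) = ((e * (π e)⁻¹ : E) : G) :=
      (pPartOf_eq_iff (e : G) _).mpr (E5B_isPPart_coe (hπ e))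
    rw [h1]
    push_cast
    group
  -- `π e` has order prime to `p`
  have hord : ∀ e : E, ¬ p ∣ orderOf (π e) := by
    intro e
    obtain ⟨y, hxy, -, -, hy⟩ := hπ e
    have : y = π e := mul_left_cancel (hxy.trans (by group))
    rw [← this]; exact hy
  set τ : E →* Matrix (Fin n) (Fin n) (AlgInt ⧸ M) := ρ.comp (E.subtype.comp π) with hτdef
  have hτ : ∀ e : E, ∃ m : ℕ, ¬ p ∣ m ∧ τ e ^ m = 1 := by
    intro e
    refine ⟨orderOf (π e), hord e, ?_⟩
    show (ρ ((π e : E) : G)) ^ orderOf (π e) = 1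
    rw [← map_pow, ← SubmonoidClass.coe_pow, pow_orderOf_eq_one, OneMemClass.coe_one, map_one]
  have h1 := hE4C E n τ hτ
  have e : brauerFull p M τ =
      (fun e : E => brauerFull p M ρ ((pPartOf p (e : G))⁻¹ * (e : G))) := by
    funext e
    unfold brauerFull
    rw [hpart e]
    rfl
  rw [e] at h1
  exact h1

end Decomp

end Cfsg.Agent.Helper93.DT
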