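import Cfsg.Agent.Helper16.DT.Defs
import Cfsg.Agent.Helper93.DT_E4CCore
import Cfsg.Agent.Helper87.DT_E4

/-!
helper93, DT farm of helper16 (#13881), piece (E4C): the lifted trace function of a matrix representation
over the residue field whose image has order prime to `p` is an ordinary character.
From the core `E4C_of` and helper87's (E4).
-/

set_option autoImplicit false
set_option linter.unusedSectionVars false
set_option linter.unusedVariables false

namespace Cfsg.Agent.Helper93.DT

open Cfsg Cfsg.Agent.Helper16 Cfsg.Agent.Helper16.DT Polynomial Matrix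

universe u v w

section Decomp

variable {p : ℕ} [Fact p.Prime] {M : Ideal AlgInt} [M.IsMaximal] {G : Type u} [Group G]

/-- (E4C) the same when only the image has order prime to `p`. -/
theorem isCharacter_brauerFull_of_pPrime_image (hpM : (p : AlgInt) ∈ M) {H : Type u} [Group H]
    [Finite H] {n : ℕ} (τ : H →* Matrix (Fin n) (Fin n) (AlgInt ⧸ M))
    (hτ : ∀ h, ∃ m : ℕ, ¬ p ∣ m ∧ τ h ^ m = 1) : IsCharacter H (brauerFull p M τ) :=
  E4C_of (fun Q _ _ n τ hQ => Cfsg.Agent.Helper87.DT.isCharacter_brauerFull_of_pPrime hpM hQ τ) τ hτ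

end Decomp

end Cfsg.Agent.Helper93.DT
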