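import Cfsg.Agent.Helper16.DT.Defs
import Cfsg.Agent.Helper93.DT_E4CCore
import Cfsg.Agent.Helper93.DT_E4C
import Cfsg.Agent.Helper3.DT_E5A

/-!
helper93, DT farm of helper16 (#13881), piece (E5B): the function `g ↦ β(g_{p'})` attached to a matrix
representation over the residue field restricts to a character on every elementary subgroup.
From the core `E5B_of`, (E4C) and helper3's (E5A).
-/

set_option autoImplicit false
set_option linter.unusedSectionVars false
set_option linter.unusedVariables false

namespace Cfsg.Agent.Helper93.DT

open Cfsg Cfsg.Agent.Helper16 Cfsg.Agent.Helper16.DT Polynomial Matrix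

universe u v w

section Decomp

variable {p : ℕ} [Fact p.Prime] {M : Ideal AlgInt} [M.IsMaximal] {G : Type u} [Group G]

/-- (E5B) the function `g ↦ β(g_{p'})` attached to a matrix representation over the residue field
restricts to a character on every elementary subgroup. -/
theorem isCharacter_theta_restrict (hpM : (p : AlgInt) ∈ M) [Fintype G] {n : ℕ}
    (ρ : G →* Matrix (Fin n) (Fin n) (AlgInt ⧸ M)) (E : Subgroup G) (q : ℕ) (hq : q.Prime)
    (hE : IsElementary q E) :
    IsCharacter E (fun e : E => brauerFull p M ρ ((pPartOf p (e : G))⁻¹ * (e : G))) :=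
  E5B_of (fun H _ _ n τ hτ => isCharacter_brauerFull_of_pPrime_image hpM τ hτ)
    (fun E _ _ q hq hE => Cfsg.Agent.Helper3.DT.exists_pPrime_hom_of_isElementary q hq hE)
    ρ E q hq hE

end Decomp

end Cfsg.Agent.Helper93.DT
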