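/-
Helper93: numbers of octads, trios, sextets, dodecads fixed by the representatives of the
classes of elements of order 2 and 3 of `M24`, and by all their conjugates.
-/
import Cfsg.Agent.Helper93.ElemMain
import Cfsg.Agent.Helper93.Classes
import Cfsg.Agent.Helper93.Dodecads

set_option autoImplicit false
set_option maxRecDepth 100000

namespace Cfsg.Agent.Helper93

open Cfsg Cfsg.Agent.Helper7
open scoped Pointwise

theorem count_oct {w : List ℕ} (hw : wordOK octPs.length w = true) {k g : Equiv.Perm GolayPt}
    (hk : k ∈ M24) (hkg : k * g * k⁻¹ = evalW gens5 w) :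
    {o : Finset GolayPt | o ∈ octads ∧ g • o = o}.ncard =
      countB octArr.n (fun i => Nat.beq (idxW octPs w i) i) :=
  count_of_conj encSet octArr_ok oct_acts hw octads_eq (fun _ hk _ hx => smul_mem_octads hk hx) hk hkg

theorem count_trio {w : List ℕ} (hw : wordOK trioPs.length w = true) {k g : Equiv.Perm GolayPt}
    (hk : k ∈ M24) (hkg : k * g * k⁻¹ = evalW gens5 w) :
    {T : Finset (Finset GolayPt) | T ∈ trios ∧ g • T = T}.ncard =
      countB trioArr.n (fun i => Nat.beq (idxW trioPs w i) i) :=
  count_of_conj (encFam 3) trioArr_ok trio_acts hw trios_eq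
    (fun _ hk _ hx => smul_mem_trios hk hx) hk hkg

theorem count_sext {w : List ℕ} (hw : wordOK sextPs.length w = true) {k g : Equiv.Perm GolayPt}
    (hk : k ∈ M24) (hkg : k * g * k⁻¹ = evalW gens5 w) :
    {S : Finset (Finset GolayPt) | S ∈ sextets ∧ g • S = S}.ncard =
      countB sextArr.n (fun i => Nat.beq (idxW sextPs w i) i) :=
  count_of_conj (encFam 6) sextArr_ok sext_acts hw sextets_eq
    (fun _ hk _ hx => smul_mem_sextets hk hx) hk hkg

theorem count_dod {w : List ℕ} (hw : wordOK dodPs.length w = true) {k g : Equiv.Perm GolayPt}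
    (hk : k ∈ M24) (hkg : k * g * k⁻¹ = evalW gens5 w) :
    {d : Finset GolayPt | d ∈ dodecads ∧ g • d = d}.ncard =
      countB dodArr.n (fun i => Nat.beq (idxW dodPs w i) i) :=
  count_of_conj encSet dodArr_ok dod_acts hw dodecads_eq
    (fun _ hk _ hx => smul_mem_dodecads hk hx) hk hkg

theorem cnt_3A_oct : countB octArr.n (fun i => Nat.beq (idxW octPs e3A_w i) i) = 21 := by
  decide +kernel
theorem cnt_3A_trio : countB trioArr.n (fun i => Nat.beq (idxW trioPs e3A_w i) i) = 15 := by
  decide +kernel
theorem cnt_3A_sext : countB sextArr.n (fun i => Nat.beq (idxW sextPs e3A_w i) i) = 16 := by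
  decide +kernel
theorem cnt_3A_dod : countB dodArr.n (fun i => Nat.beq (idxW dodPs e3A_w i) i) = 20 := by
  decide +kernel

theorem cnt_3B_trio : countB trioArr.n (fun i => Nat.beq (idxW trioPs e3B_w i) i) = 15 := by
  decide +kernel
theorem cnt_3B_sext : countB sextArr.n (fun i => Nat.beq (idxW sextPs e3B_w i) i) = 7 := by
  decide +kernel

theorem cnt_2A_oct : countB octArr.n (fun i => Nat.beq (idxW octPs e2A_w i) i) = 71 := by
  decide +kernel
theorem cnt_2A_trio : countB trioArr.n (fun i => Nat.beq (idxW trioPs e2A_w i) i) = 99 := by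
  decide +kernel
theorem cnt_2A_sext : countB sextArr.n (fun i => Nat.beq (idxW sextPs e2A_w i) i) = 91 := by
  decide +kernel

theorem cnt_2B_oct : countB octArr.n (fun i => Nat.beq (idxW octPs e2B_w i) i) = 15 := by
  decide +kernel
theorem cnt_2B_trio : countB trioArr.n (fun i => Nat.beq (idxW trioPs e2B_w i) i) = 75 := by
  decide +kernel
theorem cnt_2B_sext : countB sextArr.n (fun i => Nat.beq (idxW sextPs e2B_w i) i) = 51 := by
  decide +kernel

end Cfsg.Agent.Helper93
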