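import Cfsg.Agent.Helper38.FP.Defs

/-!
# (FC) of helper38's S2276 farm (#10150): the block system of a full cycle

`B = {u^(p i) x₀ : i < m}` where `card α = p m`.  Everything follows from
`(u ^ a) x = (u ^ b) x ↔ a ≡ b [MOD card α]` (`Equiv.Perm.IsCycleOn.pow_apply_eq_pow_apply` on `univ`).
-/

set_option autoImplicit false
set_option linter.unusedVariables false
set_option linter.unusedSectionVars false

namespace Cfsg.Agent.Helper93.FP

open Equiv Cfsg.Agent.Helper38.FP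

variable {α : Type} [Fintype α] [DecidableEq α] {p : ℕ}

theorem IsFull.isCycleOn_univ {u : Perm α} (hu : IsFull u) :
    u.IsCycleOn ((Finset.univ : Finset α) : Set α) := by
  rw [Finset.coe_univ]
  exact ⟨Set.bijOn_univ.2 u.bijective, fun x _ y _ => hu x y⟩

theorem IsFull.pow_apply_eq_pow_apply {u : Perm α} (hu : IsFull u) (x : α) (a b : ℕ) :
    (u ^ a) x = (u ^ b) x ↔ a ≡ b [MOD Fintype.card α] := by
  have := (IsFull.isCycleOn_univ hu).pow_apply_eq_pow_apply (Finset.mem_univ x) (m := a) (n := b)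
  rwa [Finset.card_univ] at this

theorem IsFull.exists_pow_apply_eq {u : Perm α} (hu : IsFull u) (x a : α) :
    ∃ t : ℕ, (u ^ t) x = a := by
  obtain ⟨t, _, ht⟩ := (IsFull.isCycleOn_univ hu).exists_pow_eq (Finset.mem_univ x) (Finset.mem_univ a)
  exact ⟨t, ht⟩

/-- (FC) block system of a full cycle. -/
theorem exists_block [Fact p.Prime] (u : Perm α) (hu : IsFull u) (hpn : p ∣ Fintype.card α)
    (hlt : p < Fintype.card α) :
    ∃ B : Finset α, B.card * p = Fintype.card α ∧ (∀ a, (u ^ p) a ∈ B ↔ a ∈ B) ∧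
      (∀ a ∈ B, ∀ j : ℕ, 0 < j → j < p → (u ^ j) a ∉ B) ∧ (∃ a ∈ B, (u ^ p) a ≠ a) := by
  have hp : p.Prime := Fact.out
  have hp0 : 0 < p := hp.pos
  obtain ⟨m, hm⟩ := hpn
  obtain ⟨n, hn⟩ : ∃ n : ℕ, n = Fintype.card α := ⟨_, rfl⟩
  rw [← hn] at hm hlt ⊢
  have hmpos : 0 < m := by
    rcases Nat.eq_zero_or_pos m with rfl | h
    · rw [mul_zero] at hm; omega
    · exact h
  have hkey : ∀ (x : α) (a b : ℕ), (u ^ a) x = (u ^ b) x ↔ a ≡ b [MOD n] := by
    intro x a b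
    rw [hn]
    exact IsFull.pow_apply_eq_pow_apply hu x a b
  obtain ⟨x₀⟩ : Nonempty α := Fintype.card_pos_iff.1 (by omega)
  obtain ⟨B, hB⟩ : ∃ B : Finset α, B = (Finset.range m).image (fun i => (u ^ (p * i)) x₀) := ⟨_, rfl⟩
  have hmemB : ∀ a, a ∈ B ↔ ∃ t : ℕ, p ∣ t ∧ (u ^ t) x₀ = a := by
    intro a
    rw [hB]
    simp only [Finset.mem_image, Finset.mem_range]
    constructor
    · rintro ⟨i, _, rfl⟩
      exact ⟨p * i, dvd_mul_right _ _, rfl⟩
    · rintro ⟨t, ⟨s, rfl⟩, rfl⟩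
      refine ⟨s % m, Nat.mod_lt _ hmpos, ?_⟩
      rw [hkey, hm]
      exact Nat.ModEq.mul_left' p (Nat.mod_modEq s m)
  have hpdvd : ∀ t s : ℕ, (u ^ t) x₀ = (u ^ s) x₀ → (p ∣ t ↔ p ∣ s) := by
    intro t s h
    exact ((hkey x₀ t s).1 h).dvd_iff ⟨m, hm⟩
  refine ⟨B, ?_, ?_, ?_, ?_⟩
  · rw [hB, Finset.card_image_of_injOn, Finset.card_range, hm, mul_comm]
    intro i hi j hj hij
    rw [Finset.coe_range, Set.mem_Iio] at hi hj
    have h1 := (hkey x₀ _ _).1 hij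
    have h2 : p * i < n := by rw [hm]; exact Nat.mul_lt_mul_of_pos_left hi hp0
    have h3 : p * j < n := by rw [hm]; exact Nat.mul_lt_mul_of_pos_left hj hp0
    exact Nat.eq_of_mul_eq_mul_left hp0 (Nat.ModEq.eq_of_lt_of_lt h1 h2 h3)
  · intro a
    rw [hmemB, hmemB]
    constructor
    · rintro ⟨t, hpt, ht⟩
      refine ⟨t + (n - p), ?_, ?_⟩
      · exact dvd_add hpt (Nat.dvd_sub ⟨m, hm⟩ dvd_rfl)
      · apply (u ^ p).injective
        rw [← ht, ← Perm.mul_apply, ← pow_add, hkey]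
        have : p + (t + (n - p)) = t + n := by omega
        rw [this]
        exact Nat.add_modEq_right
    · rintro ⟨t, hpt, rfl⟩
      exact ⟨p + t, dvd_add dvd_rfl hpt, by rw [pow_add, Perm.mul_apply]⟩
  · intro a ha j hj0 hjp hmem
    obtain ⟨t, hpt, rfl⟩ := (hmemB a).1 ha
    obtain ⟨s, hps, hs⟩ := (hmemB _).1 hmem
    rw [← Perm.mul_apply, ← pow_add] at hs
    have := (hpdvd s (j + t) hs).1 hps
    have hj : p ∣ j := (Nat.dvd_add_left hpt).1 this
    exact absurd (Nat.le_of_dvd hj0 hj) (by omega)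
  · refine ⟨x₀, (hmemB x₀).2 ⟨0, dvd_zero p, by rw [pow_zero, Perm.one_apply]⟩, ?_⟩
    intro h
    have h1 : (u ^ p) x₀ = (u ^ 0) x₀ := by rw [pow_zero, Perm.one_apply]; exact h
    have h2 := (hkey x₀ p 0).1 h1
    have h3 := (Nat.modEq_zero_iff_dvd.1 h2)
    exact absurd (Nat.le_of_dvd hp0 h3) (by omega)

end Cfsg.Agent.Helper93.FP
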