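import Cfsg.Agent.Helper93.FS_S3fCore
import Cfsg.Agent.Helper75.FS_K4
import Cfsg.Agent.Helper47.FS_K2
import Cfsg.Agent.Helper50.FS_S3d

/-!
# Fong–Swan farm (helper25, S4440): leaf (S3f)

`thetaExt_mul_mem_IBr`: products of the reduction of `thetaExt` with inflated irreducible Brauer
characters of `EG N Y ⧸ N1 N Y` are irreducible Brauer characters of `EG N Y`.  Wiring of the core
`thetaExt_mul_mem_IBr_of` with the leaves (S3d) helper50, (K4) helper75, (K2) helper47.
-/

set_option autoImplicit false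
set_option linter.unusedSectionVars false
set_option linter.unusedVariables false

namespace Cfsg.Agent.Helper93.FS

open Cfsg Cfsg.Agent.Helper16 Cfsg.Agent.Helper16.DT Cfsg.Agent.Helper25.FS

universe u

variable {p : ℕ} [Fact p.Prime] {M : Ideal AlgInt} [M.IsMaximal] {G : Type u} [Group G]

section ST3

variable [Fintype G] (N : Subgroup G) [hN : N.Normal] [Fintype N] {d : ℕ}
  (Y : Representation ℂ N (Fin d → ℂ))

/-- (S3f) products with the reduction of `thetaExt`. -/
theorem thetaExt_mul_mem_IBr (hpM : (p : AlgInt) ∈ M) (hY : Y.IsIrreducible) [Finite (EG N Y)]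
    (hNp : ¬ p ∣ Nat.card N) (hN1 : (N1 N Y).Normal) {γ : EG N Y ⧸ N1 N Y → ℂ}
    (hγ : γ ∈ IBr p M (EG N Y ⧸ N1 N Y)) :
    pRegularPart p (thetaExt N Y) * (γ ∘ QuotientGroup.mk) ∈ IBr p M (EG N Y) :=
  thetaExt_mul_mem_IBr_of N Y hpM hY hNp hN1
    (Cfsg.Agent.Helper50.FS.exists_modular_ext N Y hpM hY hNp)
    (fun inst m n hm ρ σ hsurj hσ hσL =>
      @Cfsg.Agent.Helper75.FS.isIrredMat_kronRep _ _ _ _ (N1 N Y) inst _ _ _ _ hm _ _ ρ σ hsurj hσ hσL)
    (fun m n A B => Cfsg.Agent.Helper47.FS.bfull_kronecker hpM A B) hγ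

end ST3

end Cfsg.Agent.Helper93.FS
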