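import Cfsg.Agent.Helper43.G2Vec

/-!
# (G2-B1) Matrices commuting with `Z0M` preserve `H₀` and `M`
-/

set_option autoImplicit false

namespace Cfsg.Agent.Helper93.G2S

open Cfsg.Agent.Helper43.G2S Matrix Cfsg.Lie

variable {F : Type*} [Field F]

theorem eq_zero_of_eq_neg_self (h2 : (2 : F) ≠ 0) {a : F} (h : -a = a) : a = 0 := by
  have h1 : 2 * a = 0 := by linear_combination -h
  rcases mul_eq_zero.1 h1 with h3 | h3
  · exact absurd h3 h2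
  · exact h3

theorem eq_vecH_of_fixed (h2 : (2 : F) ≠ 0) (y : Fin 8 → F) (hy : Z0M *ᵥ y = y) :
    y = vecH !![y 0, y 1; y 4, y 7] := by
  rw [Z0M_mulVec] at hy
  have e2 := eq_zero_of_eq_neg_self h2 (by simpa using congrFun hy 2)
  have e3 := eq_zero_of_eq_neg_self h2 (by simpa using congrFun hy 3)
  have e5 := eq_zero_of_eq_neg_self h2 (by simpa using congrFun hy 5)
  have e6 := eq_zero_of_eq_neg_self h2 (by simpa using congrFun hy 6)
  ext i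
  fin_cases i <;> simp [vecH, e2, e3, e5, e6]

theorem eq_vecM_of_neg (h2 : (2 : F) ≠ 0) (y : Fin 8 → F) (hy : Z0M *ᵥ y = -y) :
    y = vecM ![y 2, y 6] ![y 3, -y 5] := by
  rw [Z0M_mulVec] at hy
  have e0 := eq_zero_of_eq_neg_self h2 (by simpa using (congrFun hy 0).symm)
  have e1 := eq_zero_of_eq_neg_self h2 (by simpa using (congrFun hy 1).symm)
  have e4 := eq_zero_of_eq_neg_self h2 (by simpa using (congrFun hy 4).symm)
  have e7 := eq_zero_of_eq_neg_self h2 (by simpa using (congrFun hy 7).symm)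
  ext i
  fin_cases i <;> simp [vecM, e0, e1, e4, e7]

/-- (G2-B1) -/
theorem comm_Z0M_vecH (h2 : (2 : F) ≠ 0) (g : Matrix (Fin 8) (Fin 8) F) (hg : g * Z0M = Z0M * g)
    (h : Matrix (Fin 2) (Fin 2) F) : ∃ h' : Matrix (Fin 2) (Fin 2) F, g *ᵥ vecH h = vecH h' := by
  have hfix : Z0M *ᵥ vecH h = vecH h := by
    rw [Z0M_mulVec]
    ext i
    fin_cases i <;> simp [vecH]
  have hy : Z0M *ᵥ (g *ᵥ vecH h) = g *ᵥ vecH h := by
    rw [Matrix.mulVec_mulVec, ← hg, ← Matrix.mulVec_mulVec, hfix]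
  exact ⟨_, eq_vecH_of_fixed h2 _ hy⟩

/-- (G2-B1) -/
theorem comm_Z0M_vecM (h2 : (2 : F) ≠ 0) (g : Matrix (Fin 8) (Fin 8) F) (hg : g * Z0M = Z0M * g)
    (u₁ u₂ : Fin 2 → F) : ∃ v₁ v₂ : Fin 2 → F, g *ᵥ vecM u₁ u₂ = vecM v₁ v₂ := by
  have hfix : Z0M *ᵥ vecM u₁ u₂ = -vecM u₁ u₂ := by
    rw [Z0M_mulVec]
    ext i
    fin_cases i <;> simp [vecM]
  have hy : Z0M *ᵥ (g *ᵥ vecM u₁ u₂) = -(g *ᵥ vecM u₁ u₂) := by
    rw [Matrix.mulVec_mulVec, ← hg, ← Matrix.mulVec_mulVec, hfix, Matrix.mulVec_neg]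
  exact ⟨_, _, eq_vecM_of_neg h2 _ hy⟩

end Cfsg.Agent.Helper93.G2S
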