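import Mathlib
import Cfsg.Prelude.Def_Classical
import Cfsg.Prelude.Def_ClassicalGeometry
import Cfsg.Agent.Helper44.ReflGenAll
import Cfsg.Agent.Helper44.CharTwoWitt
import Cfsg.Agent.Helper45.OmegaParity

/-!
# First cohomology of `Ω(Q)` on the natural module over the field with two elements

A crossed homomorphism `f : Ω → V` defines an affine action of `Ω` on `V`; `f` is principal iff this
action has a fixed point.  An isometry `J` with `J² + J + 1 = 0` has a unique fixed point, and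
every element commuting with it fixes that point.  The relation `Rel w a` ("the product of the two
transvections in `w` and `a` fixes `v`") is an equivalence relation on the non-singular vectors
that is closed under `(a, c) ↦ a + c` for non-orthogonal `a, c`.
-/

set_option autoImplicit false
set_option linter.unusedSectionVars false

namespace Cfsg.Agent.Helper93.H1

open Matrix Cfsg.Agent.Helper44

variable {ι : Type} [Fintype ι] [DecidableEq ι]

/-! ### vectors over the field with two elements -/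

theorem z2_add_self (a : ZMod 2) : a + a = 0 := by revert a; decide

theorem z2_neg (a : ZMod 2) : -a = a := by revert a; decide

theorem z2_eq_one_of_ne {a : ZMod 2} (h : a ≠ 0) : a = 1 := by revert a; decide

theorem vadd_self (u : ι → ZMod 2) : u + u = 0 := by
  funext i
  exact z2_add_self _

theorem vneg (u : ι → ZMod 2) : -u = u := by
  funext i
  exact z2_neg _

theorem vsub (u w : ι → ZMod 2) : u - w = u + w := by rw [sub_eq_add_neg, vneg]

theorem vadd_cancel_left (u w : ι → ZMod 2) : u + (u + w) = w := by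
  rw [← add_assoc, vadd_self, zero_add]

theorem eq_add_of_add_eq_zero {x b w : ι → ZMod 2} (h : x + b + w = 0) : x = b + w := by
  have h1 : x + (b + w) = 0 := by rw [← add_assoc]; exact h
  have h2 := eq_neg_of_add_eq_zero_left h1
  rw [vneg] at h2
  exact h2

theorem mneg_one : (-1 : Matrix ι ι (ZMod 2)) = 1 := by
  ext i j
  exact z2_neg _

variable (Q : QuadraticForm (ZMod 2) (ι → ZMod 2))

/-- the matrix of an element of `Ω` -/
def mat (g : ↥(Cfsg.Omega (ZMod 2) ⇑Q)) : Matrix ι ι (ZMod 2) := ((g.1).1 : Matrix ι ι (ZMod 2))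

theorem mat_mul (g h : ↥(Cfsg.Omega (ZMod 2) ⇑Q)) : mat Q (g * h) = mat Q g * mat Q h := rfl

theorem mat_one : mat Q (1 : ↥(Cfsg.Omega (ZMod 2) ⇑Q)) = 1 := rfl

/-- crossed homomorphisms `Ω → V` -/
def IsCross (f : ↥(Cfsg.Omega (ZMod 2) ⇑Q) → (ι → ZMod 2)) : Prop :=
  ∀ g h, f (g * h) = f g + mat Q g *ᵥ f h

variable {Q}
variable {f : ↥(Cfsg.Omega (ZMod 2) ⇑Q) → (ι → ZMod 2)}

/-- the affine action attached to `f` -/
def aff (f : ↥(Cfsg.Omega (ZMod 2) ⇑Q) → (ι → ZMod 2)) (g : ↥(Cfsg.Omega (ZMod 2) ⇑Q))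
    (u : ι → ZMod 2) : ι → ZMod 2 := mat Q g *ᵥ u + f g

theorem aff_mul (hf : IsCross Q f) (g h : ↥(Cfsg.Omega (ZMod 2) ⇑Q)) (u : ι → ZMod 2) :
    aff f (g * h) u = aff f g (aff f h u) := by
  unfold aff
  rw [hf g h, mat_mul, ← Matrix.mulVec_mulVec, Matrix.mulVec_add]
  abel

theorem f_one (hf : IsCross Q f) : f 1 = 0 := by
  have h := hf 1 1
  rw [mul_one, mat_one, Matrix.one_mulVec] at h
  have h2 : f 1 + 0 = f 1 + f 1 := by rw [add_zero]; exact h
  exact (add_left_cancel h2).symm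

theorem aff_one (hf : IsCross Q f) (u : ι → ZMod 2) : aff f 1 u = u := by
  unfold aff
  rw [f_one hf, mat_one, Matrix.one_mulVec, add_zero]

theorem fx_iff (g : ↥(Cfsg.Omega (ZMod 2) ⇑Q)) (v : ι → ZMod 2) :
    f g = mat Q g *ᵥ v - v ↔ aff f g v = v := by
  unfold aff
  constructor
  · intro h
    rw [h, vsub, vadd_cancel_left]
  · intro h
    rw [vsub]
    conv_lhs => rw [← vadd_cancel_left (mat Q g *ᵥ v) (f g)]
    rw [h]

/-- the elements of `Ω` fixing `v` in the affine action, as a subgroup of the isometry group -/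
def fixer (hf : IsCross Q f) (v : ι → ZMod 2) : Subgroup ↥(Cfsg.isometryGroup (ZMod 2) ⇑Q) where
  carrier := {g | ∃ h : g ∈ Cfsg.Omega (ZMod 2) ⇑Q, aff f ⟨g, h⟩ v = v}
  mul_mem' := by
    rintro a b ⟨ha, ea⟩ ⟨hb, eb⟩
    refine ⟨Subgroup.mul_mem _ ha hb, ?_⟩
    have e : (⟨a * b, Subgroup.mul_mem _ ha hb⟩ : ↥(Cfsg.Omega (ZMod 2) ⇑Q))
        = ⟨a, ha⟩ * ⟨b, hb⟩ := rfl
    rw [e, aff_mul hf, eb, ea]
  one_mem' := by
    refine ⟨Subgroup.one_mem _, ?_⟩
    have e : (⟨1, Subgroup.one_mem _⟩ : ↥(Cfsg.Omega (ZMod 2) ⇑Q)) = 1 := rfl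
    rw [e, aff_one hf]
  inv_mem' := by
    rintro a ⟨ha, ea⟩
    refine ⟨Subgroup.inv_mem _ ha, ?_⟩
    have e : (⟨a⁻¹, Subgroup.inv_mem _ ha⟩ : ↥(Cfsg.Omega (ZMod 2) ⇑Q))
        = (⟨a, ha⟩ : ↥(Cfsg.Omega (ZMod 2) ⇑Q))⁻¹ := rfl
    have h2 : aff f ((⟨a, ha⟩ : ↥(Cfsg.Omega (ZMod 2) ⇑Q))⁻¹ * ⟨a, ha⟩) v = v := by
      rw [inv_mul_cancel, aff_one hf]
    rw [aff_mul hf, ea] at h2
    rw [e]
    exact h2

theorem mem_fixer_iff (hf : IsCross Q f) (v : ι → ZMod 2) (g : ↥(Cfsg.Omega (ZMod 2) ⇑Q)) :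
    g.1 ∈ fixer hf v ↔ aff f g v = v := by
  constructor
  · rintro ⟨h, e⟩
    exact e
  · intro e
    exact ⟨g.2, e⟩

/-- an element commuting with a fixed-point-free `J` fixes the fixed point of `J` -/
theorem aff_eq_of_commute (hf : IsCross Q f) {J g : ↥(Cfsg.Omega (ZMod 2) ⇑Q)} {v : ι → ZMod 2}
    (hJ : aff f J v = v) (hinj : ∀ u, mat Q J *ᵥ u = u → u = 0) (hc : g * J = J * g) :
    aff f g v = v := by
  have h1 : aff f J (aff f g v) = aff f g v := by
    rw [← aff_mul hf, ← hc, aff_mul hf, hJ]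
  have h2 : mat Q J *ᵥ (aff f g v - v) = aff f g v - v := by
    have e1 : mat Q J *ᵥ aff f g v + f J = aff f g v := h1
    have e2 : mat Q J *ᵥ v + f J = v := hJ
    rw [Matrix.mulVec_sub]
    have e3 : mat Q J *ᵥ aff f g v - mat Q J *ᵥ v
        = (mat Q J *ᵥ aff f g v + f J) - (mat Q J *ᵥ v + f J) := by abel
    rw [e3, e1, e2]
  exact sub_eq_zero.1 (hinj _ h2)

/-! ### transvections -/

theorem refl_act (w : ι → ZMod 2) (hw : Q w ≠ 0) (x : ι → ZMod 2) :
    ((refl Q w hw).1 : Matrix ι ι (ZMod 2)) *ᵥ x = x + QuadraticMap.polar ⇑Q w x • w := by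
  rw [refl_mulVec, z2_eq_one_of_ne hw, inv_one, one_mul, vsub]

theorem Q_act_ne (g : ↥(Cfsg.isometryGroup (ZMod 2) ⇑Q)) {a : ι → ZMod 2} (ha : Q a ≠ 0) :
    Q ((g.1 : Matrix ι ι (ZMod 2)) *ᵥ a) ≠ 0 := by
  rw [isometryGroup_apply (Q := ⇑Q) g a]
  exact ha

theorem conj_refl (g : ↥(Cfsg.isometryGroup (ZMod 2) ⇑Q)) (a : ι → ZMod 2) (ha : Q a ≠ 0) :
    g * refl Q a ha * g⁻¹ = refl Q ((g.1 : Matrix ι ι (ZMod 2)) *ᵥ a) (Q_act_ne g ha) := by
  apply isometryGroup_ext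
  intro x
  have hx : (g.1 : Matrix ι ι (ZMod 2)) *ᵥ (((g⁻¹).1 : Matrix ι ι (ZMod 2)) *ᵥ x) = x := by
    rw [← isometryGroup_mul_mulVec, mul_inv_cancel, isometryGroup_one_mulVec]
  rw [isometryGroup_mul_mulVec, isometryGroup_mul_mulVec, refl_act, refl_act, Matrix.mulVec_add,
    Matrix.mulVec_smul, hx]
  congr 2
  conv_rhs => rw [← hx]
  rw [Helper13.polar_mulVec_of_isometry Q _ (isometryGroup_apply g)]

theorem Q_add_ne {a c : ι → ZMod 2} (ha : Q a ≠ 0) (hc : Q c ≠ 0)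
    (hp : QuadraticMap.polar ⇑Q a c ≠ 0) : Q (a + c) ≠ 0 := by
  rw [QuadraticMap.map_add ⇑Q, z2_eq_one_of_ne ha, z2_eq_one_of_ne hc, z2_eq_one_of_ne hp]
  decide

theorem refl_add (a c : ι → ZMod 2) (ha : Q a ≠ 0) (hc : Q c ≠ 0)
    (hp : QuadraticMap.polar ⇑Q a c ≠ 0) :
    refl Q (a + c) (Q_add_ne ha hc hp) = refl Q a ha * refl Q c hc * refl Q a ha := by
  have h := conj_refl (refl Q a ha) c hc
  rw [refl_inv] at h
  rw [h]
  apply refl_congr
  rw [refl_act, z2_eq_one_of_ne hp, one_smul, add_comm]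

/-! ### the relation on non-singular vectors -/

/-- the product of the transvections in `w` and `a` lies in `Ω` and fixes `v` -/
def Rel (hf : IsCross Q f) (v : ι → ZMod 2) (w a : ι → ZMod 2) : Prop :=
  ∃ (hw : Q w ≠ 0) (ha : Q a ≠ 0), refl Q w hw * refl Q a ha ∈ fixer hf v

theorem rel_self (hf : IsCross Q f) (v : ι → ZMod 2) {w : ι → ZMod 2} (hw : Q w ≠ 0) :
    Rel hf v w w := by
  refine ⟨hw, hw, ?_⟩
  rw [refl_mul_self]
  exact Subgroup.one_mem _

theorem rel_symm (hf : IsCross Q f) {v w a : ι → ZMod 2} (h : Rel hf v w a) : Rel hf v a w := by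
  obtain ⟨hw, ha, hm⟩ := h
  refine ⟨ha, hw, ?_⟩
  have e : refl Q a ha * refl Q w hw = (refl Q w hw * refl Q a ha)⁻¹ := by
    rw [_root_.mul_inv_rev, refl_inv, refl_inv]
  rw [e]
  exact Subgroup.inv_mem _ hm

theorem rel_trans (hf : IsCross Q f) {v w a c : ι → ZMod 2} (h1 : Rel hf v w a)
    (h2 : Rel hf v a c) : Rel hf v w c := by
  obtain ⟨hw, ha, hm⟩ := h1
  obtain ⟨_, hc, hm'⟩ := h2
  refine ⟨hw, hc, ?_⟩
  have e : refl Q w hw * refl Q c hc = (refl Q w hw * refl Q a ha) * (refl Q a ha * refl Q c hc) := by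
    rw [mul_assoc, ← mul_assoc (refl Q a ha), refl_mul_self, one_mul]
  rw [e]
  exact Subgroup.mul_mem _ hm hm'

theorem rel_root (hf : IsCross Q f) {v w a c : ι → ZMod 2} (h1 : Rel hf v w a)
    (h2 : Rel hf v a c) (hp : QuadraticMap.polar ⇑Q a c ≠ 0) : Rel hf v w (a + c) := by
  obtain ⟨hw, ha, hm⟩ := h1
  obtain ⟨hc, _, hm'⟩ := rel_symm hf h2
  refine ⟨hw, Q_add_ne ha hc hp, ?_⟩
  rw [refl_add a c ha hc hp]
  have e : refl Q w hw * (refl Q a ha * refl Q c hc * refl Q a ha)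
      = (refl Q w hw * refl Q a ha) * (refl Q c hc * refl Q a ha) := by
    simp only [mul_assoc]
  rw [e]
  exact Subgroup.mul_mem _ hm hm'

theorem rel_conj (hf : IsCross Q f) {v w a : ι → ZMod 2}
    (g : ↥(Cfsg.isometryGroup (ZMod 2) ⇑Q)) (hg : g ∈ fixer hf v) (h : Rel hf v w a) :
    Rel hf v ((g.1 : Matrix ι ι (ZMod 2)) *ᵥ w) ((g.1 : Matrix ι ι (ZMod 2)) *ᵥ a) := by
  obtain ⟨hw, ha, hm⟩ := h
  refine ⟨Q_act_ne g hw, Q_act_ne g ha, ?_⟩
  rw [← conj_refl g w hw, ← conj_refl g a ha]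
  have e : g * refl Q w hw * g⁻¹ * (g * refl Q a ha * g⁻¹)
      = g * (refl Q w hw * refl Q a ha) * g⁻¹ := by
    simp only [mul_assoc, inv_mul_cancel_left]
  rw [e]
  exact Subgroup.mul_mem _ (Subgroup.mul_mem _ hg hm) (Subgroup.inv_mem _ hg)

/-- if all non-singular vectors are related to `p`, every element of `Ω` fixes `v` -/
theorem aff_all (hf : IsCross Q f) (v : ι → ZMod 2)
    (hgen : Cfsg.Omega (ZMod 2) ⇑Q ≤ Subgroup.closure (reflPairs Q)) (p : ι → ZMod 2)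
    (hall : ∀ w, Q w ≠ 0 → Rel hf v p w) (g : ↥(Cfsg.Omega (ZMod 2) ⇑Q)) : aff f g v = v := by
  have hle : Subgroup.closure (reflPairs Q) ≤ fixer hf v := by
    rw [Subgroup.closure_le]
    rintro g ⟨u, w, hu, hw, hg⟩
    have e : g = refl Q u hu * refl Q w hw := by
      apply Subtype.ext
      apply Units.ext
      rw [hg]
      rfl
    obtain ⟨_, _, hm⟩ := rel_trans hf (rel_symm hf (hall u hu)) (hall w hw)
    rw [e]
    exact hm
  exact (mem_fixer_iff hf v g).1 (hle (hgen g.2))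

theorem principal_of_rel (hf : IsCross Q f) (v : ι → ZMod 2)
    (hgen : Cfsg.Omega (ZMod 2) ⇑Q ≤ Subgroup.closure (reflPairs Q)) (p : ι → ZMod 2)
    (hall : ∀ w, Q w ≠ 0 → Rel hf v p w) :
    ∀ g : ↥(Cfsg.Omega (ZMod 2) ⇑Q), f g = mat Q g *ᵥ v - v :=
  fun g => (fx_iff g v).2 (aff_all hf v hgen p hall g)

end Cfsg.Agent.Helper93.H1
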