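import Cfsg.Agent.Helper93.H1A

/-!
# First cohomology of `Ω(Q)` over the field with two elements: the frame argument

Elements `J` with `J² + J + 1 = 0` lie in `Ω`; for such `J` fixing `v` in the affine action, every
non-singular `w` is related to `J w`.  A family of such elements commuting with a fixed one, and
attached to a decomposition of the space into anisotropic planes, relates all non-singular vectors.
-/

set_option autoImplicit false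
set_option linter.unusedSectionVars false

namespace Cfsg.Agent.Helper93.H1

open Matrix Cfsg.Agent.Helper44

variable {ι : Type} [Fintype ι] [DecidableEq ι]
variable {Q : QuadraticForm (ZMod 2) (ι → ZMod 2)}
variable {f : ↥(Cfsg.Omega (ZMod 2) ⇑Q) → (ι → ZMod 2)}

theorem mat_injective {a b : ↥(Cfsg.Omega (ZMod 2) ⇑Q)} (h : mat Q a = mat Q b) : a = b := by
  apply Subtype.ext
  apply Subtype.ext
  apply Units.ext
  exact h

theorem quad_mul {M : Matrix ι ι (ZMod 2)} (h2 : M * M + M + 1 = 0) : M * M = M + 1 :=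
  by
  have h := eq_neg_of_add_eq_zero_left h2
  have h3 : M * M = -1 - M := by
    rw [← h]; abel
  rw [h3, sub_eq_add_neg, mneg_one]
  have e : (-M : Matrix ι ι (ZMod 2)) = M := by
    ext i j
    exact z2_neg _
  rw [e, add_comm]

theorem quad_vec {M : Matrix ι ι (ZMod 2)} (h2 : M * M + M + 1 = 0) (x : ι → ZMod 2) :
    M *ᵥ (M *ᵥ x) = M *ᵥ x + x := by
  rw [Matrix.mulVec_mulVec, quad_mul h2, Matrix.add_mulVec, Matrix.one_mulVec]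

theorem quad_inj {M : Matrix ι ι (ZMod 2)} (h2 : M * M + M + 1 = 0) (u : ι → ZMod 2)
    (hu : M *ᵥ u = u) : u = 0 := by
  have h := quad_vec h2 u
  rw [hu, hu, vadd_self] at h
  exact h

/-- a `Q`-preserving matrix with `M² + M + 1 = 0` is the matrix of an element of `Ω` -/
theorem exists_omega_of_matrix (hQ : (QuadraticMap.polarBilin Q).Nondegenerate)
    (hcard : Fintype.card ι ≠ 4) (hev : Even (Fintype.card ι))
    (M : Matrix ι ι (ZMod 2)) (h2 : M * M + M + 1 = 0) (hiso : ∀ x, Q (M *ᵥ x) = Q x) :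
    ∃ J : ↥(Cfsg.Omega (ZMod 2) ⇑Q), mat Q J = M := by
  have hM : M * (M + 1) = 1 := by
    rw [mul_add, mul_one, quad_mul h2, add_assoc, add_comm 1 M, ← add_assoc]
    have e : M + M = 0 := by
      ext i j
      exact z2_add_self _
    rw [e, zero_add]
  have hM' : (M + 1) * M = 1 := by
    rw [add_mul, one_mul]
    rw [mul_add, mul_one] at hM
    exact hM
  let g : GL ι (ZMod 2) := ⟨M, M + 1, hM, hM'⟩
  have hg : g ∈ Cfsg.isometryGroup (ZMod 2) ⇑Q :=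
    (Helper13.mem_isometryGroup_iff _ g).2 hiso
  have hΩ : (⟨g, hg⟩ : ↥(Cfsg.isometryGroup (ZMod 2) ⇑Q)) ∈ Cfsg.Omega (ZMod 2) ⇑Q := by
    rw [Helper45.OmegaParity.mem_Omega_iff_even_rank Q hQ (Or.inr hcard)]
    have e : ((⟨g, hg⟩ : ↥(Cfsg.isometryGroup (ZMod 2) ⇑Q)).1 : Matrix ι ι (ZMod 2)) - 1
        = M + 1 := by
      show M - 1 = M + 1
      rw [sub_eq_add_neg, mneg_one]
    rw [e, Matrix.rank_of_isUnit _ ⟨⟨M + 1, M, hM', hM⟩, rfl⟩]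
    exact hev
  exact ⟨⟨⟨g, hg⟩, hΩ⟩, rfl⟩

/-- for `J` with `J² + J + 1 = 0` fixing `v`, every non-singular `w` is related to `J w` -/
theorem rel_J (hf : IsCross Q f) {v : ι → ZMod 2} (J : ↥(Cfsg.Omega (ZMod 2) ⇑Q))
    (hJ2 : mat Q J * mat Q J + mat Q J + 1 = 0) (hJv : aff f J v = v)
    (w : ι → ZMod 2) (hw : Q w ≠ 0) : Rel hf v w (mat Q J *ᵥ w) := by
  have hb : Q (mat Q J *ᵥ w) ≠ 0 := Q_act_ne J.1 hw
  have hJb : mat Q J *ᵥ (mat Q J *ᵥ w) = mat Q J *ᵥ w + w := quad_vec hJ2 w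
  have hQb : Q (mat Q J *ᵥ w) = Q w := isometryGroup_apply (Q := ⇑Q) J.1 w
  have hQJb : Q (mat Q J *ᵥ w + w) = Q w := by
    rw [← hJb]
    have h1 : Q (mat Q J *ᵥ (mat Q J *ᵥ w)) = Q (mat Q J *ᵥ w) :=
      isometryGroup_apply (Q := ⇑Q) J.1 _
    rw [h1, hQb]
  have hpol : QuadraticMap.polar ⇑Q w (mat Q J *ᵥ w) ≠ 0 := by
    unfold QuadraticMap.polar
    rw [add_comm w, hQJb, hQb, z2_eq_one_of_ne hw]
    decide
  have hpol' : QuadraticMap.polar ⇑Q (mat Q J *ᵥ w) w ≠ 0 := by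
    rw [QuadraticMap.polar_comm]
    exact hpol
  have hgΩ : refl Q w hw * refl Q (mat Q J *ᵥ w) hb ∈ Cfsg.Omega (ZMod 2) ⇑Q :=
    refl_mul_refl_mem_Omega_two_aux Q w _ hw hb hQb.symm hpol
  have hconj : J.1 * (refl Q w hw * refl Q (mat Q J *ᵥ w) hb) * (J.1)⁻¹
      = refl Q w hw * refl Q (mat Q J *ᵥ w) hb := by
    have e : J.1 * (refl Q w hw * refl Q (mat Q J *ᵥ w) hb) * (J.1)⁻¹
        = (J.1 * refl Q w hw * (J.1)⁻¹) * (J.1 * refl Q (mat Q J *ᵥ w) hb * (J.1)⁻¹) := by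
      simp only [mul_assoc, inv_mul_cancel_left]
    rw [e, conj_refl, conj_refl]
    have e2 : refl Q ((J.1.1 : Matrix ι ι (ZMod 2)) *ᵥ (mat Q J *ᵥ w)) (Q_act_ne J.1 hb)
        = refl Q (mat Q J *ᵥ w + w) (Q_add_ne hb hw hpol') := refl_congr Q hJb _ _
    rw [e2, refl_add _ _ hb hw hpol']
    have e3 : refl Q ((J.1.1 : Matrix ι ι (ZMod 2)) *ᵥ w) (Q_act_ne J.1 hw)
        = refl Q (mat Q J *ᵥ w) hb := rfl
    rw [e3, ← mul_assoc, ← mul_assoc, refl_mul_self, one_mul]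
  have hc : (⟨_, hgΩ⟩ : ↥(Cfsg.Omega (ZMod 2) ⇑Q)) * J = J * ⟨_, hgΩ⟩ := by
    apply Subtype.ext
    show refl Q w hw * refl Q (mat Q J *ᵥ w) hb * J.1
      = J.1 * (refl Q w hw * refl Q (mat Q J *ᵥ w) hb)
    conv_lhs => rw [← hconj]
    rw [inv_mul_cancel_right]
  have hfix := aff_eq_of_commute hf hJv (quad_inj hJ2) hc
  exact ⟨hw, hb, hgΩ, hfix⟩

/-- the frame argument -/
theorem main_of_frame {m : ℕ} (hQ : (QuadraticMap.polarBilin Q).Nondegenerate)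
    (hcard : Fintype.card ι ≠ 4) (hev : Even (Fintype.card ι))
    (M0 : Matrix ι ι (ZMod 2)) (Ms : Fin m → Matrix ι ι (ZMod 2))
    (h0 : M0 * M0 + M0 + 1 = 0) (hiso0 : ∀ x, Q (M0 *ᵥ x) = Q x)
    (hs : ∀ i, Ms i * Ms i + Ms i + 1 = 0) (hisos : ∀ i x, Q (Ms i *ᵥ x) = Q x)
    (hcomm : ∀ i, Ms i * M0 = M0 * Ms i)
    (p : Fin m → ι → ZMod 2) (hp : ∀ i, Q (p i) ≠ 0)
    (alpha : ∀ i w, Q w ≠ 0 → M0 *ᵥ (Ms i *ᵥ (Ms i *ᵥ w)) ≠ w →
      w + M0 *ᵥ (Ms i *ᵥ (Ms i *ᵥ w)) = p i ∨ w + M0 *ᵥ (Ms i *ᵥ (Ms i *ᵥ w)) = M0 *ᵥ p i ∨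
      w + M0 *ᵥ (Ms i *ᵥ (Ms i *ᵥ w)) = M0 *ᵥ (M0 *ᵥ p i))
    (beta : ∀ w, Q w ≠ 0 → ∃ i, M0 *ᵥ (Ms i *ᵥ (Ms i *ᵥ w)) ≠ w)
    (i0 : Fin m)
    (link : ∀ i, ∃ l, Q l ≠ 0 ∧ M0 *ᵥ (Ms i0 *ᵥ (Ms i0 *ᵥ l)) ≠ l ∧
      M0 *ᵥ (Ms i *ᵥ (Ms i *ᵥ l)) ≠ l)
    (hf : IsCross Q f) :
    ∃ v, ∀ g : ↥(Cfsg.Omega (ZMod 2) ⇑Q), f g = mat Q g *ᵥ v - v := by
  obtain ⟨J0, hJ0⟩ := exists_omega_of_matrix hQ hcard hev M0 h0 hiso0
  have hJs : ∀ i, ∃ J : ↥(Cfsg.Omega (ZMod 2) ⇑Q), mat Q J = Ms i :=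
    fun i => exists_omega_of_matrix hQ hcard hev (Ms i) (hs i) (hisos i)
  choose Js hJs using hJs
  have hJ0q : mat Q J0 * mat Q J0 + mat Q J0 + 1 = 0 := by rw [hJ0]; exact h0
  have hJsq : ∀ i, mat Q (Js i) * mat Q (Js i) + mat Q (Js i) + 1 = 0 := by
    intro i; rw [hJs]; exact hs i
  have hv0 : aff f J0 (M0 *ᵥ f J0) = M0 *ᵥ f J0 := by
    unfold aff
    rw [hJ0, quad_vec h0, add_assoc, vadd_self, add_zero]
  have hvi : ∀ i, aff f (Js i) (M0 *ᵥ f J0) = M0 *ᵥ f J0 := by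
    intro i
    refine aff_eq_of_commute hf hv0 (quad_inj hJ0q) ?_
    apply mat_injective
    rw [mat_mul, mat_mul, hJ0, hJs, hcomm]
  have R1 : ∀ w, Q w ≠ 0 → Rel hf (M0 *ᵥ f J0) w (M0 *ᵥ w) := by
    intro w hw
    have h := rel_J hf J0 hJ0q hv0 w hw
    rw [hJ0] at h
    exact h
  have R2 : ∀ i w, Q w ≠ 0 → Rel hf (M0 *ᵥ f J0) w (Ms i *ᵥ w) := by
    intro i w hw
    have h := rel_J hf (Js i) (hJsq i) (hvi i) w hw
    rw [hJs] at h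
    exact h
  have RD : ∀ i w, Q w ≠ 0 → Rel hf (M0 *ᵥ f J0) w (M0 *ᵥ (Ms i *ᵥ (Ms i *ᵥ w))) := by
    intro i w hw
    have hw1 : Q (Ms i *ᵥ w) ≠ 0 := by rw [hisos]; exact hw
    have hw2 : Q (Ms i *ᵥ (Ms i *ᵥ w)) ≠ 0 := by rw [hisos]; exact hw1
    exact rel_trans hf (R2 i w hw) (rel_trans hf (R2 i _ hw1) (R1 _ hw2))
  have hp1 : ∀ i, Q (M0 *ᵥ p i) ≠ 0 := by
    intro i; rw [hiso0]; exact hp i
  have hp2 : ∀ i, Q (M0 *ᵥ (M0 *ᵥ p i)) ≠ 0 := by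
    intro i; rw [hiso0]; exact hp1 i
  have Rp : ∀ i w, Q w ≠ 0 → M0 *ᵥ (Ms i *ᵥ (Ms i *ᵥ w)) ≠ w →
      Rel hf (M0 *ᵥ f J0) w (p i) := by
    intro i w hw hne
    have hd : Q (M0 *ᵥ (Ms i *ᵥ (Ms i *ᵥ w))) = Q w := by
      rw [hiso0, hisos, hisos]
    have hu : Q (w + M0 *ᵥ (Ms i *ᵥ (Ms i *ᵥ w))) ≠ 0 := by
      rcases alpha i w hw hne with h | h | h
      · rw [h]; exact hp i
      · rw [h]; exact hp1 i
      · rw [h]; exact hp2 i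
    have hpol : QuadraticMap.polar ⇑Q w (M0 *ᵥ (Ms i *ᵥ (Ms i *ᵥ w))) ≠ 0 := by
      unfold QuadraticMap.polar
      rw [hd, z2_eq_one_of_ne hu, z2_eq_one_of_ne hw]
      decide
    have h1 := rel_root hf (rel_self hf (M0 *ᵥ f J0) hw) (RD i w hw) hpol
    rcases alpha i w hw hne with h | h | h
    · rw [h] at h1; exact h1
    · rw [h] at h1
      exact rel_trans hf h1 (rel_symm hf (R1 _ (hp i)))
    · rw [h] at h1
      exact rel_trans hf h1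
        (rel_symm hf (rel_trans hf (R1 _ (hp i)) (R1 _ (hp1 i))))
  have hall : ∀ w, Q w ≠ 0 → Rel hf (M0 *ᵥ f J0) (p i0) w := by
    intro w hw
    obtain ⟨i, hi⟩ := beta w hw
    obtain ⟨l, hl, hl0, hli⟩ := link i
    have a1 := Rp i w hw hi
    have a2 := Rp i0 l hl hl0
    have a3 := Rp i l hl hli
    exact rel_trans hf (rel_symm hf a2) (rel_trans hf a3 (rel_symm hf a1))
  exact ⟨M0 *ᵥ f J0, principal_of_rel hf _ (Omega_le_closure_pairs Q hQ (Or.inr hcard)) (p i0) hall⟩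

end Cfsg.Agent.Helper93.H1
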