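import Cfsg.Agent.Helper93.H1B
import Cfsg.Agent.Helper44.StdForms
import Cfsg.Agent.Helper44.StdNondeg

set_option autoImplicit false

namespace Cfsg.Agent.Helper93.H1

open Matrix Cfsg.Agent.Helper44

/-- index type of the 8-dimensional space -/
abbrev I8 : Type := Fin 4 ⊕ Fin 4

def m8_0 : Matrix I8 I8 (ZMod 2) :=
  Matrix.fromBlocks !![1, 1, 0, 0; 1, 0, 0, 0; 0, 0, 1, 1; 0, 0, 1, 0] !![0, 0, 0, 0; 0, 0, 0, 0; 0, 0, 0, 0; 0, 0, 0, 0]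
    !![0, 0, 0, 0; 0, 0, 0, 0; 0, 0, 0, 0; 0, 0, 0, 0] !![0, 1, 0, 0; 1, 1, 0, 0; 0, 0, 0, 1; 0, 0, 1, 1]

def m8_1 : Matrix I8 I8 (ZMod 2) :=
  Matrix.fromBlocks !![1, 1, 0, 0; 1, 0, 0, 0; 0, 0, 1, 0; 0, 0, 0, 1] !![0, 0, 0, 0; 0, 0, 0, 0; 0, 0, 0, 1; 0, 0, 1, 0]
    !![0, 0, 0, 0; 0, 0, 0, 0; 0, 0, 0, 1; 0, 0, 1, 0] !![0, 1, 0, 0; 1, 1, 0, 0; 0, 0, 0, 0; 0, 0, 0, 0]

def m8_2 : Matrix I8 I8 (ZMod 2) :=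
  Matrix.fromBlocks !![1, 1, 0, 0; 1, 0, 0, 0; 0, 0, 0, 0; 0, 0, 0, 0] !![0, 0, 0, 0; 0, 0, 0, 0; 0, 0, 0, 1; 0, 0, 1, 0]
    !![0, 0, 0, 0; 0, 0, 0, 0; 0, 0, 0, 1; 0, 0, 1, 0] !![0, 1, 0, 0; 1, 1, 0, 0; 0, 0, 1, 0; 0, 0, 0, 1]

def m8_3 : Matrix I8 I8 (ZMod 2) :=
  Matrix.fromBlocks !![1, 0, 0, 0; 0, 1, 0, 0; 0, 0, 1, 1; 0, 0, 1, 0] !![0, 1, 0, 0; 1, 0, 0, 0; 0, 0, 0, 0; 0, 0, 0, 0]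
    !![0, 1, 0, 0; 1, 0, 0, 0; 0, 0, 0, 0; 0, 0, 0, 0] !![0, 0, 0, 0; 0, 0, 0, 0; 0, 0, 0, 1; 0, 0, 1, 1]

def m8_4 : Matrix I8 I8 (ZMod 2) :=
  Matrix.fromBlocks !![0, 0, 0, 0; 0, 0, 0, 0; 0, 0, 1, 1; 0, 0, 1, 0] !![0, 1, 0, 0; 1, 0, 0, 0; 0, 0, 0, 0; 0, 0, 0, 0]
    !![0, 1, 0, 0; 1, 0, 0, 0; 0, 0, 0, 0; 0, 0, 0, 0] !![1, 0, 0, 0; 0, 1, 0, 0; 0, 0, 0, 1; 0, 0, 1, 1]

def ms8 : Fin 4 → Matrix I8 I8 (ZMod 2) := ![m8_1, m8_2, m8_3, m8_4]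

def p8 : Fin 4 → I8 → ZMod 2 :=
  ![Sum.elim ![0, 0, 0, 1] ![0, 0, 0, 1],
    Sum.elim ![0, 0, 0, 1] ![0, 0, 1, 1],
    Sum.elim ![0, 1, 0, 0] ![0, 1, 0, 0],
    Sum.elim ![0, 1, 0, 0] ![1, 1, 0, 0]]

theorem m8_0_quad : m8_0 * m8_0 + m8_0 + 1 = 0 := by decide

theorem ms8_quad : ∀ i, ms8 i * ms8 i + ms8 i + 1 = 0 := by decide

theorem ms8_comm : ∀ i, ms8 i * m8_0 = m8_0 * ms8 i := by decide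

theorem m8_0_iso : ∀ x : I8 → ZMod 2,
    quadFormPlus 4 (ZMod 2) (m8_0 *ᵥ x) = quadFormPlus 4 (ZMod 2) x := by
  decide +kernel

theorem ms8_iso : ∀ i, ∀ x : I8 → ZMod 2,
    quadFormPlus 4 (ZMod 2) (ms8 i *ᵥ x) = quadFormPlus 4 (ZMod 2) x := by
  decide +kernel

theorem p8_ne : ∀ i, quadFormPlus 4 (ZMod 2) (p8 i) ≠ 0 := by decide +kernel

theorem alpha8 : ∀ i, ∀ w : I8 → ZMod 2, quadFormPlus 4 (ZMod 2) w ≠ 0 →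
    m8_0 *ᵥ (ms8 i *ᵥ (ms8 i *ᵥ w)) ≠ w →
    w + m8_0 *ᵥ (ms8 i *ᵥ (ms8 i *ᵥ w)) = p8 i ∨
    w + m8_0 *ᵥ (ms8 i *ᵥ (ms8 i *ᵥ w)) = m8_0 *ᵥ p8 i ∨
    w + m8_0 *ᵥ (ms8 i *ᵥ (ms8 i *ᵥ w)) = m8_0 *ᵥ (m8_0 *ᵥ p8 i) := by
  decide +kernel

theorem beta8 : ∀ w : I8 → ZMod 2, quadFormPlus 4 (ZMod 2) w ≠ 0 →
    ∃ i, m8_0 *ᵥ (ms8 i *ᵥ (ms8 i *ᵥ w)) ≠ w := by
  decide +kernel

/-- vectors linking the first plane to the others -/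
def l8 : Fin 4 → I8 → ZMod 2 :=
  ![Sum.elim ![0, 1, 0, 0] ![0, 1, 0, 1],
    Sum.elim ![0, 1, 0, 0] ![0, 1, 0, 1],
    Sum.elim ![0, 0, 0, 1] ![0, 1, 0, 1],
    Sum.elim ![0, 0, 0, 1] ![0, 1, 0, 1]]

theorem link8 : ∀ i, quadFormPlus 4 (ZMod 2) (l8 i) ≠ 0 ∧
    m8_0 *ᵥ (ms8 0 *ᵥ (ms8 0 *ᵥ l8 i)) ≠ l8 i ∧ m8_0 *ᵥ (ms8 i *ᵥ (ms8 i *ᵥ l8 i)) ≠ l8 i := by
  decide +kernel

/-- vanishing of the first cohomology of `Ω₈⁺(2)` on its natural module -/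
theorem h1_plus8 (f : ↥(Cfsg.Omega (ZMod 2) ⇑(plusForm 4 (ZMod 2))) → (I8 → ZMod 2))
    (hf : IsCross (plusForm 4 (ZMod 2)) f) :
    ∃ v, ∀ g : ↥(Cfsg.Omega (ZMod 2) ⇑(plusForm 4 (ZMod 2))),
      f g = mat (plusForm 4 (ZMod 2)) g *ᵥ v - v := by
  refine main_of_frame (nondegenerate_plusForm 4) (by decide) (by decide) m8_0 ms8 m8_0_quad
    m8_0_iso ms8_quad ms8_iso ms8_comm p8 p8_ne alpha8 beta8 0 ?_ hf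
  intro i
  exact ⟨l8 i, link8 i⟩

end Cfsg.Agent.Helper93.H1
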