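import Cfsg.Agent.Helper93.H1B
import Cfsg.Agent.Helper44.StdForms
import Cfsg.Agent.Helper44.StdNondeg

set_option autoImplicit false

namespace Cfsg.Agent.Helper93.H1

open Matrix Cfsg.Agent.Helper44

/-- index type of the 6-dimensional space -/
abbrev I6 : Type := (Fin 2 ⊕ Fin 2) ⊕ Fin 2

/-- numbering of the coordinates -/
def e6 : I6 → Fin 6 := Sum.elim (Sum.elim ![0, 1] ![2, 3]) ![4, 5]

/-- a vector from its six coordinates -/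
def v6 (t : Fin 6 → ZMod 2) : I6 → ZMod 2 := fun i => t (e6 i)

/-- a matrix from its table -/
def t6 (t : Matrix (Fin 6) (Fin 6) (ZMod 2)) : Matrix I6 I6 (ZMod 2) :=
  Matrix.of fun i j => t (e6 i) (e6 j)

def m6_0 : Matrix I6 I6 (ZMod 2) :=
  t6 !![1, 1, 0, 0, 0, 0;
    1, 0, 0, 0, 0, 0;
    0, 0, 0, 1, 0, 0;
    0, 0, 1, 1, 0, 0;
    0, 0, 0, 0, 1, 1;
    0, 0, 0, 0, 1, 0]

def m6_1 : Matrix I6 I6 (ZMod 2) :=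
  t6 !![1, 1, 0, 0, 0, 0;
    1, 0, 0, 0, 0, 0;
    0, 0, 0, 1, 0, 0;
    0, 0, 1, 1, 0, 0;
    0, 0, 0, 0, 0, 1;
    0, 0, 0, 0, 1, 1]

def m6_2 : Matrix I6 I6 (ZMod 2) :=
  t6 !![1, 0, 0, 1, 0, 0;
    0, 1, 1, 0, 0, 0;
    0, 1, 0, 0, 0, 0;
    1, 0, 0, 0, 0, 0;
    0, 0, 0, 0, 1, 1;
    0, 0, 0, 0, 1, 0]

def m6_3 : Matrix I6 I6 (ZMod 2) :=
  t6 !![0, 0, 0, 1, 0, 0;
    0, 0, 1, 0, 0, 0;
    0, 1, 1, 0, 0, 0;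
    1, 0, 0, 1, 0, 0;
    0, 0, 0, 0, 1, 1;
    0, 0, 0, 0, 1, 0]

def ms6 : Fin 3 → Matrix I6 I6 (ZMod 2) := ![m6_1, m6_2, m6_3]

def p6 : Fin 3 → I6 → ZMod 2 :=
  ![v6 ![0, 0, 0, 0, 0, 1],
    v6 ![0, 1, 0, 1, 0, 0],
    v6 ![0, 1, 1, 1, 0, 0]]

theorem m6_0_quad : m6_0 * m6_0 + m6_0 + 1 = 0 := by decide

theorem ms6_quad : ∀ i, ms6 i * ms6 i + ms6 i + 1 = 0 := by decide

theorem ms6_comm : ∀ i, ms6 i * m6_0 = m6_0 * ms6 i := by decide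

theorem m6_0_iso : ∀ x : I6 → ZMod 2,
    quadFormMinus 2 (ZMod 2) 1 1 (m6_0 *ᵥ x) = quadFormMinus 2 (ZMod 2) 1 1 x := by
  decide +kernel

theorem ms6_iso : ∀ i, ∀ x : I6 → ZMod 2,
    quadFormMinus 2 (ZMod 2) 1 1 (ms6 i *ᵥ x) = quadFormMinus 2 (ZMod 2) 1 1 x := by
  decide +kernel

theorem p6_ne : ∀ i, quadFormMinus 2 (ZMod 2) 1 1 (p6 i) ≠ 0 := by decide +kernel

set_option synthInstance.maxHeartbeats 400000 in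
set_option synthInstance.maxSize 1024 in
theorem alpha6 : ∀ i, ∀ w : I6 → ZMod 2, quadFormMinus 2 (ZMod 2) 1 1 w ≠ 0 →
    m6_0 *ᵥ (ms6 i *ᵥ (ms6 i *ᵥ w)) ≠ w →
    w + m6_0 *ᵥ (ms6 i *ᵥ (ms6 i *ᵥ w)) = p6 i ∨
    w + m6_0 *ᵥ (ms6 i *ᵥ (ms6 i *ᵥ w)) = m6_0 *ᵥ p6 i ∨
    w + m6_0 *ᵥ (ms6 i *ᵥ (ms6 i *ᵥ w)) = m6_0 *ᵥ (m6_0 *ᵥ p6 i) := by
  decide +kernel

theorem beta6 : ∀ w : I6 → ZMod 2, quadFormMinus 2 (ZMod 2) 1 1 w ≠ 0 →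
    ∃ i, m6_0 *ᵥ (ms6 i *ᵥ (ms6 i *ᵥ w)) ≠ w := by
  decide +kernel

/-- a vector linking the first plane to the others -/
def l6 : I6 → ZMod 2 := v6 ![0, 0, 0, 1, 0, 1]

theorem link6 : ∀ i, quadFormMinus 2 (ZMod 2) 1 1 l6 ≠ 0 ∧
    m6_0 *ᵥ (ms6 0 *ᵥ (ms6 0 *ᵥ l6)) ≠ l6 ∧ m6_0 *ᵥ (ms6 i *ᵥ (ms6 i *ᵥ l6)) ≠ l6 := by
  decide +kernel

/-- vanishing of the first cohomology of `Ω₆⁻(2)` on its natural module -/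
theorem h1_minus6
    (f : ↥(Cfsg.Omega (ZMod 2) ⇑(minusForm 2 (ZMod 2) 1 1)) → (I6 → ZMod 2))
    (hf : IsCross (minusForm 2 (ZMod 2) 1 1) f) :
    ∃ v, ∀ g : ↥(Cfsg.Omega (ZMod 2) ⇑(minusForm 2 (ZMod 2) 1 1)),
      f g = mat (minusForm 2 (ZMod 2) 1 1) g *ᵥ v - v := by
  refine main_of_frame (nondegenerate_minusForm 2 1 1 (by decide)) (by decide) (by decide)
    m6_0 ms6 m6_0_quad m6_0_iso ms6_quad ms6_iso ms6_comm p6 p6_ne alpha6 beta6 0 ?_ hf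
  intro i
  exact ⟨l6, link6 i⟩

end Cfsg.Agent.Helper93.H1
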