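import Mathlib
import Cfsg.Prelude.Def_ClassicalGeometry
import Cfsg.Agent.Helper14.CharTwoRefl
import Cfsg.Agent.Helper44.ReflGenAll

/-!
# Generation by reflections in characteristic two when there is no totally singular plane

The argument of `Helper14.isReflProd_of_isometry_aux`, with its exceptional case replaced by the
hypothesis that two orthogonal singular vectors are proportional.  This covers the elliptic
four-dimensional form over the field with two elements.
-/

set_option autoImplicit false

namespace Cfsg.Agent.Helper93.H1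

open Module Cfsg.Agent.Helper14

section Abstract

variable {F V : Type*} [Field F] [AddCommGroup V] [Module F V]

theorem isReflProd_noTS_aux [CharP F 2] [FiniteDimensional F V] (Q : QuadraticForm F V)
    (hQ : (QuadraticMap.polarBilin Q).Nondegenerate)
    (hts : ∀ u z : V, Q u = 0 → Q z = 0 → QuadraticMap.polarBilin Q u z = 0 → u ≠ 0 →
      z ∈ Submodule.span F {u}) :
    ∀ (k : ℕ) (g : V →ₗ[F] V), (∀ x, Q (g x) = Q x) →
      finrank F V - finrank F ↥(LinearMap.ker (g - LinearMap.id)) = k → IsReflProd Q g := by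
  intro k
  induction k using Nat.strong_induction_on with
  | _ k ih =>
  intro g hg hk
  have step : ∀ (r g' : V →ₗ[F] V), IsReflProd Q r → g = r * g' → (∀ x, Q (g' x) = Q x) →
      (∀ y, g y = y → g' y = y) → (∃ x, g' x = x ∧ g x ≠ x) → IsReflProd Q g := by
    intro r g' hr hgr hg' hfix ⟨x, hx1, hx2⟩
    have hlt : LinearMap.ker (g - LinearMap.id) < LinearMap.ker (g' - LinearMap.id) := by
      rw [SetLike.lt_iff_le_and_exists]
      refine ⟨fun y hy => ?_, x, ?_, ?_⟩
      · rw [LinearMap.mem_ker, LinearMap.sub_apply, LinearMap.id_apply, sub_eq_zero] at hy ⊢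
        exact hfix y hy
      · rw [LinearMap.mem_ker, LinearMap.sub_apply, LinearMap.id_apply, sub_eq_zero]
        exact hx1
      · rw [LinearMap.mem_ker, LinearMap.sub_apply, LinearMap.id_apply, sub_eq_zero]
        exact hx2
    have h1 := Submodule.finrank_lt_finrank_of_lt hlt
    have h2 := Submodule.finrank_le (LinearMap.ker (g' - LinearMap.id))
    have h3 := ih (finrank F V - finrank F ↥(LinearMap.ker (g' - LinearMap.id))) (by omega) g' hg'
      rfl
    rw [hgr]
    exact hr.mul h3
  by_cases hI : ∃ x, Q (g x - x) ≠ 0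
  · obtain ⟨x, hx⟩ := hI
    apply step (qRefl Q (g x - x)) (qRefl Q (g x - x) * g) (isReflProd_qRefl Q _ hx)
    · apply LinearMap.ext
      intro y
      rw [Module.End.mul_apply, Module.End.mul_apply, qRefl_qRefl Q _ hx]
    · intro y
      rw [Module.End.mul_apply, quad_qRefl Q _ hx, hg]
    · intro y hy
      rw [Module.End.mul_apply, hy]
      exact qRefl_of_ortho Q _ y (qr_polar_sub_fixed Q g hg x y hy)
    · refine ⟨x, ?_, ?_⟩
      · rw [Module.End.mul_apply]
        exact qRefl_sub_apply Q g hg x hx
      · intro hgx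
        apply hx
        rw [hgx, sub_self, map_zero]
  · push Not at hI
    by_cases h1 : g = 1
    · rw [h1]
      exact isReflProd_one Q
    · exfalso
      have hex : ∃ x₁, g x₁ ≠ x₁ := by
        by_contra hcon
        push Not at hcon
        apply h1
        apply LinearMap.ext
        intro x
        rw [hcon x]
        rfl
      obtain ⟨x₁, hx₁⟩ := hex
      have h2F : (2 : F) = 0 := CharTwo.two_eq_zero
      have hb : ∀ x y, QuadraticMap.polarBilin Q (g x - x) (g y - y) = 0 := by
        intro x y
        rw [QuadraticMap.polarBilin_apply_apply, QuadraticMap.polar]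
        have e : g x - x + (g y - y) = g (x + y) - (x + y) := by
          rw [map_add]
          abel
        rw [e, hI, hI, hI]
        ring
      have hc : ∀ x, QuadraticMap.polarBilin Q x (g x - x) = 0 := by
        intro x
        have h3 := hg x
        have e : g x = x + (g x - x) := by abel
        rw [e, qr_quad_add, hI] at h3
        linear_combination h3
      have hd : ∀ x y, QuadraticMap.polarBilin Q x (g y - y)
          + QuadraticMap.polarBilin Q y (g x - x) = 0 := by
        intro x y
        have h3 := hc (x + y)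
        have e : g (x + y) - (x + y) = (g x - x) + (g y - y) := by
          rw [map_add]
          abel
        rw [e] at h3
        simp only [map_add, LinearMap.add_apply] at h3
        rw [hc x, hc y] at h3
        linear_combination h3
      obtain ⟨u₁, hu₁⟩ : ∃ u₁, u₁ = g x₁ - x₁ := ⟨_, rfl⟩
      have hu₁0 : u₁ ≠ 0 := by
        rw [hu₁]
        exact sub_ne_zero.mpr hx₁
      obtain ⟨x₂', hx₂'⟩ : ∃ x₂, QuadraticMap.polarBilin Q u₁ x₂ ≠ 0 := by
        by_contra hcon
        push Not at hcon
        exact hu₁0 (hQ.1 u₁ hcon)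
      obtain ⟨x₂, hx₂⟩ : ∃ x₂, QuadraticMap.polarBilin Q u₁ x₂ = 1 :=
        ⟨(QuadraticMap.polarBilin Q u₁ x₂')⁻¹ • x₂', by
          rw [map_smul, smul_eq_mul, inv_mul_cancel₀ hx₂']⟩
      obtain ⟨u₂, hu₂⟩ : ∃ u₂, u₂ = g x₂ - x₂ := ⟨_, rfl⟩
      have hQu₁ : Q u₁ = 0 := by rw [hu₁]; exact hI x₁
      have hQu₂ : Q u₂ = 0 := by rw [hu₂]; exact hI x₂
      have h12 : QuadraticMap.polarBilin Q u₁ u₂ = 0 := by rw [hu₁, hu₂]; exact hb x₁ x₂
      have hx1u1 : QuadraticMap.polarBilin Q x₁ u₁ = 0 := by rw [hu₁]; exact hc x₁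
      have hx1u2 : QuadraticMap.polarBilin Q x₁ u₂ = 1 := by
        have h3 := hd x₁ x₂
        rw [← hu₁, ← hu₂, qr_polar_comm Q x₂ u₁, hx₂] at h3
        linear_combination h3 - h2F
      have hu₂span : u₂ ∉ Submodule.span F {u₁} := by
        intro hmem
        obtain ⟨c, hc'⟩ := Submodule.mem_span_singleton.mp hmem
        rw [← hc', map_smul, hx1u1, smul_zero] at hx1u2
        exact zero_ne_one hx1u2
      exact hu₂span (hts u₁ u₂ hQu₁ hQu₂ h12 hu₁0)

theorem isReflProd_noTS [CharP F 2] [FiniteDimensional F V] (Q : QuadraticForm F V)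
    (hQ : (QuadraticMap.polarBilin Q).Nondegenerate)
    (hts : ∀ u z : V, Q u = 0 → Q z = 0 → QuadraticMap.polarBilin Q u z = 0 → u ≠ 0 →
      z ∈ Submodule.span F {u}) (g : V →ₗ[F] V)
    (hg : ∀ x, Q (g x) = Q x) : IsReflProd Q g :=
  isReflProd_noTS_aux Q hQ hts _ g hg rfl

end Abstract

section Concrete

open Matrix Cfsg.Agent.Helper44

variable {F : Type*} [Field F] {ι : Type} [Fintype ι] [DecidableEq ι]
variable (Q : QuadraticForm F (ι → F))

/-- every isometry is a product of reflections, when there is no totally singular plane -/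
theorem exists_list_reflT_noTS [CharP F 2] (hQ : (QuadraticMap.polarBilin Q).Nondegenerate)
    (hts : ∀ u z : ι → F, Q u = 0 → Q z = 0 → QuadraticMap.polarBilin Q u z = 0 → u ≠ 0 →
      z ∈ Submodule.span F {u}) (g : Cfsg.isometryGroup F ⇑Q) :
    ∃ vs : List (ι → F), (∀ x ∈ vs, Q x ≠ 0) ∧ g = (vs.map (reflT Q)).prod := by
  obtain ⟨ws, hws⟩ := isReflProd_noTS Q hQ hts
    ((g.1 : Matrix ι ι F)).mulVecLin
    (fun x => by rw [Matrix.mulVecLin_apply]; exact isometryGroup_apply g x)
  refine ⟨ws.map Subtype.val, ?_, ?_⟩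
  · intro x hx
    obtain ⟨w, _, rfl⟩ := List.mem_map.1 hx
    exact w.2
  · apply isometryGroup_ext
    intro x
    have h1 := mulVecLin_prod_reflT Q ws
    rw [← hws] at h1
    have h2 := congrArg (fun f : (ι → F) →ₗ[F] (ι → F) => f x) h1
    simp only [Matrix.mulVecLin_apply] at h2
    rw [List.map_map]
    exact h2.symm

/-- `Ω` is contained in the subgroup generated by products of two reflections, when reflections
generate the isometry group -/
theorem Omega_le_closure_pairs_of_gen
    (hgen : ∀ g : Cfsg.isometryGroup F ⇑Q,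
      ∃ vs : List (ι → F), (∀ x ∈ vs, Q x ≠ 0) ∧ g = (vs.map (reflT Q)).prod) :
    Cfsg.Omega F ⇑Q ≤ Subgroup.closure (reflPairs Q) := by
  show commutator (Cfsg.isometryGroup F ⇑Q) ≤ _
  rw [commutator_def, Subgroup.commutator_le]
  intro g₁ _ g₂ _
  obtain ⟨vs₁, hvs₁, rfl⟩ := hgen g₁
  obtain ⟨vs₂, hvs₂, rfl⟩ := hgen g₂
  rw [commutatorElement_def, prod_reflT_inv, prod_reflT_inv, ← List.prod_append, ← List.prod_append,
    ← List.prod_append, ← List.map_append, ← List.map_append, ← List.map_append]
  apply prod_reflT_mem_closure_pairs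
  · intro x hx
    simp only [List.mem_append, List.mem_reverse] at hx
    rcases hx with ((hx | hx) | hx) | hx
    · exact hvs₁ x hx
    · exact hvs₂ x hx
    · exact hvs₁ x hx
    · exact hvs₂ x hx
  · simp only [List.length_append, List.length_reverse]
    exact ⟨vs₁.length + vs₂.length, by ring⟩

end Concrete

end Cfsg.Agent.Helper93.H1
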