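import Cfsg.Agent.Helper93.H1B
import Cfsg.Agent.Helper93.H1E
import Cfsg.Agent.Helper44.StdForms
import Cfsg.Agent.Helper44.StdNondeg

/-!
# First cohomology of `Ω₄⁻(2)` on its natural module

`Ω₄⁻(2)` contains an involution `a` and an element `b` of order three with `(ab)⁵ = 1`; the
relations force a crossed homomorphism to agree on `a` and `b` with a principal one, and the
conjugates of the pair of transvections defining `a` relate all non-singular vectors.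
-/

set_option autoImplicit false
set_option linter.unusedSectionVars false

namespace Cfsg.Agent.Helper93.H1

open Matrix Cfsg.Agent.Helper44

/-- index type of the 4-dimensional space -/
abbrev I4 : Type := (Fin 1 ⊕ Fin 1) ⊕ Fin 2

/-- numbering of the coordinates -/
def e4 : I4 → Fin 4 := Sum.elim (Sum.elim ![0] ![1]) ![2, 3]

/-- a vector from its four coordinates -/
def v4 (t : Fin 4 → ZMod 2) : I4 → ZMod 2 := fun i => t (e4 i)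

/-- a matrix from its table -/
def t4 (t : Matrix (Fin 4) (Fin 4) (ZMod 2)) : Matrix I4 I4 (ZMod 2) :=
  Matrix.of fun i j => t (e4 i) (e4 j)

/-- the elliptic form in dimension four -/
noncomputable abbrev Q4 : QuadraticForm (ZMod 2) (I4 → ZMod 2) := minusForm 1 (ZMod 2) 1 1

theorem Q4_apply (x : I4 → ZMod 2) : Q4 x = quadFormMinus 1 (ZMod 2) 1 1 x := rfl

theorem nondeg4 : (QuadraticMap.polarBilin Q4).Nondegenerate :=
  nondegenerate_minusForm 1 1 1 (by decide)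

set_option synthInstance.maxHeartbeats 400000 in
set_option synthInstance.maxSize 1024 in
theorem noTS4 : ∀ u z : I4 → ZMod 2, quadFormMinus 1 (ZMod 2) 1 1 u = 0 →
    quadFormMinus 1 (ZMod 2) 1 1 z = 0 →
    QuadraticMap.polar (quadFormMinus 1 (ZMod 2) 1 1) u z = 0 → u = 0 ∨ z = 0 ∨ z = u := by
  decide +kernel

theorem hgen4 : Cfsg.Omega (ZMod 2) ⇑Q4 ≤ Subgroup.closure (reflPairs Q4) := by
  apply Omega_le_closure_pairs_of_gen
  apply exists_list_reflT_noTS Q4 nondeg4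
  intro u z hu hz huz hu0
  rw [QuadraticMap.polarBilin_apply_apply] at huz
  rcases noTS4 u z hu hz huz with h | h | h
  · exact absurd h hu0
  · rw [h]; exact Submodule.zero_mem _
  · rw [h]; exact Submodule.subset_span rfl

/-! ### the two generators -/

theorem Qw1 : Q4 (v4 ![0, 0, 0, 1]) ≠ 0 := by
  rw [Q4_apply]; decide +kernel

theorem Qw2 : Q4 (v4 ![0, 1, 0, 1]) ≠ 0 := by
  rw [Q4_apply]; decide +kernel

theorem Qw3 : Q4 (v4 ![0, 0, 1, 0]) ≠ 0 := by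
  rw [Q4_apply]; decide +kernel

theorem Qw4 : Q4 (v4 ![1, 0, 0, 1]) ≠ 0 := by
  rw [Q4_apply]; decide +kernel

theorem a4_mem : refl Q4 (v4 ![0, 0, 0, 1]) Qw1 * refl Q4 (v4 ![0, 1, 0, 1]) Qw2
    ∈ Cfsg.Omega (ZMod 2) ⇑Q4 := by
  have e : refl Q4 (v4 ![0, 0, 0, 1]) Qw1 * refl Q4 (v4 ![0, 1, 0, 1]) Qw2
      = (refl Q4 (v4 ![0, 0, 0, 1]) Qw1 * refl Q4 (v4 ![0, 0, 1, 0]) Qw3)
        * (refl Q4 (v4 ![0, 0, 1, 0]) Qw3 * refl Q4 (v4 ![0, 1, 0, 1]) Qw2) := by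
    rw [mul_assoc, ← mul_assoc (refl Q4 (v4 ![0, 0, 1, 0]) Qw3), refl_mul_self, one_mul]
  rw [e]
  refine Subgroup.mul_mem _ (refl_mul_refl_mem_Omega_two_aux Q4 _ _ Qw1 Qw3 ?_ ?_)
    (refl_mul_refl_mem_Omega_two_aux Q4 _ _ Qw3 Qw2 ?_ ?_)
  · rw [Q4_apply, Q4_apply]; decide +kernel
  · show QuadraticMap.polar (quadFormMinus 1 (ZMod 2) 1 1) _ _ ≠ 0
    decide +kernel
  · rw [Q4_apply, Q4_apply]; decide +kernel
  · show QuadraticMap.polar (quadFormMinus 1 (ZMod 2) 1 1) _ _ ≠ 0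
    decide +kernel

theorem b4_mem : refl Q4 (v4 ![0, 0, 1, 0]) Qw3 * refl Q4 (v4 ![1, 0, 0, 1]) Qw4
    ∈ Cfsg.Omega (ZMod 2) ⇑Q4 := by
  refine refl_mul_refl_mem_Omega_two_aux Q4 _ _ Qw3 Qw4 ?_ ?_
  · rw [Q4_apply, Q4_apply]; decide +kernel
  · show QuadraticMap.polar (quadFormMinus 1 (ZMod 2) 1 1) _ _ ≠ 0
    decide +kernel

/-- an involution in `Ω₄⁻(2)` -/
noncomputable def a4 : ↥(Cfsg.Omega (ZMod 2) ⇑Q4) :=
  ⟨refl Q4 (v4 ![0, 0, 0, 1]) Qw1 * refl Q4 (v4 ![0, 1, 0, 1]) Qw2, a4_mem⟩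

/-- an element of order three in `Ω₄⁻(2)` -/
noncomputable def b4 : ↥(Cfsg.Omega (ZMod 2) ⇑Q4) :=
  ⟨refl Q4 (v4 ![0, 0, 1, 0]) Qw3 * refl Q4 (v4 ![1, 0, 0, 1]) Qw4, b4_mem⟩

/-- the matrix of `a4` -/
def A4 : Matrix I4 I4 (ZMod 2) :=
  t4 !![1, 0, 0, 0;
    1, 1, 1, 0;
    0, 0, 1, 0;
    1, 0, 0, 1]

/-- the matrix of `b4` -/
def B4 : Matrix I4 I4 (ZMod 2) :=
  t4 !![1, 1, 1, 0;
    0, 1, 0, 0;
    0, 1, 0, 1;
    0, 1, 1, 1]

theorem act_two : ∀ (w w' : I4 → ZMod 2) (M : Matrix I4 I4 (ZMod 2)) (hw : Q4 w ≠ 0)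
    (hw' : Q4 w' ≠ 0),
    (∀ x : I4 → ZMod 2,
      (x + QuadraticMap.polar (quadFormMinus 1 (ZMod 2) 1 1) w' x • w')
        + QuadraticMap.polar (quadFormMinus 1 (ZMod 2) 1 1) w
          (x + QuadraticMap.polar (quadFormMinus 1 (ZMod 2) 1 1) w' x • w') • w = M *ᵥ x) →
    (((refl Q4 w hw * refl Q4 w' hw').1 : GL I4 (ZMod 2)) : Matrix I4 I4 (ZMod 2)) = M := by
  intro w w' M hw hw' h
  apply Matrix.mulVec_injective
  funext x
  rw [isometryGroup_mul_mulVec, refl_act, refl_act]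
  exact h x

theorem mat_a4 : mat Q4 a4 = A4 := by
  apply act_two
  decide +kernel

theorem mat_b4 : mat Q4 b4 = B4 := by
  apply act_two
  decide +kernel

theorem A4_sq : A4 * A4 = 1 := by decide

theorem B4_cube : B4 * (B4 * B4) = 1 := by decide

theorem C4_five : A4 * B4 * (A4 * B4 * (A4 * B4 * (A4 * B4 * (A4 * B4)))) = 1 := by decide

set_option synthInstance.maxHeartbeats 400000 in
set_option synthInstance.maxSize 1024 in
theorem brute4 : ∀ p q : I4 → ZMod 2, p + A4 *ᵥ p = 0 → q + B4 *ᵥ (q + B4 *ᵥ q) = 0 →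
    (p + A4 *ᵥ q) + (A4 * B4) *ᵥ ((p + A4 *ᵥ q) + (A4 * B4) *ᵥ ((p + A4 *ᵥ q)
      + (A4 * B4) *ᵥ ((p + A4 *ᵥ q) + (A4 * B4) *ᵥ (p + A4 *ᵥ q)))) = 0 →
    ∃ u : I4 → ZMod 2, A4 *ᵥ u + p = u ∧ B4 *ᵥ u + q = u := by
  decide +kernel

variable {f : ↥(Cfsg.Omega (ZMod 2) ⇑Q4) → (I4 → ZMod 2)}

/-- the relations of `a4` and `b4` give a common fixed point -/
theorem cocycle4 (hf : IsCross Q4 f) : ∃ u, aff f a4 u = u ∧ aff f b4 u = u := by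
  have hA : mat Q4 a4 = A4 := mat_a4
  have hB : mat Q4 b4 = B4 := mat_b4
  have haa : a4 * a4 = 1 := by
    apply mat_injective
    rw [mat_mul, hA, mat_one]
    exact A4_sq
  have hbbb : b4 * (b4 * b4) = 1 := by
    apply mat_injective
    rw [mat_mul, mat_mul, hB, mat_one]
    exact B4_cube
  have hc5 : a4 * b4 * (a4 * b4 * (a4 * b4 * (a4 * b4 * (a4 * b4)))) = 1 := by
    apply mat_injective
    simp only [mat_mul, hA, hB, mat_one]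
    exact C4_five
  have e1 : f a4 + A4 *ᵥ f a4 = 0 := by
    have h := hf a4 a4
    rw [haa, f_one hf, hA] at h
    exact h.symm
  have e2 : f b4 + B4 *ᵥ (f b4 + B4 *ᵥ f b4) = 0 := by
    have h := hf b4 (b4 * b4)
    rw [hbbb, f_one hf, hf b4 b4, hB] at h
    exact h.symm
  have hc : f (a4 * b4) = f a4 + A4 *ᵥ f b4 := by rw [hf a4 b4, hA]
  have hC : mat Q4 (a4 * b4) = A4 * B4 := by rw [mat_mul, hA, hB]
  have e3 : (f a4 + A4 *ᵥ f b4) + (A4 * B4) *ᵥ ((f a4 + A4 *ᵥ f b4)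
      + (A4 * B4) *ᵥ ((f a4 + A4 *ᵥ f b4)
      + (A4 * B4) *ᵥ ((f a4 + A4 *ᵥ f b4) + (A4 * B4) *ᵥ (f a4 + A4 *ᵥ f b4)))) = 0 := by
    have h := hf (a4 * b4) (a4 * b4 * (a4 * b4 * (a4 * b4 * (a4 * b4))))
    rw [hc5, f_one hf, hf (a4 * b4) (a4 * b4 * (a4 * b4 * (a4 * b4))),
      hf (a4 * b4) (a4 * b4 * (a4 * b4)), hf (a4 * b4) (a4 * b4), hC, hc] at h
    exact h.symm
  obtain ⟨u, hu1, hu2⟩ := brute4 (f a4) (f b4) e1 e2 e3
  refine ⟨u, ?_, ?_⟩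
  · unfold aff
    rw [hA]
    exact hu1
  · unfold aff
    rw [hB]
    exact hu2

theorem rel_cast (hf : IsCross Q4 f) {u x y x' y' : I4 → ZMod 2} (h : Rel hf u x y)
    (hx : x = x') (hy : y = y') : Rel hf u x' y' := by
  subst hx
  subst hy
  exact h

theorem seed4 (hf : IsCross Q4 f) (u : I4 → ZMod 2) (ha : aff f a4 u = u) :
    Rel hf u (v4 ![0, 0, 0, 1]) (v4 ![0, 1, 0, 1]) :=
  ⟨Qw1, Qw2, (mem_fixer_iff hf u a4).2 ha⟩

theorem conjA4 (hf : IsCross Q4 f) (u : I4 → ZMod 2) (ha : aff f a4 u = u)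
    {x y : I4 → ZMod 2} (h : Rel hf u x y) : Rel hf u (A4 *ᵥ x) (A4 *ᵥ y) := by
  have h1 := rel_conj hf a4.1 ((mem_fixer_iff hf u a4).2 ha) h
  rw [show ((a4.1).1 : Matrix I4 I4 (ZMod 2)) = A4 from mat_a4] at h1
  exact h1

theorem conjB4 (hf : IsCross Q4 f) (u : I4 → ZMod 2) (hb : aff f b4 u = u)
    {x y : I4 → ZMod 2} (h : Rel hf u x y) : Rel hf u (B4 *ᵥ x) (B4 *ᵥ y) := by
  have h1 := rel_conj hf b4.1 ((mem_fixer_iff hf u b4).2 hb) h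
  rw [show ((b4.1).1 : Matrix I4 I4 (ZMod 2)) = B4 from mat_b4] at h1
  exact h1

theorem nonsing4 : ∀ w : I4 → ZMod 2, quadFormMinus 1 (ZMod 2) 1 1 w ≠ 0 →
    w = v4 ![0, 0, 0, 1] ∨
    w = v4 ![0, 1, 0, 1] ∨
    w = v4 ![1, 0, 1, 1] ∨
    w = v4 ![1, 0, 1, 0] ∨
    w = v4 ![0, 0, 1, 1] ∨
    w = v4 ![0, 1, 1, 1] ∨
    w = v4 ![1, 1, 0, 0] ∨
    w = v4 ![1, 0, 0, 1] ∨
    w = v4 ![0, 0, 1, 0] ∨
    w = v4 ![0, 1, 1, 0] := by
  decide +kernel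

theorem hall4 (hf : IsCross Q4 f) (u : I4 → ZMod 2) (ha : aff f a4 u = u)
    (hb : aff f b4 u = u) : ∀ w, Q4 w ≠ 0 → Rel hf u (v4 ![0, 0, 0, 1]) w := by
  have s0 : Rel hf u (v4 ![0, 0, 0, 1]) (v4 ![0, 1, 0, 1]) := seed4 hf u ha
  have s1 : Rel hf u (v4 ![0, 0, 1, 1]) (v4 ![1, 1, 0, 0]) :=
    rel_cast hf (conjB4 hf u hb s0) (by decide) (by decide)
  have s2 : Rel hf u (v4 ![0, 1, 1, 1]) (v4 ![1, 0, 0, 1]) :=
    rel_cast hf (conjA4 hf u ha s1) (by decide) (by decide)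
  have s3 : Rel hf u (v4 ![1, 0, 1, 0]) (v4 ![0, 1, 1, 1]) :=
    rel_cast hf (conjB4 hf u hb s1) (by decide) (by decide)
  have s4 : Rel hf u (v4 ![0, 1, 0, 1]) (v4 ![1, 0, 1, 1]) :=
    rel_cast hf (conjB4 hf u hb s2) (by decide) (by decide)
  have s5 : Rel hf u (v4 ![1, 0, 1, 1]) (v4 ![0, 0, 1, 1]) :=
    rel_cast hf (conjA4 hf u ha s3) (by decide) (by decide)
  have s6 : Rel hf u (v4 ![0, 1, 0, 1]) (v4 ![1, 0, 1, 0]) :=
    rel_cast hf (conjA4 hf u ha s4) (by decide) (by decide)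
  have s7 : Rel hf u (v4 ![1, 1, 0, 0]) (v4 ![0, 0, 1, 0]) :=
    rel_cast hf (conjB4 hf u hb s4) (by decide) (by decide)
  have s8 : Rel hf u (v4 ![1, 0, 0, 1]) (v4 ![0, 1, 1, 0]) :=
    rel_cast hf (conjA4 hf u ha s7) (by decide) (by decide)
  have c1 : Rel hf u (v4 ![0, 0, 0, 1]) (v4 ![0, 1, 0, 1]) := s0
  have c2 : Rel hf u (v4 ![0, 0, 0, 1]) (v4 ![1, 0, 1, 1]) := rel_trans hf c1 s4
  have c3 : Rel hf u (v4 ![0, 0, 0, 1]) (v4 ![1, 0, 1, 0]) := rel_trans hf c1 s6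
  have c4 : Rel hf u (v4 ![0, 0, 0, 1]) (v4 ![0, 0, 1, 1]) := rel_trans hf c2 s5
  have c5 : Rel hf u (v4 ![0, 0, 0, 1]) (v4 ![0, 1, 1, 1]) := rel_trans hf c3 s3
  have c6 : Rel hf u (v4 ![0, 0, 0, 1]) (v4 ![1, 1, 0, 0]) := rel_trans hf c4 s1
  have c7 : Rel hf u (v4 ![0, 0, 0, 1]) (v4 ![1, 0, 0, 1]) := rel_trans hf c5 s2
  have c8 : Rel hf u (v4 ![0, 0, 0, 1]) (v4 ![0, 0, 1, 0]) := rel_trans hf c6 s7
  have c9 : Rel hf u (v4 ![0, 0, 0, 1]) (v4 ![0, 1, 1, 0]) := rel_trans hf c7 s8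
  intro w hw
  rcases nonsing4 w hw with h | h | h | h | h | h | h | h | h | h
  · rw [h]; exact rel_self hf u Qw1
  · rw [h]; exact c1
  · rw [h]; exact c2
  · rw [h]; exact c3
  · rw [h]; exact c4
  · rw [h]; exact c5
  · rw [h]; exact c6
  · rw [h]; exact c7
  · rw [h]; exact c8
  · rw [h]; exact c9

/-- vanishing of the first cohomology of `Ω₄⁻(2)` on its natural module -/
theorem h1_minus4 (f : ↥(Cfsg.Omega (ZMod 2) ⇑Q4) → (I4 → ZMod 2)) (hf : IsCross Q4 f) :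
    ∃ v, ∀ g : ↥(Cfsg.Omega (ZMod 2) ⇑Q4), f g = mat Q4 g *ᵥ v - v := by
  obtain ⟨u, ha, hb⟩ := cocycle4 hf
  exact ⟨u, principal_of_rel hf u hgen4 _ (hall4 hf u ha hb)⟩

end Cfsg.Agent.Helper93.H1
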