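/-
Helper93: the projective plane of order 4 as an abstract Steiner system S(2,5,21): basic facts.
-/
import Mathlib
import Cfsg.Prelude.Def_Sporadic_a
import Cfsg.Agent.Helper26.Steiner

set_option autoImplicit false
set_option linter.unusedSectionVars false

namespace Cfsg.Agent.Helper93.PP4

open Finset

variable {α : Type*} [Fintype α] [DecidableEq α]

/-- hypotheses: a Steiner system `S(2,5,21)` -/
structure IsPP4 (L : Set (Finset α)) : Prop where
  card : Fintype.card α = 21
  st : Cfsg.IsSteinerSystem 2 5 L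

variable {L : Set (Finset α)}

theorem IsPP4.card_line (h : IsPP4 L) {l : Finset α} (hl : l ∈ L) : l.card = 5 := h.st.1 l hl

theorem IsPP4.exists_line (h : IsPP4 L) {a b : α} (hab : a ≠ b) :
    ∃ l, l ∈ L ∧ a ∈ l ∧ b ∈ l := by
  obtain ⟨l, ⟨hl, hs⟩, _⟩ := h.st.2 {a, b} (Finset.card_pair hab)
  exact ⟨l, hl, hs (by simp), hs (by simp)⟩

theorem IsPP4.line_unique (h : IsPP4 L) {a b : α} (hab : a ≠ b) {l m : Finset α} (hl : l ∈ L)
    (hm : m ∈ L) (hal : a ∈ l) (hbl : b ∈ l) (ham : a ∈ m) (hbm : b ∈ m) : l = m := by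
  obtain ⟨k, _, hk⟩ := h.st.2 {a, b} (Finset.card_pair hab)
  have h1 : ({a, b} : Finset α) ⊆ l := by
    intro x hx
    rcases Finset.mem_insert.mp hx with rfl | hx
    · exact hal
    · rw [Finset.mem_singleton.mp hx]; exact hbl
  have h2 : ({a, b} : Finset α) ⊆ m := by
    intro x hx
    rcases Finset.mem_insert.mp hx with rfl | hx
    · exact ham
    · rw [Finset.mem_singleton.mp hx]; exact hbm
  rw [hk l ⟨hl, h1⟩, hk m ⟨hm, h2⟩]

/-- two points on two different lines coincide -/
theorem IsPP4.point_unique (h : IsPP4 L) {l m : Finset α} (hl : l ∈ L) (hm : m ∈ L) (hlm : l ≠ m)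
    {a b : α} (hal : a ∈ l) (ham : a ∈ m) (hbl : b ∈ l) (hbm : b ∈ m) : a = b := by
  by_contra hab
  exact hlm (h.line_unique hab hl hm hal hbl ham hbm)

open Classical in
/-- the line through two points (junk when the points coincide or there is no line) -/
noncomputable def ln (L : Set (Finset α)) (a b : α) : Finset α :=
  if h : ∃ l, l ∈ L ∧ a ∈ l ∧ b ∈ l then h.choose else ∅

theorem IsPP4.ln_spec (h : IsPP4 L) {a b : α} (hab : a ≠ b) :
    ln L a b ∈ L ∧ a ∈ ln L a b ∧ b ∈ ln L a b := by
  unfold ln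
  rw [dif_pos (h.exists_line hab)]
  exact (h.exists_line hab).choose_spec

theorem IsPP4.ln_mem (h : IsPP4 L) {a b : α} (hab : a ≠ b) : ln L a b ∈ L := (h.ln_spec hab).1
theorem IsPP4.left_mem (h : IsPP4 L) {a b : α} (hab : a ≠ b) : a ∈ ln L a b := (h.ln_spec hab).2.1
theorem IsPP4.right_mem (h : IsPP4 L) {a b : α} (hab : a ≠ b) : b ∈ ln L a b := (h.ln_spec hab).2.2

theorem IsPP4.eq_ln (h : IsPP4 L) {a b : α} (hab : a ≠ b) {l : Finset α} (hl : l ∈ L) (ha : a ∈ l)
    (hb : b ∈ l) : l = ln L a b :=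
  h.line_unique hab hl (h.ln_mem hab) ha hb (h.left_mem hab) (h.right_mem hab)

theorem IsPP4.ln_comm (h : IsPP4 L) {a b : α} (hab : a ≠ b) : ln L a b = ln L b a :=
  h.eq_ln hab.symm (h.ln_mem hab) (h.right_mem hab) (h.left_mem hab)

/-- a third point of a line determines the same line -/
theorem IsPP4.ln_eq_of_mem (h : IsPP4 L) {a b c : α} (hab : a ≠ b) (hac : a ≠ c)
    (hc : c ∈ ln L a b) : ln L a c = ln L a b :=
  (h.eq_ln hac (h.ln_mem hab) (h.left_mem hab) hc).symm

/-- five lines through every point -/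
theorem IsPP4.card_through (h : IsPP4 L) (p : α) : {l | l ∈ L ∧ p ∈ l}.ncard = 5 := by
  have h1 := Cfsg.Agent.Helper26.card_blocks_through h.st {p} (by simp)
  rw [h.card] at h1
  simp only [Finset.card_singleton, Finset.singleton_subset_iff] at h1
  norm_num at h1
  omega

/-- twenty-one lines -/
theorem IsPP4.card_lines (h : IsPP4 L) : L.ncard = 21 := by
  have h1 := Cfsg.Agent.Helper26.card_blocks h.st
  rw [h.card] at h1
  norm_num [Nat.choose] at h1
  omega

theorem IsPP4.finite_through (p : α) : {l | l ∈ L ∧ p ∈ l}.Finite := Set.toFinite _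

/-- the pencil map from the points of a line `m` to the lines through a point `p` off `m` is onto -/
theorem IsPP4.exists_meet (h : IsPP4 L) {l m : Finset α} (hl : l ∈ L) (hm : m ∈ L) :
    ∃ x, x ∈ l ∧ x ∈ m := by
  by_cases hsub : l ⊆ m
  · have hne : l.Nonempty := by
      rw [← Finset.card_pos, h.card_line hl]; norm_num
    obtain ⟨x, hx⟩ := hne
    exact ⟨x, hx, hsub hx⟩
  · obtain ⟨p, hpl, hpm⟩ := Finset.not_subset.mp hsub
    classical
    -- the image of m under x ↦ ln p x
    have hne : ∀ x ∈ m, p ≠ x := fun x hx hpx => hpm (hpx ▸ hx)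
    have hinj : Set.InjOn (fun x => ln L p x) (m : Set α) := by
      intro x hx y hy hxy
      by_contra hne'
      have hx' : x ∈ m := hx
      have hy' : y ∈ m := hy
      have h1 : ln L p x = m := by
        apply h.line_unique hne' (h.ln_mem (hne x hx')) hm (h.right_mem (hne x hx')) _ hx' hy'
        have : ln L p x = ln L p y := hxy
        rw [this]
        exact h.right_mem (hne y hy')
      exact hpm (h1 ▸ h.left_mem (hne x hx'))
    have hcard : (m.image fun x => ln L p x).card = 5 := by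
      rw [Finset.card_image_of_injOn hinj, h.card_line hm]
    have hsub' : ((m.image fun x => ln L p x : Finset (Finset α)) : Set (Finset α)) ⊆
        {l | l ∈ L ∧ p ∈ l} := by
      intro k hk
      rw [Finset.mem_coe, Finset.mem_image] at hk
      obtain ⟨x, hx, rfl⟩ := hk
      exact ⟨h.ln_mem (hne x hx), h.left_mem (hne x hx)⟩
    have heq := Set.eq_of_subset_of_ncard_le hsub'
      (by rw [h.card_through p, Set.ncard_coe_finset, hcard]) (Set.toFinite _)
    have hlmem : l ∈ ((m.image fun x => ln L p x : Finset (Finset α)) : Set (Finset α)) := by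
      rw [heq]; exact ⟨hl, hpl⟩
    rw [Finset.mem_coe, Finset.mem_image] at hlmem
    obtain ⟨x, hx, rfl⟩ := hlmem
    exact ⟨x, h.right_mem (hne x hx), hx⟩

/-! ### independent sets -/

/-- no line meets `S` in more than two points -/
def Ind (L : Set (Finset α)) (S : Finset α) : Prop := ∀ l ∈ L, (l ∩ S).card ≤ 2

theorem Ind.mono {S T : Finset α} (hS : Ind L S) (hTS : T ⊆ S) : Ind L T := fun l hl =>
  (Finset.card_le_card (Finset.inter_subset_inter_left hTS)).trans (hS l hl)

/-- three distinct points of an independent set are not collinear -/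
theorem Ind.not_mem_ln (h : IsPP4 L) {S : Finset α} (hS : Ind L S) {a b c : α} (ha : a ∈ S)
    (hb : b ∈ S) (hc : c ∈ S) (hab : a ≠ b) (hac : a ≠ c) (hbc : b ≠ c) : c ∉ ln L a b := by
  intro hcl
  have h1 := hS _ (h.ln_mem hab)
  have h2 : ({a, b, c} : Finset α) ⊆ ln L a b ∩ S := by
    intro x hx
    simp only [Finset.mem_insert, Finset.mem_singleton] at hx
    rcases hx with rfl | rfl | rfl
    · exact Finset.mem_inter.mpr ⟨h.left_mem hab, ha⟩
    · exact Finset.mem_inter.mpr ⟨h.right_mem hab, hb⟩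
    · exact Finset.mem_inter.mpr ⟨hcl, hc⟩
  have h3 : ({a, b, c} : Finset α).card = 3 := Finset.card_eq_three.mpr ⟨a, b, c, hab, hac, hbc, rfl⟩
  have := Finset.card_le_card h2
  omega

/-- independence = no three distinct collinear points -/
theorem ind_iff (h : IsPP4 L) (S : Finset α) :
    Ind L S ↔ ∀ a ∈ S, ∀ b ∈ S, ∀ c ∈ S, a ≠ b → a ≠ c → b ≠ c → c ∉ ln L a b := by
  constructor
  · intro hS a ha b hb c hc hab hac hbc
    exact hS.not_mem_ln h ha hb hc hab hac hbc
  · intro hS l hl
    by_contra hlt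
    rw [not_le] at hlt
    obtain ⟨a, b, c, ha, hb, hc, hab, hac, hbc⟩ := Finset.two_lt_card_iff.mp hlt
    rw [Finset.mem_inter] at ha hb hc
    have := h.eq_ln hab hl ha.1 hb.1
    exact hS a ha.2 b hb.2 c hc.2 hab hac hbc (this ▸ hc.1)

/-- a line through a point `x` off `Q` meets `insert x Q` in one more point than `Q` -/
theorem ind_insert_iff (h : IsPP4 L) {Q : Finset α} (hQ : Ind L Q) {x : α} (hx : x ∉ Q) :
    Ind L (insert x Q) ↔ ∀ a ∈ Q, ∀ b ∈ Q, a ≠ b → x ∉ ln L a b := by
  constructor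
  · intro hI a ha b hb hab
    have hax : a ≠ x := fun hax => hx (hax ▸ ha)
    have hbx : b ≠ x := fun hbx => hx (hbx ▸ hb)
    exact hI.not_mem_ln h (Finset.mem_insert_of_mem ha) (Finset.mem_insert_of_mem hb)
      (Finset.mem_insert_self x Q) hab hax hbx
  · intro hoff l hl
    by_cases hxl : x ∈ l
    · rw [Finset.inter_insert_of_mem hxl]
      have h1 : (l ∩ Q).card ≤ 1 := by
        by_contra hlt
        rw [not_le] at hlt
        obtain ⟨a, ha, b, hb, hab⟩ := Finset.one_lt_card.mp hlt
        rw [Finset.mem_inter] at ha hb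
        have := h.eq_ln hab hl ha.1 hb.1
        exact hoff a ha.2 b hb.2 hab (this ▸ hxl)
      exact (Finset.card_insert_le _ _).trans (by omega)
    · rw [Finset.inter_insert_of_notMem hxl]
      exact hQ l hl

end Cfsg.Agent.Helper93.PP4
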