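/-
Helper93: plane of order 4: a quadrangle lies in exactly one hyperoval.
-/
import Cfsg.Agent.Helper93.PP4Basic

set_option autoImplicit false
set_option linter.unusedSectionVars false

namespace Cfsg.Agent.Helper93.PP4

open Finset

variable {α : Type*} [Fintype α] [DecidableEq α] {L : Set (Finset α)}

/-- `x` lies on no secant of `Q` -/
def OffSec (L : Set (Finset α)) (Q : Finset α) (x : α) : Prop :=
  ∀ a ∈ Q, ∀ b ∈ Q, a ≠ b → x ∉ ln L a b

/-- `t` is a line through `p` meeting `Q` in `p` only -/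
def IsTangent (L : Set (Finset α)) (Q : Finset α) (p : α) (t : Finset α) : Prop :=
  t ∈ L ∧ p ∈ t ∧ ∀ y ∈ Q, y ∈ t → y = p

/-- explicit form: a tangent at a vertex of a quadrangle has exactly one point on no secant -/
theorem tangent_off (h : IsPP4 L) {p b c d : α} (hQ : Ind L {p, b, c, d})
    (hpb : p ≠ b) (hpc : p ≠ c) (hpd : p ≠ d) (hbc : b ≠ c) (hbd : b ≠ d) (hcd : c ≠ d)
    {t : Finset α} (ht : t ∈ L) (hpt : p ∈ t) (hbt : b ∉ t) (hct : c ∉ t) (hdt : d ∉ t) :
    ∃ e, e ∈ t ∧ e ≠ p ∧ e ∉ ln L b c ∧ e ∉ ln L b d ∧ e ∉ ln L c d ∧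
      ∀ x ∈ t, x ≠ p → x ∉ ln L b c → x ∉ ln L b d → x ∉ ln L c d → x = e := by
  have mp : p ∈ ({p, b, c, d} : Finset α) := by simp
  have mb : b ∈ ({p, b, c, d} : Finset α) := by simp
  have mc : c ∈ ({p, b, c, d} : Finset α) := by simp
  have md : d ∈ ({p, b, c, d} : Finset α) := by simp
  have p_bc : p ∉ ln L b c := hQ.not_mem_ln h mb mc mp hbc hpb.symm hpc.symm
  have p_bd : p ∉ ln L b d := hQ.not_mem_ln h mb md mp hbd hpb.symm hpd.symm
  have p_cd : p ∉ ln L c d := hQ.not_mem_ln h mc md mp hcd hpc.symm hpd.symm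
  have d_bc : d ∉ ln L b c := hQ.not_mem_ln h mb mc md hbc hbd hcd
  have c_bd : c ∉ ln L b d := hQ.not_mem_ln h mb md mc hbd hbc hcd.symm
  obtain ⟨w1, hw1t, hw1⟩ := h.exists_meet ht (h.ln_mem hbc)
  obtain ⟨w2, hw2t, hw2⟩ := h.exists_meet ht (h.ln_mem hbd)
  obtain ⟨w3, hw3t, hw3⟩ := h.exists_meet ht (h.ln_mem hcd)
  have t_bc : t ≠ ln L b c := fun hh => p_bc (hh ▸ hpt)
  have t_bd : t ≠ ln L b d := fun hh => p_bd (hh ▸ hpt)
  have t_cd : t ≠ ln L c d := fun hh => p_cd (hh ▸ hpt)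
  have bc_bd : ln L b c ≠ ln L b d := fun hh => d_bc (hh ▸ h.right_mem hbd)
  have bc_cd : ln L b c ≠ ln L c d := fun hh => d_bc (hh ▸ h.right_mem hcd)
  have bd_cd : ln L b d ≠ ln L c d := fun hh => c_bd (hh ▸ h.left_mem hcd)
  have w1p : w1 ≠ p := fun hh => p_bc (hh ▸ hw1)
  have w2p : w2 ≠ p := fun hh => p_bd (hh ▸ hw2)
  have w3p : w3 ≠ p := fun hh => p_cd (hh ▸ hw3)
  have w12 : w1 ≠ w2 := by
    intro hh
    have : w1 = b := h.point_unique (h.ln_mem hbc) (h.ln_mem hbd) bc_bd hw1 (hh ▸ hw2)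
      (h.left_mem hbc) (h.left_mem hbd)
    exact hbt (this ▸ hw1t)
  have w13 : w1 ≠ w3 := by
    intro hh
    have : w1 = c := h.point_unique (h.ln_mem hbc) (h.ln_mem hcd) bc_cd hw1 (hh ▸ hw3)
      (h.right_mem hbc) (h.left_mem hcd)
    exact hct (this ▸ hw1t)
  have w23 : w2 ≠ w3 := by
    intro hh
    have : w2 = d := h.point_unique (h.ln_mem hbd) (h.ln_mem hcd) bd_cd hw2 (hh ▸ hw3)
      (h.right_mem hbd) (h.right_mem hcd)
    exact hdt (this ▸ hw2t)
  have hsub : ({p, w1, w2, w3} : Finset α) ⊆ t := by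
    intro x hx
    simp only [Finset.mem_insert, Finset.mem_singleton] at hx
    rcases hx with rfl | rfl | rfl | rfl <;> assumption
  have hc4 : ({p, w1, w2, w3} : Finset α).card = 4 := by
    rw [Finset.card_insert_of_notMem, Finset.card_insert_of_notMem, Finset.card_pair w23]
    · simp only [Finset.mem_insert, Finset.mem_singleton, not_or]; exact ⟨w12, w13⟩
    · simp only [Finset.mem_insert, Finset.mem_singleton, not_or]
      exact ⟨w1p.symm, w2p.symm, w3p.symm⟩
  have hc1 : (t \ {p, w1, w2, w3}).card = 1 := by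
    rw [Finset.card_sdiff_of_subset hsub, h.card_line ht, hc4]
  obtain ⟨e, he⟩ := Finset.card_eq_one.mp hc1
  have hemem : e ∈ t \ {p, w1, w2, w3} := by rw [he]; exact Finset.mem_singleton_self e
  rw [Finset.mem_sdiff] at hemem
  simp only [Finset.mem_insert, Finset.mem_singleton, not_or] at hemem
  obtain ⟨het, hep, hew1, hew2, hew3⟩ := hemem
  refine ⟨e, het, hep, ?_, ?_, ?_, ?_⟩
  · intro hh; exact hew1 (h.point_unique ht (h.ln_mem hbc) t_bc het hh hw1t hw1)
  · intro hh; exact hew2 (h.point_unique ht (h.ln_mem hbd) t_bd het hh hw2t hw2)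
  · intro hh; exact hew3 (h.point_unique ht (h.ln_mem hcd) t_cd het hh hw3t hw3)
  · intro x hxt hxp hx1 hx2 hx3
    have hx : x ∈ t \ {p, w1, w2, w3} := by
      rw [Finset.mem_sdiff]
      refine ⟨hxt, ?_⟩
      simp only [Finset.mem_insert, Finset.mem_singleton, not_or]
      exact ⟨hxp, fun hh => hx1 (hh ▸ hw1), fun hh => hx2 (hh ▸ hw2), fun hh => hx3 (hh ▸ hw3)⟩
    rw [he] at hx
    exact Finset.mem_singleton.mp hx

theorem offSec_not_mem (h : IsPP4 L) {Q : Finset α} (hQ2 : 1 < Q.card) {x : α}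
    (hx : OffSec L Q x) : x ∉ Q := by
  intro hxQ
  obtain ⟨y, hy, hyx⟩ := Finset.exists_mem_ne hQ2 x
  exact hx x hxQ y hy hyx.symm (h.left_mem hyx.symm)

theorem offSec_inter_le_one (h : IsPP4 L) {Q : Finset α} {x : α} (hx : OffSec L Q x)
    {l : Finset α} (hl : l ∈ L) (hxl : x ∈ l) : (l ∩ Q).card ≤ 1 := by
  by_contra hlt
  rw [not_le] at hlt
  obtain ⟨a, ha, b, hb, hab⟩ := Finset.one_lt_card.mp hlt
  rw [Finset.mem_inter] at ha hb
  have := h.eq_ln hab hl ha.1 hb.1
  exact hx a ha.2 b hb.2 hab (this ▸ hxl)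

/-- a line through a vertex and an off-secant point is a tangent -/
theorem tangent_of_off (h : IsPP4 L) {Q : Finset α} {p x : α} (hp : p ∈ Q) (hx : OffSec L Q x)
    {l : Finset α} (hl : l ∈ L) (hpl : p ∈ l) (hxl : x ∈ l) : IsTangent L Q p l := by
  refine ⟨hl, hpl, fun y hy hyl => ?_⟩
  by_contra hyp
  have := h.eq_ln (Ne.symm hyp) hl hpl hyl
  exact hx p hp y hy (Ne.symm hyp) (this ▸ hxl)

/-- a tangent at a vertex of a quadrangle contains exactly one point on no secant -/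
theorem tangent_unique_off (h : IsPP4 L) {Q : Finset α} (hQ4 : Q.card = 4) (hQ : Ind L Q) {p : α}
    (hp : p ∈ Q) {t : Finset α} (ht : IsTangent L Q p t) :
    ∃ e, e ∈ t ∧ OffSec L Q e ∧ ∀ x ∈ t, OffSec L Q x → x = e := by
  have h3 : (Q.erase p).card = 3 := by rw [Finset.card_erase_of_mem hp, hQ4]
  obtain ⟨b, c, d, hbc, hbd, hcd, hbcd⟩ := Finset.card_eq_three.mp h3
  have hQeq : Q = {p, b, c, d} := by rw [← hbcd, Finset.insert_erase hp]
  have hb : b ∈ Q.erase p := by rw [hbcd]; simp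
  have hc : c ∈ Q.erase p := by rw [hbcd]; simp
  have hd : d ∈ Q.erase p := by rw [hbcd]; simp
  rw [Finset.mem_erase] at hb hc hd
  have hpb : p ≠ b := hb.1.symm
  have hpc : p ≠ c := hc.1.symm
  have hpd : p ≠ d := hd.1.symm
  obtain ⟨htL, hpt, htan⟩ := ht
  have hbt : b ∉ t := fun hh => hb.1 (htan b hb.2 hh)
  have hct : c ∉ t := fun hh => hc.1 (htan c hc.2 hh)
  have hdt : d ∉ t := fun hh => hd.1 (htan d hd.2 hh)
  obtain ⟨e, het, hep, e_bc, e_bd, e_cd, huniq⟩ :=
    tangent_off h (hQeq ▸ hQ) hpb hpc hpd hbc hbd hcd htL hpt hbt hct hdt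
  have pen : ∀ y, p ≠ y → y ∉ t → e ∉ ln L p y ∧ e ∉ ln L y p := by
    intro y hpy hyt
    have h1 : e ∉ ln L p y := by
      intro hh
      have hne : t ≠ ln L p y := fun h2 => hyt (h2 ▸ h.right_mem hpy)
      exact hep (h.point_unique htL (h.ln_mem hpy) hne het hh hpt (h.left_mem hpy))
    exact ⟨h1, by rw [← h.ln_comm hpy]; exact h1⟩
  have e_pb := (pen b hpb hbt).1
  have e_bp := (pen b hpb hbt).2
  have e_pc := (pen c hpc hct).1
  have e_cp := (pen c hpc hct).2
  have e_pd := (pen d hpd hdt).1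
  have e_dp := (pen d hpd hdt).2
  have e_cb : e ∉ ln L c b := by rw [← h.ln_comm hbc]; exact e_bc
  have e_db : e ∉ ln L d b := by rw [← h.ln_comm hbd]; exact e_bd
  have e_dc : e ∉ ln L d c := by rw [← h.ln_comm hcd]; exact e_cd
  refine ⟨e, het, ?_, ?_⟩
  · intro a' ha' b' hb' hab'
    rw [hQeq] at ha' hb'
    simp only [Finset.mem_insert, Finset.mem_singleton] at ha' hb'
    rcases ha' with rfl | rfl | rfl | rfl <;> rcases hb' with rfl | rfl | rfl | rfl <;>
      first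
      | exact absurd rfl hab'
      | assumption
  · intro x hxt hx
    apply huniq x hxt
    · intro hxp
      exact hx p hp b hb.2 hpb (by rw [hxp]; exact h.left_mem hpb)
    · exact hx b hb.2 c hc.2 hbc
    · exact hx b hb.2 d hd.2 hbd
    · exact hx c hc.2 d hd.2 hcd

/-- exactly two tangents at each vertex of a quadrangle -/
theorem exists_two_tangents (h : IsPP4 L) {Q : Finset α} (hQ4 : Q.card = 4) (hQ : Ind L Q) {p : α}
    (hp : p ∈ Q) :
    ∃ t1 t2, t1 ≠ t2 ∧ IsTangent L Q p t1 ∧ IsTangent L Q p t2 ∧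
      ∀ t, IsTangent L Q p t → t = t1 ∨ t = t2 := by
  classical
  have hfin : {l | l ∈ L ∧ p ∈ l}.Finite := Set.toFinite _
  have hTp : hfin.toFinset.card = 5 := by
    rw [← Set.ncard_eq_toFinset_card _ hfin]; exact h.card_through p
  have hinj : Set.InjOn (fun y => ln L p y) (Q.erase p : Set α) := by
    intro y hy z hz hyz
    by_contra hne
    rw [Finset.mem_coe, Finset.mem_erase] at hy hz
    have hz' : z ∈ ln L p y := by
      have : ln L p y = ln L p z := hyz
      rw [this]; exact h.right_mem hz.1.symm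
    exact hQ.not_mem_ln h hp hy.2 hz.2 hy.1.symm hz.1.symm hne hz'
  have hSc : ((Q.erase p).image fun y => ln L p y).card = 3 := by
    rw [Finset.card_image_of_injOn hinj, Finset.card_erase_of_mem hp, hQ4]
  have hSsub : ((Q.erase p).image fun y => ln L p y) ⊆ hfin.toFinset := by
    intro l hl
    rw [Finset.mem_image] at hl
    obtain ⟨y, hy, rfl⟩ := hl
    rw [Finset.mem_erase] at hy
    rw [Set.Finite.mem_toFinset]
    exact ⟨h.ln_mem hy.1.symm, h.left_mem hy.1.symm⟩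
  have h2 : (hfin.toFinset \ ((Q.erase p).image fun y => ln L p y)).card = 2 := by
    rw [Finset.card_sdiff_of_subset hSsub, hTp, hSc]
  have hiff : ∀ t, IsTangent L Q p t ↔
      t ∈ hfin.toFinset \ ((Q.erase p).image fun y => ln L p y) := by
    intro t
    rw [Finset.mem_sdiff, Set.Finite.mem_toFinset, Finset.mem_image]
    constructor
    · rintro ⟨htL, hpt, htan⟩
      refine ⟨⟨htL, hpt⟩, ?_⟩
      rintro ⟨y, hy, rfl⟩
      rw [Finset.mem_erase] at hy
      exact hy.1 (htan y hy.2 (h.right_mem hy.1.symm))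
    · rintro ⟨⟨htL, hpt⟩, hnot⟩
      refine ⟨htL, hpt, fun y hy hyt => ?_⟩
      by_contra hyp
      exact hnot ⟨y, Finset.mem_erase.mpr ⟨hyp, hy⟩, (h.eq_ln (Ne.symm hyp) htL hpt hyt).symm⟩
  obtain ⟨t1, t2, h12, hset⟩ := Finset.card_eq_two.mp h2
  refine ⟨t1, t2, h12, (hiff t1).mpr (by rw [hset]; simp), (hiff t2).mpr (by rw [hset]; simp), ?_⟩
  intro t ht
  have := (hiff t).mp ht
  rw [hset] at this
  simpa using this

/-- Claim A: the two points off the secants of a quadrangle complete it to a hyperoval -/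
theorem claimA (h : IsPP4 L) {Q : Finset α} (hQ4 : Q.card = 4) (hQ : Ind L Q) :
    ∃ e f, e ≠ f ∧ e ∉ Q ∧ f ∉ Q ∧ Ind L (insert e (insert f Q)) ∧
      ∀ x, x ∉ Q → Ind L (insert x Q) → x = e ∨ x = f := by
  have hQ2 : 1 < Q.card := by omega
  obtain ⟨p, hp⟩ : Q.Nonempty := by rw [← Finset.card_pos]; omega
  obtain ⟨t1, t2, h12, ht1, ht2, htan⟩ := exists_two_tangents h hQ4 hQ hp
  obtain ⟨e1, he1t, he1, hu1⟩ := tangent_unique_off h hQ4 hQ hp ht1
  obtain ⟨e2, he2t, he2, hu2⟩ := tangent_unique_off h hQ4 hQ hp ht2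
  have he1Q := offSec_not_mem h hQ2 he1
  have he2Q := offSec_not_mem h hQ2 he2
  have hne : e1 ≠ e2 := by
    intro hh
    have : e1 = p := h.point_unique ht1.1 ht2.1 h12 he1t (hh ▸ he2t) ht1.2.1 ht2.2.1
    exact he1Q (this ▸ hp)
  have hall : ∀ x, OffSec L Q x → x = e1 ∨ x = e2 := by
    intro x hx
    have hxQ := offSec_not_mem h hQ2 hx
    have hpx : p ≠ x := fun hh => hxQ (hh ▸ hp)
    have ht := tangent_of_off h hp hx (h.ln_mem hpx) (h.left_mem hpx) (h.right_mem hpx)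
    rcases htan _ ht with h1 | h2
    · exact Or.inl (hu1 x (h1 ▸ h.right_mem hpx) hx)
    · exact Or.inr (hu2 x (h2 ▸ h.right_mem hpx) hx)
  have hline : ∀ l ∈ L, e1 ∈ l → e2 ∈ l → l ∩ Q = ∅ := by
    intro l hl h1 h2
    rw [Finset.eq_empty_iff_forall_notMem]
    intro q hq
    rw [Finset.mem_inter] at hq
    have ht := tangent_of_off h hq.2 he1 hl hq.1 h1
    obtain ⟨e', _, _, hu'⟩ := tangent_unique_off h hQ4 hQ hq.2 ht
    exact hne ((hu' e1 h1 he1).trans (hu' e2 h2 he2).symm)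
  refine ⟨e1, e2, hne, he1Q, he2Q, ?_, ?_⟩
  · intro l hl
    by_cases h1 : e1 ∈ l <;> by_cases h2 : e2 ∈ l
    · rw [Finset.inter_insert_of_mem h1, Finset.inter_insert_of_mem h2, hline l hl h1 h2]
      exact Finset.card_le_two
    · rw [Finset.inter_insert_of_mem h1, Finset.inter_insert_of_notMem h2]
      have := offSec_inter_le_one h he1 hl h1
      exact (Finset.card_insert_le _ _).trans (by omega)
    · rw [Finset.inter_insert_of_notMem h1, Finset.inter_insert_of_mem h2]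
      have := offSec_inter_le_one h he2 hl h2
      exact (Finset.card_insert_le _ _).trans (by omega)
    · rw [Finset.inter_insert_of_notMem h1, Finset.inter_insert_of_notMem h2]
      exact hQ l hl
  · intro x hxQ hx
    exact hall x ((ind_insert_iff h hQ hxQ).mp hx)

/-- every quadrangle lies in exactly one hyperoval -/
theorem unique_hyperoval (h : IsPP4 L) {Q : Finset α} (hQ4 : Q.card = 4) (hQ : Ind L Q) :
    ∃! H : Finset α, (H.card = 6 ∧ Ind L H) ∧ Q ⊆ H := by
  obtain ⟨e, f, hef, heQ, hfQ, hI, hall⟩ := claimA h hQ4 hQ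
  refine ⟨insert e (insert f Q), ⟨⟨?_, hI⟩, ?_⟩, ?_⟩
  · rw [Finset.card_insert_of_notMem, Finset.card_insert_of_notMem hfQ, hQ4]
    simp only [Finset.mem_insert, not_or]
    exact ⟨hef, heQ⟩
  · exact (Finset.subset_insert _ _).trans (Finset.subset_insert _ _)
  · rintro H ⟨⟨hH6, hHI⟩, hQH⟩
    have h2 : (H \ Q).card = 2 := by rw [Finset.card_sdiff_of_subset hQH, hH6, hQ4]
    have hsub : H \ Q ⊆ {e, f} := by
      intro x hx
      rw [Finset.mem_sdiff] at hx
      have hxI : Ind L (insert x Q) := hHI.mono (Finset.insert_subset hx.1 hQH)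
      rcases hall x hx.2 hxI with rfl | rfl <;> simp
    have heq : H \ Q = {e, f} :=
      Finset.eq_of_subset_of_card_le hsub (by rw [h2, Finset.card_pair hef])
    rw [← Finset.sdiff_union_of_subset hQH, heq]
    ext x
    simp only [Finset.mem_union, Finset.mem_insert, Finset.mem_singleton]
    tauto

end Cfsg.Agent.Helper93.PP4
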