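/-
Helper93: plane of order 4: numbers of independent sets (2520 quadrangles, 168 hyperovals).
-/
import Cfsg.Agent.Helper93.PP4Claim

set_option autoImplicit false
set_option linter.unusedSectionVars false

namespace Cfsg.Agent.Helper93.PP4

open Finset

section generic
open Classical

variable {α : Type*} [Fintype α] [DecidableEq α]

/-- the `k`-sets with property `P` -/
noncomputable def fam (P : Finset α → Prop) (k : ℕ) : Finset (Finset α) :=
  univ.filter fun S => S.card = k ∧ P S

theorem mem_fam {P : Finset α → Prop} {k : ℕ} {S : Finset α} : S ∈ fam P k ↔ S.card = k ∧ P S := by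
  unfold fam; simp

/-- double counting of pairs (`k`-set, `k'`-set above it) for a hereditary property -/
theorem count_step (P : Finset α → Prop) (hP : ∀ S T : Finset α, P S → T ⊆ S → P T) (k k' e : ℕ)
    (hext : ∀ S ∈ fam P k, ((fam P k').filter fun S' => S ⊆ S').card = e) :
    (fam P k).card * e = k'.choose k * (fam P k').card := by
  have h := Finset.sum_card_bipartiteAbove_eq_sum_card_bipartiteBelow (s := fam P k)
    (t := fam P k') (r := fun S S' => S ⊆ S')
  have h1 : ∀ S ∈ fam P k, ((fam P k').bipartiteAbove (fun S S' => S ⊆ S') S).card = e := by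
    intro S hS
    exact hext S hS
  have h2 : ∀ S' ∈ fam P k', ((fam P k).bipartiteBelow (fun S S' => S ⊆ S') S').card =
      k'.choose k := by
    intro S' hS'
    rw [mem_fam] at hS'
    have : (fam P k).bipartiteBelow (fun S S' => S ⊆ S') S' = S'.powersetCard k := by
      unfold Finset.bipartiteBelow
      ext T
      rw [Finset.mem_filter, Finset.mem_powersetCard, mem_fam]
      constructor
      · rintro ⟨⟨h1, _⟩, h3⟩; exact ⟨h3, h1⟩
      · rintro ⟨h1, h2⟩; exact ⟨⟨h2, hP S' T hS'.2 h1⟩, h1⟩
    rw [this, Finset.card_powersetCard, hS'.1]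
  rw [Finset.sum_congr rfl h1, Finset.sum_congr rfl h2, Finset.sum_const, Finset.sum_const,
    smul_eq_mul, smul_eq_mul] at h
  rw [h, mul_comm]

/-- the `(k+1)`-sets above a `k`-set correspond to the extension points -/
theorem card_above_succ (P : Finset α → Prop) (S : Finset α) (k : ℕ) (hS : S.card = k) :
    ((fam P (k + 1)).filter fun S' => S ⊆ S').card =
      (univ.filter fun x => x ∉ S ∧ P (insert x S)).card := by
  symm
  apply Finset.card_bij (fun x _ => insert x S)
  · intro x hx
    rw [Finset.mem_filter] at hx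
    rw [Finset.mem_filter, mem_fam]
    exact ⟨⟨by rw [Finset.card_insert_of_notMem hx.2.1, hS], hx.2.2⟩, Finset.subset_insert _ _⟩
  · intro x hx y hy hxy
    rw [Finset.mem_filter] at hx hy
    have : x ∈ insert y S := hxy ▸ Finset.mem_insert_self x S
    rcases Finset.mem_insert.mp this with h | h
    · exact h
    · exact absurd h hx.2.1
  · intro S' hS'
    rw [Finset.mem_filter, mem_fam] at hS'
    obtain ⟨⟨hc, hPS'⟩, hsub⟩ := hS'
    have h1 : (S' \ S).card = 1 := by rw [Finset.card_sdiff_of_subset hsub, hc, hS]; omega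
    obtain ⟨x, hx⟩ := Finset.card_eq_one.mp h1
    have hxm : x ∈ S' \ S := by rw [hx]; exact Finset.mem_singleton_self x
    rw [Finset.mem_sdiff] at hxm
    have heq : insert x S = S' := by
      rw [← Finset.sdiff_union_of_subset hsub, hx]
      rfl
    refine ⟨x, ?_, heq⟩
    rw [Finset.mem_filter]
    exact ⟨Finset.mem_univ _, hxm.2, heq ▸ hPS'⟩

end generic

section plane
open Classical

variable {α : Type*} [Fintype α] [DecidableEq α] {L : Set (Finset α)}

theorem ind_of_card_le_two (S : Finset α) (hS : S.card ≤ 2) : Ind L S := fun l _ =>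
  (Finset.card_le_card Finset.inter_subset_right).trans hS

theorem ext_zero (h : IsPP4 L) :
    (univ.filter fun x : α => x ∉ (∅ : Finset α) ∧ Ind L (insert x ∅)).card = 21 := by
  rw [Finset.filter_true_of_mem, Finset.card_univ, h.card]
  intro x _
  exact ⟨Finset.notMem_empty x, ind_of_card_le_two _ (by simp)⟩

theorem ext_one (h : IsPP4 L) (a : α) :
    (univ.filter fun x : α => x ∉ ({a} : Finset α) ∧ Ind L (insert x {a})).card = 20 := by
  have : (univ.filter fun x : α => x ∉ ({a} : Finset α) ∧ Ind L (insert x {a})) = univ.erase a := by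
    ext x
    simp only [Finset.mem_filter, Finset.mem_univ, true_and, Finset.mem_singleton, Finset.mem_erase,
      and_true]
    constructor
    · exact fun hx => hx.1
    · exact fun hx => ⟨hx, ind_of_card_le_two _ Finset.card_le_two⟩
  rw [this, Finset.card_erase_of_mem (Finset.mem_univ a), Finset.card_univ, h.card]

theorem ext_two (h : IsPP4 L) {a b : α} (hab : a ≠ b) :
    (univ.filter fun x : α => x ∉ ({a, b} : Finset α) ∧ Ind L (insert x {a, b})).card = 16 := by
  have : (univ.filter fun x : α => x ∉ ({a, b} : Finset α) ∧ Ind L (insert x {a, b})) =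
      (ln L a b)ᶜ := by
    ext x
    simp only [Finset.mem_filter, Finset.mem_univ, true_and, Finset.mem_compl]
    constructor
    · rintro ⟨hx, hI⟩
      exact (ind_insert_iff h (ind_of_card_le_two _ Finset.card_le_two) hx).mp hI a (by simp) b
        (by simp) hab
    · intro hx
      have hxab : x ∉ ({a, b} : Finset α) := by
        simp only [Finset.mem_insert, Finset.mem_singleton, not_or]
        exact ⟨fun hh => hx (by rw [hh]; exact h.left_mem hab), fun hh => hx (by rw [hh]; exact h.right_mem hab)⟩
      refine ⟨hxab, (ind_insert_iff h (ind_of_card_le_two _ Finset.card_le_two) hxab).mpr ?_⟩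
      intro a' ha' b' hb' hab'
      simp only [Finset.mem_insert, Finset.mem_singleton] at ha' hb'
      rcases ha' with rfl | rfl <;> rcases hb' with rfl | rfl
      · exact absurd rfl hab'
      · exact hx
      · rw [← h.ln_comm hab]; exact hx
      · exact absurd rfl hab'
  rw [this, Finset.card_compl, h.card, h.card_line (h.ln_mem hab)]

/-- the union of the sides of a triangle has 12 points -/
theorem card_triangle (h : IsPP4 L) {a b c : α} (hab : a ≠ b) (hac : a ≠ c) (hbc : b ≠ c)
    (hc : c ∉ ln L a b) : (ln L a b ∪ ln L a c ∪ ln L b c).card = 12 := by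
  have hAB : ln L a b ≠ ln L a c := fun hh => hc (hh ▸ h.right_mem hac)
  have hAC : ln L a b ≠ ln L b c := fun hh => hc (hh ▸ h.right_mem hbc)
  have hBC : ln L a c ≠ ln L b c := by
    intro hh
    have hb : b ∈ ln L a c := hh ▸ h.left_mem hbc
    have := h.eq_ln hab (h.ln_mem hac) (h.left_mem hac) hb
    exact hc (this ▸ h.right_mem hac)
  have h1 : ln L a b ∩ ln L a c = {a} := by
    ext x
    rw [Finset.mem_inter, Finset.mem_singleton]
    constructor
    · rintro ⟨hx1, hx2⟩
      exact h.point_unique (h.ln_mem hab) (h.ln_mem hac) hAB hx1 hx2 (h.left_mem hab) (h.left_mem hac)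
    · rintro rfl; exact ⟨h.left_mem hab, h.left_mem hac⟩
  have h2 : (ln L a b ∪ ln L a c) ∩ ln L b c = {b, c} := by
    ext x
    rw [Finset.mem_inter, Finset.mem_union, Finset.mem_insert, Finset.mem_singleton]
    constructor
    · rintro ⟨hx1 | hx1, hx2⟩
      · exact Or.inl (h.point_unique (h.ln_mem hab) (h.ln_mem hbc) hAC hx1 hx2 (h.right_mem hab)
          (h.left_mem hbc))
      · exact Or.inr (h.point_unique (h.ln_mem hac) (h.ln_mem hbc) hBC hx1 hx2 (h.right_mem hac)
          (h.right_mem hbc))
    · rintro (rfl | rfl)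
      · exact ⟨Or.inl (h.right_mem hab), h.left_mem hbc⟩
      · exact ⟨Or.inr (h.right_mem hac), h.right_mem hbc⟩
  have e1 := Finset.card_union_add_card_inter (ln L a b) (ln L a c)
  have e2 := Finset.card_union_add_card_inter (ln L a b ∪ ln L a c) (ln L b c)
  rw [h1, Finset.card_singleton, h.card_line (h.ln_mem hab), h.card_line (h.ln_mem hac)] at e1
  rw [h2, Finset.card_pair hbc, h.card_line (h.ln_mem hbc)] at e2
  omega

theorem ext_three (h : IsPP4 L) {a b c : α} (hab : a ≠ b) (hac : a ≠ c) (hbc : b ≠ c)
    (hI : Ind L {a, b, c}) :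
    (univ.filter fun x : α => x ∉ ({a, b, c} : Finset α) ∧ Ind L (insert x {a, b, c})).card = 9 := by
  have hc : c ∉ ln L a b := hI.not_mem_ln h (by simp) (by simp) (by simp) hab hac hbc
  have : (univ.filter fun x : α => x ∉ ({a, b, c} : Finset α) ∧ Ind L (insert x {a, b, c})) =
      (ln L a b ∪ ln L a c ∪ ln L b c)ᶜ := by
    ext x
    simp only [Finset.mem_filter, Finset.mem_univ, true_and, Finset.mem_compl, Finset.mem_union,
      not_or]
    constructor
    · rintro ⟨hx, hI'⟩
      have := (ind_insert_iff h hI hx).mp hI'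
      exact ⟨⟨this a (by simp) b (by simp) hab, this a (by simp) c (by simp) hac⟩,
        this b (by simp) c (by simp) hbc⟩
    · rintro ⟨⟨hx1, hx2⟩, hx3⟩
      have hxabc : x ∉ ({a, b, c} : Finset α) := by
        simp only [Finset.mem_insert, Finset.mem_singleton, not_or]
        exact ⟨fun hh => hx1 (by rw [hh]; exact h.left_mem hab),
          fun hh => hx1 (by rw [hh]; exact h.right_mem hab),
          fun hh => hx2 (by rw [hh]; exact h.right_mem hac)⟩
      refine ⟨hxabc, (ind_insert_iff h hI hxabc).mpr ?_⟩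
      have hx1' : x ∉ ln L b a := by rw [← h.ln_comm hab]; exact hx1
      have hx2' : x ∉ ln L c a := by rw [← h.ln_comm hac]; exact hx2
      have hx3' : x ∉ ln L c b := by rw [← h.ln_comm hbc]; exact hx3
      intro a' ha' b' hb' hab'
      simp only [Finset.mem_insert, Finset.mem_singleton] at ha' hb'
      rcases ha' with rfl | rfl | rfl <;> rcases hb' with rfl | rfl | rfl <;>
        first
        | exact absurd rfl hab'
        | assumption
  rw [this, Finset.card_compl, h.card, card_triangle h hab hac hbc hc]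

theorem ind_hered : ∀ S T : Finset α, Ind L S → T ⊆ S → Ind L T := fun _ _ hS hTS => hS.mono hTS

theorem fam_zero : (fam (Ind L) 0).card = 1 := by
  have : fam (Ind L) 0 = {∅} := by
    ext S
    rw [mem_fam, Finset.mem_singleton, Finset.card_eq_zero]
    constructor
    · exact fun hS => hS.1
    · rintro rfl; exact ⟨rfl, ind_of_card_le_two _ (by simp)⟩
  rw [this, Finset.card_singleton]

theorem fam_one (h : IsPP4 L) : (fam (Ind L) 1).card = 21 := by
  have := count_step (Ind L) ind_hered 0 1 21 (by
    intro S hS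
    rw [mem_fam, Finset.card_eq_zero] at hS
    rw [card_above_succ (Ind L) S 0 (by rw [hS.1]; rfl), hS.1]
    exact ext_zero h)
  rw [fam_zero] at this
  norm_num at this
  omega

theorem fam_two (h : IsPP4 L) : (fam (Ind L) 2).card = 210 := by
  have := count_step (Ind L) ind_hered 1 2 20 (by
    intro S hS
    rw [mem_fam] at hS
    obtain ⟨a, rfl⟩ := Finset.card_eq_one.mp hS.1
    rw [card_above_succ (Ind L) {a} 1 hS.1]
    exact ext_one h a)
  rw [fam_one h] at this
  norm_num [Nat.choose] at this
  omega

theorem fam_three (h : IsPP4 L) : (fam (Ind L) 3).card = 1120 := by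
  have := count_step (Ind L) ind_hered 2 3 16 (by
    intro S hS
    rw [mem_fam] at hS
    obtain ⟨a, b, hab, rfl⟩ := Finset.card_eq_two.mp hS.1
    rw [card_above_succ (Ind L) {a, b} 2 hS.1]
    exact ext_two h hab)
  rw [fam_two h] at this
  norm_num [Nat.choose] at this
  omega

theorem fam_four (h : IsPP4 L) : (fam (Ind L) 4).card = 2520 := by
  have := count_step (Ind L) ind_hered 3 4 9 (by
    intro S hS
    rw [mem_fam] at hS
    obtain ⟨a, b, c, hab, hac, hbc, rfl⟩ := Finset.card_eq_three.mp hS.1
    rw [card_above_succ (Ind L) {a, b, c} 3 hS.1]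
    exact ext_three h hab hac hbc hS.2)
  rw [fam_three h] at this
  norm_num [Nat.choose] at this
  omega

theorem fam_six (h : IsPP4 L) : (fam (Ind L) 6).card = 168 := by
  have := count_step (Ind L) ind_hered 4 6 1 (by
    intro S hS
    rw [mem_fam] at hS
    obtain ⟨H, hH, huniq⟩ := unique_hyperoval h hS.1 hS.2
    rw [Finset.card_eq_one]
    refine ⟨H, ?_⟩
    ext H'
    rw [Finset.mem_filter, mem_fam, Finset.mem_singleton]
    constructor
    · exact fun hH' => huniq H' hH'
    · rintro rfl; exact hH)
  rw [fam_four h] at this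
  norm_num [Nat.choose] at this
  omega

theorem coe_fam (k : ℕ) :
    {S : Finset α | S.card = k ∧ ∀ l ∈ L, (l ∩ S).card ≤ 2} = ↑(fam (Ind L) k) := by
  ext S
  rw [Finset.mem_coe, mem_fam]
  rfl

/-- statement S5627 -/
theorem hyperoval_counts (h : IsPP4 L) :
    {S : Finset α | (S.card = 4 ∧ ∀ l ∈ L, (l ∩ S).card ≤ 2)}.ncard = 2520 ∧
    {H : Finset α | (H.card = 6 ∧ ∀ l ∈ L, (l ∩ H).card ≤ 2)}.ncard = 168 ∧
    ∀ S : Finset α, (S.card = 4 ∧ ∀ l ∈ L, (l ∩ S).card ≤ 2) →
      ∃! H : Finset α, (H.card = 6 ∧ ∀ l ∈ L, (l ∩ H).card ≤ 2) ∧ S ⊆ H := by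
  refine ⟨?_, ?_, ?_⟩
  · rw [coe_fam, Set.ncard_coe_finset, fam_four h]
  · rw [coe_fam, Set.ncard_coe_finset, fam_six h]
  · intro S hS
    exact unique_hyperoval h hS.1 hS.2

/-- a hyperoval exists -/
theorem exists_hyperoval (h : IsPP4 L) : ∃ H : Finset α, H.card = 6 ∧ Ind L H := by
  have h1 := fam_six h
  have : (fam (Ind L) 6).Nonempty := by rw [← Finset.card_pos, h1]; norm_num
  obtain ⟨H, hH⟩ := this
  exact ⟨H, mem_fam.mp hH⟩

end plane

end Cfsg.Agent.Helper93.PP4
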