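/-
Helper93: the S6-model of the projective plane of order 4: six hyperoval points, fifteen synthemes,
lines = fifteen duads and six totals.
-/
import Mathlib

set_option autoImplicit false

namespace Cfsg.Agent.Helper93.PP4

/-- mate tables of the 15 synthemes (fixed point free involutions of `Fin 6`) -/
def synTab : Fin 15 → Fin 6 → Fin 6 :=
  ![![1,0,3,2,5,4],
  ![1,0,4,5,2,3],
  ![1,0,5,4,3,2],
  ![2,3,0,1,5,4],
  ![2,4,0,5,1,3],
  ![2,5,0,4,3,1],
  ![3,2,1,0,5,4],
  ![3,4,5,0,1,2],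
  ![3,5,4,0,2,1],
  ![4,2,1,5,0,3],
  ![4,3,5,1,0,2],
  ![4,5,3,2,0,1],
  ![5,2,1,4,3,0],
  ![5,3,4,1,2,0],
  ![5,4,3,2,1,0]]

/-- the six totals (sets of five pairwise disjoint synthemes) -/
def totTab : Fin 6 → Finset (Fin 15) :=
  ![{0, 4, 8, 10, 12}, {0, 5, 7, 9, 13}, {1, 3, 7, 11, 12}, {1, 5, 6, 10, 14}, {2, 3, 8, 9, 14},
    {2, 4, 6, 11, 13}]

/-- points of the model -/
abbrev MPt := Fin 6 ⊕ Fin 15

/-- the model line through two hyperoval points -/
def secLine (a b : Fin 6) : Finset MPt :=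
  {Sum.inl a, Sum.inl b} ∪ (Finset.univ.filter fun k => synTab k a = b).image Sum.inr

/-- the model line of a total -/
def totLine (j : Fin 6) : Finset MPt := (totTab j).image Sum.inr

/-- the 21 lines of the model -/
def mLines : Finset (Finset MPt) :=
  ((Finset.univ : Finset (Fin 6 × Fin 6)).filter fun p => p.1 < p.2).image (fun p => secLine p.1 p.2) ∪
    Finset.univ.image totLine

/-- two synthemes without a common duad -/
def sdisj (k k' : Fin 15) : Prop := ∀ a, synTab k a ≠ synTab k' a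

instance : DecidableRel sdisj := fun k k' => by unfold sdisj; infer_instance

set_option maxRecDepth 100000 in
theorem mLines_card : mLines.card = 21 := by decide +kernel

set_option maxRecDepth 100000 in
theorem secLine_facts : ∀ a b : Fin 6, a ≠ b → secLine a b ∈ mLines ∧ (secLine a b).card = 5 := by
  decide +kernel

set_option maxRecDepth 100000 in
theorem totLine_facts : ∀ j : Fin 6, totLine j ∈ mLines ∧ (totLine j).card = 5 := by
  decide +kernel

set_option maxRecDepth 100000 in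
/-- two disjoint synthemes lie in a total, which contains every syntheme `k3` disjoint from both
that has a further partner `k4` disjoint from all three -/
theorem total_of_disj : ∀ k1 k2 : Fin 15, sdisj k1 k2 → ∃ j : Fin 6, k1 ∈ totTab j ∧ k2 ∈ totTab j ∧
    ∀ k3 : Fin 15, sdisj k1 k3 → sdisj k2 k3 → ∀ k4 : Fin 15, sdisj k1 k4 → sdisj k2 k4 →
      sdisj k3 k4 → k3 ∈ totTab j := by
  decide +kernel

set_option maxRecDepth 100000 in
theorem classify_aux : ∀ a0 : Fin 6, a0 ≠ 0 → ∀ a1 : Fin 6, a1 ≠ 1 → ∀ a2 : Fin 6, a2 ≠ 2 →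
    ∀ a3 : Fin 6, a3 ≠ 3 → ∀ a4 : Fin 6, a4 ≠ 4 → ∀ a5 : Fin 6, a5 ≠ 5 →
    (∀ a, ![a0, a1, a2, a3, a4, a5] (![a0, a1, a2, a3, a4, a5] a) = a) →
    ∃ k : Fin 15, ∀ a, ![a0, a1, a2, a3, a4, a5] a = synTab k a := by
  decide +kernel

/-- every fixed point free involution of `Fin 6` is one of the 15 synthemes -/
theorem classify (f : Fin 6 → Fin 6) (h1 : ∀ a, f a ≠ a) (h2 : ∀ a, f (f a) = a) :
    ∃ k : Fin 15, ∀ a, f a = synTab k a := by
  have hf : f = ![f 0, f 1, f 2, f 3, f 4, f 5] := by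
    funext a
    fin_cases a <;> rfl
  have := classify_aux (f 0) (h1 0) (f 1) (h1 1) (f 2) (h1 2) (f 3) (h1 3) (f 4) (h1 4) (f 5) (h1 5)
    (by rw [← hf]; exact h2)
  rw [← hf] at this
  exact this

end Cfsg.Agent.Helper93.PP4
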