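/-
Helper93: the 168 hyperovals of the S6-model of the plane of order 4.
-/
import Cfsg.Agent.Helper93.PP4Count
import Cfsg.Agent.Helper93.PP4Model

set_option autoImplicit false
set_option linter.unusedSectionVars false

namespace Cfsg.Agent.Helper93.PP4

open Finset

/-- numbering of the model points -/
def mcode : MPt → ℕ := Sum.elim (fun a => a.val) (fun k => 6 + k.val)

/-- the set of model points with a given bit mask -/
def setOfMask (m : ℕ) : Finset MPt := univ.filter fun x => m.testBit (mcode x)

/-- masks of the 21 lines -/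
def lineMasks : List ℕ :=
   [451, 3589, 28681, 229393, 1835041, 299014, 590346, 1057810, 149538, 1179724, 540820, 74020, 264472, 33960,
    4720, 345152, 567360, 402048, 1120384, 1098496, 660736]

/-- masks of the 168 hyperovals, increasing -/
def hypMasks : List ℕ :=
   [63, 5004, 7242, 10056, 10382, 10417, 13508, 15106, 17678, 17713, 19144, 22146, 22852, 25158,
    28032, 34132, 35474, 39201, 41500, 41507, 45456, 49242, 49253, 56336, 67472, 67670, 67689, 70684,
    70691, 73944, 82593, 86290, 92688, 99012, 101634, 102728, 112128, 116748, 123010, 131862, 131881, 134352,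
    135322, 135333, 140385, 145428, 149016, 155984, 165442, 166276, 170504, 172298, 184512, 189444, 197766, 199488,
    207880, 208962, 213384, 217604, 263970, 264420, 267409, 270421, 270442, 277536, 279059, 279084, 283040, 295497,
    304385, 313473, 319536, 327821, 327858, 332545, 337923, 363040, 394251, 394292, 399425, 409861, 426336, 462888,
    525401, 525414, 527264, 530451, 530476, 533265, 536738, 541032, 550432, 557325, 557362, 561793, 574467, 592944,
    593989, 599169, 608513, 643104, 657545, 663559, 663608, 672321, 688676, 721120, 787268, 789634, 790728, 795660,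
    809472, 811266, 820752, 864272, 885120, 917586, 966664, 985092, 1049241, 1049254, 1052000, 1052949, 1052970, 1059368,
    1067089, 1070116, 1073376, 1083403, 1083444, 1086529, 1089669, 1115401, 1122881, 1130503, 1130552, 1146978, 1180080, 1184259,
    1190145, 1197185, 1224736, 1246752, 1312132, 1313346, 1316360, 1323328, 1327242, 1337348, 1343696, 1376788, 1417224, 1462288,
    1477632, 1507586, 1574592, 1575174, 1581448, 1585668, 1592328, 1593410, 1609752, 1638736, 1672196, 1706512, 1736834, 1794048]

/-- the `i`-th hyperoval of the model -/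
def hyp (i : Fin 168) : Finset MPt := setOfMask (hypMasks.getD i.val 0)

/-- the standard hyperoval -/
def H0 : Finset MPt := univ.image Sum.inl

set_option maxRecDepth 100000 in
theorem mLines_eq : mLines = (lineMasks.map setOfMask).toFinset := by decide +kernel

theorem mem_mLines_iff (l : Finset MPt) : l ∈ mLines ↔ ∃ m ∈ lineMasks, setOfMask m = l := by
  rw [mLines_eq, List.mem_toFinset, List.mem_map]

set_option maxRecDepth 100000 in
theorem model_card5 : ∀ m ∈ lineMasks, (setOfMask m).card = 5 := by decide +kernel

set_option maxRecDepth 100000 in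
theorem model_join : ∀ x y : MPt, x ≠ y → ∃ m ∈ lineMasks, x ∈ setOfMask m ∧ y ∈ setOfMask m := by
  decide +kernel

set_option maxRecDepth 100000 in
theorem model_meet : ∀ m ∈ lineMasks, ∀ m' ∈ lineMasks, m ≠ m' →
    (setOfMask m ∩ setOfMask m').card ≤ 1 := by
  decide +kernel

/-- the model is a projective plane of order 4 -/
theorem model_isPP4 : IsPP4 (↑mLines : Set (Finset MPt)) := by
  refine ⟨rfl, ?_, ?_⟩
  · intro b hb
    rw [Finset.mem_coe, mem_mLines_iff] at hb
    obtain ⟨m, hm, rfl⟩ := hb
    exact model_card5 m hm
  · intro s hs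
    obtain ⟨x, y, hxy, rfl⟩ := Finset.card_eq_two.mp hs
    obtain ⟨m, hm, hx, hy⟩ := model_join x y hxy
    refine ⟨setOfMask m, ⟨?_, ?_⟩, ?_⟩
    · rw [Finset.mem_coe, mem_mLines_iff]; exact ⟨m, hm, rfl⟩
    · intro z hz
      rw [Finset.mem_insert, Finset.mem_singleton] at hz
      rcases hz with rfl | rfl
      · exact hx
      · exact hy
    · rintro b ⟨hb, hsb⟩
      rw [Finset.mem_coe, mem_mLines_iff] at hb
      obtain ⟨m', hm', rfl⟩ := hb
      by_cases hmm : m' = m
      · rw [hmm]
      · exfalso
        have h1 := model_meet m' hm' m hm hmm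
        have h2 : ({x, y} : Finset MPt) ⊆ setOfMask m' ∩ setOfMask m := by
          intro z hz
          rw [Finset.mem_inter]
          refine ⟨hsb hz, ?_⟩
          rw [Finset.mem_insert, Finset.mem_singleton] at hz
          rcases hz with rfl | rfl
          · exact hx
          · exact hy
        have h3 := Finset.card_le_card h2
        rw [Finset.card_pair hxy] at h3
        omega

set_option maxRecDepth 100000 in
theorem hyp_ind_aux : ∀ i : Fin 168, (hyp i).card = 6 ∧
    ∀ m ∈ lineMasks, (setOfMask m ∩ hyp i).card ≤ 2 := by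
  decide +kernel

theorem hyp_ind (i : Fin 168) : (hyp i).card = 6 ∧ Ind (↑mLines : Set (Finset MPt)) (hyp i) := by
  refine ⟨(hyp_ind_aux i).1, ?_⟩
  intro l hl
  rw [Finset.mem_coe, mem_mLines_iff] at hl
  obtain ⟨m, hm, rfl⟩ := hl
  exact (hyp_ind_aux i).2 m hm

set_option maxRecDepth 100000 in
theorem hyp_card_image : (univ.image hyp).card = 168 := by
  decide +kernel

theorem hyp_injective : Function.Injective hyp := by
  have h : (univ.image hyp).card = (univ : Finset (Fin 168)).card := by
    rw [hyp_card_image]; rfl
  have := Finset.card_image_iff.mp h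
  intro i j hij
  exact this (Finset.mem_coe.mpr (Finset.mem_univ i)) (Finset.mem_coe.mpr (Finset.mem_univ j)) hij

open Classical in
/-- every hyperoval of the model is in the list -/
theorem hyp_complete (h : Finset MPt) (h6 : h.card = 6) (hI : Ind (↑mLines : Set (Finset MPt)) h) :
    ∃ i, hyp i = h := by
  have hsub : univ.image hyp ⊆ fam (Ind (↑mLines : Set (Finset MPt))) 6 := by
    intro k hk
    rw [Finset.mem_image] at hk
    obtain ⟨i, _, rfl⟩ := hk
    exact mem_fam.mpr (hyp_ind i)
  have heq := Finset.eq_of_subset_of_card_le hsub (by rw [fam_six model_isPP4, hyp_card_image])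
  have : h ∈ univ.image hyp := by rw [heq]; exact mem_fam.mpr ⟨h6, hI⟩
  rw [Finset.mem_image] at this
  obtain ⟨i, _, hi⟩ := this
  exact ⟨i, hi⟩

/-- the hyperovals of the model meeting the standard hyperoval evenly -/
def evenSet : Set (Finset MPt) :=
  {h | h.card = 6 ∧ Ind (↑mLines : Set (Finset MPt)) h ∧ Even (h ∩ H0).card}

set_option maxRecDepth 100000 in
theorem even_count : (univ.filter fun i : Fin 168 => Even (hyp i ∩ H0).card).card = 56 := by
  decide +kernel

theorem evenSet_ncard : evenSet.ncard = 56 := by
  have : evenSet = ↑((univ.filter fun i : Fin 168 => Even (hyp i ∩ H0).card).image hyp) := by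
    ext h
    rw [Finset.mem_coe, Finset.mem_image]
    constructor
    · rintro ⟨h6, hI, hev⟩
      obtain ⟨i, rfl⟩ := hyp_complete h h6 hI
      exact ⟨i, Finset.mem_filter.mpr ⟨Finset.mem_univ i, hev⟩, rfl⟩
    · rintro ⟨i, hi, rfl⟩
      rw [Finset.mem_filter] at hi
      exact ⟨(hyp_ind i).1, (hyp_ind i).2, hi.2⟩
  rw [this, Set.ncard_coe_finset, Finset.card_image_of_injective _ hyp_injective, even_count]

end Cfsg.Agent.Helper93.PP4
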