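/-
Helper93: plane of order 4: a labelled hyperoval determines an isomorphism with the S6-model.
-/
import Cfsg.Agent.Helper93.PP4Count
import Cfsg.Agent.Helper93.PP4Model

set_option autoImplicit false
set_option linter.unusedSectionVars false

namespace Cfsg.Agent.Helper93.PP4

open Finset

variable {α : Type*} [Fintype α] [DecidableEq α] {L : Set (Finset α)}

/-- a labelled hyperoval -/
structure IsLabel (L : Set (Finset α)) (e : Fin 6 → α) : Prop where
  inj : Function.Injective e
  ind : Ind L (univ.image e)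

theorem IsLabel.mem (e : Fin 6 → α) (i : Fin 6) : e i ∈ univ.image e :=
  Finset.mem_image_of_mem e (Finset.mem_univ i)

theorem IsLabel.ne {e : Fin 6 → α} (he : IsLabel L e) {a b : Fin 6} (hab : a ≠ b) : e a ≠ e b :=
  fun hh => hab (he.inj hh)

/-- three hyperoval points are not collinear -/
theorem IsLabel.not_col (h : IsPP4 L) {e : Fin 6 → α} (he : IsLabel L e) {a b c : Fin 6}
    (hab : a ≠ b) (hac : a ≠ c) (hbc : b ≠ c) : e c ∉ ln L (e a) (e b) :=
  he.ind.not_mem_ln h (IsLabel.mem e a) (IsLabel.mem e b) (IsLabel.mem e c) (he.ne hab) (he.ne hac)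
    (he.ne hbc)

/-- a line through two hyperoval points contains no third -/
theorem IsLabel.eq_or_eq (h : IsPP4 L) {e : Fin 6 → α} (he : IsLabel L e) {a b c : Fin 6}
    (hab : a ≠ b) {l : Finset α} (hl : l ∈ L) (ha : e a ∈ l) (hb : e b ∈ l) (hc : e c ∈ l) :
    c = a ∨ c = b := by
  by_contra hcon
  rw [not_or] at hcon
  have := h.eq_ln (he.ne hab) hl ha hb
  exact he.not_col h hab (Ne.symm hcon.1) (Ne.symm hcon.2) (this ▸ hc)

/-- every line through a hyperoval point is a secant -/
theorem IsLabel.exists_second (h : IsPP4 L) {e : Fin 6 → α} (he : IsLabel L e) (a : Fin 6)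
    {l : Finset α} (hl : l ∈ L) (ha : e a ∈ l) : ∃ b, b ≠ a ∧ e b ∈ l := by
  classical
  have hinj : Set.InjOn (fun b => ln L (e a) (e b)) ((univ.erase a : Finset (Fin 6)) : Set (Fin 6)) := by
    intro b hb c hc hbc
    by_contra hne
    rw [Finset.mem_coe, Finset.mem_erase] at hb hc
    have hc' : e c ∈ ln L (e a) (e b) := by
      have : ln L (e a) (e b) = ln L (e a) (e c) := hbc
      rw [this]; exact h.right_mem (he.ne hc.1.symm)
    exact he.not_col h hb.1.symm hc.1.symm hne hc'
  have hcard : ((univ.erase a : Finset (Fin 6)).image fun b => ln L (e a) (e b)).card = 5 := by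
    rw [Finset.card_image_of_injOn hinj, Finset.card_erase_of_mem (Finset.mem_univ a)]
    rfl
  have hsub : (((univ.erase a : Finset (Fin 6)).image fun b => ln L (e a) (e b) :
      Finset (Finset α)) : Set (Finset α)) ⊆ {l | l ∈ L ∧ e a ∈ l} := by
    intro k hk
    rw [Finset.mem_coe, Finset.mem_image] at hk
    obtain ⟨b, hb, rfl⟩ := hk
    rw [Finset.mem_erase] at hb
    exact ⟨h.ln_mem (he.ne hb.1.symm), h.left_mem (he.ne hb.1.symm)⟩
  have heq := Set.eq_of_subset_of_ncard_le hsub
    (by rw [h.card_through (e a), Set.ncard_coe_finset, hcard]) (Set.toFinite _)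
  have hlmem : l ∈ (((univ.erase a : Finset (Fin 6)).image fun b => ln L (e a) (e b) :
      Finset (Finset α)) : Set (Finset α)) := by
    rw [heq]; exact ⟨hl, ha⟩
  rw [Finset.mem_coe, Finset.mem_image] at hlmem
  obtain ⟨b, hb, rfl⟩ := hlmem
  rw [Finset.mem_erase] at hb
  exact ⟨b, hb.1, h.right_mem (he.ne hb.1.symm)⟩

open Classical in
/-- the other hyperoval point on the line through an outside point `q` and `e a` -/
noncomputable def mate (L : Set (Finset α)) (e : Fin 6 → α) (q : α) (a : Fin 6) : Fin 6 :=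
  if h : ∃ b, b ≠ a ∧ e b ∈ ln L q (e a) then h.choose else a

theorem ne_of_not_mem {e : Fin 6 → α} {q : α} (hq : q ∉ univ.image e) (a : Fin 6) : q ≠ e a :=
  fun hh => hq (hh ▸ IsLabel.mem e a)

theorem mate_spec (h : IsPP4 L) {e : Fin 6 → α} (he : IsLabel L e) {q : α} (hq : q ∉ univ.image e)
    (a : Fin 6) : mate L e q a ≠ a ∧ e (mate L e q a) ∈ ln L q (e a) := by
  have hqa := ne_of_not_mem hq a
  have hex : ∃ b, b ≠ a ∧ e b ∈ ln L q (e a) :=
    he.exists_second h a (h.ln_mem hqa) (h.right_mem hqa)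
  unfold mate
  rw [dif_pos hex]
  exact hex.choose_spec

theorem mate_eq (h : IsPP4 L) {e : Fin 6 → α} (he : IsLabel L e) {q : α} (hq : q ∉ univ.image e)
    {a b : Fin 6} (hba : b ≠ a) (hb : e b ∈ ln L q (e a)) : mate L e q a = b := by
  have hqa := ne_of_not_mem hq a
  obtain ⟨h1, h2⟩ := mate_spec h he hq a
  rcases he.eq_or_eq h (Ne.symm h1) (h.ln_mem hqa) (h.right_mem hqa) h2 hb with h3 | h3
  · exact absurd h3 hba
  · exact h3.symm

theorem mate_iff (h : IsPP4 L) {e : Fin 6 → α} (he : IsLabel L e) {q : α} (hq : q ∉ univ.image e)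
    {a b : Fin 6} (hba : b ≠ a) : mate L e q a = b ↔ q ∈ ln L (e a) (e b) := by
  have hqa := ne_of_not_mem hq a
  have hab : e a ≠ e b := he.ne (Ne.symm hba)
  constructor
  · intro hm
    have h2 := (mate_spec h he hq a).2
    rw [hm] at h2
    have := h.eq_ln hab (h.ln_mem hqa) (h.right_mem hqa) h2
    rw [← this]
    exact h.left_mem hqa
  · intro hqm
    apply mate_eq h he hq hba
    have := h.eq_ln hqa (h.ln_mem hab) hqm (h.left_mem hab)
    rw [← this]
    exact h.right_mem hab

theorem mate_invol (h : IsPP4 L) {e : Fin 6 → α} (he : IsLabel L e) {q : α} (hq : q ∉ univ.image e)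
    (a : Fin 6) : mate L e q (mate L e q a) = a := by
  have h1 := (mate_spec h he hq a).1
  have h2 : q ∈ ln L (e a) (e (mate L e q a)) := (mate_iff h he hq h1).mp rfl
  rw [mate_iff h he hq (Ne.symm h1), ← h.ln_comm (he.ne (Ne.symm h1))]
  exact h2

theorem exists_third : ∀ a b : Fin 6, ∃ c : Fin 6, c ≠ a ∧ c ≠ b := by decide

theorem mate_inj (h : IsPP4 L) {e : Fin 6 → α} (he : IsLabel L e) {q q' : α}
    (hq : q ∉ univ.image e) (hq' : q' ∉ univ.image e) (hm : ∀ a, mate L e q a = mate L e q' a) :
    q = q' := by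
  have h0 := (mate_spec h he hq 0).1
  obtain ⟨c, hc0, hcb⟩ := exists_third 0 (mate L e q 0)
  have hc := (mate_spec h he hq c).1
  have q1 : q ∈ ln L (e 0) (e (mate L e q 0)) := (mate_iff h he hq h0).mp rfl
  have q2 : q ∈ ln L (e c) (e (mate L e q c)) := (mate_iff h he hq hc).mp rfl
  have q1' : q' ∈ ln L (e 0) (e (mate L e q 0)) := (mate_iff h he hq' h0).mp (hm 0).symm
  have q2' : q' ∈ ln L (e c) (e (mate L e q c)) := (mate_iff h he hq' hc).mp (hm c).symm
  have hne : ln L (e 0) (e (mate L e q 0)) ≠ ln L (e c) (e (mate L e q c)) := by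
    intro hh
    have : e c ∈ ln L (e 0) (e (mate L e q 0)) := by
      rw [hh]; exact h.left_mem (he.ne (Ne.symm hc))
    exact he.not_col h (Ne.symm h0) (Ne.symm hc0) (Ne.symm hcb) this
  exact h.point_unique (h.ln_mem (he.ne (Ne.symm h0))) (h.ln_mem (he.ne (Ne.symm hc))) hne q1 q2 q1' q2'

open Classical in
/-- the syntheme index of an outside point -/
noncomputable def idx (L : Set (Finset α)) (e : Fin 6 → α) (q : α) : Fin 15 :=
  if h : ∃ k : Fin 15, ∀ a, mate L e q a = synTab k a then h.choose else 0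

theorem idx_spec (h : IsPP4 L) {e : Fin 6 → α} (he : IsLabel L e) {q : α} (hq : q ∉ univ.image e)
    (a : Fin 6) : mate L e q a = synTab (idx L e q) a := by
  have hex : ∃ k : Fin 15, ∀ a, mate L e q a = synTab k a :=
    classify (mate L e q) (fun a => (mate_spec h he hq a).1) (mate_invol h he hq)
  unfold idx
  rw [dif_pos hex]
  exact hex.choose_spec a

open Classical in
/-- the map to the model -/
noncomputable def toModel (L : Set (Finset α)) (e : Fin 6 → α) (q : α) : MPt :=
  if h : ∃ i, e i = q then Sum.inl h.choose else Sum.inr (idx L e q)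

theorem toModel_label {e : Fin 6 → α} (he : IsLabel L e) (i : Fin 6) :
    toModel L e (e i) = Sum.inl i := by
  have hex : ∃ j, e j = e i := ⟨i, rfl⟩
  unfold toModel
  rw [dif_pos hex]
  exact congrArg Sum.inl (he.inj hex.choose_spec)

theorem toModel_out {e : Fin 6 → α} {q : α} (hq : q ∉ univ.image e) :
    toModel L e q = Sum.inr (idx L e q) := by
  have hex : ¬ ∃ j, e j = q := by
    rintro ⟨j, rfl⟩
    exact hq (IsLabel.mem e j)
  unfold toModel
  rw [dif_neg hex]

theorem mem_or_not (e : Fin 6 → α) (q : α) : (∃ i, e i = q) ∨ q ∉ univ.image e := by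
  by_cases hq : q ∈ univ.image e
  · rw [Finset.mem_image] at hq
    obtain ⟨i, _, hi⟩ := hq
    exact Or.inl ⟨i, hi⟩
  · exact Or.inr hq

theorem toModel_injective (h : IsPP4 L) {e : Fin 6 → α} (he : IsLabel L e) :
    Function.Injective (toModel L e) := by
  intro q q' hqq
  rcases mem_or_not e q with ⟨i, rfl⟩ | hq <;> rcases mem_or_not e q' with ⟨i', rfl⟩ | hq'
  · rw [toModel_label he, toModel_label he] at hqq
    rw [Sum.inl.inj hqq]
  · rw [toModel_label he, toModel_out hq'] at hqq
    exact absurd hqq (by simp)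
  · rw [toModel_out hq, toModel_label he] at hqq
    exact absurd hqq (by simp)
  · rw [toModel_out hq, toModel_out hq'] at hqq
    have hk := Sum.inr.inj hqq
    apply mate_inj h he hq hq'
    intro a
    rw [idx_spec h he hq, idx_spec h he hq', hk]

/-- the image of a secant -/
theorem image_secant (h : IsPP4 L) {e : Fin 6 → α} (he : IsLabel L e) {a b : Fin 6} (hab : a ≠ b)
    {l : Finset α} (hl : l ∈ L) (ha : e a ∈ l) (hb : e b ∈ l) :
    l.image (toModel L e) = secLine a b := by
  apply Finset.eq_of_subset_of_card_le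
  · intro y hy
    rw [Finset.mem_image] at hy
    obtain ⟨x, hx, rfl⟩ := hy
    unfold secLine
    rcases mem_or_not e x with ⟨i, rfl⟩ | hxo
    · rw [toModel_label he]
      rcases he.eq_or_eq h hab hl ha hb hx with rfl | rfl
      · exact Finset.mem_union_left _ (by simp)
      · exact Finset.mem_union_left _ (by simp)
    · rw [toModel_out hxo]
      apply Finset.mem_union_right
      rw [Finset.mem_image]
      refine ⟨idx L e x, ?_, rfl⟩
      rw [Finset.mem_filter]
      refine ⟨Finset.mem_univ _, ?_⟩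
      rw [← idx_spec h he hxo, mate_iff h he hxo (Ne.symm hab), ← h.eq_ln (he.ne hab) hl ha hb]
      exact hx
  · rw [Finset.card_image_of_injective _ (toModel_injective h he), h.card_line hl,
      (secLine_facts a b hab).2]

/-- the image of an external line -/
theorem image_external (h : IsPP4 L) {e : Fin 6 → α} (he : IsLabel L e) {l : Finset α} (hl : l ∈ L)
    (hext : ∀ a, e a ∉ l) : ∃ j, l.image (toModel L e) = totLine j := by
  have hout : ∀ x ∈ l, x ∉ univ.image e := by
    intro x hx hxH
    rw [Finset.mem_image] at hxH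
    obtain ⟨i, _, rfl⟩ := hxH
    exact hext i hx
  have hdis : ∀ x ∈ l, ∀ y ∈ l, x ≠ y → sdisj (idx L e x) (idx L e y) := by
    intro x hx y hy hxy a hcon
    rw [← idx_spec h he (hout x hx), ← idx_spec h he (hout y hy)] at hcon
    have h1 := (mate_spec h he (hout x hx) a).1
    have hxm : x ∈ ln L (e a) (e (mate L e x a)) := (mate_iff h he (hout x hx) h1).mp rfl
    have hym : y ∈ ln L (e a) (e (mate L e x a)) := (mate_iff h he (hout y hy) h1).mp hcon.symm
    have hne := he.ne (Ne.symm h1)
    have := h.line_unique hxy hl (h.ln_mem hne) hx hy hxm hym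
    exact hext a (this ▸ h.left_mem hne)
  have h5 := h.card_line hl
  obtain ⟨x1, hx1, x2, hx2, h12⟩ := Finset.one_lt_card.mp (by omega : 1 < l.card)
  obtain ⟨j, hj1, hj2, hj⟩ := total_of_disj _ _ (hdis x1 hx1 x2 hx2 h12)
  have hall : ∀ x ∈ l, idx L e x ∈ totTab j := by
    intro x hx
    by_cases hx1' : x = x1
    · rw [hx1']; exact hj1
    by_cases hx2' : x = x2
    · rw [hx2']; exact hj2
    have m2 : x2 ∈ l.erase x1 := Finset.mem_erase.mpr ⟨Ne.symm h12, hx2⟩
    have m3 : x ∈ (l.erase x1).erase x2 :=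
      Finset.mem_erase.mpr ⟨hx2', Finset.mem_erase.mpr ⟨hx1', hx⟩⟩
    have hc : 0 < (((l.erase x1).erase x2).erase x).card := by
      rw [Finset.card_erase_of_mem m3, Finset.card_erase_of_mem m2, Finset.card_erase_of_mem hx1, h5]
      norm_num
    obtain ⟨x', hx'⟩ := Finset.card_pos.mp hc
    simp only [Finset.mem_erase] at hx'
    obtain ⟨hx'x, hx'2, hx'1, hx'l⟩ := hx'
    exact hj (idx L e x) (hdis x1 hx1 x hx (Ne.symm hx1')) (hdis x2 hx2 x hx (Ne.symm hx2'))
      (idx L e x') (hdis x1 hx1 x' hx'l (Ne.symm hx'1)) (hdis x2 hx2 x' hx'l (Ne.symm hx'2))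
      (hdis x hx x' hx'l (Ne.symm hx'x))
  refine ⟨j, Finset.eq_of_subset_of_card_le ?_ ?_⟩
  · intro y hy
    rw [Finset.mem_image] at hy
    obtain ⟨x, hx, rfl⟩ := hy
    rw [toModel_out (hout x hx)]
    unfold totLine
    exact Finset.mem_image_of_mem _ (hall x hx)
  · rw [Finset.card_image_of_injective _ (toModel_injective h he), h5, (totLine_facts j).2]

/-- the image of a line is a model line -/
theorem image_mem (h : IsPP4 L) {e : Fin 6 → α} (he : IsLabel L e) {l : Finset α} (hl : l ∈ L) :
    l.image (toModel L e) ∈ mLines := by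
  by_cases hext : ∀ a, e a ∉ l
  · obtain ⟨j, hj⟩ := image_external h he hl hext
    rw [hj]; exact (totLine_facts j).1
  · rw [not_forall] at hext
    obtain ⟨a, ha⟩ := hext
    rw [not_not] at ha
    obtain ⟨b, hba, hb⟩ := he.exists_second h a hl ha
    rw [image_secant h he (Ne.symm hba) hl ha hb]
    exact (secLine_facts a b (Ne.symm hba)).1

/-- the isomorphism with the model determined by a labelled hyperoval -/
theorem exists_model_iso (h : IsPP4 L) {e : Fin 6 → α} (he : IsLabel L e) :
    ∃ Φ : α ≃ MPt, (∀ i, Φ (e i) = Sum.inl i) ∧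
      (fun b : Finset α => b.image Φ) '' L = (↑mLines : Set (Finset MPt)) := by
  have hbij : Function.Bijective (toModel L e) := by
    rw [Fintype.bijective_iff_injective_and_card]
    refine ⟨toModel_injective h he, ?_⟩
    rw [h.card]; rfl
  refine ⟨Equiv.ofBijective _ hbij, fun i => toModel_label he i, ?_⟩
  have hinj : Function.Injective (fun b : Finset α => b.image (Equiv.ofBijective _ hbij)) :=
    Finset.image_injective (Equiv.ofBijective _ hbij).injective
  apply Set.eq_of_subset_of_ncard_le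
  · rintro _ ⟨l, hl, rfl⟩
    exact image_mem h he hl
  · rw [Set.ncard_image_of_injective _ hinj, h.card_lines, Set.ncard_coe_finset, mLines_card]
  · exact Set.toFinite _

end Cfsg.Agent.Helper93.PP4
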