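/-
Helper93: plane of order 4: uniqueness (S5626) and extension of hyperoval permutations (S5628).
-/
import Cfsg.Agent.Helper93.PP4Iso

set_option autoImplicit false
set_option linter.unusedSectionVars false

namespace Cfsg.Agent.Helper93.PP4

open Finset
open scoped Pointwise

section
variable {α : Type*} [Fintype α] [DecidableEq α] {L : Set (Finset α)}

theorem mem_aut_iff (g : Equiv.Perm α) :
    g ∈ Cfsg.setSystemAut L ↔ (fun b : Finset α => b.image g) '' L = L := by
  rw [Cfsg.setSystemAut, MulAction.mem_stabilizer_iff, ← Set.image_smul]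
  rfl

/-- a labelling of a hyperoval through a bijection with `Fin 6` -/
theorem isLabel_of_equiv {H : Finset α} (hH : Ind L H) (f : Fin 6 ≃ ↥H) :
    IsLabel L (fun i => ((f i : ↥H) : α)) := by
  refine ⟨fun i j hij => f.injective (Subtype.ext hij), ?_⟩
  have : univ.image (fun i => ((f i : ↥H) : α)) = H := by
    ext x
    rw [Finset.mem_image]
    constructor
    · rintro ⟨i, _, rfl⟩; exact (f i).2
    · intro hx
      exact ⟨f.symm ⟨x, hx⟩, Finset.mem_univ _, by simp⟩
  rw [this]; exact hH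

end

/-- two isomorphisms with the model compose to an isomorphism of planes -/
theorem iso_of_model {α β γ : Type*} [DecidableEq α] [DecidableEq β] [DecidableEq γ]
    {L : Set (Finset α)} {L' : Set (Finset β)} {M : Set (Finset γ)} (Φ : α ≃ γ) (Φ' : β ≃ γ)
    (hΦ : (fun b : Finset α => b.image Φ) '' L = M)
    (hΦ' : (fun b : Finset β => b.image Φ') '' L' = M) :
    (fun b : Finset α => b.image (Φ.trans Φ'.symm)) '' L = L' := by
  have h1 : (fun b : Finset α => b.image (Φ.trans Φ'.symm)) =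
      (fun b : Finset γ => b.image Φ'.symm) ∘ (fun b : Finset α => b.image Φ) := by
    funext b
    simp only [Function.comp_apply, Finset.image_image]
    rfl
  rw [h1, Set.image_comp, hΦ, ← hΦ', ← Set.image_comp]
  have h2 : ((fun b : Finset γ => b.image Φ'.symm) ∘ fun b : Finset β => b.image Φ') = id := by
    funext b
    simp only [Function.comp_apply, Finset.image_image, id]
    have : (Φ'.symm ∘ Φ') = id := by funext x; simp
    rw [this, Finset.image_id]
  rw [h2, Set.image_id]

/-- S5626: uniqueness of the projective plane of order 4 -/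
theorem plane_unique {α β : Type*} [Fintype α] [DecidableEq α] [Fintype β] [DecidableEq β]
    {L : Set (Finset α)} {L' : Set (Finset β)} (h : IsPP4 L) (h' : IsPP4 L') :
    Cfsg.SetSystemIso L L' := by
  obtain ⟨H, hH6, hH⟩ := exists_hyperoval h
  obtain ⟨H', hH6', hH'⟩ := exists_hyperoval h'
  obtain ⟨Φ, _, hΦ⟩ := exists_model_iso h (isLabel_of_equiv hH (H.equivFinOfCardEq hH6).symm)
  obtain ⟨Φ', _, hΦ'⟩ := exists_model_iso h' (isLabel_of_equiv hH' (H'.equivFinOfCardEq hH6').symm)
  exact ⟨Φ.trans Φ'.symm, iso_of_model Φ Φ' hΦ hΦ'⟩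

section
variable {α : Type*} [Fintype α] [DecidableEq α] {L : Set (Finset α)}

/-- an automorphism fixing a hyperoval pointwise is trivial -/
theorem aut_fix (h : IsPP4 L) {e : Fin 6 → α} (he : IsLabel L e) (g : Equiv.Perm α)
    (hg : ∀ l ∈ L, l.image g ∈ L) (hfix : ∀ i, g (e i) = e i) (q : α) : g q = q := by
  rcases mem_or_not e q with ⟨i, rfl⟩ | hq
  · exact hfix i
  · have h0 := (mate_spec h he hq 0).1
    obtain ⟨c, hc0, hcb⟩ := exists_third 0 (mate L e q 0)
    have hc := (mate_spec h he hq c).1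
    have q1 : q ∈ ln L (e 0) (e (mate L e q 0)) := (mate_iff h he hq h0).mp rfl
    have q2 : q ∈ ln L (e c) (e (mate L e q c)) := (mate_iff h he hq hc).mp rfl
    have hne : ln L (e 0) (e (mate L e q 0)) ≠ ln L (e c) (e (mate L e q c)) := by
      intro hh
      have : e c ∈ ln L (e 0) (e (mate L e q 0)) := by
        rw [hh]; exact h.left_mem (he.ne (Ne.symm hc))
      exact he.not_col h (Ne.symm h0) (Ne.symm hc0) (Ne.symm hcb) this
    have key : ∀ a b : Fin 6, a ≠ b → q ∈ ln L (e a) (e b) → g q ∈ ln L (e a) (e b) := by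
      intro a b hab hq'
      have hne' := he.ne hab
      have himg := hg _ (h.ln_mem hne')
      have ha : e a ∈ (ln L (e a) (e b)).image g :=
        Finset.mem_image.mpr ⟨e a, h.left_mem hne', hfix a⟩
      have hb : e b ∈ (ln L (e a) (e b)).image g :=
        Finset.mem_image.mpr ⟨e b, h.right_mem hne', hfix b⟩
      rw [← h.eq_ln hne' himg ha hb]
      exact Finset.mem_image_of_mem g hq'
    exact h.point_unique (h.ln_mem (he.ne (Ne.symm h0))) (h.ln_mem (he.ne (Ne.symm hc))) hne
      (key _ _ (Ne.symm h0) q1) (key _ _ (Ne.symm hc) q2) q1 q2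

theorem aut_image_mem {g : Equiv.Perm α} (hg : g ∈ Cfsg.setSystemAut L) {l : Finset α}
    (hl : l ∈ L) : l.image g ∈ L := by
  rw [mem_aut_iff] at hg
  rw [← hg]
  exact ⟨l, hl, rfl⟩

/-- S5628: every permutation of a hyperoval extends uniquely to an automorphism -/
theorem hyperoval_perm_extends (h : IsPP4 L) (H : Finset α) (hH6 : H.card = 6) (hH : Ind L H)
    (σ : Equiv.Perm ↥H) :
    ∃! g : Equiv.Perm α, g ∈ Cfsg.setSystemAut L ∧ ∀ p : ↥H, g p = σ p := by
  set f : Fin 6 ≃ ↥H := (H.equivFinOfCardEq hH6).symm with hf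
  have he : IsLabel L (fun i => ((f i : ↥H) : α)) := isLabel_of_equiv hH f
  have he' : IsLabel L (fun i => (((f.trans σ) i : ↥H) : α)) := isLabel_of_equiv hH (f.trans σ)
  obtain ⟨Φ, hΦe, hΦ⟩ := exists_model_iso h he
  obtain ⟨Φ', hΦe', hΦ'⟩ := exists_model_iso h he'
  have hgp : ∀ p : ↥H, (Φ.trans Φ'.symm) p = σ p := by
    intro p
    have hp : ((f (f.symm p) : ↥H) : α) = p := by simp
    rw [← hp, Equiv.trans_apply, hΦe (f.symm p), Equiv.symm_apply_eq, ← hΦe' (f.symm p)]
    simp
  refine ⟨Φ.trans Φ'.symm, ⟨?_, hgp⟩, ?_⟩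
  · rw [mem_aut_iff]
    exact iso_of_model Φ Φ' hΦ hΦ'
  · rintro g' ⟨hg', hgp'⟩
    have hmem : (Φ.trans Φ'.symm : Equiv.Perm α) ∈ Cfsg.setSystemAut L := by
      rw [mem_aut_iff]
      exact iso_of_model Φ Φ' hΦ hΦ'
    have hk : (Φ.trans Φ'.symm : Equiv.Perm α)⁻¹ * g' ∈ Cfsg.setSystemAut L :=
      Subgroup.mul_mem _ (Subgroup.inv_mem _ hmem) hg'
    have hfix : ∀ i, ((Φ.trans Φ'.symm : Equiv.Perm α)⁻¹ * g') ((f i : ↥H) : α) = ((f i : ↥H) : α) := by
      intro i
      rw [Equiv.Perm.mul_apply, hgp' (f i), ← hgp (f i)]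
      exact Equiv.symm_apply_apply _ _
    have hall := aut_fix h he _ (fun l hl => aut_image_mem hk hl) hfix
    ext q
    have := hall q
    rw [Equiv.Perm.mul_apply, Equiv.Perm.inv_eq_iff_eq] at this
    exact this

end

end Cfsg.Agent.Helper93.PP4
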