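/-
Helper93: uniqueness of the Steiner system S(3,6,22): the derived design at a point is the plane of
order 4, the blocks off the point are the 56 hyperovals meeting one of them evenly.
-/
import Cfsg.Agent.Helper93.PP4Main
import Cfsg.Agent.Helper93.PP4Hyp
import Cfsg.Agent.S0351
import Cfsg.Agent.S0356

set_option autoImplicit false
set_option linter.unusedSectionVars false

namespace Cfsg.Agent.Helper93.S22

open Finset Cfsg.Agent.Helper93.PP4

variable {Ω : Type*} [Fintype Ω] [DecidableEq Ω]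

/-- restriction of a set to the points other than `p` -/
abbrev res (p : Ω) (b : Finset Ω) : Finset {a : Ω // a ≠ p} := Finset.subtype (fun a => a ≠ p) b

/-- lines of the derived design at `p` -/
def dLines (B : Set (Finset Ω)) (p : Ω) : Set (Finset {a : Ω // a ≠ p}) :=
  {b' | ∃ b ∈ B, p ∈ b ∧ b' = res p b}

/-- the blocks off `p` -/
def dOvals (B : Set (Finset Ω)) (p : Ω) : Set (Finset {a : Ω // a ≠ p}) :=
  {h | ∃ b ∈ B, p ∉ b ∧ h = res p b}

theorem res_map {p : Ω} {b : Finset Ω} (hp : p ∉ b) :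
    (res p b).map (Function.Embedding.subtype _) = b := by
  rw [Finset.subtype_map]
  exact Finset.filter_true_of_mem fun x hx hxp => hp (hxp ▸ hx)

theorem res_inter (p : Ω) (b c : Finset Ω) : res p (b ∩ c) = res p b ∩ res p c := by
  ext x
  simp only [Finset.mem_subtype, Finset.mem_inter]

theorem card_res_le (p : Ω) (b : Finset Ω) : (res p b).card ≤ b.card := by
  rw [Finset.card_subtype]
  exact Finset.card_filter_le _ _

theorem card_res {p : Ω} {b : Finset Ω} (hp : p ∉ b) : (res p b).card = b.card := by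
  rw [← Finset.card_map (Function.Embedding.subtype _), res_map hp]

theorem res_inj {p : Ω} {b c : Finset Ω} (hb : p ∉ b) (hc : p ∉ c) (h : res p b = res p c) :
    b = c := by
  rw [← res_map hb, ← res_map hc, h]

variable {B : Set (Finset Ω)}

theorem isPP4_dLines (hΩ : Fintype.card Ω = 22) (hB : Cfsg.IsSteinerSystem 3 6 B) (p : Ω) :
    IsPP4 (dLines B p) := by
  refine ⟨?_, Cfsg.Agent.S0351.result (t := 2) (k := 5) hB p⟩
  rw [Fintype.card_subtype_compl, Fintype.card_subtype_eq, hΩ]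

theorem dOvals_card (hB : Cfsg.IsSteinerSystem 3 6 B) {p : Ω} {h : Finset {a : Ω // a ≠ p}}
    (hh : h ∈ dOvals B p) : h.card = 6 := by
  obtain ⟨b, hb, hpb, rfl⟩ := hh
  rw [card_res hpb, hB.1 b hb]

theorem dOvals_ind (hΩ : Fintype.card Ω = 22) (hB : Cfsg.IsSteinerSystem 3 6 B) {p : Ω}
    {h : Finset {a : Ω // a ≠ p}} (hh : h ∈ dOvals B p) : Ind (dLines B p) h := by
  obtain ⟨b, hb, hpb, rfl⟩ := hh
  rintro l ⟨c, hc, hpc, rfl⟩
  rw [← res_inter]
  have hne : c ≠ b := fun hcb => hpb (hcb ▸ hpc)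
  have := Cfsg.Agent.S0356.result hΩ hB hc hb hne
  have h2 := card_res_le p (c ∩ b)
  omega

theorem dOvals_even (hΩ : Fintype.card Ω = 22) (hB : Cfsg.IsSteinerSystem 3 6 B) {p : Ω}
    {h h' : Finset {a : Ω // a ≠ p}} (hh : h ∈ dOvals B p) (hh' : h' ∈ dOvals B p) :
    Even (h ∩ h').card := by
  obtain ⟨b, hb, hpb, rfl⟩ := hh
  obtain ⟨c, hc, hpc, rfl⟩ := hh'
  rw [← res_inter, card_res (fun hx => hpb (Finset.mem_inter.mp hx).1)]
  by_cases hbc : b = c
  · rw [hbc, Finset.inter_self, hB.1 c hc]; decide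
  · rcases Cfsg.Agent.S0356.result hΩ hB hb hc hbc with h0 | h2
    · rw [h0]; decide
    · rw [h2]; decide

theorem dOvals_ncard (hΩ : Fintype.card Ω = 22) (hB : Cfsg.IsSteinerSystem 3 6 B) (p : Ω) :
    (dOvals B p).ncard = 56 := by
  have h77 : B.ncard = 77 := by
    have h1 := Cfsg.Agent.Helper26.card_blocks hB
    rw [hΩ] at h1
    norm_num [Nat.choose] at h1
    omega
  have h21 : {b | b ∈ B ∧ p ∈ b}.ncard = 21 := by
    have h1 := Cfsg.Agent.Helper26.card_blocks_through hB {p} (by simp)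
    rw [hΩ] at h1
    simp only [Finset.card_singleton, Finset.singleton_subset_iff] at h1
    norm_num [Nat.choose] at h1
    omega
  have h56 : {b | b ∈ B ∧ p ∉ b}.ncard = 56 := by
    have hsub : {b | b ∈ B ∧ p ∈ b} ⊆ B := fun b hb => hb.1
    have hd : B \ {b | b ∈ B ∧ p ∈ b} = {b | b ∈ B ∧ p ∉ b} := by
      ext b
      simp only [Set.mem_diff, Set.mem_setOf_eq, not_and]
      constructor
      · rintro ⟨h1, h2⟩; exact ⟨h1, h2 h1⟩
      · rintro ⟨h1, h2⟩; exact ⟨h1, fun _ => h2⟩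
    rw [← hd, Set.ncard_diff hsub (Set.toFinite _), h77, h21]
  have himg : dOvals B p = (fun b => res p b) '' {b | b ∈ B ∧ p ∉ b} := by
    ext h
    constructor
    · rintro ⟨b, hb, hpb, rfl⟩; exact ⟨b, ⟨hb, hpb⟩, rfl⟩
    · rintro ⟨b, ⟨hb, hpb⟩, rfl⟩; exact ⟨b, hb, hpb, rfl⟩
  rw [himg, Set.InjOn.ncard_image, h56]
  intro b hb c hc hbc
  exact res_inj hb.2 hc.2 hbc

/-- the model of S(3,6,22): a new point `none`, the 21 lines through it, and the 56 hyperovals -/
def model22 : Set (Finset (Option MPt)) :=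
  {c | ∃ l ∈ mLines, c = insert none (l.image some)} ∪ {c | ∃ h ∈ evenSet, c = h.image some}

theorem image_even (hΩ : Fintype.card Ω = 22) (hB : Cfsg.IsSteinerSystem 3 6 B) (p : Ω)
    {H : Finset {a : Ω // a ≠ p}} (hH : H ∈ dOvals B p) (Φ : {a : Ω // a ≠ p} ≃ MPt)
    (hΦH : H.image Φ = H0)
    (hΦ : (fun b : Finset {a : Ω // a ≠ p} => b.image Φ) '' dLines B p = (↑mLines : Set (Finset MPt))) :
    (fun b : Finset {a : Ω // a ≠ p} => b.image Φ) '' dOvals B p = evenSet := by
  have hinj : Function.Injective (fun b : Finset {a : Ω // a ≠ p} => b.image Φ) :=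
    Finset.image_injective Φ.injective
  apply Set.eq_of_subset_of_ncard_le
  · rintro _ ⟨h, hh, rfl⟩
    refine ⟨?_, ?_, ?_⟩
    · rw [Finset.card_image_of_injective _ Φ.injective, dOvals_card hB hh]
    · intro m hm
      rw [← hΦ] at hm
      obtain ⟨l, hl, rfl⟩ := hm
      show ((l.image Φ) ∩ (h.image Φ)).card ≤ 2
      rw [← Finset.image_inter _ _ Φ.injective, Finset.card_image_of_injective _ Φ.injective]
      exact dOvals_ind hΩ hB hh l hl
    · show Even ((h.image Φ) ∩ H0).card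
      rw [← hΦH, ← Finset.image_inter _ _ Φ.injective, Finset.card_image_of_injective _ Φ.injective]
      exact dOvals_even hΩ hB hh hH
  · rw [Set.ncard_image_of_injective _ hinj, dOvals_ncard hΩ hB p, evenSet_ncard]
  · exact Set.toFinite _

theorem exists_iso_model (hΩ : Fintype.card Ω = 22) (hB : Cfsg.IsSteinerSystem 3 6 B) :
    ∃ Ψ : Ω ≃ Option MPt, (fun b : Finset Ω => b.image Ψ) '' B = model22 := by
  have hne : Nonempty Ω := by
    rw [← Fintype.card_pos_iff, hΩ]; norm_num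
  obtain ⟨p⟩ := hne
  have hP := isPP4_dLines hΩ hB p
  have hO : (dOvals B p).Nonempty := by
    rw [← Set.ncard_pos (Set.toFinite _), dOvals_ncard hΩ hB p]; norm_num
  obtain ⟨H, hH⟩ := hO
  have hH6 := dOvals_card hB hH
  have hHI := dOvals_ind hΩ hB hH
  set f : Fin 6 ≃ ↥H := (H.equivFinOfCardEq hH6).symm with hf
  have he := isLabel_of_equiv hHI f
  obtain ⟨Φ, hΦe, hΦ⟩ := exists_model_iso hP he
  have hΦH : H.image Φ = H0 := by
    ext y
    unfold H0
    rw [Finset.mem_image, Finset.mem_image]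
    constructor
    · rintro ⟨x, hx, rfl⟩
      refine ⟨f.symm ⟨x, hx⟩, Finset.mem_univ _, ?_⟩
      rw [← hΦe]
      simp
    · rintro ⟨i, _, rfl⟩
      exact ⟨((f i : ↥H) : {a : Ω // a ≠ p}), (f i).2, hΦe i⟩
  have hEv := image_even hΩ hB p hH Φ hΦH hΦ
  set Ψ : Ω ≃ Option MPt := (Equiv.optionSubtypeNe p).symm.trans (Equiv.optionCongr Φ) with hΨ
  have hΨp : Ψ p = none := by
    rw [hΨ, Equiv.trans_apply, Equiv.optionSubtypeNe_symm_self]
    rfl
  have hΨx : ∀ (x : Ω) (hx : x ≠ p), Ψ x = some (Φ ⟨x, hx⟩) := by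
    intro x hx
    rw [hΨ, Equiv.trans_apply, Equiv.optionSubtypeNe_symm_of_ne hx]
    rfl
  have img_some : ∀ (b : Finset Ω) (y : MPt), some y ∈ b.image Ψ ↔ y ∈ (res p b).image Φ := by
    intro b y
    rw [Finset.mem_image, Finset.mem_image]
    constructor
    · rintro ⟨x, hx, hxy⟩
      by_cases hxp : x = p
      · rw [hxp, hΨp] at hxy; exact absurd hxy (by simp)
      · rw [hΨx x hxp] at hxy
        exact ⟨⟨x, hxp⟩, Finset.mem_subtype.mpr hx, Option.some.inj hxy⟩
    · rintro ⟨x, hx, rfl⟩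
      exact ⟨x.1, Finset.mem_subtype.mp hx, hΨx x.1 x.2⟩
  have img_none : ∀ (b : Finset Ω), none ∈ b.image Ψ ↔ p ∈ b := by
    intro b
    rw [Finset.mem_image]
    constructor
    · rintro ⟨x, hx, hxy⟩
      by_cases hxp : x = p
      · exact hxp ▸ hx
      · rw [hΨx x hxp] at hxy; exact absurd hxy (by simp)
    · intro hp
      exact ⟨p, hp, hΨp⟩
  have img_mem : ∀ b : Finset Ω, p ∈ b →
      b.image Ψ = insert none (((res p b).image Φ).image some) := by
    intro b hp
    ext c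
    rcases c with _ | y
    · simp only [img_none, hp, Finset.mem_insert, true_or]
    · rw [img_some, Finset.mem_insert]
      constructor
      · intro hy; exact Or.inr (Finset.mem_image_of_mem some hy)
      · rintro (hy | hy)
        · exact absurd hy (by simp)
        · obtain ⟨z, hz, hzy⟩ := Finset.mem_image.mp hy
          rw [← Option.some.inj hzy]; exact hz
  have img_not_mem : ∀ b : Finset Ω, p ∉ b → b.image Ψ = ((res p b).image Φ).image some := by
    intro b hp
    ext c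
    rcases c with _ | y
    · simp only [img_none, hp, Finset.mem_image, false_iff, not_exists, not_and]
      intro z _ hz
      exact absurd hz (by simp)
    · rw [img_some]
      constructor
      · intro hy; exact Finset.mem_image_of_mem some hy
      · intro hy
        obtain ⟨z, hz, hzy⟩ := Finset.mem_image.mp hy
        rw [← Option.some.inj hzy]; exact hz
  refine ⟨Ψ, ?_⟩
  apply Set.Subset.antisymm
  · rintro _ ⟨b, hb, rfl⟩
    by_cases hp : p ∈ b
    · left
      refine ⟨(res p b).image Φ, ?_, img_mem b hp⟩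
      have : (res p b).image Φ ∈ (↑mLines : Set (Finset MPt)) := by
        rw [← hΦ]; exact ⟨res p b, ⟨b, hb, hp, rfl⟩, rfl⟩
      exact this
    · right
      refine ⟨(res p b).image Φ, ?_, img_not_mem b hp⟩
      rw [← hEv]; exact ⟨res p b, ⟨b, hb, hp, rfl⟩, rfl⟩
  · rintro c (⟨l, hl, rfl⟩ | ⟨h, hh, rfl⟩)
    · have hl' : l ∈ (↑mLines : Set (Finset MPt)) := hl
      rw [← hΦ] at hl'
      obtain ⟨_, ⟨b, hb, hp, rfl⟩, rfl⟩ := hl'
      exact ⟨b, hb, img_mem b hp⟩
    · rw [← hEv] at hh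
      obtain ⟨_, ⟨b, hb, hp, rfl⟩, rfl⟩ := hh
      exact ⟨b, hb, img_not_mem b hp⟩

/-- S0410: uniqueness of S(3,6,22) -/
theorem s22_unique {Ω' : Type*} [Fintype Ω'] [DecidableEq Ω'] {B' : Set (Finset Ω')}
    (hΩ : Fintype.card Ω = 22) (hΩ' : Fintype.card Ω' = 22) (hB : Cfsg.IsSteinerSystem 3 6 B)
    (hB' : Cfsg.IsSteinerSystem 3 6 B') : Cfsg.SetSystemIso B B' := by
  obtain ⟨Ψ, hΨ⟩ := exists_iso_model hΩ hB
  obtain ⟨Ψ', hΨ'⟩ := exists_iso_model hΩ' hB'
  exact ⟨Ψ.trans Ψ'.symm, iso_of_model Ψ Ψ' hΨ hΨ'⟩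

end Cfsg.Agent.Helper93.S22
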