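/-
Helper93: the automorphism group of a Steiner system S(3,6,22) has order at most 22 * 56 * 720.
-/
import Cfsg.Agent.Helper93.S22Unique

set_option autoImplicit false
set_option linter.unusedSectionVars false

namespace Cfsg.Agent.Helper93.S22

open Finset Cfsg.Agent.Helper93.PP4
open scoped Pointwise

variable {Ω : Type*} [Fintype Ω] [DecidableEq Ω] {B : Set (Finset Ω)}

theorem ncard_blocks_off (hΩ : Fintype.card Ω = 22) (hB : Cfsg.IsSteinerSystem 3 6 B) (p : Ω) :
    {b | b ∈ B ∧ p ∉ b}.ncard = 56 := by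
  have h77 : B.ncard = 77 := by
    have h1 := Cfsg.Agent.Helper26.card_blocks hB
    rw [hΩ] at h1
    norm_num [Nat.choose] at h1
    omega
  have h21 : {b | b ∈ B ∧ p ∈ b}.ncard = 21 := by
    have h1 := Cfsg.Agent.Helper26.card_blocks_through hB {p} (by simp)
    rw [hΩ] at h1
    simp only [Finset.card_singleton, Finset.singleton_subset_iff] at h1
    norm_num [Nat.choose] at h1
    omega
  have hsub : {b | b ∈ B ∧ p ∈ b} ⊆ B := fun b hb => hb.1
  have hd : B \ {b | b ∈ B ∧ p ∈ b} = {b | b ∈ B ∧ p ∉ b} := by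
    ext b
    simp only [Set.mem_diff, Set.mem_setOf_eq, not_and]
    constructor
    · rintro ⟨h1, h2⟩; exact ⟨h1, h2 h1⟩
    · rintro ⟨h1, h2⟩; exact ⟨h1, fun _ => h2⟩
  rw [← hd, Set.ncard_diff hsub (Set.toFinite _), h77, h21]

theorem mem_iff_of_image_eq {κ : Equiv.Perm Ω} {b : Finset Ω} (h : b.image κ = b) (x : Ω) :
    κ x ∈ b ↔ x ∈ b := by
  constructor
  · intro hx
    rw [← h, Finset.mem_image] at hx
    obtain ⟨y, hy, hyx⟩ := hx
    rw [← κ.injective hyx]
    exact hy
  · intro hx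
    rw [← h]
    exact Finset.mem_image_of_mem _ hx

/-- rigidity: an automorphism fixing a point and, pointwise, a block off it is trivial -/
theorem aut_eq_one_of_fix (hΩ : Fintype.card Ω = 22) (hB : Cfsg.IsSteinerSystem 3 6 B)
    {g : Equiv.Perm Ω} (hg : g ∈ Cfsg.setSystemAut B) {p : Ω} {b : Finset Ω} (hb : b ∈ B)
    (hpb : p ∉ b) (hgp : g p = p) (hgb : ∀ x ∈ b, g x = x) : g = 1 := by
  have hP := isPP4_dLines hΩ hB p
  have hne : ∀ x : Ω, g x ≠ p ↔ x ≠ p := by
    intro x
    constructor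
    · intro h hx; exact h (hx ▸ hgp)
    · intro h hx
      apply h
      have : g x = g p := by rw [hx, hgp]
      exact g.injective this
  set g' : Equiv.Perm {a : Ω // a ≠ p} := g.subtypePerm hne with hg'
  have hg'x : ∀ x : {a : Ω // a ≠ p}, ((g' x : {a : Ω // a ≠ p}) : Ω) = g x := fun x => rfl
  have himg : ∀ c : Finset Ω, (res p c).image g' = res p (c.image g) := by
    intro c
    ext y
    rw [Finset.mem_image, Finset.mem_subtype, Finset.mem_image]
    constructor
    · rintro ⟨x, hx, rfl⟩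
      exact ⟨x.1, Finset.mem_subtype.mp hx, rfl⟩
    · rintro ⟨x, hx, hxy⟩
      have hxp : x ≠ p := (hne x).mp (hxy ▸ y.2)
      exact ⟨⟨x, hxp⟩, Finset.mem_subtype.mpr hx, Subtype.ext hxy⟩
  have hlines : ∀ l ∈ dLines B p, l.image g' ∈ dLines B p := by
    rintro l ⟨c, hc, hpc, rfl⟩
    refine ⟨c.image g, aut_image_mem hg hc, ?_, himg c⟩
    exact Finset.mem_image.mpr ⟨p, hpc, hgp⟩
  have hH : res p b ∈ dOvals B p := ⟨b, hb, hpb, rfl⟩
  have hH6 := dOvals_card hB hH
  have hHI := dOvals_ind hΩ hB hH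
  set f : Fin 6 ≃ ↥(res p b) := ((res p b).equivFinOfCardEq hH6).symm with hf
  have he := isLabel_of_equiv hHI f
  have hfix : ∀ i, g' ((f i : ↥(res p b)) : {a : Ω // a ≠ p}) = ((f i : ↥(res p b)) : {a : Ω // a ≠ p}) := by
    intro i
    apply Subtype.ext
    rw [hg'x]
    exact hgb _ (Finset.mem_subtype.mp (f i).2)
  have hall := aut_fix hP he g' hlines hfix
  ext x
  by_cases hx : x = p
  · rw [hx, hgp]; rfl
  · have := hall ⟨x, hx⟩
    have h2 := congrArg Subtype.val this
    rw [hg'x] at h2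
    exact h2

/-- the order of the automorphism group is at most `22 * 56 * 720` -/
theorem card_aut_le (hΩ : Fintype.card Ω = 22) (hB : Cfsg.IsSteinerSystem 3 6 B) :
    Nat.card (Cfsg.setSystemAut B) ≤ 887040 := by
  have hne : Nonempty Ω := by
    rw [← Fintype.card_pos_iff, hΩ]; norm_num
  obtain ⟨p⟩ := hne
  have hO : {b | b ∈ B ∧ p ∉ b}.Nonempty := by
    rw [← Set.ncard_pos (Set.toFinite _), ncard_blocks_off hΩ hB p]; norm_num
  obtain ⟨b, hb, hpb⟩ := hO
  -- step 1
  have h1 := Subgroup.index_mul_card (MulAction.stabilizer (↥(Cfsg.setSystemAut B)) p)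
  have i1 : (MulAction.stabilizer (↥(Cfsg.setSystemAut B)) p).index ≤ 22 := by
    rw [MulAction.index_stabilizer]
    calc (MulAction.orbit (↥(Cfsg.setSystemAut B)) p).ncard ≤ (Set.univ : Set Ω).ncard :=
          Set.ncard_le_ncard (Set.subset_univ _) (Set.toFinite _)
      _ = 22 := by rw [Set.ncard_univ, Nat.card_eq_fintype_card, hΩ]
  -- step 2
  have h2 := Subgroup.index_mul_card
    (MulAction.stabilizer (↥(MulAction.stabilizer (↥(Cfsg.setSystemAut B)) p)) b)
  have i2 : (MulAction.stabilizer (↥(MulAction.stabilizer (↥(Cfsg.setSystemAut B)) p)) b).index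
      ≤ 56 := by
    rw [MulAction.index_stabilizer, ← ncard_blocks_off hΩ hB p]
    apply Set.ncard_le_ncard _ (Set.toFinite _)
    rintro c ⟨k, rfl⟩
    have hkp : (k : ↥(Cfsg.setSystemAut B)).1 p = p := by
      have := k.2
      rw [MulAction.mem_stabilizer_iff] at this
      exact this
    refine ⟨aut_image_mem (k : ↥(Cfsg.setSystemAut B)).2 hb, ?_⟩
    intro hp
    have hp' : p ∈ b.image (k : ↥(Cfsg.setSystemAut B)).1 := hp
    rw [Finset.mem_image] at hp'
    obtain ⟨x, hx, hxp⟩ := hp'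
    have : x = p := (k : ↥(Cfsg.setSystemAut B)).1.injective (hxp.trans hkp.symm)
    exact hpb (this ▸ hx)
  -- step 3
  have i3 : Nat.card (MulAction.stabilizer (↥(MulAction.stabilizer (↥(Cfsg.setSystemAut B)) p)) b)
      ≤ 720 := by
    have hkb : ∀ k : MulAction.stabilizer (↥(MulAction.stabilizer (↥(Cfsg.setSystemAut B)) p)) b,
        b.image ((k : ↥(MulAction.stabilizer (↥(Cfsg.setSystemAut B)) p)) :
          ↥(Cfsg.setSystemAut B)).1 = b := by
      intro k
      have := k.2
      rw [MulAction.mem_stabilizer_iff] at this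
      exact this
    have hkp : ∀ k : MulAction.stabilizer (↥(MulAction.stabilizer (↥(Cfsg.setSystemAut B)) p)) b,
        ((k : ↥(MulAction.stabilizer (↥(Cfsg.setSystemAut B)) p)) :
          ↥(Cfsg.setSystemAut B)).1 p = p := by
      intro k
      have := (k : ↥(MulAction.stabilizer (↥(Cfsg.setSystemAut B)) p)).2
      rw [MulAction.mem_stabilizer_iff] at this
      exact this
    have hmem : ∀ (k : MulAction.stabilizer (↥(MulAction.stabilizer (↥(Cfsg.setSystemAut B)) p)) b)
        (x : Ω), ((k : ↥(MulAction.stabilizer (↥(Cfsg.setSystemAut B)) p)) :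
          ↥(Cfsg.setSystemAut B)).1 x ∈ b ↔ x ∈ b := by
      intro k x
      exact mem_iff_of_image_eq (hkb k) x
    have hinj : Function.Injective
        (fun k : MulAction.stabilizer (↥(MulAction.stabilizer (↥(Cfsg.setSystemAut B)) p)) b =>
          (((k : ↥(MulAction.stabilizer (↥(Cfsg.setSystemAut B)) p)) :
            ↥(Cfsg.setSystemAut B)).1.subtypePerm (hmem k) : Equiv.Perm {x // x ∈ b})) := by
      intro k k' hkk
      have hpt : ∀ x ∈ b, ((k : ↥(MulAction.stabilizer (↥(Cfsg.setSystemAut B)) p)) :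
          ↥(Cfsg.setSystemAut B)).1 x = ((k' : ↥(MulAction.stabilizer (↥(Cfsg.setSystemAut B)) p)) :
          ↥(Cfsg.setSystemAut B)).1 x := by
        intro x hx
        have := congrArg (fun σ : Equiv.Perm {x // x ∈ b} => ((σ ⟨x, hx⟩ : {x // x ∈ b}) : Ω)) hkk
        exact this
      have hone : (((k : ↥(MulAction.stabilizer (↥(Cfsg.setSystemAut B)) p)) :
          ↥(Cfsg.setSystemAut B)).1)⁻¹ * ((k' : ↥(MulAction.stabilizer (↥(Cfsg.setSystemAut B)) p)) :
          ↥(Cfsg.setSystemAut B)).1 = 1 := by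
        apply aut_eq_one_of_fix hΩ hB _ hb hpb
        · rw [Equiv.Perm.mul_apply, hkp k', Equiv.Perm.inv_eq_iff_eq, hkp k]
        · intro x hx
          rw [Equiv.Perm.mul_apply, ← hpt x hx]
          exact Equiv.symm_apply_apply _ _
        · exact Subgroup.mul_mem _ (Subgroup.inv_mem _
            ((k : ↥(MulAction.stabilizer (↥(Cfsg.setSystemAut B)) p)) : ↥(Cfsg.setSystemAut B)).2)
            ((k' : ↥(MulAction.stabilizer (↥(Cfsg.setSystemAut B)) p)) : ↥(Cfsg.setSystemAut B)).2
      have heq := inv_mul_eq_one.mp hone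
      exact Subtype.ext (Subtype.ext (Subtype.ext heq))
    have := Nat.card_le_card_of_injective _ hinj
    have e1 : Nat.card (Equiv.Perm {x // x ∈ b}) = 720 := by
      rw [Nat.card_eq_fintype_card, Fintype.card_perm, Fintype.card_coe, hB.1 b hb]
      rfl
    exact this.trans e1.le
  calc Nat.card (Cfsg.setSystemAut B)
      = (MulAction.stabilizer (↥(Cfsg.setSystemAut B)) p).index *
          ((MulAction.stabilizer (↥(MulAction.stabilizer (↥(Cfsg.setSystemAut B)) p)) b).index *
            Nat.card (MulAction.stabilizer (↥(MulAction.stabilizer (↥(Cfsg.setSystemAut B)) p)) b)) := by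
        rw [h2, h1]
    _ ≤ 22 * (56 * 720) := Nat.mul_le_mul i1 (Nat.mul_le_mul i2 i3)
    _ = 887040 := by norm_num

end Cfsg.Agent.Helper93.S22
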