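/-
Helper93: structure of the automorphism group of S(3,6,22) from a faithful action of a simple group
of order 443520 together with one more automorphism.
-/
import Cfsg.Agent.Helper93.S22Aut
import Cfsg.Prelude.Def_Sporadic

set_option autoImplicit false
set_option linter.unusedSectionVars false

namespace Cfsg.Agent.Helper93.S22

open Finset Cfsg.Agent.Helper93.PP4
open scoped Pointwise

variable {Ω : Type*} [Fintype Ω] [DecidableEq Ω] {B : Set (Finset Ω)}

/-- a permutation mapping blocks to blocks is an automorphism -/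
theorem aut_of_image_mem {g : Equiv.Perm Ω} (h : ∀ b ∈ B, b.image g ∈ B) :
    g ∈ Cfsg.setSystemAut B := by
  rw [mem_aut_iff]
  have hinj : Function.Injective (fun b : Finset Ω => b.image g) := Finset.image_injective g.injective
  apply Set.eq_of_subset_of_ncard_le
  · rintro _ ⟨b, hb, rfl⟩; exact h b hb
  · rw [Set.ncard_image_of_injective _ hinj]
  · exact Set.toFinite _

theorem aut_structure (hΩ : Fintype.card Ω = 22) (hB : Cfsg.IsSteinerSystem 3 6 B)
    {Γ : Type*} [Group Γ] (hΓs : IsSimpleGroup Γ) (hΓc : Nat.card Γ = 443520)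
    (ψ : Γ →* Equiv.Perm Ω) (hinj : Function.Injective ψ) (hmem : ∀ γ, ψ γ ∈ Cfsg.setSystemAut B)
    (t : Equiv.Perm Ω) (ht : t ∈ Cfsg.setSystemAut B) (htn : ∀ γ, ψ γ ≠ t)
    (htr : ∀ x y : Fin 3 ↪ Ω, ∃ γ, ∀ i, ψ γ (x i) = y i) :
    Nat.card (Cfsg.setSystemAut B) = 887040 ∧
      MulAction.IsMultiplyPretransitive (Cfsg.setSystemAut B) Ω 3 ∧
      ∃ H : Subgroup (Cfsg.setSystemAut B), H.index = 2 ∧ Cfsg.IsM22 H := by
  set ψ' : Γ →* ↥(Cfsg.setSystemAut B) := ψ.codRestrict _ hmem with hψ'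
  have hinj' : Function.Injective ψ' := by
    intro x y hxy
    apply hinj
    have := congrArg Subtype.val hxy
    exact this
  have e : Γ ≃* ↥ψ'.range := MonoidHom.ofInjective hinj'
  have hcard : Nat.card ψ'.range = 443520 := by rw [← Nat.card_congr e.toEquiv, hΓc]
  have hsimple : IsSimpleGroup ψ'.range := e.symm.isSimpleGroup
  have hmul := Subgroup.index_mul_card ψ'.range
  rw [hcard] at hmul
  have hle := card_aut_le hΩ hB
  have hne_top : ψ'.range ≠ ⊤ := by
    intro htop
    have : (⟨t, ht⟩ : ↥(Cfsg.setSystemAut B)) ∈ ψ'.range := by rw [htop]; trivial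
    obtain ⟨γ, hγ⟩ := this
    exact htn γ (congrArg Subtype.val hγ)
  have hi1 : ψ'.range.index ≠ 1 := fun h => hne_top (Subgroup.index_eq_one.mp h)
  have hi0 : ψ'.range.index ≠ 0 := Subgroup.index_ne_zero_of_finite
  have hi2 : ψ'.range.index = 2 := by
    have : ψ'.range.index * 443520 ≤ 887040 := by rw [hmul]; exact hle
    omega
  refine ⟨?_, ?_, ψ'.range, hi2, hsimple, hcard⟩
  · rw [← hmul, hi2]
  · rw [MulAction.isMultiplyPretransitive_iff]
    intro x y
    obtain ⟨γ, hγ⟩ := htr x y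
    refine ⟨ψ' γ, ?_⟩
    ext i
    exact hγ i

end Cfsg.Agent.Helper93.S22
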