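/-
Helper93: the Steiner system S(3,6,22) derived from the octads at two points, with the action of the
stabiliser of the two points in `M24`; the automorphism group of any S(3,6,22).
-/
import Cfsg.Agent.Helper93.S22AutMain
import Cfsg.Agent.Helper93.ChainTrans
import Cfsg.Agent.S0363
import Cfsg.Agent.S0378
import Cfsg.Agent.S0379

set_option autoImplicit false
set_option linter.unusedSectionVars false

namespace Cfsg.Agent.Helper93.S22

open Finset Cfsg Cfsg.Agent.Helper93.PP4
open scoped Pointwise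

/-- the 22 points other than `a`, `b` -/
abbrev Pt22 (a b : GolayPt) := {x : GolayPt // x ≠ a ∧ x ≠ b}

/-- the octads through `a` and `b`, with these points removed -/
def blocks22 (a b : GolayPt) : Set (Finset (Pt22 a b)) :=
  {c | ∃ o ∈ octads, a ∈ o ∧ b ∈ o ∧ c = o.subtype (fun x => x ≠ a ∧ x ≠ b)}

theorem card_pt22 {a b : GolayPt} (hab : a ≠ b) : Fintype.card (Pt22 a b) = 22 := by
  rw [Fintype.card_subtype]
  have : (univ.filter fun x : GolayPt => x ≠ a ∧ x ≠ b) = (univ.erase a).erase b := by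
    ext x
    simp only [Finset.mem_filter, Finset.mem_univ, true_and, Finset.mem_erase, and_true]
    tauto
  rw [this, Finset.card_erase_of_mem (Finset.mem_erase.mpr ⟨hab.symm, Finset.mem_univ b⟩),
    Finset.card_erase_of_mem (Finset.mem_univ a), Finset.card_univ]
  rfl

theorem steiner22 {a b : GolayPt} (hab : a ≠ b) : IsSteinerSystem 3 6 (blocks22 a b) := by
  have hO := Cfsg.Agent.S0363.result
  refine ⟨?_, ?_⟩
  · rintro c ⟨o, ho, hao, hbo, rfl⟩
    rw [Finset.card_subtype]
    have : (o.filter fun x : GolayPt => x ≠ a ∧ x ≠ b) = (o.erase a).erase b := by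
      ext x
      simp only [Finset.mem_filter, Finset.mem_erase]
      tauto
    rw [this, Finset.card_erase_of_mem (Finset.mem_erase.mpr ⟨hab.symm, hbo⟩),
      Finset.card_erase_of_mem hao, hO.1 o ho]
  · intro s hs
    set s' : Finset GolayPt := insert a (insert b (s.map (Function.Embedding.subtype _))) with hs'
    have hb' : b ∉ s.map (Function.Embedding.subtype fun x : GolayPt => x ≠ a ∧ x ≠ b) := by
      intro h
      rw [Finset.mem_map] at h
      obtain ⟨x, _, hx⟩ := h
      exact x.2.2 hx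
    have ha' : a ∉ insert b (s.map (Function.Embedding.subtype fun x : GolayPt => x ≠ a ∧ x ≠ b)) := by
      intro h
      rw [Finset.mem_insert] at h
      rcases h with h | h
      · exact hab h
      · rw [Finset.mem_map] at h
        obtain ⟨x, _, hx⟩ := h
        exact x.2.1 hx
    have hcard : s'.card = 5 := by
      rw [hs', Finset.card_insert_of_notMem ha', Finset.card_insert_of_notMem hb', Finset.card_map, hs]
    obtain ⟨o, ⟨ho, hso⟩, huniq⟩ := hO.2 s' hcard
    have hao : a ∈ o := hso (Finset.mem_insert_self _ _)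
    have hbo : b ∈ o := hso (Finset.mem_insert_of_mem (Finset.mem_insert_self _ _))
    have hsub : ∀ (o' : Finset GolayPt), a ∈ o' → b ∈ o' →
        s ⊆ o'.subtype (fun x => x ≠ a ∧ x ≠ b) → s' ⊆ o' := by
      intro o' hao' hbo' hsub x hx
      rw [hs', Finset.mem_insert, Finset.mem_insert, Finset.mem_map] at hx
      rcases hx with rfl | rfl | ⟨y, hy, rfl⟩
      · exact hao'
      · exact hbo'
      · exact Finset.mem_subtype.mp (hsub hy)
    refine ⟨o.subtype (fun x => x ≠ a ∧ x ≠ b), ⟨⟨o, ho, hao, hbo, rfl⟩, ?_⟩, ?_⟩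
    · intro x hx
      rw [Finset.mem_subtype]
      apply hso
      rw [hs', Finset.mem_insert, Finset.mem_insert, Finset.mem_map]
      exact Or.inr (Or.inr ⟨x, hx, rfl⟩)
    · rintro c ⟨⟨o', ho', hao', hbo', rfl⟩, hsc⟩
      rw [huniq o' ⟨ho', hsub o' hao' hbo' hsc⟩]

theorem octad_image {g : Equiv.Perm GolayPt} (hg : g ∈ M24) {o : Finset GolayPt} (ho : o ∈ octads) :
    o.image g ∈ octads :=
  ⟨aut_image_mem hg ho.1, by rw [Finset.card_image_of_injective _ g.injective]; exact ho.2⟩

/-- `g` maps the pair `{a, b}` to itself -/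
def StabPair (a b : GolayPt) (g : Equiv.Perm GolayPt) : Prop :=
  ∀ x, (g x ≠ a ∧ g x ≠ b) ↔ (x ≠ a ∧ x ≠ b)

theorem StabPair.mem_of_image {a b : GolayPt} {g : Equiv.Perm GolayPt} (h : StabPair a b g)
    {o : Finset GolayPt} (hao : a ∈ o) (hbo : b ∈ o) : a ∈ o.image g ∧ b ∈ o.image g := by
  have key : ∀ y, (y = a ∨ y = b) → y ∈ o.image g := by
    intro y hy
    have := (h (g.symm y))
    rw [Equiv.apply_symm_apply] at this
    have h2 : ¬ (g.symm y ≠ a ∧ g.symm y ≠ b) := by
      rw [← this]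
      rintro ⟨h1, h2⟩
      rcases hy with rfl | rfl
      · exact h1 rfl
      · exact h2 rfl
    rw [Finset.mem_image]
    refine ⟨g.symm y, ?_, Equiv.apply_symm_apply _ _⟩
    by_cases h3 : g.symm y = a
    · rw [h3]; exact hao
    · by_cases h4 : g.symm y = b
      · rw [h4]; exact hbo
      · exact absurd ⟨h3, h4⟩ h2
  exact ⟨key a (Or.inl rfl), key b (Or.inr rfl)⟩

/-- restriction to the 22 points -/
def resPerm (a b : GolayPt) (g : Equiv.Perm GolayPt) (h : StabPair a b g) : Equiv.Perm (Pt22 a b) :=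
  g.subtypePerm h

theorem resPerm_apply {a b : GolayPt} (g : Equiv.Perm GolayPt) (h : StabPair a b g) (x : Pt22 a b) :
    ((resPerm a b g h x : Pt22 a b) : GolayPt) = g x := rfl

theorem resPerm_mem {a b : GolayPt} {g : Equiv.Perm GolayPt} (hg : g ∈ M24) (h : StabPair a b g) :
    resPerm a b g h ∈ Cfsg.setSystemAut (blocks22 a b) := by
  apply aut_of_image_mem
  rintro c ⟨o, ho, hao, hbo, rfl⟩
  obtain ⟨ha', hb'⟩ := h.mem_of_image hao hbo
  refine ⟨o.image g, octad_image hg ho, ha', hb', ?_⟩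
  ext y
  rw [Finset.mem_image, Finset.mem_subtype, Finset.mem_image]
  constructor
  · rintro ⟨x, hx, rfl⟩
    exact ⟨x.1, Finset.mem_subtype.mp hx, rfl⟩
  · rintro ⟨x, hx, hxy⟩
    have hxp : x ≠ a ∧ x ≠ b := (h x).mp (hxy ▸ y.2)
    exact ⟨⟨x, hxp⟩, Finset.mem_subtype.mpr hx, Subtype.ext hxy⟩

/-- no element of `M24` is a transposition -/
theorem no_transposition {a b : GolayPt} (hab : a ≠ b) {h : Equiv.Perm GolayPt} (hh : h ∈ M24)
    (ha : h a = b) (hfix : ∀ x, x ≠ a → x ≠ b → h x = x) : False := by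
  have hO := Cfsg.Agent.S0363.result
  -- an octad through a, not through b
  have h253 : {o | o ∈ octads ∧ a ∈ o}.ncard = 253 := by
    have h1 := Cfsg.Agent.Helper26.card_blocks_through hO {a} (by simp)
    simp only [Finset.card_singleton, Finset.singleton_subset_iff] at h1
    have : Fintype.card GolayPt = 24 := rfl
    rw [this] at h1
    norm_num [Nat.choose] at h1
    omega
  have h77 : {o | o ∈ octads ∧ {a, b} ⊆ o}.ncard = 77 := by
    have h1 := Cfsg.Agent.Helper26.card_blocks_through hO {a, b} (by rw [Finset.card_pair hab]; norm_num)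
    rw [Finset.card_pair hab] at h1
    have : Fintype.card GolayPt = 24 := rfl
    rw [this] at h1
    norm_num [Nat.choose] at h1
    omega
  have hex : ∃ o, o ∈ octads ∧ a ∈ o ∧ b ∉ o := by
    by_contra hcon
    have hsub : {o | o ∈ octads ∧ a ∈ o} ⊆ {o | o ∈ octads ∧ {a, b} ⊆ o} := by
      rintro o ⟨ho, hao⟩
      refine ⟨ho, ?_⟩
      intro x hx
      rw [Finset.mem_insert, Finset.mem_singleton] at hx
      rcases hx with rfl | rfl
      · exact hao
      · by_contra hbo
        exact hcon ⟨o, ho, hao, hbo⟩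
    have := Set.ncard_le_ncard hsub (Set.toFinite _)
    rw [h253, h77] at this
    omega
  obtain ⟨o, ho, hao, hbo⟩ := hex
  have ho' := octad_image hh ho
  -- the two octads share the seven points of `o.erase a`
  have hsub1 : o.erase a ⊆ o := Finset.erase_subset _ _
  have hsub2 : o.erase a ⊆ o.image h := by
    intro x hx
    rw [Finset.mem_erase] at hx
    rw [Finset.mem_image]
    exact ⟨x, hx.2, hfix x hx.1 (fun hxb => hbo (hxb ▸ hx.2))⟩
  have h7 : (o.erase a).card = 7 := by rw [Finset.card_erase_of_mem hao, hO.1 o ho]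
  obtain ⟨s, hs, hs5⟩ := Finset.exists_subset_card_eq (show 5 ≤ (o.erase a).card by rw [h7]; norm_num)
  obtain ⟨o₀, _, huniq⟩ := hO.2 s hs5
  have e1 := huniq o ⟨ho, hs.trans hsub1⟩
  have e2 := huniq (o.image h) ⟨ho', hs.trans hsub2⟩
  have : b ∈ o.image h := Finset.mem_image.mpr ⟨a, hao, ha⟩
  rw [e2, ← e1] at this
  exact hbo this

section main

variable {a b : GolayPt}

/-- the pointwise stabiliser of `a`, `b` in `M24` -/
abbrev M22g (a b : GolayPt) : Subgroup ↥M24 := MulAction.stabilizer M24 a ⊓ MulAction.stabilizer M24 b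

theorem M22g_fix (γ : ↥(M22g a b)) : (γ : ↥M24).1 a = a ∧ (γ : ↥M24).1 b = b := by
  have h := γ.2
  rw [Subgroup.mem_inf, MulAction.mem_stabilizer_iff, MulAction.mem_stabilizer_iff] at h
  exact h

theorem stabPair_of_fix {g : Equiv.Perm GolayPt} (ha : g a = a) (hb : g b = b) : StabPair a b g := by
  intro x
  constructor
  · rintro ⟨h1, h2⟩
    exact ⟨fun hx => h1 (hx ▸ ha), fun hx => h2 (hx ▸ hb)⟩
  · rintro ⟨h1, h2⟩
    refine ⟨fun hx => h1 (g.injective (hx.trans ha.symm)), fun hx => h2 (g.injective (hx.trans hb.symm))⟩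

theorem stabPair_of_swap {g : Equiv.Perm GolayPt} (ha : g a = b) (hb : g b = a) : StabPair a b g := by
  intro x
  constructor
  · rintro ⟨h1, h2⟩
    exact ⟨fun hx => h2 (hx ▸ ha), fun hx => h1 (hx ▸ hb)⟩
  · rintro ⟨h1, h2⟩
    refine ⟨fun hx => h2 (g.injective (hx.trans hb.symm)), fun hx => h1 (g.injective (hx.trans ha.symm))⟩

/-- the action of the two-point stabiliser on the 22 points -/
def rho (a b : GolayPt) : ↥(M22g a b) →* Equiv.Perm (Pt22 a b) where
  toFun γ := resPerm a b (γ : ↥M24).1 (stabPair_of_fix (M22g_fix γ).1 (M22g_fix γ).2)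
  map_one' := by
    ext x
    rfl
  map_mul' γ γ' := by
    ext x
    rfl

theorem rho_apply (γ : ↥(M22g a b)) (x : Pt22 a b) :
    ((rho a b γ x : Pt22 a b) : GolayPt) = (γ : ↥M24).1 x := rfl

theorem rho_injective : Function.Injective (rho a b) := by
  intro γ γ' h
  apply Subtype.ext
  apply Subtype.ext
  apply Equiv.ext
  intro x
  by_cases hxa : x = a
  · rw [hxa, (M22g_fix γ).1, (M22g_fix γ').1]
  · by_cases hxb : x = b
    · rw [hxb, (M22g_fix γ).2, (M22g_fix γ').2]
    · have := congrArg (fun σ : Equiv.Perm (Pt22 a b) => ((σ ⟨x, hxa, hxb⟩ : Pt22 a b) : GolayPt)) h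
      exact this

/-- five-transitivity in two-sided form -/
theorem m24_map5 (x y : Fin 5 → GolayPt) (hx : Function.Injective x) (hy : Function.Injective y) :
    ∃ g ∈ M24, ∀ i, g (x i) = y i := by
  have nd : ∀ z : Fin 5 → GolayPt, Function.Injective z → [z 0, z 1, z 2, z 3, z 4].Nodup := by
    intro z hz
    have : [z 0, z 1, z 2, z 3, z 4] = List.ofFn z := by
      simp [List.ofFn_succ]
    rw [this]
    exact List.nodup_ofFn.mpr hz
  obtain ⟨g₁, hg₁, h10, h11, h12, h13, h14⟩ :=
    Cfsg.Agent.Helper93.m24_five_transitive (x 0) (x 1) (x 2) (x 3) (x 4) (nd x hx)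
  obtain ⟨g₂, hg₂, h20, h21, h22, h23, h24⟩ :=
    Cfsg.Agent.Helper93.m24_five_transitive (y 0) (y 1) (y 2) (y 3) (y 4) (nd y hy)
  refine ⟨g₂ * g₁⁻¹, Subgroup.mul_mem _ hg₂ (Subgroup.inv_mem _ hg₁), ?_⟩
  have key : ∀ z, g₁⁻¹ (g₁ z) = z := fun z => Equiv.symm_apply_apply g₁ z
  intro i
  rw [Equiv.Perm.mul_apply]
  fin_cases i
  · show g₂ (g₁⁻¹ (x 0)) = y 0
    rw [← h10, key, h20]
  · show g₂ (g₁⁻¹ (x 1)) = y 1
    rw [← h11, key, h21]
  · show g₂ (g₁⁻¹ (x 2)) = y 2
    rw [← h12, key, h22]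
  · show g₂ (g₁⁻¹ (x 3)) = y 3
    rw [← h13, key, h23]
  · show g₂ (g₁⁻¹ (x 4)) = y 4
    rw [← h14, key, h24]

end main

end Cfsg.Agent.Helper93.S22
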