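/-
Helper93: the automorphism group of any Steiner system S(3,6,22) (statement S0414).
-/
import Cfsg.Agent.Helper93.S22Golay

set_option autoImplicit false
set_option linter.unusedSectionVars false

namespace Cfsg.Agent.Helper93.S22

open Finset Cfsg Cfsg.Agent.Helper93.PP4 Cfsg.Agent.Helper7
open scoped Pointwise

theorem permCongr_mem_aut {α β : Type*} [DecidableEq α] [DecidableEq β] [Fintype α] [Fintype β]
    {B₁ : Set (Finset α)} {B₂ : Set (Finset β)} (e : α ≃ β)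
    (he : (fun b : Finset α => b.image e) '' B₁ = B₂) {σ : Equiv.Perm α}
    (hσ : σ ∈ Cfsg.setSystemAut B₁) : e.permCongr σ ∈ Cfsg.setSystemAut B₂ := by
  apply aut_of_image_mem
  intro bl hbl
  rw [← he] at hbl
  obtain ⟨c, hc, rfl⟩ := hbl
  rw [← he]
  refine ⟨c.image σ, aut_image_mem hσ hc, ?_⟩
  show (c.image σ).image e = (c.image e).image (e.permCongr σ)
  rw [Finset.image_image, Finset.image_image]
  congr 1
  funext x
  simp [Equiv.permCongr_apply]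

theorem inj5 {γ : Type*} (a b c0 c1 c2 : γ) (hab : a ≠ b) (ha0 : a ≠ c0) (ha1 : a ≠ c1) (ha2 : a ≠ c2)
    (hb0 : b ≠ c0) (hb1 : b ≠ c1) (hb2 : b ≠ c2) (h01 : c0 ≠ c1) (h02 : c0 ≠ c2) (h12 : c1 ≠ c2) :
    Function.Injective ![a, b, c0, c1, c2] := by
  rw [← List.nodup_ofFn]
  have : List.ofFn ![a, b, c0, c1, c2] = [a, b, c0, c1, c2] := by simp [List.ofFn_succ]
  rw [this]
  simp only [List.nodup_cons, List.mem_cons, List.not_mem_nil, or_false, not_or, List.nodup_nil,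
    and_true, not_false_eq_true]
  exact ⟨⟨hab, ha0, ha1, ha2⟩, ⟨hb0, hb1, hb2⟩, ⟨h01, h02⟩, h12⟩

/-- statement S0414 -/
theorem s22_aut {α : Type*} [Fintype α] [DecidableEq α] (hα : Fintype.card α = 22)
    {B : Set (Finset α)} (hB : Cfsg.IsSteinerSystem 3 6 B) :
    Nat.card (Cfsg.setSystemAut B) = 887040 ∧
      MulAction.IsMultiplyPretransitive (Cfsg.setSystemAut B) α 3 ∧
      ∃ H : Subgroup (Cfsg.setSystemAut B), H.index = 2 ∧ Cfsg.IsM22 H := by
  have hab : pt 0 ≠ pt 1 := by decide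
  obtain ⟨e, he⟩ := s22_unique (card_pt22 hab) hα (steiner22 hab) hB
  have hΓs := Cfsg.Agent.S0379.result (pt 0) (pt 1) hab
  have hΓc := Cfsg.Agent.S0378.result (pt 0) (pt 1) hab
  -- the swap
  have h2 : pt 0 ≠ pt 2 := by decide
  have h3 : pt 0 ≠ pt 3 := by decide
  have h4 : pt 0 ≠ pt 4 := by decide
  have h12 : pt 1 ≠ pt 2 := by decide
  have h13 : pt 1 ≠ pt 3 := by decide
  have h14 : pt 1 ≠ pt 4 := by decide
  have h23 : pt 2 ≠ pt 3 := by decide
  have h24 : pt 2 ≠ pt 4 := by decide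
  have h34 : pt 3 ≠ pt 4 := by decide
  obtain ⟨s, hs, hsw⟩ := m24_map5 ![pt 0, pt 1, pt 2, pt 3, pt 4] ![pt 1, pt 0, pt 2, pt 3, pt 4]
    (inj5 _ _ _ _ _ hab h2 h3 h4 h12 h13 h14 h23 h24 h34)
    (inj5 _ _ _ _ _ hab.symm h12 h13 h14 h2 h3 h4 h23 h24 h34)
  have hs0 : s (pt 0) = pt 1 := hsw 0
  have hs1 : s (pt 1) = pt 0 := hsw 1
  have hsP := stabPair_of_swap hs0 hs1
  refine aut_structure hα hB hΓs hΓc ((e.permCongrHom).toMonoidHom.comp (rho (pt 0) (pt 1))) ?_ ?_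
    (e.permCongr (resPerm (pt 0) (pt 1) s hsP)) ?_ ?_ ?_
  · exact e.permCongrHom.injective.comp rho_injective
  · intro γ
    exact permCongr_mem_aut e he (resPerm_mem (γ : ↥M24).2
      (stabPair_of_fix (M22g_fix γ).1 (M22g_fix γ).2))
  · exact permCongr_mem_aut e he (resPerm_mem hs hsP)
  · intro γ hγ
    have hγ' : rho (pt 0) (pt 1) γ = resPerm (pt 0) (pt 1) s hsP := e.permCongr.injective hγ
    have hpt : ∀ x : GolayPt, x ≠ pt 0 → x ≠ pt 1 → (γ : ↥M24).1 x = s x := by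
      intro x hx0 hx1
      have := congrArg (fun σ : Equiv.Perm (Pt22 (pt 0) (pt 1)) =>
        ((σ ⟨x, hx0, hx1⟩ : Pt22 (pt 0) (pt 1)) : GolayPt)) hγ'
      exact this
    have hfix := M22g_fix γ
    apply no_transposition (h := ((γ : ↥M24).1)⁻¹ * s) hab
      (Subgroup.mul_mem _ (Subgroup.inv_mem _ (γ : ↥M24).2) hs)
    · rw [Equiv.Perm.mul_apply, hs0, Equiv.Perm.inv_eq_iff_eq, hfix.2]
    · intro x hx0 hx1
      rw [Equiv.Perm.mul_apply, ← hpt x hx0 hx1]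
      exact Equiv.symm_apply_apply _ _
  · intro x y
    have hx' : ∀ i, (e.symm (x i) : GolayPt) ≠ pt 0 ∧ (e.symm (x i) : GolayPt) ≠ pt 1 :=
      fun i => (e.symm (x i)).2
    have hy' : ∀ i, (e.symm (y i) : GolayPt) ≠ pt 0 ∧ (e.symm (y i) : GolayPt) ≠ pt 1 :=
      fun i => (e.symm (y i)).2
    have hxinj : ∀ i j, i ≠ j → (e.symm (x i) : GolayPt) ≠ (e.symm (x j) : GolayPt) := by
      intro i j hij h
      exact hij (x.injective (e.symm.injective (Subtype.ext h)))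
    have hyinj : ∀ i j, i ≠ j → (e.symm (y i) : GolayPt) ≠ (e.symm (y j) : GolayPt) := by
      intro i j hij h
      exact hij (y.injective (e.symm.injective (Subtype.ext h)))
    obtain ⟨g, hg, hgm⟩ := m24_map5
      ![pt 0, pt 1, (e.symm (x 0) : GolayPt), (e.symm (x 1) : GolayPt), (e.symm (x 2) : GolayPt)]
      ![pt 0, pt 1, (e.symm (y 0) : GolayPt), (e.symm (y 1) : GolayPt), (e.symm (y 2) : GolayPt)]
      (inj5 _ _ _ _ _ hab (hx' 0).1.symm (hx' 1).1.symm (hx' 2).1.symm (hx' 0).2.symm (hx' 1).2.symm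
        (hx' 2).2.symm (hxinj 0 1 (by decide)) (hxinj 0 2 (by decide)) (hxinj 1 2 (by decide)))
      (inj5 _ _ _ _ _ hab (hy' 0).1.symm (hy' 1).1.symm (hy' 2).1.symm (hy' 0).2.symm (hy' 1).2.symm
        (hy' 2).2.symm (hyinj 0 1 (by decide)) (hyinj 0 2 (by decide)) (hyinj 1 2 (by decide)))
    have hg0 : g (pt 0) = pt 0 := hgm 0
    have hg1 : g (pt 1) = pt 1 := hgm 1
    have hgx : ∀ i : Fin 3, g (e.symm (x i) : GolayPt) = (e.symm (y i) : GolayPt) := by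
      intro i
      fin_cases i
      · exact hgm 2
      · exact hgm 3
      · exact hgm 4
    have hmem : (⟨g, hg⟩ : ↥M24) ∈ M22g (pt 0) (pt 1) := by
      rw [Subgroup.mem_inf, MulAction.mem_stabilizer_iff, MulAction.mem_stabilizer_iff]
      exact ⟨hg0, hg1⟩
    refine ⟨⟨⟨g, hg⟩, hmem⟩, fun i => ?_⟩
    show e (rho (pt 0) (pt 1) ⟨⟨g, hg⟩, hmem⟩ (e.symm (x i))) = y i
    have : rho (pt 0) (pt 1) ⟨⟨g, hg⟩, hmem⟩ (e.symm (x i)) = e.symm (y i) := by
      apply Subtype.ext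
      rw [rho_apply]
      exact hgx i
    rw [this, Equiv.apply_symm_apply]

end Cfsg.Agent.Helper93.S22
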