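/-
Helper93: the point-block graph of a set system (Higman-Sims graph for S(3,6,22)):
isomorphisms induced by isomorphisms of set systems, the automorphisms fixing the extra vertex.
-/
import Cfsg.Agent.Helper93.S22AutFinal

set_option autoImplicit false
set_option linter.unusedSectionVars false

namespace Cfsg.Agent.Helper93.HS

open Cfsg Cfsg.Agent.Helper93.PP4 Cfsg.Agent.Helper93.S22

section adj

variable {α : Type*} (B : Set (Finset α))

theorem adj_iff (x y : Option (α ⊕ B)) :
    (pointBlockGraph B).Adj x y ↔ x ≠ y ∧ (pointBlockRel B x y ∨ pointBlockRel B y x) := by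
  simp [pointBlockGraph, SimpleGraph.fromRel_adj]

theorem adj_none_inl (a : α) : (pointBlockGraph B).Adj none (some (Sum.inl a)) := by
  simp [pointBlockGraph, SimpleGraph.fromRel_adj, pointBlockRel]

theorem adj_none_inr (b : B) : ¬ (pointBlockGraph B).Adj none (some (Sum.inr b)) := by
  simp [pointBlockGraph, SimpleGraph.fromRel_adj, pointBlockRel]

theorem adj_inl_inl (a a' : α) :
    ¬ (pointBlockGraph B).Adj (some (Sum.inl a)) (some (Sum.inl a')) := by
  simp [pointBlockGraph, SimpleGraph.fromRel_adj, pointBlockRel]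

theorem adj_inl_inr (a : α) (b : B) :
    (pointBlockGraph B).Adj (some (Sum.inl a)) (some (Sum.inr b)) ↔ a ∈ b.1 := by
  simp [pointBlockGraph, SimpleGraph.fromRel_adj, pointBlockRel]

theorem adj_inr_inr (b c : B) :
    (pointBlockGraph B).Adj (some (Sum.inr b)) (some (Sum.inr c)) ↔
      b ≠ c ∧ Disjoint b.1 c.1 := by
  simp only [pointBlockGraph, SimpleGraph.fromRel_adj, pointBlockRel, ne_eq, Option.some.injEq,
    Sum.inr.injEq]
  constructor
  · rintro ⟨h1, h2 | h2⟩
    · exact ⟨h1, h2⟩
    · exact ⟨h1, h2.symm⟩
  · rintro ⟨h1, h2⟩; exact ⟨h1, Or.inl h2⟩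

end adj

section iso

variable {α β : Type*} [DecidableEq α] [DecidableEq β]

/-- the bijection between the blocks of two isomorphic set systems -/
def blockEquiv (e : α ≃ β) {B : Set (Finset α)} {B' : Set (Finset β)}
    (h : (fun b : Finset α => b.image e) '' B = B') : ↥B ≃ ↥B' where
  toFun b := ⟨b.1.image e, by rw [← h]; exact ⟨b.1, b.2, rfl⟩⟩
  invFun b' := ⟨b'.1.image e.symm, by
    have hb2 : (b'.1 : Finset β) ∈ (fun b : Finset α => b.image e) '' B := by
      rw [h]; exact b'.2
    obtain ⟨b, hb, hb'⟩ := hb2
    rw [← hb']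
    simp only [Finset.image_image, Equiv.symm_comp_self, Finset.image_id]
    exact hb⟩
  left_inv b := by
    apply Subtype.ext
    simp [Finset.image_image]
  right_inv b' := by
    apply Subtype.ext
    simp [Finset.image_image]

@[simp] theorem blockEquiv_coe (e : α ≃ β) {B : Set (Finset α)} {B' : Set (Finset β)}
    (h : (fun b : Finset α => b.image e) '' B = B') (b : ↥B) :
    ((blockEquiv e h b : ↥B') : Finset β) = b.1.image e := rfl

/-- the vertex bijection induced by an isomorphism of set systems -/
def vertEquiv (e : α ≃ β) {B : Set (Finset α)} {B' : Set (Finset β)}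
    (h : (fun b : Finset α => b.image e) '' B = B') : Option (α ⊕ B) ≃ Option (β ⊕ B') :=
  Equiv.optionCongr (Equiv.sumCongr e (blockEquiv e h))

theorem rel_iff (e : α ≃ β) {B : Set (Finset α)} {B' : Set (Finset β)}
    (h : (fun b : Finset α => b.image e) '' B = B') (x y : Option (α ⊕ B)) :
    pointBlockRel B' (vertEquiv e h x) (vertEquiv e h y) ↔ pointBlockRel B x y := by
  rcases x with _ | x | x <;> rcases y with _ | y | y <;>
    simp [vertEquiv, pointBlockRel, Finset.disjoint_image e.injective]

/-- an isomorphism of set systems induces an isomorphism of point-block graphs -/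
def pbgIso (e : α ≃ β) {B : Set (Finset α)} {B' : Set (Finset β)}
    (h : (fun b : Finset α => b.image e) '' B = B') : pointBlockGraph B ≃g pointBlockGraph B' where
  toEquiv := vertEquiv e h
  map_rel_iff' := by
    intro x y
    rw [adj_iff, adj_iff, rel_iff, rel_iff, ne_eq, ne_eq, (vertEquiv e h).apply_eq_iff_eq]

@[simp] theorem pbgIso_none (e : α ≃ β) {B : Set (Finset α)} {B' : Set (Finset β)}
    (h : (fun b : Finset α => b.image e) '' B = B') : pbgIso e h none = none := rfl

@[simp] theorem pbgIso_inl (e : α ≃ β) {B : Set (Finset α)} {B' : Set (Finset β)}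
    (h : (fun b : Finset α => b.image e) '' B = B') (a : α) :
    pbgIso e h (some (Sum.inl a)) = some (Sum.inl (e a)) := rfl

@[simp] theorem pbgIso_inr (e : α ≃ β) {B : Set (Finset α)} {B' : Set (Finset β)}
    (h : (fun b : Finset α => b.image e) '' B = B') (b : ↥B) :
    pbgIso e h (some (Sum.inr b)) = some (Sum.inr (blockEquiv e h b)) := rfl

end iso

end Cfsg.Agent.Helper93.HS
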