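/-
Helper93: the automorphisms of the point-block graph fixing the extra vertex are exactly the
automorphisms of the set system.
-/
import Cfsg.Agent.Helper93.HSGraph

set_option autoImplicit false
set_option linter.unusedSectionVars false

namespace Cfsg.Agent.Helper93.HS

open Cfsg Cfsg.Agent.Helper93.PP4 Cfsg.Agent.Helper93.S22

variable {α : Type*} [Fintype α] [DecidableEq α]

/-- the graph automorphism induced by an automorphism of the set system -/
def autHom (B : Set (Finset α)) :
    ↥(setSystemAut B) →* (pointBlockGraph B ≃g pointBlockGraph B) where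
  toFun g := pbgIso g.1 ((mem_aut_iff g.1).mp g.2)
  map_one' := by
    apply RelIso.ext
    intro x
    rcases x with _ | x | x
    · rfl
    · rfl
    · rw [pbgIso_inr]
      show _ = some (Sum.inr x)
      congr 2
      apply Subtype.ext
      simp
  map_mul' g h := by
    apply RelIso.ext
    intro x
    rcases x with _ | x | x
    · rfl
    · rfl
    · rw [RelIso.mul_apply, pbgIso_inr, pbgIso_inr, pbgIso_inr]
      congr 2
      apply Subtype.ext
      simp [Finset.image_image]

variable {B : Set (Finset α)}

@[simp] theorem autHom_none (g : ↥(setSystemAut B)) : autHom B g none = none := rfl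

@[simp] theorem autHom_inl (g : ↥(setSystemAut B)) (a : α) :
    autHom B g (some (Sum.inl a)) = some (Sum.inl (g.1 a)) := rfl

theorem autHom_inr (g : ↥(setSystemAut B)) (b : ↥B) :
    ∃ c : ↥B, autHom B g (some (Sum.inr b)) = some (Sum.inr c) ∧ c.1 = b.1.image g.1 :=
  ⟨_, rfl, rfl⟩

theorem autHom_injective : Function.Injective (autHom B) := by
  intro g h hgh
  apply Subtype.ext
  apply Equiv.ext
  intro a
  have := congrArg (fun f : pointBlockGraph B ≃g pointBlockGraph B => f (some (Sum.inl a))) hgh
  simpa using this

/-- an automorphism of the graph fixing the extra vertex comes from the set system -/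
theorem exists_autHom_eq (f : pointBlockGraph B ≃g pointBlockGraph B) (hf : f none = none) :
    ∃ g : ↥(setSystemAut B), autHom B g = f := by
  have key : ∀ f : pointBlockGraph B ≃g pointBlockGraph B, f none = none →
      ∀ a, ∃ a', f (some (Sum.inl a)) = some (Sum.inl a') := by
    intro f hf a
    have h1 : (pointBlockGraph B).Adj (f none) (f (some (Sum.inl a))) :=
      f.map_rel_iff.mpr (adj_none_inl B a)
    rw [hf] at h1
    rcases hx : f (some (Sum.inl a)) with _ | x | x
    · rw [hx] at h1; exact absurd h1 (SimpleGraph.irrefl _)
    · exact ⟨x, rfl⟩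
    · rw [hx] at h1; exact absurd h1 (adj_none_inr B x)
  have hf' : f.symm none = none := by
    rw [RelIso.symm_apply_eq]; exact hf.symm
  choose g hg using key f hf
  choose g' hg' using key f.symm hf'
  let ge : Equiv.Perm α :=
    { toFun := g
      invFun := g'
      left_inv := by
        intro a
        have h1 : f.symm (f (some (Sum.inl a))) = some (Sum.inl a) := f.symm_apply_apply _
        rw [hg, hg'] at h1
        simpa using h1
      right_inv := by
        intro a
        have h1 : f (f.symm (some (Sum.inl a))) = some (Sum.inl a) := f.apply_symm_apply _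
        rw [hg', hg] at h1
        simpa using h1 }
  have hge : ∀ a, ge a = g a := fun a => rfl
  -- blocks go to blocks
  have hblk : ∀ b : ↥B, ∃ c : ↥B, f (some (Sum.inr b)) = some (Sum.inr c) := by
    intro b
    rcases hx : f (some (Sum.inr b)) with _ | x | x
    · exfalso
      rw [← hf] at hx
      exact absurd (f.injective hx) (by simp)
    · exfalso
      have h1 : f (some (Sum.inl (g' x))) = some (Sum.inl x) := by
        rw [← hg']; exact f.apply_symm_apply _
      rw [← h1] at hx
      exact absurd (f.injective hx) (by simp)
    · exact ⟨x, rfl⟩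
  choose c hc using hblk
  have himg : ∀ b : ↥B, (c b).1 = b.1.image ge := by
    intro b
    ext x
    have h1 : (pointBlockGraph B).Adj (f (some (Sum.inl (g' x)))) (f (some (Sum.inr b))) ↔
        (pointBlockGraph B).Adj (some (Sum.inl (g' x))) (some (Sum.inr b)) := f.map_rel_iff
    have h2 : f (some (Sum.inl (g' x))) = some (Sum.inl x) := by
      rw [← hg']; exact f.apply_symm_apply _
    rw [h2, hc, adj_inl_inr, adj_inl_inr] at h1
    rw [h1, Finset.mem_image]
    constructor
    · intro h
      refine ⟨g' x, h, ?_⟩
      exact ge.apply_symm_apply x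
    · rintro ⟨y, hy, rfl⟩
      have : g' (ge y) = y := ge.symm_apply_apply y
      rw [this]; exact hy
  have hmem : ge ∈ setSystemAut B := by
    apply aut_of_image_mem
    intro b hb
    rw [← himg ⟨b, hb⟩]
    exact (c ⟨b, hb⟩).2
  refine ⟨⟨ge, hmem⟩, ?_⟩
  apply RelIso.ext
  intro x
  rcases x with _ | x | x
  · rw [autHom_none, hf]
  · rw [autHom_inl, hg]; rfl
  · obtain ⟨c', hc1, hc2⟩ := autHom_inr ⟨ge, hmem⟩ x
    rw [hc1, hc]
    congr 2
    apply Subtype.ext
    rw [hc2, himg]

theorem range_autHom :
    (autHom B).range = MulAction.stabilizer (pointBlockGraph B ≃g pointBlockGraph B)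
      (none : Option (α ⊕ B)) := by
  ext f
  rw [MulAction.mem_stabilizer_iff, RelIso.smul_def]
  constructor
  · rintro ⟨g, rfl⟩; exact autHom_none g
  · intro hf
    obtain ⟨g, hg⟩ := exists_autHom_eq f hf
    exact ⟨g, hg⟩

end Cfsg.Agent.Helper93.HS
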