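/-
Helper93: an explicit Steiner system S(3,6,22) on `Fin 22`, its point-block graph on
`Option (Fin 22 ⊕ Fin 77)`, an automorphism moving the extra vertex and an odd automorphism fixing it.
-/
import Cfsg.Agent.Helper93.HSAut

set_option autoImplicit false
set_option linter.unusedSectionVars false

namespace Cfsg.Agent.Helper93.HS

open Cfsg

/-- bit masks of the 77 blocks -/
def blkMasks : List ℕ :=
   [
    2097603, 2100741, 2125833, 2326545, 3932193, 2396166, 2687498, 3154962, 2246690, 3276876, 2637972, 2171172, 2361624, 2131112,
    2101872, 2442304, 2664512, 2499200, 3217536, 3195648, 2757888, 63, 5004, 7242, 25158, 28032, 34132, 35474,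
    39201, 73944, 82593, 86290, 112128, 116748, 140385, 145428, 149016, 172298, 184512, 197766, 199488, 263970,
    264420, 267409, 295497, 319536, 337923, 409861, 462888, 533265, 536738, 541032, 574467, 592944, 593989, 657545,
    688676, 795660, 809472, 885120, 917586, 1059368, 1067089, 1070116, 1089669, 1115401, 1146978, 1180080, 1184259, 1323328,
    1327242, 1376788, 1477632, 1574592, 1575174, 1609752, 1794048]

/-- the mask of the `j`-th block -/
def bmask (j : Fin 77) : ℕ := blkMasks.getD j.val 0

/-- the `j`-th block -/
def blk (j : Fin 77) : Finset (Fin 22) := Finset.univ.filter fun x => (bmask j).testBit x.val = true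

/-- the reference Steiner system -/
def B0 : Set (Finset (Fin 22)) := Set.range blk

theorem mem_blk (x : Fin 22) (j : Fin 77) : x ∈ blk j ↔ (bmask j).testBit x.val = true := by
  simp [blk]

theorem blk_card : ∀ j : Fin 77, (blk j).card = 6 := by decide +kernel

theorem blk_inter : ∀ j k : Fin 77, j ≠ k → (blk j ∩ blk k).card ≤ 2 := by decide +kernel

set_option maxRecDepth 100000 in
theorem blk_cover : ∀ x y z : Fin 22, x < y → y < z →
    ∃ j : Fin 77, ((bmask j).testBit x.val && (bmask j).testBit y.val && (bmask j).testBit z.val) = true := by
  decide +kernel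

theorem blk_disj : ∀ j k : Fin 77, Disjoint (blk j) (blk k) ↔ ((bmask j &&& bmask k) == 0) = true := by
  decide +kernel

end Cfsg.Agent.Helper93.HS
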