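/-
Helper93: the reference S(3,6,22) is a Steiner system; its point-block graph on
`Option (Fin 22 ⊕ Fin 77)`, an automorphism moving the extra vertex and an odd automorphism fixing it.
-/
import Cfsg.Agent.Helper93.HSModel

set_option autoImplicit false
set_option linter.unusedSectionVars false

namespace Cfsg.Agent.Helper93.HS

open Cfsg

theorem blk_injective : Function.Injective blk := by
  intro j k hjk
  by_contra hne
  have h1 := blk_inter j k hne
  rw [hjk, Finset.inter_self, blk_card] at h1
  omega

theorem steinerB0 : IsSteinerSystem 3 6 B0 := by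
  refine ⟨?_, ?_⟩
  · rintro _ ⟨j, rfl⟩; exact blk_card j
  · intro s hs
    have hex : ∃ j : Fin 77, s ⊆ blk j := by
      obtain ⟨x, y, z, hxy, hxz, hyz, rfl⟩ := Finset.card_eq_three.mp hs
      have key : ∀ x y z : Fin 22, x < y → y < z → ∃ j : Fin 77, x ∈ blk j ∧ y ∈ blk j ∧ z ∈ blk j := by
        intro x y z hxy hyz
        obtain ⟨j, hj⟩ := blk_cover x y z hxy hyz
        simp only [Bool.and_eq_true] at hj
        exact ⟨j, (mem_blk _ _).mpr hj.1.1, (mem_blk _ _).mpr hj.1.2, (mem_blk _ _).mpr hj.2⟩
      have fin : (∃ j : Fin 77, x ∈ blk j ∧ y ∈ blk j ∧ z ∈ blk j) →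
          ∃ j : Fin 77, ({x, y, z} : Finset (Fin 22)) ⊆ blk j := by
        rintro ⟨j, h1, h2, h3⟩
        refine ⟨j, ?_⟩
        intro w hw
        simp only [Finset.mem_insert, Finset.mem_singleton] at hw
        rcases hw with rfl | rfl | rfl <;> assumption
      apply fin
      rcases lt_trichotomy x y with h1 | h1 | h1
      · rcases lt_trichotomy y z with h2 | h2 | h2
        · exact key x y z h1 h2
        · exact absurd h2 hyz
        · rcases lt_trichotomy x z with h3 | h3 | h3
          · obtain ⟨j, a, b, c⟩ := key x z y h3 h2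
            exact ⟨j, a, c, b⟩
          · exact absurd h3 hxz
          · obtain ⟨j, a, b, c⟩ := key z x y h3 h1
            exact ⟨j, b, c, a⟩
      · exact absurd h1 hxy
      · rcases lt_trichotomy x z with h2 | h2 | h2
        · obtain ⟨j, a, b, c⟩ := key y x z h1 h2
          exact ⟨j, b, a, c⟩
        · exact absurd h2 hxz
        · rcases lt_trichotomy y z with h3 | h3 | h3
          · obtain ⟨j, a, b, c⟩ := key y z x h3 h2
            exact ⟨j, c, a, b⟩
          · exact absurd h3 hyz
          · obtain ⟨j, a, b, c⟩ := key z y x h3 h1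
            exact ⟨j, c, b, a⟩
    obtain ⟨j, hj⟩ := hex
    refine ⟨blk j, ⟨⟨j, rfl⟩, hj⟩, ?_⟩
    rintro _ ⟨⟨k, rfl⟩, hk⟩
    by_contra hne
    have hjk : k ≠ j := fun h => hne (by rw [h])
    have h1 := blk_inter k j hjk
    have h2 : s ⊆ blk k ∩ blk j := Finset.subset_inter hk hj
    have h3 := Finset.card_le_card h2
    omega

/-- the vertices of the reference graph -/
abbrev W := Option (Fin 22 ⊕ Fin 77)

/-- one-sided adjacency relation of the reference graph, mirroring `pointBlockRel` -/
def relB : W → W → Bool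
  | none, some (Sum.inl _) => true
  | some (Sum.inl a), some (Sum.inr j) => (bmask j).testBit a.val
  | some (Sum.inr j), some (Sum.inr k) => (bmask j &&& bmask k) == 0
  | _, _ => false

/-- boolean adjacency of the reference graph -/
def adjB (x y : W) : Bool := (!decide (x = y)) && (relB x y || relB y x)

/-- the reference graph -/
def G1 : SimpleGraph W := SimpleGraph.fromRel fun x y => relB x y = true

theorem G1_adj (x y : W) : G1.Adj x y ↔ adjB x y = true := by
  simp [G1, adjB, SimpleGraph.fromRel_adj]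

/-- numbering of the vertices -/
def enc : W → ℕ
  | none => 0
  | some (Sum.inl a) => 1 + a.val
  | some (Sum.inr j) => 23 + j.val

/-- inverse of the numbering -/
def dec (n : ℕ) : W :=
  if n = 0 then none else
    if n < 23 then some (Sum.inl (Fin.ofNat 22 (n - 1))) else some (Sum.inr (Fin.ofNat 77 (n - 23)))

/-- table of an involutory automorphism exchanging the extra vertex with a point -/
def sigTab : List ℕ :=
   [
    1, 0, 26, 24, 25, 23, 27, 85, 66, 72, 70, 87, 77, 78, 88, 67, 75, 69, 91, 53,
    51, 57, 44, 5, 3, 4, 2, 6, 92, 96, 81, 48, 82, 99, 61, 95, 63, 55, 43, 40,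
    39, 42, 41, 38, 22, 89, 64, 73, 31, 71, 84, 20, 79, 19, 86, 37, 90, 21, 68, 76,
    65, 34, 74, 36, 46, 60, 8, 15, 58, 17, 10, 49, 9, 47, 62, 16, 59, 12, 13, 52,
    83, 30, 32, 80, 50, 7, 54, 11, 14, 45, 56, 18, 28, 97, 98, 35, 29, 93, 94, 33]

/-- table of an odd involutory automorphism fixing the extra vertex -/
def tauTab : List ℕ :=
   [
    0, 1, 7, 14, 11, 18, 6, 2, 8, 9, 15, 4, 13, 12, 3, 10, 16, 17, 5, 20,
    19, 21, 22, 23, 25, 24, 26, 27, 39, 38, 32, 37, 30, 40, 34, 43, 36, 31, 29, 28,
    33, 41, 42, 35, 57, 48, 46, 47, 45, 60, 61, 51, 62, 53, 63, 56, 55, 44, 58, 59,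
    49, 50, 52, 54, 74, 73, 78, 75, 79, 77, 72, 76, 70, 65, 64, 67, 71, 69, 66, 68,
    80, 81, 82, 83, 86, 91, 84, 87, 88, 89, 90, 85, 97, 96, 99, 98, 93, 92, 95, 94]

/-- the 35 transpositions of the second automorphism -/
def tauPairs : List (ℕ × ℕ) :=
   [(2, 7), (3, 14), (4, 11), (5, 18), (10, 15), (12, 13), (19, 20), (24, 25), (28, 39), (29, 38), (30, 32), (31, 37), (33, 40), (35, 43), (44, 57), (45, 48), (49, 60), (50, 61), (52, 62), (54, 63), (55, 56), (64, 74), (65, 73), (66, 78), (67, 75), (68, 79), (69, 77), (70, 72), (71, 76), (84, 86), (85, 91), (92, 97), (93, 96), (94, 99), (95, 98)]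

/-- the first automorphism as a function -/
def sig (w : W) : W := dec (sigTab.getD (enc w) 0)

/-- the second automorphism as a function -/
def tauF (w : W) : W := dec (tauTab.getD (enc w) 0)

theorem sig_sig : ∀ w : W, sig (sig w) = w := by decide +kernel

theorem tauF_tauF : ∀ w : W, tauF (tauF w) = w := by decide +kernel

set_option maxRecDepth 100000 in
theorem sig_adj : ∀ w w' : W, adjB (sig w) (sig w') = adjB w w' := by decide +kernel

set_option maxRecDepth 100000 in
theorem tauF_adj : ∀ w w' : W, adjB (tauF w) (tauF w') = adjB w w' := by decide +kernel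

end Cfsg.Agent.Helper93.HS
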