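/-
Helper93: the point-block graph of any S(3,6,22) is isomorphic to the reference graph; hence it has
an automorphism moving the extra vertex and an odd automorphism fixing it.
-/
import Cfsg.Agent.Helper93.HSModel2

set_option autoImplicit false
set_option linter.unusedSectionVars false

namespace Cfsg.Agent.Helper93.HS

open Cfsg Cfsg.Agent.Helper93.PP4 Cfsg.Agent.Helper93.S22

/-- the first automorphism of the reference graph -/
def sigIso : G1 ≃g G1 where
  toEquiv := ⟨sig, sig, sig_sig, sig_sig⟩
  map_rel_iff' := by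
    intro x y
    show G1.Adj (sig x) (sig y) ↔ G1.Adj x y
    rw [G1_adj, G1_adj, sig_adj]

/-- the second automorphism of the reference graph, as a permutation -/
def tauPerm : Equiv.Perm W := ⟨tauF, tauF, tauF_tauF, tauF_tauF⟩

/-- the second automorphism of the reference graph -/
def tauIso : G1 ≃g G1 where
  toEquiv := tauPerm
  map_rel_iff' := by
    intro x y
    show G1.Adj (tauF x) (tauF y) ↔ G1.Adj x y
    rw [G1_adj, G1_adj, tauF_adj]

theorem sigIso_apply (w : W) : sigIso w = sig w := rfl

theorem tauIso_apply (w : W) : tauIso w = tauF w := rfl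

theorem sig_none : sig none = some (Sum.inl 0) := by decide +kernel

theorem sig_inl1 : sig (some (Sum.inl 1)) = some (Sum.inr 3) := by decide +kernel

theorem tauF_none : tauF none = none := by decide +kernel

theorem tauF_inl0 : tauF (some (Sum.inl 0)) = some (Sum.inl 0) := by decide +kernel

theorem tauF_inr0 : tauF (some (Sum.inr 0)) = some (Sum.inr 0) := by decide +kernel

theorem tauPairs_ne : ∀ p ∈ tauPairs, dec p.1 ≠ dec p.2 := by decide +kernel

theorem tauPerm_eq : tauPerm = (tauPairs.map fun p => Equiv.swap (dec p.1) (dec p.2)).prod := by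
  apply Equiv.ext
  have : ∀ w : W, tauF w = ((tauPairs.map fun p => Equiv.swap (dec p.1) (dec p.2)).prod) w := by
    decide +kernel
  exact this

theorem sign_tauPerm : Equiv.Perm.sign tauPerm = -1 := by
  rw [tauPerm_eq, Equiv.Perm.sign_prod_list_swap]
  · rw [List.length_map]
    have : tauPairs.length = 35 := by decide
    rw [this]
    decide
  · intro g hg
    rw [List.mem_map] at hg
    obtain ⟨p, hp, rfl⟩ := hg
    exact ⟨dec p.1, dec p.2, tauPairs_ne p hp, rfl⟩

/-- index of a block of the reference system -/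
noncomputable def blkIdx : ↥B0 ≃ Fin 77 := (Equiv.ofInjective blk blk_injective).symm

theorem blk_blkIdx (b : ↥B0) : blk (blkIdx b) = b.1 :=
  Equiv.apply_ofInjective_symm blk_injective b

/-- the vertices of the point-block graph of the reference system, numbered -/
noncomputable def vertEquiv1 : Option (Fin 22 ⊕ ↥B0) ≃ W :=
  Equiv.optionCongr (Equiv.sumCongr (Equiv.refl _) blkIdx)

theorem rel1_iff (x y : Option (Fin 22 ⊕ ↥B0)) :
    relB (vertEquiv1 x) (vertEquiv1 y) = true ↔ pointBlockRel B0 x y := by
  rcases x with _ | x | x <;> rcases y with _ | y | y <;>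
    simp only [vertEquiv1, relB, pointBlockRel, Equiv.optionCongr_apply, Option.map_none,
      Option.map_some, Equiv.sumCongr_apply, Sum.map_inl, Sum.map_inr, Equiv.refl_apply,
      Bool.false_eq_true]
  · rw [← blk_blkIdx y, mem_blk]
  · rw [← blk_blkIdx x, ← blk_blkIdx y, blk_disj]

theorem G1_adj' (x y : W) : G1.Adj x y ↔ x ≠ y ∧ (relB x y = true ∨ relB y x = true) := by
  simp [G1, SimpleGraph.fromRel_adj]

/-- the point-block graph of the reference system is the reference graph -/
noncomputable def iso1 : pointBlockGraph B0 ≃g G1 where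
  toEquiv := vertEquiv1
  map_rel_iff' := by
    intro x y
    rw [adj_iff, G1_adj', rel1_iff, rel1_iff, ne_eq, ne_eq, vertEquiv1.apply_eq_iff_eq]

theorem iso1_none : iso1 none = none := rfl

theorem iso1_inl (x : Fin 22) : iso1 (some (Sum.inl x)) = some (Sum.inl x) := rfl

theorem iso1_inr (b : ↥B0) : iso1 (some (Sum.inr b)) = some (Sum.inr (blkIdx b)) := rfl

section general

variable {α : Type*} [Fintype α] [DecidableEq α] {B : Set (Finset α)}

/-- isomorphism with the reference graph -/
noncomputable def toG1 (e : α ≃ Fin 22) (h : (fun b : Finset α => b.image e) '' B = B0) :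
    pointBlockGraph B ≃g G1 := (pbgIso e h).trans iso1

variable (e : α ≃ Fin 22) (h : (fun b : Finset α => b.image e) '' B = B0)

theorem toG1_none : toG1 e h none = none := rfl

theorem toG1_inl (a : α) : toG1 e h (some (Sum.inl a)) = some (Sum.inl (e a)) := rfl

theorem toG1_inr (b : ↥B) : ∃ j, toG1 e h (some (Sum.inr b)) = some (Sum.inr j) := ⟨_, rfl⟩

theorem toG1_symm_none : (toG1 e h).symm none = none := by
  rw [RelIso.symm_apply_eq]; rfl

theorem toG1_symm_inl (x : Fin 22) :
    (toG1 e h).symm (some (Sum.inl x)) = some (Sum.inl (e.symm x)) := by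
  rw [RelIso.symm_apply_eq, toG1_inl, Equiv.apply_symm_apply]

theorem toG1_symm_inr (j : Fin 77) : ∃ b, (toG1 e h).symm (some (Sum.inr j)) = some (Sum.inr b) := by
  rcases hx : (toG1 e h).symm (some (Sum.inr j)) with _ | x | x
  · rw [RelIso.symm_apply_eq, toG1_none] at hx; exact absurd hx (by simp)
  · rw [RelIso.symm_apply_eq, toG1_inl] at hx; exact absurd hx (by simp)
  · exact ⟨x, rfl⟩

end general

section exist

variable {α : Type*} [Fintype α] [DecidableEq α] {B : Set (Finset α)}

/-- an automorphism of the point-block graph of an S(3,6,22) moving the extra vertex to a point and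
some point to a block -/
theorem exists_moving (hα : Fintype.card α = 22) (hB : IsSteinerSystem 3 6 B) :
    ∃ f : pointBlockGraph B ≃g pointBlockGraph B, ∃ (p q : α) (b : ↥B),
      f none = some (Sum.inl p) ∧ f (some (Sum.inl q)) = some (Sum.inr b) := by
  obtain ⟨e, he⟩ := s22_unique hα (by simp) hB steinerB0
  set Φ := toG1 e he with hΦ
  obtain ⟨b, hb⟩ := toG1_symm_inr e he 3
  refine ⟨Φ.trans (sigIso.trans Φ.symm), e.symm 0, e.symm 1, b, ?_, ?_⟩
  · show Φ.symm (sigIso (Φ none)) = _
    rw [hΦ, toG1_none, sigIso_apply, sig_none, toG1_symm_inl]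
  · show Φ.symm (sigIso (Φ (some (Sum.inl (e.symm 1))))) = _
    rw [hΦ, toG1_inl, Equiv.apply_symm_apply, sigIso_apply, sig_inl1, hb]

/-- an odd automorphism of the point-block graph of an S(3,6,22) fixing the extra vertex, a point
and a block -/
theorem exists_odd [Fintype (Option (α ⊕ ↥B))] [DecidableEq (Option (α ⊕ ↥B))]
    (hα : Fintype.card α = 22) (hB : IsSteinerSystem 3 6 B) :
    ∃ t : pointBlockGraph B ≃g pointBlockGraph B, t none = none ∧
      Equiv.Perm.sign (t.toEquiv : Equiv.Perm (Option (α ⊕ ↥B))) = -1 ∧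
      (∃ p : α, t (some (Sum.inl p)) = some (Sum.inl p)) ∧
      (∃ b : ↥B, t (some (Sum.inr b)) = some (Sum.inr b)) := by
  obtain ⟨e, he⟩ := s22_unique hα (by simp) hB steinerB0
  set Φ := toG1 e he with hΦ
  refine ⟨Φ.trans (tauIso.trans Φ.symm), ?_, ?_, ⟨e.symm 0, ?_⟩, ?_⟩
  · show Φ.symm (tauIso (Φ none)) = _
    rw [hΦ, toG1_none, tauIso_apply, tauF_none, toG1_symm_none]
  · have : (Φ.trans (tauIso.trans Φ.symm)).toEquiv = (Φ.toEquiv.trans tauPerm).trans Φ.toEquiv.symm := by
      apply Equiv.ext
      intro x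
      rfl
    rw [this, Equiv.Perm.sign_trans_trans_symm, sign_tauPerm]
  · show Φ.symm (tauIso (Φ (some (Sum.inl (e.symm 0))))) = _
    rw [hΦ, toG1_inl, Equiv.apply_symm_apply, tauIso_apply, tauF_inl0, toG1_symm_inl]
  · obtain ⟨b, hb⟩ := toG1_symm_inr e he 0
    refine ⟨b, ?_⟩
    have hb' : Φ (some (Sum.inr b)) = some (Sum.inr 0) := by
      rw [← hb, hΦ, RelIso.apply_symm_apply]
    show Φ.symm (tauIso (Φ (some (Sum.inr b)))) = _
    rw [hb', tauIso_apply, tauF_inr0, hΦ, hb]

end exist

end Cfsg.Agent.Helper93.HS
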