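/-
Helper93: the automorphism group of the point-block graph of an S(3,6,22) is transitive on the
100 vertices and has order 88704000.
-/
import Cfsg.Agent.Helper93.HSModel3

set_option autoImplicit false
set_option linter.unusedSectionVars false

namespace Cfsg.Agent.Helper93.HS

open Cfsg Cfsg.Agent.Helper93.PP4 Cfsg.Agent.Helper93.S22

variable {α : Type*} [Fintype α] [DecidableEq α] {B : Set (Finset α)}

theorem nbr_none {x : Option (α ⊕ B)} (h : (pointBlockGraph B).Adj none x) :
    ∃ a, x = some (Sum.inl a) := by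
  rcases x with _ | x | x
  · exact absurd h (SimpleGraph.irrefl _)
  · exact ⟨x, rfl⟩
  · exact absurd h (adj_none_inr B x)

theorem card_stab_none (hα : Fintype.card α = 22) (hB : IsSteinerSystem 3 6 B) :
    Nat.card (MulAction.stabilizer (pointBlockGraph B ≃g pointBlockGraph B)
      (none : Option (α ⊕ B))) = 887040 := by
  rw [← range_autHom, ← Nat.card_congr (MonoidHom.ofInjective autHom_injective).toEquiv]
  exact (s22_aut hα hB).1

theorem pretransitive_points (hα : Fintype.card α = 22) (hB : IsSteinerSystem 3 6 B) :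
    MulAction.IsPretransitive (setSystemAut B) α := by
  haveI := (s22_aut hα hB).2.1
  rw [← MulAction.is_one_pretransitive_iff]
  exact MulAction.isMultiplyPretransitive_of_le (n := 3) (by norm_num)
    (by rw [Nat.card_eq_fintype_card, hα]; norm_num)

theorem block_nonempty (hB : IsSteinerSystem 3 6 B) (b : ↥B) : ∃ q, q ∈ b.1 := by
  have h := hB.1 b.1 b.2
  have : b.1.Nonempty := by
    rw [← Finset.card_pos, h]; norm_num
  exact this

theorem orbit_none (hα : Fintype.card α = 22) (hB : IsSteinerSystem 3 6 B) :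
    MulAction.orbit (pointBlockGraph B ≃g pointBlockGraph B) (none : Option (α ⊕ B)) =
      Set.univ := by
  obtain ⟨f, p0, q0, b0, hf1, hf2⟩ := exists_moving hα hB
  haveI := pretransitive_points hα hB
  have hpt : ∀ p : α, ∃ k : pointBlockGraph B ≃g pointBlockGraph B, k none = some (Sum.inl p) := by
    intro p
    obtain ⟨g, hg⟩ := MulAction.exists_smul_eq (setSystemAut B) p0 p
    refine ⟨autHom B g * f, ?_⟩
    rw [RelIso.mul_apply, hf1, autHom_inl]
    congr 2
  have hbl : ∀ b : ↥B, ∃ k : pointBlockGraph B ≃g pointBlockGraph B,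
      k none = some (Sum.inr b) := by
    intro b
    obtain ⟨q, hq⟩ := block_nonempty hB b
    obtain ⟨k, hk⟩ := hpt q
    have h1 : (pointBlockGraph B).Adj (k none) (some (Sum.inr b)) := by
      rw [hk, adj_inl_inr]; exact hq
    have h2 : (pointBlockGraph B).Adj none (k.symm (some (Sum.inr b))) := by
      rw [← k.map_rel_iff, k.apply_symm_apply]; exact h1
    obtain ⟨a, ha⟩ := nbr_none h2
    obtain ⟨k', hk'⟩ := hpt a
    refine ⟨k * k', ?_⟩
    rw [RelIso.mul_apply, hk', ← ha, k.apply_symm_apply]
  apply Set.eq_univ_of_forall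
  intro x
  rcases x with _ | x | x
  · exact MulAction.mem_orbit_self _
  · obtain ⟨k, hk⟩ := hpt x
    exact ⟨k, hk⟩
  · obtain ⟨k, hk⟩ := hbl x
    exact ⟨k, hk⟩

theorem card_vertices (hα : Fintype.card α = 22) (hB : IsSteinerSystem 3 6 B) :
    Nat.card (Option (α ⊕ B)) = 100 := by
  have h77 : B.ncard = 77 := by
    have h1 := Cfsg.Agent.Helper26.card_blocks hB
    rw [hα] at h1
    norm_num [Nat.choose] at h1
    omega
  haveI : Finite ↥B := Set.toFinite B
  rw [Finite.card_option, Nat.card_sum, Nat.card_eq_fintype_card, hα, Nat.card_coe_set_eq, h77]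

/-- S1586 -/
theorem card_aut (hα : Fintype.card α = 22) (hB : IsSteinerSystem 3 6 B) :
    Nat.card (pointBlockGraph B ≃g pointBlockGraph B) = 88704000 := by
  have h1 := MulAction.index_stabilizer (pointBlockGraph B ≃g pointBlockGraph B)
    (none : Option (α ⊕ B))
  rw [orbit_none hα hB, Set.ncard_univ, card_vertices hα hB] at h1
  have h2 := Subgroup.index_mul_card (MulAction.stabilizer
    (pointBlockGraph B ≃g pointBlockGraph B) (none : Option (α ⊕ B)))
  rw [h1, card_stab_none hα hB] at h2
  rw [← h2]

end Cfsg.Agent.Helper93.HS
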