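/-
Helper93: a faithful transitive group of order 44352000 on 100 points whose point stabiliser is
simple with orbits of sizes 1, 22, 77 is simple.
-/
import Mathlib

set_option autoImplicit false
set_option linter.unusedSectionVars false

namespace Cfsg.Agent.Helper93.HS

open MulAction

/-- a normal subgroup of order 100 contains a characteristic subgroup of order 25 -/
theorem exists_normal_25 {H : Type*} [Group H] [Finite H] (N : Subgroup H) [N.Normal]
    (hN : Nat.card N = 100) : ∃ N' : Subgroup H, N'.Normal ∧ Nat.card N' = 25 := by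
  haveI : Fact (Nat.Prime 5) := ⟨by norm_num⟩
  let P : Sylow 5 N := default
  have hcardP : Nat.card P = 25 := by
    obtain ⟨k, hk⟩ := IsPGroup.iff_card.mp P.isPGroup'
    have hdvd : Nat.card P ∣ 100 := by rw [← hN]; exact Subgroup.card_subgroup_dvd_card _
    have h25 : 5 ^ 2 ∣ Nat.card P := by
      apply P.pow_dvd_card_of_pow_dvd_card
      rw [hN]; norm_num
    have hle : Nat.card P ≤ 100 := Nat.le_of_dvd (by norm_num) hdvd
    obtain ⟨c, hc⟩ := h25
    have hc4 : c ∣ 4 := by
      have : 25 * c ∣ 25 * 4 := by rw [show 25 * c = 5 ^ 2 * c by norm_num, ← hc]; exact hdvd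
      exact Nat.dvd_of_mul_dvd_mul_left (by norm_num) this
    have hcle : c ≤ 4 := Nat.le_of_dvd (by norm_num) hc4
    have hc1 : c = 1 := by
      -- c is a power of 5
      have h5 : c ∣ 5 ^ k := by rw [← hk, hc]; exact Dvd.intro_left _ rfl
      obtain ⟨j, _, hj⟩ := (Nat.dvd_prime_pow (by norm_num)).mp h5
      rcases j with _ | j
      · simpa using hj
      · rw [hj, pow_succ] at hcle
        have : 1 ≤ 5 ^ j := Nat.one_le_pow _ _ (by norm_num)
        omega
    rw [hc, hc1]; norm_num
  have h1 : Nat.card (Sylow 5 N) ≡ 1 [MOD 5] := card_sylow_modEq_one 5 N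
  have h2 : Nat.card (Sylow 5 N) ∣ (P : Subgroup N).index := Sylow.card_dvd_index P
  have hidx : (P : Subgroup N).index = 4 := by
    have := (P : Subgroup N).index_mul_card
    rw [hN] at this
    have h3 : Nat.card (P : Subgroup N) = 25 := hcardP
    rw [h3] at this
    omega
  have h3 : Nat.card (Sylow 5 N) = 1 := by
    rw [hidx] at h2
    have hle := Nat.le_of_dvd (by norm_num) h2
    have hmod : Nat.card (Sylow 5 N) % 5 = 1 := h1
    have hpos : 0 < Nat.card (Sylow 5 N) := Nat.card_pos
    omega
  haveI : Subsingleton (Sylow 5 N) := (Nat.card_eq_one_iff_unique.mp h3).1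
  haveI hc : (P : Subgroup N).Characteristic := Sylow.characteristic_of_subsingleton P
  refine ⟨(P : Subgroup N).map N.subtype, inferInstance, ?_⟩
  rw [Subgroup.card_map_of_injective N.subtype_injective]
  exact hcardP

section rank3

variable {H X : Type*} [Group H] [Finite H] [MulAction H X]

/-- the orbit of a point under a normal subgroup is invariant under the point stabiliser -/
theorem orbit_normal_invariant (N : Subgroup H) [N.Normal] (x₀ : X) {m : H} (hm : m • x₀ = x₀)
    {y : X} (hy : y ∈ orbit N x₀) : m • y ∈ orbit N x₀ := by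
  obtain ⟨n, rfl⟩ := hy
  refine ⟨⟨m * n * m⁻¹, Subgroup.Normal.conj_mem inferInstance n.1 n.2 m⟩, ?_⟩
  show (m * (n : H) * m⁻¹) • x₀ = m • ((n : H) • x₀)
  rw [mul_smul, mul_smul]
  congr 2
  rw [inv_smul_eq_iff, hm]

theorem ncard_orbit_dvd (N : Subgroup H) (x₀ : X) : (orbit N x₀).ncard ∣ Nat.card H := by
  rw [← MulAction.index_stabilizer]
  exact (Subgroup.index_dvd_card _).trans (Subgroup.card_subgroup_dvd_card N)

variable (x₀ : X) (P Q : Set X)

/-- orbit of a nontrivial normal subgroup in a rank 3 group with subdegrees 1, 22, 77 -/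
theorem orbit_eq_univ_of_normal [FaithfulSMul H X] [IsPretransitive H X]
    (hcover : ∀ y, y = x₀ ∨ y ∈ P ∨ y ∈ Q)
    (hP : P.ncard = 22) (hQ : Q.ncard = 77) (hxP : x₀ ∉ P) (hxQ : x₀ ∉ Q) (hPQ : Disjoint P Q)
    (hMP : ∀ p ∈ P, ∀ p' ∈ P, ∃ m : H, m • x₀ = x₀ ∧ m • p = p')
    (hMQ : ∀ q ∈ Q, ∀ q' ∈ Q, ∃ m : H, m • x₀ = x₀ ∧ m • q = q')
    (hcard : Nat.card H = 44352000) (N : Subgroup H) [N.Normal] (hN : N ≠ ⊥) :
    orbit N x₀ = Set.univ := by
  have hPfin : P.Finite := Set.finite_of_ncard_ne_zero (by rw [hP]; norm_num)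
  have hQfin : Q.Finite := Set.finite_of_ncard_ne_zero (by rw [hQ]; norm_num)
  have hdvd := ncard_orbit_dvd N x₀
  rw [hcard] at hdvd
  have hx₀ : x₀ ∈ orbit N x₀ := mem_orbit_self _
  have hPall : (∃ p ∈ P, p ∈ orbit N x₀) → P ⊆ orbit N x₀ := by
    rintro ⟨p, hp, hpO⟩ p' hp'
    obtain ⟨m, hm, hmp⟩ := hMP p hp p' hp'
    rw [← hmp]
    exact orbit_normal_invariant N x₀ hm hpO
  have hQall : (∃ q ∈ Q, q ∈ orbit N x₀) → Q ⊆ orbit N x₀ := by
    rintro ⟨p, hp, hpO⟩ p' hp'
    obtain ⟨m, hm, hmp⟩ := hMQ p hp p' hp'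
    rw [← hmp]
    exact orbit_normal_invariant N x₀ hm hpO
  by_cases hp : ∃ p ∈ P, p ∈ orbit N x₀
  · by_cases hq : ∃ q ∈ Q, q ∈ orbit N x₀
    · apply Set.eq_univ_of_forall
      intro y
      rcases hcover y with rfl | hy | hy
      · exact hx₀
      · exact hPall hp hy
      · exact hQall hq hy
    · exfalso
      have : orbit N x₀ = insert x₀ P := by
        ext y
        constructor
        · intro hy
          rcases hcover y with rfl | hy' | hy'
          · exact Set.mem_insert _ _
          · exact Set.mem_insert_of_mem _ hy'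
          · exact absurd ⟨y, hy', hy⟩ hq
        · intro hy
          rcases hy with rfl | hy
          · exact hx₀
          · exact hPall hp hy
      rw [this, Set.ncard_insert_of_notMem hxP hPfin, hP] at hdvd
      norm_num at hdvd
  · by_cases hq : ∃ q ∈ Q, q ∈ orbit N x₀
    · exfalso
      have : orbit N x₀ = insert x₀ Q := by
        ext y
        constructor
        · intro hy
          rcases hcover y with rfl | hy' | hy'
          · exact Set.mem_insert _ _
          · exact absurd ⟨y, hy', hy⟩ hp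
          · exact Set.mem_insert_of_mem _ hy'
        · intro hy
          rcases hy with rfl | hy
          · exact hx₀
          · exact hQall hq hy
      rw [this, Set.ncard_insert_of_notMem hxQ hQfin, hQ] at hdvd
      norm_num at hdvd
    · exfalso
      -- N fixes x₀, hence everything
      have hfix : ∀ n : N, (n : H) • x₀ = x₀ := by
        intro n
        have hmem : (n : H) • x₀ ∈ orbit N x₀ := ⟨n, rfl⟩
        rcases hcover ((n : H) • x₀) with h | h | h
        · exact h
        · exact absurd ⟨_, h, hmem⟩ hp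
        · exact absurd ⟨_, h, hmem⟩ hq
      apply hN
      rw [Subgroup.eq_bot_iff_forall]
      intro n hn
      apply FaithfulSMul.eq_of_smul_eq_smul (α := X)
      intro y
      obtain ⟨h, rfl⟩ := exists_smul_eq H x₀ y
      rw [one_smul, ← mul_smul]
      have : n * h = h * (h⁻¹ * n * h) := by group
      rw [this, mul_smul]
      congr 1
      have hconj : h⁻¹ * n * h ∈ N := by
        have := Subgroup.Normal.conj_mem (inferInstance : N.Normal) n hn h⁻¹
        simpa using this
      exact hfix ⟨_, hconj⟩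

/-- a faithful transitive group of order 44352000 on a set in which a point stabiliser is simple
with orbits of sizes 1, 22, 77 is simple -/
theorem simple_of_rank3 [FaithfulSMul H X] [IsPretransitive H X]
    (hcover : ∀ y, y = x₀ ∨ y ∈ P ∨ y ∈ Q)
    (hP : P.ncard = 22) (hQ : Q.ncard = 77) (hxP : x₀ ∉ P) (hxQ : x₀ ∉ Q) (hPQ : Disjoint P Q)
    (hM : IsSimpleGroup (stabilizer H x₀))
    (hMP : ∀ p ∈ P, ∀ p' ∈ P, ∃ m : H, m • x₀ = x₀ ∧ m • p = p')
    (hMQ : ∀ q ∈ Q, ∀ q' ∈ Q, ∃ m : H, m • x₀ = x₀ ∧ m • q = q')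
    (hcard : Nat.card H = 44352000) : IsSimpleGroup H := by
  have horb := fun (N : Subgroup H) (hn : N.Normal) (hN : N ≠ ⊥) =>
    @orbit_eq_univ_of_normal H X _ _ _ x₀ P Q _ _ hcover hP hQ hxP hxQ hPQ hMP hMQ hcard N hn hN
  have hPfin : P.Finite := Set.finite_of_ncard_ne_zero (by rw [hP]; norm_num)
  have hQfin : Q.Finite := Set.finite_of_ncard_ne_zero (by rw [hQ]; norm_num)
  have huniv : (Set.univ : Set X) = insert x₀ (P ∪ Q) := by
    ext y
    simp only [Set.mem_univ, Set.mem_insert_iff, Set.mem_union, true_iff]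
    exact hcover y
  have hXcard : (Set.univ : Set X).ncard = 100 := by
    rw [huniv, Set.ncard_insert_of_notMem (by simp [hxP, hxQ]) (hPfin.union hQfin),
      Set.ncard_union_eq hPQ hPfin hQfin, hP, hQ]
  haveI : Nontrivial H := by
    rw [← Finite.one_lt_card_iff_nontrivial, hcard]; norm_num
  refine ⟨fun N hN => ?_⟩
  by_contra hcon
  rw [not_or] at hcon
  obtain ⟨hbot, htop⟩ := hcon
  have hO := horb N hN hbot
  -- the intersection with the stabiliser
  have hK := hM.eq_bot_or_eq_top_of_normal (N.subgroupOf (stabilizer H x₀)) inferInstance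
  rcases hK with hK | hK
  · -- regular normal subgroup of order 100
    have hstab : stabilizer N x₀ = ⊥ := by
      rw [Subgroup.eq_bot_iff_forall]
      intro n hn
      rw [mem_stabilizer_iff] at hn
      have h1 : (⟨(n : H), hn⟩ : stabilizer H x₀) ∈ N.subgroupOf (stabilizer H x₀) := by
        rw [Subgroup.mem_subgroupOf]; exact n.2
      rw [hK, Subgroup.mem_bot] at h1
      apply Subtype.ext
      have h5 : (n : H) = 1 := congrArg (fun z : stabilizer H x₀ => (z : H)) h1
      exact h5
    have hNcard : Nat.card N = 100 := by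
      have h1 := MulAction.index_stabilizer N x₀
      rw [hstab, Subgroup.index_bot, hO, hXcard] at h1
      exact h1
    obtain ⟨N', hN'n, hN'c⟩ := exists_normal_25 N hNcard
    have hN'bot : N' ≠ ⊥ := by
      intro h
      rw [h, Subgroup.card_bot] at hN'c
      norm_num at hN'c
    have hO' := horb N' hN'n hN'bot
    have h1 := MulAction.index_stabilizer N' x₀
    rw [hO', hXcard] at h1
    have h2 := Subgroup.index_dvd_card (stabilizer N' x₀)
    rw [h1, hN'c] at h2
    norm_num at h2
  · -- the stabiliser is contained in N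
    apply htop
    rw [Subgroup.eq_top_iff']
    intro h
    have h1 : h • x₀ ∈ orbit N x₀ := by rw [hO]; trivial
    obtain ⟨n, hn⟩ := h1
    have h2 : ((n : H)⁻¹ * h) • x₀ = x₀ := by
      rw [mul_smul, inv_smul_eq_iff]; exact hn.symm
    have h3 : (⟨(n : H)⁻¹ * h, h2⟩ : stabilizer H x₀) ∈ N.subgroupOf (stabilizer H x₀) := by
      rw [hK]; trivial
    rw [Subgroup.mem_subgroupOf] at h3
    have h4 : (n : H) * ((n : H)⁻¹ * h) ∈ N := N.mul_mem n.2 h3
    simpa using h4

end rank3

end Cfsg.Agent.Helper93.HS
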