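/-
Helper93: the even automorphisms of the point-block graph of an S(3,6,22) form a simple group of
order 44352000 (the Higman-Sims group).
-/
import Cfsg.Agent.Helper93.HSOrder
import Cfsg.Agent.Helper93.HSSimple

set_option autoImplicit false
set_option linter.unusedSectionVars false

namespace Cfsg.Agent.Helper93.HS

open Cfsg Cfsg.Agent.Helper93.PP4 Cfsg.Agent.Helper93.S22 MulAction

variable {α : Type*} [Fintype α] [DecidableEq α] {B : Set (Finset α)}

/-- transitivity of the automorphism group on blocks -/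
theorem exists_aut_block (hα : Fintype.card α = 22) (hB : IsSteinerSystem 3 6 B)
    (b c : Finset α) (hb : b ∈ B) (hc : c ∈ B) :
    ∃ g : ↥(setSystemAut B), b.image g.1 = c := by
  have h3 := (s22_aut hα hB).2.1
  obtain ⟨tb, htb, htb3⟩ := Finset.exists_subset_card_eq
    (show 3 ≤ b.card by rw [hB.1 b hb]; norm_num)
  obtain ⟨tc, htc, htc3⟩ := Finset.exists_subset_card_eq
    (show 3 ≤ c.card by rw [hB.1 c hc]; norm_num)
  let x : Fin 3 ↪ α :=
    (tb.equivFinOfCardEq htb3).symm.toEmbedding.trans (Function.Embedding.subtype _)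
  let y : Fin 3 ↪ α :=
    (tc.equivFinOfCardEq htc3).symm.toEmbedding.trans (Function.Embedding.subtype _)
  obtain ⟨g, hg⟩ := MulAction.isMultiplyPretransitive_iff.mp h3 x y
  refine ⟨g, ?_⟩
  have hgB : b.image g.1 ∈ B := by
    have := (mem_aut_iff g.1).mp g.2
    exact (Set.ext_iff.mp this _).mp ⟨b, hb, rfl⟩
  have hsub : tc ⊆ b.image g.1 := by
    intro z hz
    set i := tc.equivFinOfCardEq htc3 ⟨z, hz⟩ with hi
    have hyi : y i = z := by
      show (((tc.equivFinOfCardEq htc3).symm i : ↥tc) : α) = z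
      rw [hi, Equiv.symm_apply_apply]
    have hxi : x i ∈ tb := ((tb.equivFinOfCardEq htb3).symm i).2
    have hgx : g.1 (x i) = y i := by
      have := congrArg (fun f : Fin 3 ↪ α => f i) hg
      exact this
    rw [Finset.mem_image]
    exact ⟨x i, htb hxi, by rw [hgx, hyi]⟩
  obtain ⟨u, _, huniq⟩ := hB.2 tc htc3
  rw [huniq _ ⟨hgB, hsub⟩, huniq _ ⟨hc, htc⟩]

section sign

variable [Fintype (Option (α ⊕ ↥B))] [DecidableEq (Option (α ⊕ ↥B))]

/-- a graph automorphism as a permutation of the vertices -/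
def toPermHom (B : Set (Finset α)) :
    (pointBlockGraph B ≃g pointBlockGraph B) →* Equiv.Perm (Option (α ⊕ ↥B)) where
  toFun f := f.toEquiv
  map_one' := rfl
  map_mul' _ _ := rfl

/-- the sign of a graph automorphism on the vertices -/
def signHom (B : Set (Finset α)) [Fintype (Option (α ⊕ ↥B))] [DecidableEq (Option (α ⊕ ↥B))] :
    (pointBlockGraph B ≃g pointBlockGraph B) →* ℤˣ :=
  Equiv.Perm.sign.comp (toPermHom B)

/-- the even automorphisms -/
def HSsub (B : Set (Finset α)) [Fintype (Option (α ⊕ ↥B))] [DecidableEq (Option (α ⊕ ↥B))] :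
    Subgroup (pointBlockGraph B ≃g pointBlockGraph B) := (signHom B).ker

theorem mem_HSsub (f : pointBlockGraph B ≃g pointBlockGraph B) :
    f ∈ HSsub B ↔ signHom B f = 1 := MonoidHom.mem_ker

theorem hs_isHS (hα : Fintype.card α = 22) (hB : IsSteinerSystem 3 6 B) :
    IsHS ↥(HSsub B) := by
  obtain ⟨t, ht0, hts, ⟨p1, htp⟩, ⟨b1, htb⟩⟩ := exists_odd hα hB
  have hst : signHom B t = -1 := hts
  have hcardA := card_aut hα hB
  haveI : Finite (pointBlockGraph B ≃g pointBlockGraph B) :=
    Nat.finite_of_card_ne_zero (by rw [hcardA]; norm_num)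
  -- index 2
  have hidx : (HSsub B).index = 2 := by
    rw [HSsub, Subgroup.index_ker]
    have : (signHom B).range = ⊤ := by
      rw [Subgroup.eq_top_iff']
      intro u
      rcases Int.units_eq_one_or u with rfl | rfl
      · exact ⟨1, map_one _⟩
      · exact ⟨t, hst⟩
    rw [this, Subgroup.card_top, Nat.card_eq_fintype_card, Fintype.card_units_int]
  have hcardH : Nat.card (HSsub B) = 44352000 := by
    have := (HSsub B).index_mul_card
    rw [hidx, hcardA] at this
    omega
  have hadj : ∀ f s : pointBlockGraph B ≃g pointBlockGraph B, signHom B s = -1 →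
      f ∈ HSsub B ∨ f * s ∈ HSsub B := by
    intro f s hs
    rcases Int.units_eq_one_or (signHom B f) with h | h
    · left; exact (mem_HSsub f).mpr h
    · right
      rw [mem_HSsub, map_mul, h, hs]
      norm_num
  -- transitivity
  haveI htrans : IsPretransitive ↥(HSsub B) (Option (α ⊕ ↥B)) := by
    rw [MulAction.isPretransitive_iff_base (none : Option (α ⊕ ↥B))]
    intro v
    have hv : v ∈ orbit (pointBlockGraph B ≃g pointBlockGraph B) (none : Option (α ⊕ ↥B)) := by
      rw [orbit_none hα hB]; trivial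
    obtain ⟨k, hk⟩ := hv
    rcases hadj k t hst with h | h
    · exact ⟨⟨k, h⟩, hk⟩
    · refine ⟨⟨k * t, h⟩, ?_⟩
      show (k * t) none = v
      rw [RelIso.mul_apply, ht0]
      exact hk
  haveI hfaith : FaithfulSMul ↥(HSsub B) (Option (α ⊕ ↥B)) :=
    ⟨fun {m m'} h => Subtype.ext (RelIso.ext h)⟩
  -- the two nontrivial suborbits
  set P : Set (Option (α ⊕ ↥B)) := Set.range (fun a : α => some (Sum.inl a)) with hPdef
  set Q : Set (Option (α ⊕ ↥B)) := Set.range (fun b : ↥B => some (Sum.inr b)) with hQdef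
  have h77 : B.ncard = 77 := by
    have h1 := Cfsg.Agent.Helper26.card_blocks hB
    rw [hα] at h1
    norm_num [Nat.choose] at h1
    omega
  haveI : Finite ↥B := Set.toFinite B
  have hP : P.ncard = 22 := by
    rw [hPdef, ← Set.image_univ, Set.ncard_image_of_injective _
      (fun a a' h => by simpa using h), Set.ncard_univ, Nat.card_eq_fintype_card, hα]
  have hQ : Q.ncard = 77 := by
    rw [hQdef, ← Set.image_univ, Set.ncard_image_of_injective _
      (fun a a' h => by simpa using h), Set.ncard_univ, Nat.card_coe_set_eq, h77]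
  have hcover : ∀ y : Option (α ⊕ ↥B), y = none ∨ y ∈ P ∨ y ∈ Q := by
    intro y
    rcases y with _ | y | y
    · left; rfl
    · right; left; exact ⟨y, rfl⟩
    · right; right; exact ⟨y, rfl⟩
  have hxP : (none : Option (α ⊕ ↥B)) ∉ P := by
    rintro ⟨a, ha⟩; exact absurd ha (by simp)
  have hxQ : (none : Option (α ⊕ ↥B)) ∉ Q := by
    rintro ⟨a, ha⟩; exact absurd ha (by simp)
  have hPQ : Disjoint P Q := by
    rw [Set.disjoint_left]
    rintro _ ⟨a, rfl⟩ ⟨b, hb⟩
    exact absurd hb (by simp)
  -- moving inside the stabiliser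
  have hmove : ∀ v v' v1 : Option (α ⊕ ↥B), t v1 = v1 →
      (∀ w w' : Option (α ⊕ ↥B), (w = v ∨ w = v1) → (w' = v ∨ w' = v') →
        ∃ f : pointBlockGraph B ≃g pointBlockGraph B, f none = none ∧ f w = w') →
      ∃ m : ↥(HSsub B), m • (none : Option (α ⊕ ↥B)) = none ∧ m • v = v' := by
    intro v v' v1 htv hex
    obtain ⟨f, hf0, hfv⟩ := hex v v' (Or.inl rfl) (Or.inr rfl)
    obtain ⟨u, hu0, huv⟩ := hex v1 v (Or.inr rfl) (Or.inl rfl)
    rcases hadj f (u * t * u⁻¹) (by
      rw [map_mul, map_mul, map_inv, hst, mul_comm, inv_mul_cancel_left]) with h | h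
    · exact ⟨⟨f, h⟩, hf0, hfv⟩
    · refine ⟨⟨f * (u * t * u⁻¹), h⟩, ?_, ?_⟩
      · show (f * (u * t * u⁻¹)) none = none
        have hu0' : u⁻¹ none = none := by
          rw [← hu0, RelIso.inv_apply_self, hu0]
        rw [RelIso.mul_apply, RelIso.mul_apply, RelIso.mul_apply, hu0', ht0, hu0, hf0]
      · show (f * (u * t * u⁻¹)) v = v'
        have huv' : u⁻¹ v = v1 := by
          rw [← huv, RelIso.inv_apply_self]
        rw [RelIso.mul_apply, RelIso.mul_apply, RelIso.mul_apply, huv', htv, huv, hfv]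
  haveI := pretransitive_points hα hB
  have hMP : ∀ p ∈ P, ∀ p' ∈ P, ∃ m : ↥(HSsub B), m • (none : Option (α ⊕ ↥B)) = none ∧
      m • p = p' := by
    rintro _ ⟨a, rfl⟩ _ ⟨a', rfl⟩
    apply hmove _ _ (some (Sum.inl p1)) htp
    have hpt : ∀ c c' : α, ∃ f : pointBlockGraph B ≃g pointBlockGraph B, f none = none ∧
        f (some (Sum.inl c)) = some (Sum.inl c') := by
      intro c c'
      obtain ⟨g, hg⟩ := MulAction.exists_smul_eq (setSystemAut B) c c'
      refine ⟨autHom B g, autHom_none g, ?_⟩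
      rw [autHom_inl]
      congr 2
    rintro w w' (rfl | rfl) (rfl | rfl) <;> exact hpt _ _
  have hMQ : ∀ q ∈ Q, ∀ q' ∈ Q, ∃ m : ↥(HSsub B), m • (none : Option (α ⊕ ↥B)) = none ∧
      m • q = q' := by
    rintro _ ⟨b, rfl⟩ _ ⟨b', rfl⟩
    apply hmove _ _ (some (Sum.inr b1)) htb
    have hbl : ∀ c c' : ↥B, ∃ f : pointBlockGraph B ≃g pointBlockGraph B, f none = none ∧
        f (some (Sum.inr c)) = some (Sum.inr c') := by
      intro c c'
      obtain ⟨g, hg⟩ := exists_aut_block hα hB c.1 c'.1 c.2 c'.2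
      refine ⟨autHom B g, autHom_none g, ?_⟩
      obtain ⟨d, hd1, hd2⟩ := autHom_inr g c
      rw [hd1]
      congr 2
      apply Subtype.ext
      rw [hd2, hg]
    rintro w w' (rfl | rfl) (rfl | rfl) <;> exact hbl _ _
  -- the stabiliser is simple
  obtain ⟨K, hKidx, hKs, hKc⟩ := (s22_aut hα hB).2.2
  haveI := hKs
  set φ : ↥K →* (pointBlockGraph B ≃g pointBlockGraph B) := (autHom B).comp K.subtype with hφ
  have hφker : ∀ k : ↥K, signHom B (φ k) = 1 := by
    have hker := hKs.eq_bot_or_eq_top_of_normal ((signHom B).comp φ).ker inferInstance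
    rcases hker with hker | hker
    · exfalso
      have hinj : Function.Injective ((signHom B).comp φ) := (MonoidHom.ker_eq_bot_iff _).mp hker
      have hle := Nat.card_le_card_of_injective _ hinj
      rw [hKc, Nat.card_eq_fintype_card, Fintype.card_units_int] at hle
      norm_num at hle
    · intro k
      have : k ∈ ((signHom B).comp φ).ker := by rw [hker]; trivial
      exact MonoidHom.mem_ker.mp this
  set φ' : ↥K →* ↥(HSsub B) := φ.codRestrict _ (fun k => (mem_HSsub _).mpr (hφker k)) with hφ'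
  have hinj' : Function.Injective φ' := by
    intro k k' hkk
    have h1 : φ k = φ k' := congrArg Subtype.val hkk
    have h2 : K.subtype k = K.subtype k' := autHom_injective h1
    exact K.subtype_injective h2
  have hle : φ'.range ≤ stabilizer ↥(HSsub B) (none : Option (α ⊕ ↥B)) := by
    rintro _ ⟨k, rfl⟩
    rw [mem_stabilizer_iff]
    show (φ k) none = none
    exact autHom_none _
  have hVcard := card_vertices hα hB
  have hstabcard : Nat.card (stabilizer ↥(HSsub B) (none : Option (α ⊕ ↥B))) = 443520 := by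
    have h1 := MulAction.index_stabilizer_of_transitive ↥(HSsub B) (none : Option (α ⊕ ↥B))
    rw [hVcard] at h1
    have h2 := (stabilizer ↥(HSsub B) (none : Option (α ⊕ ↥B))).index_mul_card
    rw [h1, hcardH] at h2
    omega
  have hrangecard : Nat.card φ'.range = 443520 := by
    rw [← Nat.card_congr (MonoidHom.ofInjective hinj').toEquiv, hKc]
  haveI : Finite ↥(HSsub B) := inferInstance
  have heq : φ'.range = stabilizer ↥(HSsub B) (none : Option (α ⊕ ↥B)) :=
    Subgroup.eq_of_le_of_card_ge hle (by rw [hstabcard, hrangecard])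
  have hsimple : IsSimpleGroup ↥φ'.range := (MonoidHom.ofInjective hinj').symm.isSimpleGroup
  have hM : IsSimpleGroup ↥(stabilizer ↥(HSsub B) (none : Option (α ⊕ ↥B))) := heq ▸ hsimple
  exact ⟨simple_of_rank3 (none : Option (α ⊕ ↥B)) P Q hcover hP hQ hxP hxQ hPQ hM hMP hMQ hcardH,
    hcardH⟩

end sign

end Cfsg.Agent.Helper93.HS
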