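import Cfsg.Prelude.Def_Sporadic
import Cfsg.Agent.Helper26.HSTrans
import Cfsg.Agent.Helper8.Co0Order
import Cfsg.Agent.S0378
import Cfsg.Agent.S0379

/-!
# The joint stabiliser of the base pair `(5,1^23)`, `-(1^23,5)`: point stabiliser on the 100
vectors is the monomial two-point stabiliser of `M24`
-/

set_option autoImplicit false

namespace Cfsg.Agent.Helper93.HSL

open Cfsg Cfsg.Agent.Helper8 Cfsg.Agent.Helper26 Cfsg.Agent.Helper27 MulAction

/-- invariance of the predicate under isomorphism -/
theorem isHS_of_equiv {G G' : Type*} [Group G] [Group G'] (e : G ≃* G') (h : IsHS G) :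
    IsHS G' := by
  obtain ⟨h1, h2⟩ := h
  exact ⟨e.symm.isSimpleGroup, by rw [← h2]; exact Nat.card_congr e.symm.toEquiv⟩

/-- conjugate joint stabilisers are isomorphic -/
noncomputable def conjInfEquiv {G X : Type*} [Group G] [MulAction G X] (g : G) (v w : X) :
    ↥(stabilizer G v ⊓ stabilizer G w) ≃* ↥(stabilizer G (g • v) ⊓ stabilizer G (g • w)) :=
  ((stabilizer G v ⊓ stabilizer G w).equivMapOfInjective (MulAut.conj g).toMonoidHom
      (MulAut.conj g).injective).trans
    (MulEquiv.subgroupCongr (by
      rw [Subgroup.map_inf_eq _ _ _ (MulAut.conj g).injective,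
        ← stabilizer_smul_eq_stabilizer_map_conj, ← stabilizer_smul_eq_stabilizer_map_conj]))

/-- extensionality for automorphisms of the lattice -/
theorem co0_ext {g h : ↥Co0}
    (H : ∀ v : ↥leechLattice, ((g • v : ↥leechLattice) : GolayPt → ℤ) =
      ((h • v : ↥leechLattice) : GolayPt → ℤ)) : g = h := by
  apply Subtype.ext
  apply Equiv.ext
  intro v
  exact Subtype.ext (H v)

/-- coordinate permutations as automorphisms -/
noncomputable def monoHom : ↥M24 →* ↥Co0 where
  toFun σ := monoCo0 σ.2 Cfsg.Agent.S0390.empty_mem_supports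
  map_one' := by
    apply co0_ext
    intro v
    rw [monoCo0_smul, one_smul]
    funext i
    rw [signedPerm_empty_apply]
    rfl
  map_mul' := by
    intro σ τ
    apply co0_ext
    intro v
    rw [mul_smul, monoCo0_smul, monoCo0_smul, monoCo0_smul]
    funext i
    rw [signedPerm_empty_apply, signedPerm_empty_apply, signedPerm_empty_apply]
    rfl

theorem monoHom_smul (σ : ↥M24) (v : ↥leechLattice) (i : GolayPt) :
    ((monoHom σ • v : ↥leechLattice) : GolayPt → ℤ) i = v.1 ((σ : Equiv.Perm GolayPt).symm i) := by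
  show ((monoCo0 σ.2 Cfsg.Agent.S0390.empty_mem_supports • v : ↥leechLattice) : GolayPt → ℤ) i = _
  rw [monoCo0_smul, signedPerm_empty_apply]

theorem monoHom_injective : Function.Injective monoHom := by
  rw [injective_iff_map_eq_one]
  intro σ hσ
  apply Subtype.ext
  apply Equiv.ext
  intro i
  have h := monoHom_smul σ (vec8 (σ.1 i)) (σ.1 i)
  rw [hσ, one_smul, vec8_val, Equiv.symm_apply_apply, Pi.single_eq_same] at h
  by_contra hne
  have hne' : i ≠ σ.1 i := fun h' => hne h'.symm
  rw [Pi.single_eq_of_ne hne'] at h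
  omega

/-! ### the base triple -/

/-- the third base vector -/
def latA : ↥leechLattice := ⟨vPlus kk jj, vPlus_mem kk_ne_jj⟩

/-- minus the sum of the base pair -/
def latX : ↥leechLattice := ⟨x48, x48_mem⟩

theorem latX_eq : latX = -latW - latU := by
  apply Subtype.ext
  funext i
  show x48 i = -w48 i - u48 i
  rw [x48_facts.2.2 i]
  ring

theorem vec8_kk_eq : vec8 kk = latA - latX := by
  apply Subtype.ext
  funext i
  show (Pi.single kk 8 : GolayPt → ℤ) i = vPlus kk jj i - x48 i
  unfold vPlus x48
  simp only [Pi.add_apply, Pi.single_apply]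
  split_ifs <;> ring

theorem mem_hsSet_of_fix {g : ↥Co0} {v w x : ↥leechLattice} (hv : g • v = v) (hw : g • w = w)
    (hx : x ∈ hsSet v w) : g • x ∈ hsSet v w := by
  have h := hsSet_smul g v w
  rw [hv, hw] at h
  rw [h]
  exact ⟨x, hx, rfl⟩

/-- an automorphism fixing the base triple is a coordinate permutation from the two-point
stabiliser -/
theorem exists_mono_of_fix (g : ↥Co0) (hu : g • latU = latU) (hw : g • latW = latW)
    (ha : g • latA = latA) :
    ∃ σ : ↥M24, σ.1 kk = kk ∧ σ.1 jj = jj ∧ g = monoHom σ := by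
  have hx : g • latX = latX := by
    rw [latX_eq, co0_smul_sub, co0_smul_neg, hu, hw]
  have h8 : g • vec8 kk = vec8 kk := by
    rw [vec8_kk_eq, co0_smul_sub, ha, hx]
  have hfc : FixesCross g := by
    rw [fixesCross_iff g kk, h8]
    exact ⟨kk, 8, Or.inl rfl, rfl⟩
  obtain ⟨σ, hσ, c, hc, hg⟩ := exists_mono_of_fixesCross g hfc
  have hU : signedPerm σ c (fiveVec kk) = fiveVec kk := by
    have := hg latU
    rw [hu] at this
    exact this.symm
  have hc0 : c = ∅ := by
    apply Finset.eq_empty_of_forall_notMem
    intro i hi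
    have h := congrFun hU i
    unfold signedPerm at h
    rw [if_pos hi, fiveVec_apply, fiveVec_apply] at h
    split_ifs at h
  subst hc0
  have hW : signedPerm σ ∅ (-fiveVec jj) = -fiveVec jj := by
    have := hg latW
    rw [hw] at this
    exact this.symm
  have hk : σ kk = kk := by
    have h := congrFun hU kk
    rw [signedPerm_empty_apply, fiveVec_apply, fiveVec_apply, if_pos rfl] at h
    by_contra hne
    have : σ.symm kk ≠ kk := fun h' => hne ((Equiv.symm_apply_eq σ).mp h').symm
    rw [if_neg this] at h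
    omega
  have hj : σ jj = jj := by
    have h := congrFun hW jj
    rw [signedPerm_empty_apply, Pi.neg_apply, Pi.neg_apply, fiveVec_apply, fiveVec_apply,
      if_pos rfl] at h
    by_contra hne
    have : σ.symm jj ≠ jj := fun h' => hne ((Equiv.symm_apply_eq σ).mp h').symm
    rw [if_neg this] at h
    omega
  refine ⟨⟨σ, hσ⟩, hk, hj, ?_⟩
  apply co0_ext
  intro v
  rw [hg v]
  rfl

theorem oddBase_injective : Function.Injective oddBase := by
  intro i i' h
  have := congrFun h i
  unfold oddBase at this
  rw [if_pos rfl] at this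
  by_contra hne
  rw [if_neg hne] at this
  omega

/-- the lattice element `(-3, 1^23)` -/
def latO (i : GolayPt) : ↥leechLattice := ⟨oddBase i, Cfsg.Agent.Helper26.oddBase_mem i⟩

theorem latO_mem {i : GolayPt} (hik : i ≠ kk) (hij : i ≠ jj) : latO i ∈ hsSet latU latW :=
  (mem_hsSet_base _).mpr (oddBase_mem_hsT hik hij)

theorem latA_mem : latA ∈ hsSet latU latW :=
  (mem_hsSet_base _).mpr (vPlus_mem_hsT kk_ne_jj)

/-- the joint stabiliser of the base pair acts faithfully on the 100 vectors -/
theorem eq_one_of_fix_all (g : ↥Co0) (hu : g • latU = latU) (hw : g • latW = latW)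
    (hall : ∀ x ∈ hsSet latU latW, g • x = x) : g = 1 := by
  obtain ⟨σ, hk, hj, rfl⟩ := exists_mono_of_fix g hu hw (hall _ latA_mem)
  have hσ : σ = 1 := by
    apply Subtype.ext
    apply Equiv.ext
    intro i
    show σ.1 i = i
    by_cases hik : i = kk
    · rw [hik, hk]
    by_cases hij : i = jj
    · rw [hij, hj]
    have h := hall _ (latO_mem hik hij)
    have h2 : ((monoHom σ • latO i : ↥leechLattice) : GolayPt → ℤ) = oddBase (σ.1 i) := by
      show signedPerm σ.1 ∅ (oddBase i) = _
      exact signedPerm_oddBase σ.1 i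
    rw [h] at h2
    exact (oddBase_injective h2).symm
  rw [hσ, map_one]

end Cfsg.Agent.Helper93.HSL
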