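import Cfsg.Agent.Helper93.HSLeechA
import Cfsg.Agent.Helper93.HSSimple
import Cfsg.Agent.S1584

/-!
# The joint stabiliser of two vectors of sum of squares 48 with inner product `-32`
is simple of order `44352000`
-/

set_option autoImplicit false

namespace Cfsg.Agent.Helper93.HSL

open Cfsg Cfsg.Agent.Helper8 Cfsg.Agent.Helper26 Cfsg.Agent.Helper27 MulAction

instance finite_co0 : Finite ↥Co0 :=
  Nat.finite_of_card_ne_zero (by rw [card_co0]; norm_num)

/-- the joint stabiliser of the base pair -/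
abbrev H0 : Subgroup ↥Co0 := stabilizer ↥Co0 latU ⊓ stabilizer ↥Co0 latW

theorem H0_fixU (h : ↥H0) : (h : ↥Co0) • latU = latU := (Subgroup.mem_inf.mp h.2).1

theorem H0_fixW (h : ↥H0) : (h : ↥Co0) • latW = latW := (Subgroup.mem_inf.mp h.2).2

/-- the 100 vectors as a set with action -/
def hsAct : SubMulAction ↥H0 ↥leechLattice where
  carrier := hsSet latU latW
  smul_mem' := fun h _ hx => mem_hsSet_of_fix (H0_fixU h) (H0_fixW h) hx

set_option maxRecDepth 100000 in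
theorem base_facts : sqNorm w48 = 48 ∧ dotInt u48 w48 = -32 ∧
    dotInt (vPlus kk jj) (vPlus kk jj) = 32 := by decide +kernel

theorem hsAct_smul_val (h : ↥H0) (x : ↥hsAct) :
    ((h • x : ↥hsAct) : ↥leechLattice) = (h : ↥Co0) • (x : ↥leechLattice) := rfl

instance faithful_hsAct : FaithfulSMul ↥H0 ↥hsAct := ⟨by
  intro m₁ m₂ h
  have key : ((m₁⁻¹ * m₂ : ↥H0) : ↥Co0) = 1 := by
    apply eq_one_of_fix_all _ (H0_fixU _) (H0_fixW _)
    intro x hx
    have h2 : (m₁ : ↥Co0) • x = (m₂ : ↥Co0) • x :=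
      congrArg (fun y : ↥hsAct => (y : ↥leechLattice)) (h ⟨x, hx⟩)
    rw [Subgroup.coe_mul, Subgroup.coe_inv, mul_smul, ← h2, inv_smul_smul]
  have : m₁⁻¹ * m₂ = 1 := Subtype.ext key
  exact inv_mul_eq_one.mp this⟩

instance pretransitive_hsAct : IsPretransitive ↥H0 ↥hsAct := ⟨by
  intro x y
  obtain ⟨g, hg1, hg2, hg3⟩ :=
    (hs_main latU latW sqNorm_u48 base_facts.1 base_facts.2.1).2 x.1 x.2 y.1 y.2
  exact ⟨⟨g, Subgroup.mem_inf.mpr ⟨hg1, hg2⟩⟩, Subtype.ext hg3⟩⟩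

/-- the base point -/
def a0 : ↥hsAct := ⟨latA, latA_mem⟩

/-- the neighbours of the base point -/
def setP : Set ↥hsAct := {y | dotInt (latA : GolayPt → ℤ) ((y : ↥leechLattice) : GolayPt → ℤ) = 8}

/-- the non-neighbours of the base point -/
def setQ : Set ↥hsAct :=
  {y | y ≠ a0 ∧ dotInt (latA : GolayPt → ℤ) ((y : ↥leechLattice) : GolayPt → ℤ) ≠ 8}

theorem rank3_base :
    {y : ↥leechLattice | y ∈ hsSet latU latW ∧
      dotInt (latA : GolayPt → ℤ) (y : GolayPt → ℤ) = 8}.ncard = 22 ∧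
    {y : ↥leechLattice | y ∈ hsSet latU latW ∧ y ≠ latA ∧
      dotInt (latA : GolayPt → ℤ) (y : GolayPt → ℤ) ≠ 8}.ncard = 77 ∧
    ∀ y ∈ hsSet latU latW, ∀ y' ∈ hsSet latU latW, y ≠ latA → y' ≠ latA →
      (dotInt (latA : GolayPt → ℤ) (y : GolayPt → ℤ) = 8 ↔
        dotInt (latA : GolayPt → ℤ) (y' : GolayPt → ℤ) = 8) →
      ∃ g : ↥Co0, g • latU = latU ∧ g • latW = latW ∧ g • latA = latA ∧ g • y = y' :=
  Cfsg.Agent.S1584.result latU latW latA sqNorm_u48 base_facts.1 base_facts.2.1 latA_mem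

theorem ncard_setP : setP.ncard = 22 := by
  rw [← rank3_base.1, ← Set.ncard_image_of_injective setP Subtype.val_injective]
  congr 1
  ext y
  constructor
  · rintro ⟨y', hy', rfl⟩
    exact ⟨y'.2, hy'⟩
  · rintro ⟨hy1, hy2⟩
    exact ⟨⟨y, hy1⟩, hy2, rfl⟩

theorem ncard_setQ : setQ.ncard = 77 := by
  rw [← rank3_base.2.1, ← Set.ncard_image_of_injective setQ Subtype.val_injective]
  congr 1
  ext y
  constructor
  · rintro ⟨y', hy', rfl⟩
    exact ⟨y'.2, fun h => hy'.1 (Subtype.ext h), hy'.2⟩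
  · rintro ⟨hy1, hy2, hy3⟩
    exact ⟨⟨y, hy1⟩, ⟨fun h => hy2 (congrArg Subtype.val h), hy3⟩, rfl⟩

theorem a0_notMem_setP : a0 ∉ setP := by
  intro h
  have h2 : dotInt (vPlus kk jj) (vPlus kk jj) = 8 := h
  rw [base_facts.2.2] at h2
  norm_num at h2

theorem ne_a0_of_mem_setP {y : ↥hsAct} (hy : y ∈ setP) : y ≠ a0 := by
  rintro rfl
  exact a0_notMem_setP hy

theorem trans_setP : ∀ p ∈ setP, ∀ p' ∈ setP, ∃ m : ↥H0, m • a0 = a0 ∧ m • p = p' := by
  intro p hp p' hp'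
  obtain ⟨g, hg1, hg2, hg3, hg4⟩ := rank3_base.2.2 p.1 p.2 p'.1 p'.2
    (fun h => ne_a0_of_mem_setP hp (Subtype.ext h))
    (fun h => ne_a0_of_mem_setP hp' (Subtype.ext h)) ⟨fun _ => hp', fun _ => hp⟩
  exact ⟨⟨g, Subgroup.mem_inf.mpr ⟨hg1, hg2⟩⟩, Subtype.ext hg3, Subtype.ext hg4⟩

theorem trans_setQ : ∀ q ∈ setQ, ∀ q' ∈ setQ, ∃ m : ↥H0, m • a0 = a0 ∧ m • q = q' := by
  intro q hq q' hq'
  obtain ⟨g, hg1, hg2, hg3, hg4⟩ := rank3_base.2.2 q.1 q.2 q'.1 q'.2
    (fun h => hq.1 (Subtype.ext h)) (fun h => hq'.1 (Subtype.ext h))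
    ⟨fun h => absurd h hq.2, fun h => absurd h hq'.2⟩
  exact ⟨⟨g, Subgroup.mem_inf.mpr ⟨hg1, hg2⟩⟩, Subtype.ext hg3, Subtype.ext hg4⟩

/-! ### the point stabiliser -/

/-- the two-point stabiliser in `M24` -/
abbrev M22s : Subgroup ↥M24 := stabilizer ↥M24 kk ⊓ stabilizer ↥M24 jj

theorem M22s_fix_kk (m : ↥M22s) : (m : ↥M24).1 kk = kk := (Subgroup.mem_inf.mp m.2).1

theorem M22s_fix_jj (m : ↥M22s) : (m : ↥M24).1 jj = jj := (Subgroup.mem_inf.mp m.2).2

theorem monoHom_fixU {σ : ↥M24} (hk : σ.1 kk = kk) : monoHom σ • latU = latU :=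
  Subtype.ext (signedPerm_fiveVec hk)

theorem monoHom_fixW {σ : ↥M24} (hj : σ.1 jj = jj) : monoHom σ • latW = latW := by
  apply Subtype.ext
  show signedPerm σ.1 ∅ (-fiveVec jj) = -fiveVec jj
  rw [signedPerm_empty_neg, signedPerm_fiveVec hj]

theorem monoHom_fixA {σ : ↥M24} (hk : σ.1 kk = kk) (hj : σ.1 jj = jj) :
    monoHom σ • latA = latA := by
  apply Subtype.ext
  funext i
  rw [monoHom_smul]
  show vPlus kk jj (σ.1.symm i) = vPlus kk jj i
  have e1 : σ.1.symm i = kk ↔ i = kk := by rw [Equiv.symm_apply_eq, hk]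
  have e2 : σ.1.symm i = jj ↔ i = jj := by rw [Equiv.symm_apply_eq, hj]
  unfold vPlus
  simp only [Pi.add_apply, Pi.single_apply, e1, e2]

/-- the embedding of the two-point stabiliser -/
noncomputable def m22Hom : ↥M22s →* ↥(stabilizer ↥H0 a0) where
  toFun m := ⟨⟨monoHom m.1, Subgroup.mem_inf.mpr
    ⟨monoHom_fixU (M22s_fix_kk m), monoHom_fixW (M22s_fix_jj m)⟩⟩,
    Subtype.ext (monoHom_fixA (M22s_fix_kk m) (M22s_fix_jj m))⟩
  map_one' := by
    apply Subtype.ext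
    apply Subtype.ext
    show monoHom ((1 : ↥M22s) : ↥M24) = 1
    rw [Subgroup.coe_one, map_one]
  map_mul' := by
    intro a b
    apply Subtype.ext
    apply Subtype.ext
    show monoHom ((a * b : ↥M22s) : ↥M24) = monoHom a.1 * monoHom b.1
    rw [Subgroup.coe_mul, map_mul]

theorem m22Hom_bijective : Function.Bijective m22Hom := by
  constructor
  · intro a b h
    have h2 : monoHom a.1 = monoHom b.1 :=
      congrArg (fun t : ↥(stabilizer ↥H0 a0) => ((t : ↥H0) : ↥Co0)) h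
    exact Subtype.ext (monoHom_injective h2)
  · intro t
    have hA : ((t : ↥H0) : ↥Co0) • latA = latA :=
      congrArg (fun y : ↥hsAct => (y : ↥leechLattice)) t.2
    obtain ⟨σ, hk, hj, hσ⟩ := exists_mono_of_fix _ (H0_fixU t.1) (H0_fixW t.1) hA
    refine ⟨⟨σ, Subgroup.mem_inf.mpr ⟨hk, hj⟩⟩, ?_⟩
    apply Subtype.ext
    apply Subtype.ext
    exact hσ.symm

theorem simple_stab : IsSimpleGroup ↥(stabilizer ↥H0 a0) := by
  have := Cfsg.Agent.S0379.result kk jj kk_ne_jj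
  exact (MulEquiv.ofBijective m22Hom m22Hom_bijective).symm.isSimpleGroup

theorem card_stab : Nat.card ↥(stabilizer ↥H0 a0) = 443520 := by
  rw [← Cfsg.Agent.S0378.result kk jj kk_ne_jj]
  exact (Nat.card_congr (MulEquiv.ofBijective m22Hom m22Hom_bijective).toEquiv).symm

theorem card_hsAct : Nat.card ↥hsAct = 100 := by
  rw [← ncard_hsSet_base]
  exact Nat.card_coe_set_eq (hsSet latU latW)

theorem card_H0 : Nat.card ↥H0 = 44352000 := by
  have h1 := MulAction.index_stabilizer ↥H0 a0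
  rw [MulAction.orbit_eq_univ, Set.ncard_univ, card_hsAct] at h1
  have h2 := Subgroup.index_mul_card (stabilizer ↥H0 a0)
  rw [h1, card_stab] at h2
  rw [← h2]

theorem simple_H0 : IsSimpleGroup ↥H0 := by
  apply Cfsg.Agent.Helper93.HS.simple_of_rank3 (x₀ := a0) (P := setP) (Q := setQ)
  · intro y
    by_cases h1 : y = a0
    · exact Or.inl h1
    by_cases h2 : dotInt (latA : GolayPt → ℤ) ((y : ↥leechLattice) : GolayPt → ℤ) = 8
    · exact Or.inr (Or.inl h2)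
    · exact Or.inr (Or.inr ⟨h1, h2⟩)
  · exact ncard_setP
  · exact ncard_setQ
  · exact a0_notMem_setP
  · exact fun h => h.1 rfl
  · rw [Set.disjoint_left]
    exact fun y hy hy' => hy'.2 hy
  · exact simple_stab
  · exact trans_setP
  · exact trans_setQ
  · exact card_H0

theorem isHS_base (v w : ↥leechLattice) (hv : v = latU) (hw : w = latW) :
    IsHS ↥(stabilizer ↥Co0 v ⊓ stabilizer ↥Co0 w) := by
  subst hv hw
  exact ⟨simple_H0, card_H0⟩

/-- S0405 -/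
theorem isHS_main (v w : ↥leechLattice) (hv : sqNorm (v : GolayPt → ℤ) = 48)
    (hw : sqNorm (w : GolayPt → ℤ) = 48)
    (hvw : dotInt (v : GolayPt → ℤ) (w : GolayPt → ℤ) = -32) :
    IsHS ↥(stabilizer ↥Co0 v ⊓ stabilizer ↥Co0 w) := by
  obtain ⟨g, hg1, hg2⟩ := hs_pair_trans v w hv hw hvw
  exact isHS_of_equiv (conjInfEquiv g v w).symm (isHS_base _ _ hg1 hg2)

end Cfsg.Agent.Helper93.HSL
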