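import Cfsg.Prelude.Def_Spor_Conway
import Cfsg.Prelude.Def_Spor_Mathieu
import Cfsg.Agent.Helper93.HSLeechB

/-!
# The explicit Higman–Sims group is isomorphic to the joint stabiliser of the base pair;
its rank 3 action in orbit form
-/

set_option autoImplicit false

namespace Cfsg.Agent.Helper93.HSL

open Cfsg Cfsg.Agent.Helper8 Cfsg.Agent.Helper26 Cfsg.Agent.Helper27 MulAction

/-- the second vector of sum of squares 48 attached to the explicit Higman–Sims group -/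
def sporW : ↥leechLattice := -(Spor.leechV + Spor.leechU')

set_option maxRecDepth 100000 in
theorem spor_facts : sqNorm Spor.vecV = 48 ∧ sqNorm (-(Spor.vecV + Spor.vecU')) = 48 ∧
    dotInt Spor.vecV (-(Spor.vecV + Spor.vecU')) = -32 := by decide +kernel

theorem co0_smul_add (g : ↥Co0) (x y : ↥leechLattice) : g • (x + y) = g • x + g • y := by
  rw [← co0Hom_apply, map_add]
  rfl

theorem sporHS_eq_map : (stabilizer ↥Co0 Spor.leechV ⊓ stabilizer ↥Co0 sporW).map Co0.subtype =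
    Spor.HS := by
  ext f
  constructor
  · rintro ⟨g, hg, rfl⟩
    obtain ⟨h1, h2⟩ := Subgroup.mem_inf.mp hg
    have h1' : g • Spor.leechV = Spor.leechV := h1
    have h2' : g • sporW = sporW := h2
    have h3 : g • Spor.leechU' = Spor.leechU' := by
      have e : Spor.leechU' = -sporW - Spor.leechV := by
        unfold sporW
        abel
      rw [e, co0_smul_sub, co0_smul_neg, h1', h2']
    exact ⟨⟨g.2, h1'⟩, h3⟩
  · rintro ⟨⟨hf, h1⟩, h3⟩
    have h1' : (⟨f, hf⟩ : ↥Co0) • Spor.leechV = Spor.leechV := h1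
    have h3' : (⟨f, hf⟩ : ↥Co0) • Spor.leechU' = Spor.leechU' := h3
    refine ⟨⟨f, hf⟩, Subgroup.mem_inf.mpr ⟨h1', ?_⟩, rfl⟩
    show (⟨f, hf⟩ : ↥Co0) • sporW = sporW
    unfold sporW
    rw [co0_smul_neg, co0_smul_add, h1', h3']

/-- the explicit Higman–Sims group as a joint stabiliser -/
noncomputable def sporHSEquiv :
    ↥(stabilizer ↥Co0 Spor.leechV ⊓ stabilizer ↥Co0 sporW) ≃* ↥Spor.HS :=
  ((stabilizer ↥Co0 Spor.leechV ⊓ stabilizer ↥Co0 sporW).equivMapOfInjective Co0.subtype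
    Subtype.val_injective).trans (MulEquiv.subgroupCongr sporHS_eq_map)

theorem nonempty_equiv_H0 (v w : ↥leechLattice) (hv : sqNorm (v : GolayPt → ℤ) = 48)
    (hw : sqNorm (w : GolayPt → ℤ) = 48)
    (hvw : dotInt (v : GolayPt → ℤ) (w : GolayPt → ℤ) = -32) :
    Nonempty (↥(stabilizer ↥Co0 v ⊓ stabilizer ↥Co0 w) ≃* ↥H0) := by
  obtain ⟨g, hg1, hg2⟩ := hs_pair_trans v w hv hw hvw
  have e := conjInfEquiv g v w
  rw [hg1, hg2] at e
  exact ⟨e⟩

theorem sporHS_equiv_H0 : Nonempty (↥Spor.HS ≃* ↥H0) := by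
  obtain ⟨e⟩ := nonempty_equiv_H0 Spor.leechV sporW spor_facts.1 spor_facts.2.1 spor_facts.2.2
  exact ⟨sporHSEquiv.symm.trans e⟩

/-- the explicit Higman–Sims group is simple of order `44352000` -/
theorem isHS_sporHS : IsHS ↥Spor.HS := by
  obtain ⟨e⟩ := sporHS_equiv_H0
  exact isHS_of_equiv e.symm ⟨simple_H0, card_H0⟩

/-! ### the rank 3 action in orbit form -/

theorem finite_hsAct : Finite ↥hsAct :=
  Nat.finite_of_card_ne_zero (by rw [card_hsAct]; norm_num)

theorem stab_a0_fixA (s : ↥(stabilizer ↥H0 a0)) : ((s : ↥H0) : ↥Co0) • latA = latA :=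
  congrArg (fun y : ↥hsAct => (y : ↥leechLattice)) s.2

theorem dot_stab (s : ↥(stabilizer ↥H0 a0)) (y : ↥hsAct) :
    dotInt (latA : GolayPt → ℤ) (((s • y : ↥hsAct) : ↥leechLattice) : GolayPt → ℤ) =
      dotInt (latA : GolayPt → ℤ) ((y : ↥leechLattice) : GolayPt → ℤ) := by
  have h := co0_dotInt ((s : ↥H0) : ↥Co0) latA (y : ↥leechLattice)
  rw [stab_a0_fixA s] at h
  exact h

theorem orbit_setP {p : ↥hsAct} (hp : p ∈ setP) : orbit ↥(stabilizer ↥H0 a0) p = setP := by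
  ext y
  constructor
  · rintro ⟨s, rfl⟩
    show dotInt _ _ = 8
    rw [dot_stab]
    exact hp
  · intro hy
    obtain ⟨m, hm1, hm2⟩ := trans_setP p hp y hy
    exact ⟨⟨m, hm1⟩, hm2⟩

theorem orbit_setQ {q : ↥hsAct} (hq : q ∈ setQ) : orbit ↥(stabilizer ↥H0 a0) q = setQ := by
  ext y
  constructor
  · rintro ⟨s, rfl⟩
    refine ⟨?_, ?_⟩
    · intro h
      apply hq.1
      have : s⁻¹ • (s • q) = s⁻¹ • a0 := congrArg (fun z => s⁻¹ • z) h
      rw [inv_smul_smul] at this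
      rw [this]
      exact (s⁻¹).2
    · show dotInt _ _ ≠ 8
      rw [dot_stab]
      exact hq.2
  · intro hy
    obtain ⟨m, hm1, hm2⟩ := trans_setQ q hq y hy
    exact ⟨⟨m, hm1⟩, hm2⟩

theorem exists_orbits : ∃ p q : ↥hsAct, (orbit ↥(stabilizer ↥H0 a0) p).ncard = 22 ∧
    (orbit ↥(stabilizer ↥H0 a0) q).ncard = 77 := by
  have hP : setP.Nonempty := by
    rw [← Set.ncard_pos (Set.finite_of_ncard_ne_zero (by rw [ncard_setP]; norm_num)), ncard_setP]
    norm_num
  have hQ : setQ.Nonempty := by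
    rw [← Set.ncard_pos (Set.finite_of_ncard_ne_zero (by rw [ncard_setQ]; norm_num)), ncard_setQ]
    norm_num
  obtain ⟨p, hp⟩ := hP
  obtain ⟨q, hq⟩ := hQ
  exact ⟨p, q, by rw [orbit_setP hp, ncard_setP], by rw [orbit_setQ hq, ncard_setQ]⟩

/-! ### the explicit two-point stabiliser -/

theorem sporM22_eq_map :
    (stabilizer ↥M24 (none : GolayPt) ⊓ stabilizer ↥M24 (some 0 : GolayPt)).map M24.subtype =
      Spor.M22 := by
  ext f
  constructor
  · rintro ⟨g, hg, rfl⟩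
    obtain ⟨h1, h2⟩ := Subgroup.mem_inf.mp hg
    exact ⟨⟨g.2, h1⟩, h2⟩
  · rintro ⟨⟨hf, h1⟩, h2⟩
    exact ⟨⟨f, hf⟩, Subgroup.mem_inf.mpr ⟨h1, h2⟩, rfl⟩

theorem card_sporM22 : Nat.card ↥Spor.M22 = 443520 := by
  rw [← Cfsg.Agent.S0378.result (none : GolayPt) (some 0 : GolayPt) (by decide), ← sporM22_eq_map]
  exact (Nat.card_congr (Subgroup.equivMapOfInjective _ M24.subtype
    Subtype.val_injective).toEquiv).symm

end Cfsg.Agent.Helper93.HSL
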