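/-
Helper93: in a strongly regular graph with parameters (100,22,0,6), two non-neighbours of a vertex
that are not adjacent have exactly two common neighbours among the neighbours of that vertex.
-/
import Mathlib

set_option autoImplicit false
set_option linter.unusedSectionVars false

namespace Cfsg.Agent.Helper93.SRG

open Finset

variable {V : Type*} [Fintype V] [DecidableEq V] {G : SimpleGraph V} [DecidableRel G.Adj]

theorem cn_card (v w : V) [Fintype (G.commonNeighbors v w)] :
    Fintype.card (G.commonNeighbors v w) = (G.neighborFinset v ∩ G.neighborFinset w).card := by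
  rw [← Set.toFinset_card]
  congr 1
  ext x
  rw [Set.mem_toFinset]
  simp [SimpleGraph.commonNeighbors]

variable (hG : G.IsSRGWith 100 22 0 6)
include hG

theorem nbr_card (v : V) : (G.neighborFinset v).card = 22 := hG.regular.degree_eq v

theorem no_triangle {x y z : V} (hxy : G.Adj x y) (hxz : G.Adj x z) (hyz : G.Adj y z) : False := by
  have h := hG.of_adj x y hxy
  rw [cn_card, Finset.card_eq_zero] at h
  have : z ∈ G.neighborFinset x ∩ G.neighborFinset y := by
    rw [Finset.mem_inter, SimpleGraph.mem_neighborFinset, SimpleGraph.mem_neighborFinset]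
    exact ⟨hxz, hyz⟩
  rw [h] at this
  exact absurd this (Finset.notMem_empty _)

theorem cn_six {x y : V} (hne : x ≠ y) (hxy : ¬ G.Adj x y) :
    (G.neighborFinset x ∩ G.neighborFinset y).card = 6 := by
  have h := hG.of_not_adj hne hxy
  rwa [cn_card] at h

variable (v0 : V)

/-- the non-neighbours of `v0` other than `v0` and `b` -/
def others (G : SimpleGraph V) [DecidableRel G.Adj] (v0 b : V) : Finset V :=
  univ.filter fun c => c ≠ v0 ∧ ¬ G.Adj v0 c ∧ c ≠ b

/-- the common neighbours of `v0` and `b` -/
def blkF (G : SimpleGraph V) [DecidableRel G.Adj] (v0 b : V) : Finset V :=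
  G.neighborFinset b ∩ G.neighborFinset v0

theorem blkF_card {b : V} (hb0 : b ≠ v0) (hb : ¬ G.Adj v0 b) : (blkF G v0 b).card = 6 := by
  have hb' : ¬ G.Adj b v0 := fun h => hb h.symm
  exact cn_six hG hb0 hb'

theorem card_univ_V : (univ : Finset V).card = 100 := by
  rw [Finset.card_univ]; exact hG.card

theorem others_card {b : V} (hb0 : b ≠ v0) (hb : ¬ G.Adj v0 b) : (others G v0 b).card = 76 := by
  have h1 : (univ : Finset V) = insert v0 (insert b (G.neighborFinset v0 ∪ others G v0 b)) := by
    ext c
    simp only [mem_univ, mem_insert, mem_union, SimpleGraph.mem_neighborFinset, others, mem_filter,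
      true_and, true_iff]
    by_cases h1 : c = v0
    · left; exact h1
    · by_cases h2 : c = b
      · right; left; exact h2
      · by_cases h3 : G.Adj v0 c
        · right; right; left; exact h3
        · right; right; right; exact ⟨h1, h3, h2⟩
  have hdisj : Disjoint (G.neighborFinset v0) (others G v0 b) := by
    rw [Finset.disjoint_left]
    intro c hc hc'
    rw [SimpleGraph.mem_neighborFinset] at hc
    simp only [others, mem_filter, mem_univ, true_and] at hc'
    exact hc'.2.1 hc
  have hb_not : b ∉ G.neighborFinset v0 ∪ others G v0 b := by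
    simp only [mem_union, SimpleGraph.mem_neighborFinset, others, mem_filter, mem_univ, true_and,
      not_or, not_and, not_not]
    exact ⟨hb, fun _ _ => trivial⟩
  have hv_not : v0 ∉ insert b (G.neighborFinset v0 ∪ others G v0 b) := by
    simp only [mem_insert, mem_union, SimpleGraph.mem_neighborFinset, others, mem_filter, mem_univ,
      true_and, not_or, not_and, not_not]
    exact ⟨fun h => hb0 h.symm, SimpleGraph.irrefl G, fun h => absurd rfl h⟩
  have h2 := card_univ_V hG
  rw [h1, Finset.card_insert_of_notMem hv_not, Finset.card_insert_of_notMem hb_not,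
    Finset.card_union_of_disjoint hdisj, nbr_card hG] at h2
  omega

/-- `c` is a non-neighbour of `v0` if it is adjacent to a neighbour of `v0` and differs from `v0` -/
theorem not_adj_of_adj_nbr {p c : V} (hp : G.Adj v0 p) (hc : G.Adj p c) : ¬ G.Adj v0 c :=
  fun h => no_triangle hG hp h hc

theorem sum_one {b : V} (hb0 : b ≠ v0) (hb : ¬ G.Adj v0 b) :
    ∑ c ∈ others G v0 b, ((blkF G v0 b).filter fun p => G.Adj c p).card = 120 := by
  have h1 := Finset.sum_card_bipartiteAbove_eq_sum_card_bipartiteBelow
    (s := others G v0 b) (t := blkF G v0 b) (fun c p => G.Adj c p)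
  simp only [Finset.bipartiteAbove, Finset.bipartiteBelow] at h1
  rw [h1]
  have h2 : ∀ p ∈ blkF G v0 b, ((others G v0 b).filter fun c => G.Adj c p).card = 20 := by
    intro p hp
    simp only [blkF, mem_inter, SimpleGraph.mem_neighborFinset] at hp
    obtain ⟨hbp, hvp⟩ := hp
    have heq : (others G v0 b).filter (fun c => G.Adj c p) = ((G.neighborFinset p).erase v0).erase b := by
      ext c
      simp only [others, mem_filter, mem_univ, true_and, mem_erase, SimpleGraph.mem_neighborFinset]
      constructor
      · rintro ⟨⟨h1, h2, h3⟩, h4⟩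
        exact ⟨h3, h1, h4.symm⟩
      · rintro ⟨h3, h1, h4⟩
        exact ⟨⟨h1, not_adj_of_adj_nbr hG v0 hvp h4, h3⟩, h4.symm⟩
    rw [heq, Finset.card_erase_of_mem, Finset.card_erase_of_mem, nbr_card hG]
    · rw [SimpleGraph.mem_neighborFinset]; exact hvp.symm
    · rw [mem_erase, SimpleGraph.mem_neighborFinset]; exact ⟨hb0, hbp.symm⟩
  rw [Finset.sum_congr rfl h2, Finset.sum_const, blkF_card hG v0 hb0 hb]
  rfl

theorem sum_two {b : V} (hb0 : b ≠ v0) (hb : ¬ G.Adj v0 b) :
    ∑ c ∈ others G v0 b, ((blkF G v0 b).offDiag.filter fun pq => G.Adj c pq.1 ∧ G.Adj c pq.2).card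
      = 120 := by
  have h1 := Finset.sum_card_bipartiteAbove_eq_sum_card_bipartiteBelow
    (s := others G v0 b) (t := (blkF G v0 b).offDiag) (fun c pq => G.Adj c pq.1 ∧ G.Adj c pq.2)
  simp only [Finset.bipartiteAbove, Finset.bipartiteBelow] at h1
  rw [h1]
  have h2 : ∀ pq ∈ (blkF G v0 b).offDiag,
      ((others G v0 b).filter fun c => G.Adj c pq.1 ∧ G.Adj c pq.2).card = 4 := by
    rintro ⟨p, q⟩ hpq
    simp only [mem_offDiag, blkF, mem_inter, SimpleGraph.mem_neighborFinset] at hpq
    obtain ⟨⟨hbp, hvp⟩, ⟨hbq, hvq⟩, hne⟩ := hpq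
    have hpq_adj : ¬ G.Adj p q := fun h => no_triangle hG hvp hvq h
    have h6 := cn_six hG hne hpq_adj
    have heq : (others G v0 b).filter (fun c => G.Adj c p ∧ G.Adj c q) =
        ((G.neighborFinset p ∩ G.neighborFinset q).erase v0).erase b := by
      ext c
      simp only [others, mem_filter, mem_univ, true_and, mem_erase, mem_inter,
        SimpleGraph.mem_neighborFinset]
      constructor
      · rintro ⟨⟨h1, h2, h3⟩, h4, h5⟩
        exact ⟨h3, h1, h4.symm, h5.symm⟩
      · rintro ⟨h3, h1, h4, h5⟩
        exact ⟨⟨h1, not_adj_of_adj_nbr hG v0 hvp h4, h3⟩, h4.symm, h5.symm⟩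
    rw [heq, Finset.card_erase_of_mem, Finset.card_erase_of_mem, h6]
    · rw [mem_inter, SimpleGraph.mem_neighborFinset, SimpleGraph.mem_neighborFinset]
      exact ⟨hvp.symm, hvq.symm⟩
    · rw [mem_erase, mem_inter, SimpleGraph.mem_neighborFinset, SimpleGraph.mem_neighborFinset]
      exact ⟨hb0, hbp.symm, hbq.symm⟩
  rw [Finset.sum_congr rfl h2, Finset.sum_const, Finset.offDiag_card, blkF_card hG v0 hb0 hb]
  rfl

end Cfsg.Agent.Helper93.SRG
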