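/-
Helper93: SRG(100,22,0,6): two distinct non-neighbours of `v0` share 0 (adjacent) or 2 (non-adjacent)
neighbours of `v0`.
-/
import Cfsg.Agent.Helper93.SRG100a

set_option autoImplicit false
set_option linter.unusedSectionVars false

namespace Cfsg.Agent.Helper93.SRG

open Finset

variable {V : Type*} [Fintype V] [DecidableEq V] {G : SimpleGraph V} [DecidableRel G.Adj]

theorem offDiag_filter_eq (s : Finset V) (r : V → Prop) [DecidablePred r] :
    s.offDiag.filter (fun pq => r pq.1 ∧ r pq.2) = (s.filter r).offDiag := by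
  ext ⟨p, q⟩
  simp only [mem_filter, mem_offDiag]
  tauto

variable (hG : G.IsSRGWith 100 22 0 6) (v0 : V)
include hG

theorem blkF_inter (b c : V) :
    blkF G v0 b ∩ blkF G v0 c = (blkF G v0 b).filter fun p => G.Adj c p := by
  ext p
  simp only [blkF, mem_inter, mem_filter, SimpleGraph.mem_neighborFinset]
  tauto

theorem inter_zero {b c : V} (hbc : G.Adj b c) : blkF G v0 b ∩ blkF G v0 c = ∅ := by
  rw [Finset.eq_empty_iff_forall_notMem]
  intro p hp
  simp only [blkF, mem_inter, SimpleGraph.mem_neighborFinset] at hp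
  exact no_triangle hG hbc hp.1.1 hp.2.1

theorem inter_two {b c : V} (hb0 : b ≠ v0) (hb : ¬ G.Adj v0 b) (hc0 : c ≠ v0) (hc : ¬ G.Adj v0 c)
    (hcb : c ≠ b) (hbc : ¬ G.Adj b c) : (blkF G v0 b ∩ blkF G v0 c).card = 2 := by
  set i : V → ℕ := fun c => ((blkF G v0 b).filter fun p => G.Adj c p).card with hi
  have hs1 : ∑ c ∈ others G v0 b, i c = 120 := sum_one hG v0 hb0 hb
  have hs2 : ∑ c ∈ others G v0 b, (i c * i c - i c) = 120 := by
    have := sum_two hG v0 hb0 hb
    rw [← this]
    apply Finset.sum_congr rfl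
    intro c _
    rw [offDiag_filter_eq (blkF G v0 b) (fun p => G.Adj c p), Finset.offDiag_card]
  have hcard := others_card hG v0 hb0 hb
  -- integer version
  have hZ : ∑ c ∈ others G v0 b, ((i c : ℤ) - 2) ^ 2 = 64 := by
    have h1 : ∀ c ∈ others G v0 b, ((i c : ℤ) - 2) ^ 2 =
        ((i c * i c - i c : ℕ) : ℤ) - 3 * (i c : ℤ) + 4 := by
      intro c _
      rw [Nat.cast_sub (Nat.le_mul_self (i c)), Nat.cast_mul]
      ring
    rw [Finset.sum_congr rfl h1, Finset.sum_add_distrib, Finset.sum_sub_distrib,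
      ← Nat.cast_sum, hs2, ← Finset.mul_sum, ← Nat.cast_sum, hs1, Finset.sum_const, hcard]
    norm_num
  -- the neighbours of b among the non-neighbours of v0
  set Ab : Finset V := G.neighborFinset b \ G.neighborFinset v0 with hAb
  have hAbcard : Ab.card = 16 := by
    have h1 : Ab.card + (G.neighborFinset b ∩ G.neighborFinset v0).card =
        (G.neighborFinset b).card := Finset.card_sdiff_add_card_inter _ _
    have h2 : (G.neighborFinset b ∩ G.neighborFinset v0).card = 6 := blkF_card hG v0 hb0 hb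
    have h3 : (G.neighborFinset b).card = 22 := nbr_card hG b
    omega
  have hAbsub : Ab ⊆ others G v0 b := by
    intro x hx
    simp only [hAb, mem_sdiff, SimpleGraph.mem_neighborFinset] at hx
    simp only [others, mem_filter, mem_univ, true_and]
    refine ⟨?_, hx.2, ?_⟩
    · rintro rfl; exact hb hx.1.symm
    · rintro rfl; exact SimpleGraph.irrefl G hx.1
  have hAbzero : ∀ x ∈ Ab, i x = 0 := by
    intro x hx
    simp only [hAb, mem_sdiff, SimpleGraph.mem_neighborFinset] at hx
    rw [hi]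
    show ((blkF G v0 b).filter fun p => G.Adj x p).card = 0
    rw [← blkF_inter hG v0 b x, inter_zero hG v0 hx.1, Finset.card_empty]
  have hZA : ∑ c ∈ Ab, ((i c : ℤ) - 2) ^ 2 = 64 := by
    have : ∀ c ∈ Ab, ((i c : ℤ) - 2) ^ 2 = 4 := by
      intro c hc
      rw [hAbzero c hc]; norm_num
    rw [Finset.sum_congr rfl this, Finset.sum_const, hAbcard]
    norm_num
  have hrest : ∑ c ∈ others G v0 b \ Ab, ((i c : ℤ) - 2) ^ 2 = 0 := by
    have := Finset.sum_sdiff (f := fun c => ((i c : ℤ) - 2) ^ 2) hAbsub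
    rw [hZ, hZA] at this
    linarith
  have hcmem : c ∈ others G v0 b \ Ab := by
    simp only [mem_sdiff, others, mem_filter, mem_univ, true_and, hAb,
      SimpleGraph.mem_neighborFinset, not_and, not_not]
    exact ⟨⟨hc0, hc, hcb⟩, fun h => absurd h hbc⟩
  have hzero := (Finset.sum_eq_zero_iff_of_nonneg (fun c _ => sq_nonneg ((i c : ℤ) - 2))).mp
    hrest c hcmem
  have h2 : (i c : ℤ) = 2 := by
    have := pow_eq_zero_iff (n := 2) (by norm_num) |>.mp hzero
    linarith
  rw [blkF_inter hG v0 b c]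
  exact_mod_cast h2

theorem inter_le_two {b c : V} (hb0 : b ≠ v0) (hb : ¬ G.Adj v0 b) (hc0 : c ≠ v0)
    (hc : ¬ G.Adj v0 c) (hcb : c ≠ b) : (blkF G v0 b ∩ blkF G v0 c).card ≤ 2 := by
  by_cases hbc : G.Adj b c
  · rw [inter_zero hG v0 hbc]; simp
  · rw [inter_two hG v0 hb0 hb hc0 hc hcb hbc]

end Cfsg.Agent.Helper93.SRG
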