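/-
Helper93: a strongly regular graph with parameters (100,22,0,6) is the point-block graph of a
Steiner system S(3,6,22) on the neighbours of a vertex; uniqueness of the graph.
-/
import Cfsg.Agent.Helper93.SRG100b
import Cfsg.Agent.Helper93.HSGraph

set_option autoImplicit false
set_option linter.unusedSectionVars false

namespace Cfsg.Agent.Helper93.SRG

open Finset Cfsg

variable {V : Type*} [Fintype V] [DecidableEq V] {G : SimpleGraph V} [DecidableRel G.Adj]

/-- the points: the neighbours of `v0` -/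
abbrev Pt (G : SimpleGraph V) [DecidableRel G.Adj] (v0 : V) := {p : V // p ∈ G.neighborFinset v0}

/-- the neighbours of `b` among the points -/
def blkP (G : SimpleGraph V) [DecidableRel G.Adj] (v0 b : V) : Finset (Pt G v0) :=
  univ.filter fun p => G.Adj b p.1

/-- the blocks: neighbourhoods of the non-neighbours of `v0` -/
def BG (G : SimpleGraph V) [DecidableRel G.Adj] (v0 : V) : Set (Finset (Pt G v0)) :=
  {s | ∃ b, b ≠ v0 ∧ ¬ G.Adj v0 b ∧ s = blkP G v0 b}

/-- the non-neighbours of `v0` -/
def Bl (G : SimpleGraph V) [DecidableRel G.Adj] (v0 : V) : Finset V :=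
  univ.filter fun b => b ≠ v0 ∧ ¬ G.Adj v0 b

theorem blkP_map (v0 b : V) :
    (blkP G v0 b).map (Function.Embedding.subtype _) = blkF G v0 b := by
  ext x
  simp only [blkP, mem_map, mem_filter, mem_univ, true_and, Function.Embedding.coe_subtype,
    Subtype.exists, exists_and_right, exists_eq_right, blkF, mem_inter,
    SimpleGraph.mem_neighborFinset]
  constructor
  · rintro ⟨h1, h2⟩; exact ⟨h2, h1⟩
  · rintro ⟨h1, h2⟩; exact ⟨h2, h1⟩

theorem blkP_inter_card (v0 b c : V) :
    (blkP G v0 b ∩ blkP G v0 c).card = (blkF G v0 b ∩ blkF G v0 c).card := by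
  rw [← blkP_map, ← blkP_map, ← Finset.map_inter, Finset.card_map]

variable (hG : G.IsSRGWith 100 22 0 6) (v0 : V)
include hG

theorem card_Pt : Fintype.card (Pt G v0) = 22 := by
  rw [Fintype.card_coe]; exact nbr_card hG v0

theorem blkP_card {b : V} (hb0 : b ≠ v0) (hb : ¬ G.Adj v0 b) : (blkP G v0 b).card = 6 := by
  rw [← Finset.card_map (Function.Embedding.subtype _), blkP_map]
  exact blkF_card hG v0 hb0 hb

theorem blkP_inj {b c : V} (hb0 : b ≠ v0) (hb : ¬ G.Adj v0 b) (hc0 : c ≠ v0)
    (hc : ¬ G.Adj v0 c) (h : blkP G v0 b = blkP G v0 c) : b = c := by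
  by_contra hne
  have h1 := inter_le_two hG v0 hb0 hb hc0 hc (fun h => hne h.symm)
  rw [← blkP_inter_card, h, Finset.inter_self, blkP_card hG v0 hc0 hc] at h1
  omega

theorem Bl_card : (Bl G v0).card = 77 := by
  have h1 : (univ : Finset V) = insert v0 (G.neighborFinset v0 ∪ Bl G v0) := by
    ext c
    simp only [mem_univ, mem_insert, mem_union, SimpleGraph.mem_neighborFinset, Bl, mem_filter,
      true_and, true_iff]
    by_cases h1 : c = v0
    · left; exact h1
    · by_cases h3 : G.Adj v0 c
      · right; left; exact h3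
      · right; right; exact ⟨h1, h3⟩
  have hdisj : Disjoint (G.neighborFinset v0) (Bl G v0) := by
    rw [Finset.disjoint_left]
    intro c hc hc'
    rw [SimpleGraph.mem_neighborFinset] at hc
    simp only [Bl, mem_filter, mem_univ, true_and] at hc'
    exact hc'.2 hc
  have hv_not : v0 ∉ G.neighborFinset v0 ∪ Bl G v0 := by
    simp only [mem_union, SimpleGraph.mem_neighborFinset, Bl, mem_filter, mem_univ,
      true_and, not_or, not_and, not_not]
    exact ⟨SimpleGraph.irrefl G, fun h => absurd rfl h⟩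
  have h2 := card_univ_V hG
  rw [h1, Finset.card_insert_of_notMem hv_not, Finset.card_union_of_disjoint hdisj,
    nbr_card hG] at h2
  omega

/-- every triple of points lies in a block -/
theorem exists_block (T : Finset (Pt G v0)) (hT : T.card = 3) :
    ∃ b, b ≠ v0 ∧ ¬ G.Adj v0 b ∧ T ⊆ blkP G v0 b := by
  set S : Finset (Σ _ : V, Finset (Pt G v0)) :=
    (Bl G v0).sigma fun b => powersetCard 3 (blkP G v0 b) with hS
  have hScard : S.card = 1540 := by
    rw [hS, Finset.card_sigma]
    have : ∀ b ∈ Bl G v0, (powersetCard 3 (blkP G v0 b)).card = 20 := by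
      intro b hb
      simp only [Bl, mem_filter, mem_univ, true_and] at hb
      rw [Finset.card_powersetCard, blkP_card hG v0 hb.1 hb.2]
      rfl
    rw [Finset.sum_congr rfl this, Finset.sum_const, Bl_card hG v0]
    rfl
  have hinj : Set.InjOn (fun x : Σ _ : V, Finset (Pt G v0) => x.2) (S : Set _) := by
    rintro ⟨b, T1⟩ h1 ⟨c, T2⟩ h2 h12
    simp only [hS, coe_sigma, Set.mem_sigma_iff, mem_coe, Bl, mem_filter, mem_univ, true_and,
      mem_powersetCard] at h1 h2
    simp only at h12
    subst h12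
    have hbc : b = c := by
      by_contra hne
      have h3 := inter_le_two hG v0 h1.1.1 h1.1.2 h2.1.1 h2.1.2 (fun h => hne h.symm)
      rw [← blkP_inter_card] at h3
      have h4 : T1 ⊆ blkP G v0 b ∩ blkP G v0 c := Finset.subset_inter h1.2.1 h2.2.1
      have h5 := Finset.card_le_card h4
      rw [h1.2.2] at h5
      omega
    subst hbc
    rfl
  have himg : S.image (fun x => x.2) = powersetCard 3 (univ : Finset (Pt G v0)) := by
    apply Finset.eq_of_subset_of_card_le
    · intro T' hT'
      rw [Finset.mem_image] at hT'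
      obtain ⟨⟨b, T1⟩, h1, rfl⟩ := hT'
      simp only [hS, mem_sigma, mem_powersetCard] at h1
      rw [mem_powersetCard]
      exact ⟨Finset.subset_univ _, h1.2.2⟩
    · rw [Finset.card_image_of_injOn hinj, hScard, Finset.card_powersetCard, Finset.card_univ,
        card_Pt hG v0]
      decide
  have hTmem : T ∈ S.image (fun x => x.2) := by
    rw [himg, mem_powersetCard]; exact ⟨Finset.subset_univ _, hT⟩
  rw [Finset.mem_image] at hTmem
  obtain ⟨⟨b, T1⟩, h1, rfl⟩ := hTmem
  simp only [hS, mem_sigma, mem_powersetCard, Bl, mem_filter, mem_univ, true_and] at h1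
  exact ⟨b, h1.1.1, h1.1.2, h1.2.1⟩

theorem steiner_BG : IsSteinerSystem 3 6 (BG G v0) := by
  refine ⟨?_, ?_⟩
  · rintro s ⟨b, hb0, hb, rfl⟩
    exact blkP_card hG v0 hb0 hb
  · intro T hT
    obtain ⟨b, hb0, hb, hTb⟩ := exists_block hG v0 T hT
    refine ⟨blkP G v0 b, ⟨⟨b, hb0, hb, rfl⟩, hTb⟩, ?_⟩
    rintro s ⟨⟨c, hc0, hc, rfl⟩, hTc⟩
    by_cases hbc : c = b
    · rw [hbc]
    · exfalso
      have h3 := inter_le_two hG v0 hb0 hb hc0 hc hbc
      rw [← blkP_inter_card] at h3
      have h4 : T ⊆ blkP G v0 b ∩ blkP G v0 c := Finset.subset_inter hTb hTc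
      have h5 := Finset.card_le_card h4
      omega

/-- the vertex map to the point-block graph -/
def toPB (G : SimpleGraph V) [DecidableRel G.Adj] (v0 : V) (v : V) :
    Option (Pt G v0 ⊕ ↥(BG G v0)) :=
  if h0 : v = v0 then none else
    if h : G.Adj v0 v then some (Sum.inl ⟨v, (SimpleGraph.mem_neighborFinset G v0 v).mpr h⟩)
    else some (Sum.inr ⟨blkP G v0 v, ⟨v, h0, h, rfl⟩⟩)

omit hG in
theorem toPB_v0 : toPB G v0 v0 = none := by
  simp [toPB]

omit hG in
theorem toPB_pt {p : V} (h : G.Adj v0 p) :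
    toPB G v0 p = some (Sum.inl ⟨p, (SimpleGraph.mem_neighborFinset G v0 p).mpr h⟩) := by
  have h0 : p ≠ v0 := fun h' => SimpleGraph.irrefl G (h' ▸ h)
  simp [toPB, h0, h]

omit hG in
theorem toPB_bl {b : V} (h0 : b ≠ v0) (h : ¬ G.Adj v0 b) :
    toPB G v0 b = some (Sum.inr ⟨blkP G v0 b, ⟨b, h0, h, rfl⟩⟩) := by
  simp [toPB, h0, h]

theorem toPB_injective : Function.Injective (toPB G v0) := by
  intro x y hxy
  by_cases hx0 : x = v0
  · by_cases hy0 : y = v0
    · rw [hx0, hy0]
    · exfalso
      rw [hx0, toPB_v0] at hxy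
      by_cases hy : G.Adj v0 y
      · rw [toPB_pt v0 hy] at hxy; exact absurd hxy (by simp)
      · rw [toPB_bl v0 hy0 hy] at hxy; exact absurd hxy (by simp)
  · by_cases hx : G.Adj v0 x
    · rw [toPB_pt v0 hx] at hxy
      by_cases hy0 : y = v0
      · rw [hy0, toPB_v0] at hxy; exact absurd hxy (by simp)
      · by_cases hy : G.Adj v0 y
        · rw [toPB_pt v0 hy] at hxy
          simpa using hxy
        · rw [toPB_bl v0 hy0 hy] at hxy; exact absurd hxy (by simp)
    · rw [toPB_bl v0 hx0 hx] at hxy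
      by_cases hy0 : y = v0
      · rw [hy0, toPB_v0] at hxy; exact absurd hxy (by simp)
      · by_cases hy : G.Adj v0 y
        · rw [toPB_pt v0 hy] at hxy; exact absurd hxy (by simp)
        · rw [toPB_bl v0 hy0 hy] at hxy
          have h1 : blkP G v0 x = blkP G v0 y := by
            have h2 := Option.some.inj hxy
            have h3 := Sum.inr.inj h2
            exact congrArg Subtype.val h3
          exact blkP_inj hG v0 hx0 hx hy0 hy h1

omit hG in
theorem toPB_surjective : Function.Surjective (toPB G v0) := by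
  intro w
  rcases w with _ | p | s
  · exact ⟨v0, toPB_v0 v0⟩
  · refine ⟨p.1, ?_⟩
    have h := (SimpleGraph.mem_neighborFinset G v0 p.1).mp p.2
    rw [toPB_pt v0 h]
  · obtain ⟨s, b, hb0, hb, rfl⟩ := s
    exact ⟨b, toPB_bl v0 hb0 hb⟩

theorem toPB_adj (x y : V) :
    (pointBlockGraph (BG G v0)).Adj (toPB G v0 x) (toPB G v0 y) ↔ G.Adj x y := by
  -- one-sided statements
  have key : ∀ x y : V, (x = v0 ∨ (x ≠ v0 ∧ G.Adj v0 x ∧ y ≠ v0) ∨
      (x ≠ v0 ∧ ¬ G.Adj v0 x ∧ y ≠ v0 ∧ ¬ G.Adj v0 y)) →
      ((pointBlockGraph (BG G v0)).Adj (toPB G v0 x) (toPB G v0 y) ↔ G.Adj x y) := by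
    intro x y hcase
    rcases hcase with rfl | ⟨hx0, hx, hy0⟩ | ⟨hx0, hx, hy0, hy⟩
    · rw [toPB_v0]
      by_cases hy0 : y = x
      · rw [hy0, toPB_v0]
        simp
      · by_cases hy : G.Adj x y
        · rw [toPB_pt x hy]
          simp only [hy, iff_true]
          exact HS.adj_none_inl _ _
        · rw [toPB_bl x hy0 hy]
          simp only [hy, iff_false]
          exact HS.adj_none_inr _ _
    · rw [toPB_pt v0 hx]
      by_cases hy : G.Adj v0 y
      · rw [toPB_pt v0 hy]
        have : ¬ G.Adj x y := fun h => no_triangle hG hx hy h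
        simp only [this, iff_false]
        exact HS.adj_inl_inl _ _ _
      · rw [toPB_bl v0 hy0 hy, HS.adj_inl_inr]
        simp only [blkP, mem_filter, mem_univ, true_and]
        exact ⟨fun h => h.symm, fun h => h.symm⟩
    · rw [toPB_bl v0 hx0 hx, toPB_bl v0 hy0 hy, HS.adj_inr_inr]
      constructor
      · rintro ⟨hne, hdisj⟩
        by_contra hadj
        have hxy : y ≠ x := by
          rintro rfl; exact hne rfl
        have h2 := inter_two hG v0 hx0 hx hy0 hy hxy hadj
        rw [← blkP_inter_card, Finset.disjoint_iff_inter_eq_empty.mp hdisj] at h2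
        simp at h2
      · intro hadj
        have hdisj : Disjoint (blkP G v0 x) (blkP G v0 y) := by
          rw [Finset.disjoint_iff_inter_eq_empty, ← Finset.card_eq_zero, blkP_inter_card,
            inter_zero hG v0 hadj, Finset.card_empty]
        refine ⟨?_, hdisj⟩
        intro heq
        have := blkP_inj hG v0 hx0 hx hy0 hy (congrArg Subtype.val heq)
        rw [this] at hadj
        exact SimpleGraph.irrefl G hadj
  by_cases hx0 : x = v0
  · exact key x y (Or.inl hx0)
  · by_cases hy0 : y = v0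
    · rw [SimpleGraph.adj_comm, SimpleGraph.adj_comm G]
      exact key y x (Or.inl hy0)
    · by_cases hx : G.Adj v0 x
      · exact key x y (Or.inr (Or.inl ⟨hx0, hx, hy0⟩))
      · by_cases hy : G.Adj v0 y
        · rw [SimpleGraph.adj_comm, SimpleGraph.adj_comm G]
          exact key y x (Or.inr (Or.inl ⟨hy0, hy, hx0⟩))
        · exact key x y (Or.inr (Or.inr ⟨hx0, hx, hy0, hy⟩))

/-- the graph is the point-block graph of the Steiner system on the neighbours of `v0` -/
noncomputable def isoPB : G ≃g pointBlockGraph (BG G v0) where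
  toEquiv := Equiv.ofBijective (toPB G v0) ⟨toPB_injective hG v0, toPB_surjective v0⟩
  map_rel_iff' := by
    intro x y
    exact toPB_adj hG v0 x y

end Cfsg.Agent.Helper93.SRG
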