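import Cfsg.Agent.Helper93.Rank3Graph
import Cfsg.Agent.Helper93.SRG100c
import Cfsg.Agent.Helper93.HSOrder
import Cfsg.Agent.S0430

/-!
# Two groups of order 44352000 acting faithfully and transitively on 100 points with
point-stabiliser orbits of sizes 1, 22, 77 are isomorphic, if one of them is simple
-/

set_option autoImplicit false

namespace Cfsg.Agent.Helper93.R3

open MulAction

/-- a simple subgroup of index two is the only subgroup of index two -/
theorem eq_of_index_two {A : Type*} [Group A] [Finite A] (S T : Subgroup A) (hS : S.index = 2)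
    (hT : T.index = 2) (hsimple : IsSimpleGroup ↥S) (hcard : 2 < Nat.card ↥S) : S = T := by
  have : T.Normal := Subgroup.normal_of_index_eq_two hT
  have hn : (T.subgroupOf S).Normal := inferInstance
  rcases hsimple.eq_bot_or_eq_top_of_normal _ hn with h | h
  · exfalso
    have h1 : T.relIndex S ∣ T.index := Subgroup.relIndex_dvd_index_of_normal T S
    rw [Subgroup.relIndex, h, Subgroup.index_bot, hT] at h1
    have := Nat.le_of_dvd (by norm_num) h1
    omega
  · rw [Subgroup.subgroupOf_eq_top] at h
    exact Subgroup.eq_of_le_of_card_ge h (by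
      have e1 := Subgroup.index_mul_card S
      have e2 := Subgroup.index_mul_card T
      rw [hS] at e1
      rw [hT] at e2
      omega)

/-- conjugation of automorphisms along a graph isomorphism -/
def autCongr {V W : Type*} {G : SimpleGraph V} {G' : SimpleGraph W} (ι : G ≃g G') :
    (G ≃g G) ≃* (G' ≃g G') where
  toFun f := (ι.symm.trans f).trans ι
  invFun f := (ι.trans f).trans ι.symm
  left_inv f := by
    ext x
    simp
  right_inv f := by
    ext x
    simp
  map_mul' f g := by
    ext x
    simp [RelIso.mul_apply]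

/-- the order of the automorphism group of a strongly regular graph with parameters
`(100, 22, 0, 6)` -/
theorem card_aut_srg {V : Type*} [Fintype V] [DecidableEq V] {G : SimpleGraph V}
    [DecidableRel G.Adj] (hG : G.IsSRGWith 100 22 0 6) : Nat.card (G ≃g G) = 88704000 := by
  have hV : Nonempty V := by
    rw [← Fintype.card_pos_iff, hG.card]; norm_num
  obtain ⟨v0⟩ := hV
  rw [Nat.card_congr (autCongr (Cfsg.Agent.Helper93.SRG.isoPB hG v0)).toEquiv]
  exact Cfsg.Agent.Helper93.HS.card_aut (Cfsg.Agent.Helper93.SRG.card_Pt hG v0)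
    (Cfsg.Agent.Helper93.SRG.steiner_BG hG v0)

section toAut

variable {X Ω : Type*} [Group X] [MulAction X Ω] (Γ : SimpleGraph Ω)
  (hinv : ∀ (g : X) (x y : Ω), Γ.Adj (g • x) (g • y) ↔ Γ.Adj x y)

/-- a group preserving a graph maps to its automorphism group -/
def toAut : X →* (Γ ≃g Γ) where
  toFun g := ⟨MulAction.toPerm g, by intro x y; exact hinv g x y⟩
  map_one' := by
    ext x
    show (1 : X) • x = x
    exact one_smul _ _
  map_mul' g h := by
    ext x
    show (g * h) • x = g • (h • x)
    exact mul_smul _ _ _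

theorem toAut_apply (g : X) (x : Ω) : toAut Γ hinv g x = g • x := rfl

theorem toAut_injective [FaithfulSMul X Ω] : Function.Injective (toAut Γ hinv) := by
  intro g h e
  apply FaithfulSMul.eq_of_smul_eq_smul (α := Ω)
  intro x
  have := DFunLike.congr_fun e x
  rwa [toAut_apply, toAut_apply] at this

end toAut

/-- the range of an injective homomorphism from a group of order `44352000` into a group of
order `88704000` has index two -/
theorem index_range_eq_two {X A : Type*} [Group X] [Group A] (f : X →* A)
    (hf : Function.Injective f) (hX : Nat.card X = 44352000) (hA : Nat.card A = 88704000) :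
    f.range.index = 2 := by
  have h1 := Subgroup.index_mul_card f.range
  rw [← Nat.card_congr (MonoidHom.ofInjective hf).toEquiv, hX, hA] at h1
  omega

theorem iso_of_rank3 {X Y ΩX ΩY : Type*} [Group X] [Group Y] [Fintype ΩX] [Fintype ΩY]
    [MulAction X ΩX] [MulAction Y ΩY] [FaithfulSMul X ΩX] [FaithfulSMul Y ΩY]
    [IsPretransitive X ΩX] [IsPretransitive Y ΩY]
    (hΩX : Fintype.card ΩX = 100) (hΩY : Fintype.card ΩY = 100)
    {a b c : ΩX} (hb : (orbit (stabilizer X a) b).ncard = 22)
    (hc : (orbit (stabilizer X a) c).ncard = 77)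
    {a' b' c' : ΩY} (hb' : (orbit (stabilizer Y a') b').ncard = 22)
    (hc' : (orbit (stabilizer Y a') c').ncard = 77)
    (hX : Nat.card X = 44352000) (hY : Nat.card Y = 44352000) (hYs : IsSimpleGroup Y) :
    Nonempty (X ≃* Y) := by
  classical
  obtain ⟨ΓX, dX, hsrgX, hinvX⟩ := exists_srg_of_rank3 (H := X) hΩX hb hc
  obtain ⟨ΓY, dY, hsrgY, hinvY⟩ := exists_srg_of_rank3 (H := Y) hΩY hb' hc'
  obtain ⟨ι⟩ := Cfsg.Agent.S0430.result hsrgY hsrgX
  have hAX : Nat.card (ΓX ≃g ΓX) = 88704000 := card_aut_srg hsrgX
  have hAY : Nat.card (ΓY ≃g ΓY) = 88704000 := card_aut_srg hsrgY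
  have : Finite (ΓX ≃g ΓX) := Nat.finite_of_card_ne_zero (by rw [hAX]; norm_num)
  -- the two homomorphisms into the automorphism group of `ΓX`
  let fX : X →* (ΓX ≃g ΓX) := toAut ΓX hinvX
  let fY : Y →* (ΓX ≃g ΓX) := (autCongr ι).toMonoidHom.comp (toAut ΓY hinvY)
  have hfX : Function.Injective fX := toAut_injective ΓX hinvX
  have hfY : Function.Injective fY :=
    (autCongr ι).injective.comp (toAut_injective ΓY hinvY)
  have iX := index_range_eq_two fX hfX hX hAX
  have iY := index_range_eq_two fY hfY hY hAX
  have eY : Y ≃* ↥fY.range := MonoidHom.ofInjective hfY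
  have hsim : IsSimpleGroup ↥fY.range := eY.symm.isSimpleGroup
  have hcard : 2 < Nat.card ↥fY.range := by
    rw [← Nat.card_congr eY.toEquiv, hY]; norm_num
  have heq : fY.range = fX.range := eq_of_index_two _ _ iY iX hsim hcard
  exact ⟨(MonoidHom.ofInjective hfX).trans
    ((MulEquiv.subgroupCongr heq.symm).trans eY.symm)⟩

end Cfsg.Agent.Helper93.R3
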