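import Cfsg.Agent.Helper93.HSLeechC
import Cfsg.Agent.Helper93.Rank3Iso

/-!
# A transitive group of degree 100 with point stabiliser the two-point stabiliser of the group of
the length-24 code and suborbits 1, 22, 77 is the explicit Higman–Sims group
-/

set_option autoImplicit false

namespace Cfsg.Agent.Helper93.HSL

open Cfsg MulAction

theorem isoHS_of_rank3 {Ω : Type*} [Fintype Ω] (hΩ : Fintype.card Ω = 100)
    (G : Subgroup (Equiv.Perm Ω)) [IsPretransitive ↥G Ω] (a : Ω)
    (e : ↥(stabilizer ↥G a) ≃* ↥Spor.M22) (b c : Ω)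
    (hb : (orbit ↥(stabilizer ↥G a) b).ncard = 22)
    (hc : (orbit ↥(stabilizer ↥G a) c).ncard = 77) : Spor.IsoHS ↥G := by
  have hG : Nat.card ↥G = 44352000 := by
    have h1 := MulAction.index_stabilizer ↥G a
    rw [MulAction.orbit_eq_univ, Set.ncard_univ, Nat.card_eq_fintype_card, hΩ] at h1
    have h2 := Subgroup.index_mul_card (stabilizer ↥G a)
    rw [h1, Nat.card_congr e.toEquiv, card_sporM22] at h2
    rw [← h2]
  have := finite_hsAct
  letI : Fintype ↥hsAct := Fintype.ofFinite _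
  have hΩ' : Fintype.card ↥hsAct = 100 := by rw [Fintype.card_eq_nat_card, card_hsAct]
  obtain ⟨p, q, hp, hq⟩ := exists_orbits
  obtain ⟨f⟩ := Cfsg.Agent.Helper93.R3.iso_of_rank3 (X := ↥G) (Y := ↥H0) hΩ hΩ' hb hc hp hq hG
    card_H0 simple_H0
  obtain ⟨e'⟩ := sporHS_equiv_H0
  exact ⟨f.trans e'.symm⟩

end Cfsg.Agent.Helper93.HSL
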