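import Cfsg.Agent.Helper93.Rank3Iso

/-!
# Automorphisms of a rank 3 group of degree 100 with subdegrees 1, 22, 77 and order 44352000

Part A: elements of order 11 fix exactly one point; a subgroup isomorphic to the point stabiliser
is a point stabiliser, provided the point stabiliser has no proper subgroup of index at most 100
and congruent to 1 modulo 11.
-/

set_option autoImplicit false

namespace Cfsg.Agent.Helper93.HSOut

open MulAction Cfsg.Agent.Helper93.R3

section

variable {G Ω : Type*} [Group G] [Fintype Ω] [MulAction G Ω] [IsPretransitive G Ω]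
variable {a b c : Ω}
variable (hΩ : Fintype.card Ω = 100) (hb : (orbit (stabilizer G a) b).ncard = 22)
  (hc : (orbit (stabilizer G a) c).ncard = 77) (hG : Nat.card G = 44352000)

include hΩ hG in
theorem card_stab (x : Ω) : Nat.card (stabilizer G x) = 443520 := by
  have h1 := MulAction.index_stabilizer G x
  rw [MulAction.orbit_eq_univ, Set.ncard_univ, Nat.card_eq_fintype_card, hΩ] at h1
  have h2 := Subgroup.index_mul_card (stabilizer G x)
  rw [h1, hG] at h2
  omega

include hΩ hb hc in
/-- the point stabiliser fixes no other point -/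
theorem eq_of_fixed {y : Ω} (h : ∀ m ∈ stabilizer G a, m • y = y) : y = a := by
  have horb : orbit (stabilizer G a) y = {y} := by
    ext z
    constructor
    · rintro ⟨⟨m, hm⟩, rfl⟩
      exact h m hm
    · rintro rfl
      exact mem_orbit_self _
  rcases cover (H := G) hΩ hb hc y with h1 | h1 | h1
  · exact h1
  · exfalso
    have e := orbit_eq_iff.mpr h1
    rw [horb] at e
    rw [← e, Set.ncard_singleton] at hb
    norm_num at hb
  · exfalso
    have e := orbit_eq_iff.mpr h1
    rw [horb] at e
    rw [← e, Set.ncard_singleton] at hc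
    norm_num at hc

include hΩ hb hc hG in
/-- an element of order 11 fixes at most one point -/
theorem eq_of_fix11 {u : G} (hu : orderOf u = 11) {x y : Ω} (hx : u • x = x) (hy : u • y = y) :
    x = y := by
  have hfin : Finite G := Nat.finite_of_card_ne_zero (by rw [hG]; norm_num)
  obtain ⟨g, rfl⟩ := exists_smul_eq G a x
  have hu'a : (g⁻¹ * u * g) • a = a := by
    rw [mul_smul, mul_smul, hx, inv_smul_smul]
  have hu'y : (g⁻¹ * u * g) • (g⁻¹ • y) = g⁻¹ • y := by
    rw [mul_smul, mul_smul, smul_inv_smul, hy]
  have hord : orderOf (g⁻¹ * u * g) = 11 := by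
    have := orderOf_injective (MulAut.conj g⁻¹).toMonoidHom (MulAut.conj g⁻¹).injective u
    simp only [MulEquiv.coe_toMonoidHom, MulAut.conj_apply, inv_inv] at this
    rw [this, hu]
  have key : ∀ z : Ω, (g⁻¹ * u * g) • z = z →
      ∀ k : ℕ, (orbit (stabilizer G a) z).ncard = k → 11 ∣ 443520 / k := by
    intro z hz k hk
    have h1 := MulAction.index_stabilizer (stabilizer G a) z
    rw [hk] at h1
    have h2 := Subgroup.index_mul_card (stabilizer (stabilizer G a) z)
    rw [h1, card_stab hΩ hG a] at h2
    have hmem : (⟨g⁻¹ * u * g, hu'a⟩ : stabilizer G a) ∈ stabilizer (stabilizer G a) z := hz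
    have h3 : orderOf (⟨⟨g⁻¹ * u * g, hu'a⟩, hmem⟩ : stabilizer (stabilizer G a) z) = 11 := by
      rw [← Subgroup.orderOf_coe, ← Subgroup.orderOf_coe]
      exact hord
    have h4 := orderOf_dvd_natCard (⟨⟨g⁻¹ * u * g, hu'a⟩, hmem⟩ : stabilizer (stabilizer G a) z)
    rw [h3] at h4
    have hk0 : k ≠ 0 := by
      rintro rfl
      simp at h2
    have : Nat.card (stabilizer (stabilizer G a) z) = 443520 / k := by
      rw [← h2, Nat.mul_div_cancel_left _ (Nat.pos_of_ne_zero hk0)]
    rwa [this] at h4
  have hya : g⁻¹ • y = a := by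
    rcases cover (H := G) hΩ hb hc (g⁻¹ • y) with h1 | h1 | h1
    · exact h1
    · exfalso
      have e := orbit_eq_iff.mpr h1
      have := key _ hu'y 22 (by rw [e, hb])
      norm_num at this
    · exfalso
      have e := orbit_eq_iff.mpr h1
      have := key _ hu'y 77 (by rw [e, hc])
      norm_num at this
  rw [← hya, smul_inv_smul]

omit [IsPretransitive G Ω] in
include hΩ in
/-- an element of order 11 fixes a point -/
theorem exists_fix11 {u : G} (hu : orderOf u = 11) : ∃ x : Ω, u • x = x := by
  have : Fact (Nat.Prime 11) := ⟨by norm_num⟩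
  have hP : IsPGroup 11 (Subgroup.zpowers u) := by
    apply IsPGroup.of_card (n := 1)
    rw [Nat.card_zpowers, hu, pow_one]
  have h1 := hP.card_modEq_card_fixedPoints Ω
  rw [Nat.card_eq_fintype_card, hΩ] at h1
  have hne : Nat.card (fixedPoints (Subgroup.zpowers u) Ω) ≠ 0 := by
    intro h0
    rw [h0] at h1
    unfold Nat.ModEq at h1
    norm_num at h1
  have hnonempty : Nonempty (fixedPoints (Subgroup.zpowers u) Ω) := by
    by_contra h
    rw [not_nonempty_iff] at h
    exact hne Nat.card_of_isEmpty
  obtain ⟨x, hx⟩ := hnonempty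
  exact ⟨x, hx ⟨u, Subgroup.mem_zpowers u⟩⟩

include hΩ hb hc hG in
/-- a subgroup of the order of a point stabiliser, all of whose subgroups of index at most 100 and
congruent to 1 modulo 11 are trivial, is a point stabiliser -/
theorem exists_eq_stabilizer (K : Subgroup G) (hK : Nat.card K = 443520)
    (hM : ∀ D : Subgroup K, D.index % 11 = 1 → D.index ≤ 100 → D.index = 1) :
    ∃ x : Ω, K = stabilizer G x := by
  have hfin : Finite G := Nat.finite_of_card_ne_zero (by rw [hG]; norm_num)
  have : Fact (Nat.Prime 11) := ⟨by norm_num⟩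
  obtain ⟨u, hu⟩ := exists_prime_orderOf_dvd_card' (G := K) 11 (by rw [hK]; norm_num)
  have hu' : orderOf (u : G) = 11 := by rw [Subgroup.orderOf_coe]; exact hu
  obtain ⟨x, hx⟩ := exists_fix11 hΩ hu'
  refine ⟨x, ?_⟩
  -- the orbit of `x` under `K`
  have hidx := MulAction.index_stabilizer K x
  have hle : (orbit K x).ncard ≤ 100 := by
    rw [← hΩ, ← Nat.card_eq_fintype_card, ← Set.ncard_univ]
    exact Set.ncard_le_ncard (Set.subset_univ _) (Set.toFinite _)
  have hmod : (orbit K x).ncard % 11 = 1 := by
    have hP : IsPGroup 11 (Subgroup.zpowers u) := by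
      apply IsPGroup.of_card (n := 1)
      rw [Nat.card_zpowers, hu, pow_one]
    have h1 := hP.card_modEq_card_fixedPoints (orbit K x)
    have hfp : fixedPoints (Subgroup.zpowers u) (orbit K x) = {⟨x, mem_orbit_self x⟩} := by
      ext z
      constructor
      · intro hz
        have h2 : (⟨u, Subgroup.mem_zpowers u⟩ : Subgroup.zpowers u) • z = z := hz _
        have h3 : (u : G) • (z : Ω) = (z : Ω) := congrArg Subtype.val h2
        have := eq_of_fix11 hΩ hb hc hG hu' hx h3
        exact Subtype.ext this.symm
      · rintro rfl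
        rintro ⟨w, n, rfl⟩
        apply Subtype.ext
        show ((u ^ n : K) : G) • x = x
        rw [Subgroup.coe_zpow]
        have : ∀ n : ℤ, ((u : G) ^ n) • x = x := by
          intro n
          have hmem : (u : G) ∈ stabilizer G x := hx
          exact (stabilizer G x).zpow_mem hmem n
        exact this n
    rw [hfp, Nat.card_coe_set_eq, Nat.card_coe_set_eq, Set.ncard_singleton] at h1
    exact h1
  have h1 := hM (stabilizer K x) (by rw [hidx]; exact hmod) (by rw [hidx]; exact hle)
  have htop : stabilizer K x = ⊤ := Subgroup.index_eq_one.mp h1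
  have hKle : K ≤ stabilizer G x := by
    intro k hk
    have : (⟨k, hk⟩ : K) ∈ stabilizer K x := by rw [htop]; trivial
    exact this
  exact Subgroup.eq_of_le_of_card_ge hKle (by rw [hK, card_stab hΩ hG x])

end

end Cfsg.Agent.Helper93.HSOut
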