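import Cfsg.Agent.Helper93.HSOutA

/-!
# Automorphisms of a rank 3 group of degree 100 with subdegrees 1, 22, 77 and order 44352000

Part B: an automorphism mapping the point stabiliser to a point stabiliser is induced by an
automorphism of the orbital graph.
-/

set_option autoImplicit false
set_option linter.unusedSectionVars false

namespace Cfsg.Agent.Helper93.HSOut

open MulAction Cfsg.Agent.Helper93.R3

/-- an injective self-map of the vertices of a finite graph preserving adjacency reflects it -/
theorem adj_iff_of_injective {V : Type*} [Finite V] (Γ : SimpleGraph V) (π : V → V)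
    (hinj : Function.Injective π) (h : ∀ x y, Γ.Adj x y → Γ.Adj (π x) (π y)) (x y : V) :
    Γ.Adj (π x) (π y) ↔ Γ.Adj x y := by
  constructor
  · intro hxy
    let F : {p : V × V // Γ.Adj p.1 p.2} → {p : V × V // Γ.Adj p.1 p.2} :=
      fun p => ⟨(π p.1.1, π p.1.2), h _ _ p.2⟩
    have hF : Function.Injective F := by
      rintro ⟨⟨x1, y1⟩, h1⟩ ⟨⟨x2, y2⟩, h2⟩ e
      have e' := congrArg Subtype.val e
      simp only [F, Prod.mk.injEq] at e'
      apply Subtype.ext
      exact Prod.ext (hinj e'.1) (hinj e'.2)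
    obtain ⟨⟨⟨x', y'⟩, h'⟩, e⟩ := Finite.surjective_of_injective hF ⟨(π x, π y), hxy⟩
    have e' := congrArg Subtype.val e
    simp only [F, Prod.mk.injEq] at e'
    rw [← hinj e'.1, ← hinj e'.2]
    exact h'
  · exact h x y

section

variable {G Ω : Type*} [Group G] [Fintype Ω] [MulAction G Ω] [IsPretransitive G Ω]
variable {a b c : Ω}

/-- the map of points induced by an automorphism `α` sending the stabiliser of `a` to that of
`a'` -/
noncomputable def piFun (a : Ω) (α : MulAut G) (a' : Ω) (x : Ω) : Ω :=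
  α (Classical.choose (exists_smul_eq G a x)) • a'

variable {α : MulAut G} {a' : Ω}
  (hα : (stabilizer G a).map α.toMonoidHom = stabilizer G a')

include hα in
theorem map_mem_iff (g : G) : α g ∈ stabilizer G a' ↔ g ∈ stabilizer G a := by
  rw [← hα]
  constructor
  · rintro ⟨m, hm, e⟩
    have : m = g := α.injective e
    rwa [← this]
  · intro h
    exact ⟨g, h, rfl⟩

include hα in
theorem piFun_smul (g : G) : piFun a α a' (g • a) = α g • a' := by
  unfold piFun
  have hspec := Classical.choose_spec (exists_smul_eq G a (g • a))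
  set g0 := Classical.choose (exists_smul_eq G a (g • a)) with hg0
  have h1 : g⁻¹ * g0 ∈ stabilizer G a := by
    rw [mem_stabilizer_iff, mul_smul, hspec, inv_smul_smul]
  have h2 := (map_mem_iff hα _).mpr h1
  rw [mem_stabilizer_iff, map_mul, map_inv, mul_smul, inv_smul_eq_iff] at h2
  exact h2

include hα in
theorem piFun_base : piFun a α a' a = a' := by
  have := piFun_smul hα (1 : G)
  rwa [one_smul, map_one, one_smul] at this

include hα in
theorem piFun_equivariant (h : G) (x : Ω) : piFun a α a' (h • x) = α h • piFun a α a' x := by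
  obtain ⟨g, rfl⟩ := exists_smul_eq G a x
  rw [← mul_smul, piFun_smul hα, piFun_smul hα, map_mul, mul_smul]

include hα in
theorem piFun_injective : Function.Injective (piFun a α a') := by
  intro x y e
  obtain ⟨g, rfl⟩ := exists_smul_eq G a x
  obtain ⟨g', rfl⟩ := exists_smul_eq G a y
  rw [piFun_smul hα, piFun_smul hα] at e
  have h1 : α (g'⁻¹ * g) ∈ stabilizer G a' := by
    rw [mem_stabilizer_iff, map_mul, map_inv, mul_smul, e, inv_smul_smul]
  have h2 := (map_mem_iff hα _).mp h1
  rw [mem_stabilizer_iff, mul_smul, inv_smul_eq_iff] at h2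
  exact h2

variable (hΩ : Fintype.card Ω = 100) (hb : (orbit (stabilizer G a) b).ncard = 22)
  (hc : (orbit (stabilizer G a) c).ncard = 77)

include hα hΩ hb hc in
/-- the induced map preserves the orbital graph -/
theorem piFun_adj (x y : Ω) (h : (orbGraph (H := G) hΩ hb hc).Adj x y) :
    (orbGraph (H := G) hΩ hb hc).Adj (piFun a α a' x) (piFun a α a' y) := by
  obtain ⟨g, rfl, rfl⟩ := h
  rw [piFun_smul hα, piFun_equivariant hα, orbGraph_smul]
  obtain ⟨k, rfl⟩ := exists_smul_eq G a a'
  rw [orbGraph_adj, ← rel_smul_iff k⁻¹, inv_smul_smul, rel_base_iff]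
  -- the map `ψ z = k⁻¹ • π z`
  have hψinj : Function.Injective (fun z => k⁻¹ • piFun a α (k • a) z) := by
    intro z w e
    exact piFun_injective hα (MulAction.injective k⁻¹ e)
  have hconj : ∀ m : G, m ∈ stabilizer G a → k⁻¹ * α m * k ∈ stabilizer G a := by
    intro m hm
    have h1 := (map_mem_iff hα m).mpr hm
    rw [mem_stabilizer_iff] at h1 ⊢
    rw [mul_smul, mul_smul, h1, inv_smul_smul]
  have himage : (fun z => k⁻¹ • piFun a α (k • a) z) '' orbit (stabilizer G a) b =
      orbit (stabilizer G a) (k⁻¹ • piFun a α (k • a) b) := by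
    ext w
    constructor
    · rintro ⟨z, ⟨⟨m, hm⟩, rfl⟩, rfl⟩
      refine ⟨⟨k⁻¹ * α m * k, hconj m hm⟩, ?_⟩
      show (k⁻¹ * α m * k) • (k⁻¹ • piFun a α (k • a) b) = k⁻¹ • piFun a α (k • a) (m • b)
      rw [piFun_equivariant hα, mul_smul, mul_smul, smul_inv_smul]
    · rintro ⟨⟨s, hs⟩, rfl⟩
      have h1 : k * s * k⁻¹ ∈ stabilizer G (k • a) := by
        rw [mem_stabilizer_iff] at hs ⊢
        rw [mul_smul, mul_smul, inv_smul_smul, hs]
      rw [← hα] at h1
      obtain ⟨m, hm, e⟩ := h1
      refine ⟨m • b, ⟨⟨m, hm⟩, rfl⟩, ?_⟩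
      show k⁻¹ • piFun a α (k • a) (m • b) = s • (k⁻¹ • piFun a α (k • a) b)
      have e' : α m = k * s * k⁻¹ := e
      rw [piFun_equivariant hα, e', mul_smul, mul_smul, inv_smul_smul]
  have hcard : (orbit (stabilizer G a) (k⁻¹ • piFun a α (k • a) b)).ncard = 22 := by
    rw [← himage, Set.ncard_image_of_injective _ hψinj, hb]
  rcases cover (H := G) hΩ hb hc (k⁻¹ • piFun a α (k • a) b) with h1 | h1 | h1
  · exfalso
    have h2 : piFun a α (k • a) b = piFun a α (k • a) a := by
      rw [piFun_base hα]
      exact inv_smul_eq_iff.mp h1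
    have h3 := piFun_injective hα h2
    have h4 := a_notMem_orbit (H := G) (a := a) (by norm_num) hb
    exact h4 (Set.mem_of_eq_of_mem h3.symm (mem_orbit_self _))
  · exact h1
  · exfalso
    have e := orbit_eq_iff.mpr h1
    rw [e, hc] at hcard
    norm_num at hcard

include hα hΩ hb hc in
/-- the automorphism of the orbital graph induced by `α` -/
theorem exists_graph_aut : ∃ σ : orbGraph (H := G) hΩ hb hc ≃g orbGraph (H := G) hΩ hb hc,
    ∀ (g : G) (x : Ω), σ (g • x) = α g • σ x := by
  have hinj := piFun_injective (a := a) hα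
  have hbij : Function.Bijective (piFun a α a') := hinj.bijective_of_finite
  refine ⟨⟨Equiv.ofBijective _ hbij, ?_⟩, ?_⟩
  · intro x y
    exact adj_iff_of_injective _ _ hinj (piFun_adj hα hΩ hb hc) x y
  · intro g x
    exact piFun_equivariant hα g x

end

end Cfsg.Agent.Helper93.HSOut
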