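import Cfsg.Agent.Helper93.HSOutB
import Cfsg.Prelude.Def_KGroupFacts

/-!
# Automorphisms of a rank 3 group of degree 100 with subdegrees 1, 22, 77 and order 44352000

Part C: the automorphism group has order 88704000, and the inner automorphisms have index 2.
-/

set_option autoImplicit false
set_option linter.unusedSectionVars false

namespace Cfsg.Agent.Helper93.HSOut

open MulAction Cfsg.Agent.Helper93.R3

section

variable {G Ω : Type*} [Group G] [Fintype Ω] [MulAction G Ω] [IsPretransitive G Ω]
  [FaithfulSMul G Ω]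
variable {a b c : Ω}
variable (hΩ : Fintype.card Ω = 100) (hb : (orbit (stabilizer G a) b).ncard = 22)
  (hc : (orbit (stabilizer G a) c).ncard = 77) (hG : Nat.card G = 44352000)
  (hM : ∀ K : Subgroup G, Nonempty (K ≃* stabilizer G a) →
    ∀ D : Subgroup K, D.index % 11 = 1 → D.index ≤ 100 → D.index = 1)

include hΩ hb hc hG hM in
theorem exists_image_stab (α : MulAut G) :
    ∃ a' : Ω, (stabilizer G a).map α.toMonoidHom = stabilizer G a' := by
  apply exists_eq_stabilizer hΩ hb hc hG ((stabilizer G a).map α.toMonoidHom)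
  · exact (Nat.card_congr (α.subgroupMap (stabilizer G a)).toEquiv).symm.trans
      (card_stab hΩ hG a)
  · exact hM _ ⟨(α.subgroupMap (stabilizer G a)).symm⟩

include hΩ hb hc in
theorem orbGraph_srg [DecidableEq Ω] [DecidableRel (orbGraph (H := G) hΩ hb hc).Adj] :
    (orbGraph (H := G) hΩ hb hc).IsSRGWith 100 22 0 6 := by
  obtain ⟨ℓ, μ, h⟩ := orbGraph_isSRG (H := G) hΩ hb hc
  obtain ⟨rfl, rfl⟩ := srg_100_22 _ h
  exact h

include hΩ hb hc hG hM in
theorem card_mulAut_le : Nat.card (MulAut G) ≤ 88704000 := by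
  classical
  have hA : Nat.card (orbGraph (H := G) hΩ hb hc ≃g orbGraph (H := G) hΩ hb hc) = 88704000 :=
    card_aut_srg (orbGraph_srg hΩ hb hc)
  have hfin : Finite (orbGraph (H := G) hΩ hb hc ≃g orbGraph (H := G) hΩ hb hc) :=
    Nat.finite_of_card_ne_zero (by rw [hA]; norm_num)
  have hex : ∀ α : MulAut G, ∃ σ : orbGraph (H := G) hΩ hb hc ≃g orbGraph (H := G) hΩ hb hc,
      ∀ (g : G) (x : Ω), σ (g • x) = α g • σ x := by
    intro α
    obtain ⟨a', ha'⟩ := exists_image_stab hΩ hb hc hG hM α
    exact exists_graph_aut ha' hΩ hb hc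
  choose Φ hΦ using hex
  have hinj : Function.Injective Φ := by
    intro α β e
    apply MulEquiv.ext
    intro g
    apply FaithfulSMul.eq_of_smul_eq_smul (α := Ω)
    intro z
    obtain ⟨x, rfl⟩ := (Φ α).surjective z
    have h1 := hΦ α g x
    have h2 := hΦ β g x
    rw [← e] at h2
    rw [← h1, ← h2]
  rw [← hA]
  exact Nat.card_le_card_of_injective Φ hinj

include hΩ hb hc hG in
theorem card_mulAut_ge : 88704000 ≤ Nat.card (MulAut G) := by
  classical
  have hA : Nat.card (orbGraph (H := G) hΩ hb hc ≃g orbGraph (H := G) hΩ hb hc) = 88704000 :=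
    card_aut_srg (orbGraph_srg hΩ hb hc)
  have hfin : Finite (orbGraph (H := G) hΩ hb hc ≃g orbGraph (H := G) hΩ hb hc) :=
    Nat.finite_of_card_ne_zero (by rw [hA]; norm_num)
  obtain ⟨ρ, hρdef⟩ : ∃ ρ : G →* (orbGraph (H := G) hΩ hb hc ≃g orbGraph (H := G) hΩ hb hc),
      ρ = toAut (orbGraph (H := G) hΩ hb hc) (orbGraph_smul (H := G) hΩ hb hc) := ⟨_, rfl⟩
  have hρapp : ∀ (g : G) (x : Ω), ρ g x = g • x := by
    intro g x
    rw [hρdef]
    rfl
  have hρ : Function.Injective ρ := by
    rw [hρdef]
    exact toAut_injective _ _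
  have hidx : ρ.range.index = 2 := index_range_eq_two ρ hρ hG hA
  have hnorm : ρ.range.Normal := Subgroup.normal_of_index_eq_two hidx
  have hf : Function.Injective
      (MulAut.conjNormal : (orbGraph (H := G) hΩ hb hc ≃g orbGraph (H := G) hΩ hb hc) →*
        MulAut ρ.range) := by
    rw [injective_iff_map_eq_one]
    intro σ hσ
    have hcomm : ∀ (g : G) (x : Ω), σ (g • x) = g • σ x := by
      intro g x
      have h1 := congrArg (fun φ : MulAut ρ.range =>
        ((φ ⟨ρ g, g, rfl⟩ : ρ.range) :
          orbGraph (H := G) hΩ hb hc ≃g orbGraph (H := G) hΩ hb hc)) hσ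
      simp only [MulAut.conjNormal_apply, MulAut.one_apply] at h1
      have h2 : σ * ρ g = ρ g * σ := by
        calc σ * ρ g = (σ * ρ g * σ⁻¹) * σ := by group
          _ = ρ g * σ := by rw [h1]
      have h3 := congrArg (fun τ : orbGraph (H := G) hΩ hb hc ≃g orbGraph (H := G) hΩ hb hc =>
        τ x) h2
      simp only [RelIso.mul_apply, hρapp] at h3
      exact h3
    have hσa : σ a = a := by
      apply eq_of_fixed (G := G) hΩ hb hc
      intro m hm
      rw [← hcomm, mem_stabilizer_iff.mp hm]
    ext x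
    obtain ⟨g, rfl⟩ := exists_smul_eq G a x
    rw [hcomm, hσa]
    rfl
  have e1 : Nat.card (MulAut ρ.range) = Nat.card (MulAut G) :=
    Nat.card_congr (MulAut.congr (MonoidHom.ofInjective hρ).symm).toEquiv
  rw [← hA, ← e1]
  exact Nat.card_le_card_of_injective _ hf

include hΩ hb hc hG in
/-- the centre is trivial -/
theorem center_eq_bot : Subgroup.center G = ⊥ := by
  rw [eq_bot_iff]
  intro z hz
  rw [Subgroup.mem_bot]
  apply FaithfulSMul.eq_of_smul_eq_smul (α := Ω)
  intro x
  rw [one_smul]
  have hza : z • a = a := by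
    apply eq_of_fixed (G := G) hΩ hb hc
    intro m hm
    rw [← mul_smul, Subgroup.mem_center_iff.mp hz m, mul_smul, mem_stabilizer_iff.mp hm]
  obtain ⟨g, rfl⟩ := exists_smul_eq G a x
  rw [← mul_smul, ← (Subgroup.mem_center_iff.mp hz g), mul_smul, hza]

include hΩ hb hc hG hM in
/-- the inner automorphisms have index two in the automorphism group -/
theorem index_inn : (Cfsg.Inn G).index = 2 := by
  have hfin : Finite G := Nat.finite_of_card_ne_zero (by rw [hG]; norm_num)
  have hA : Nat.card (MulAut G) = 88704000 :=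
    le_antisymm (card_mulAut_le hΩ hb hc hG hM) (card_mulAut_ge hΩ hb hc hG)
  have hinj : Function.Injective (MulAut.conj : G →* MulAut G) := by
    rw [injective_iff_map_eq_one]
    intro z hz
    have : z ∈ Subgroup.center G := by
      rw [Subgroup.mem_center_iff]
      intro g
      have := congrArg (fun φ : MulAut G => φ g) hz
      simp only [MulAut.conj_apply, MulAut.one_apply] at this
      calc g * z = (z * g * z⁻¹) * z := by rw [this]
        _ = z * g := by group
    rw [center_eq_bot hΩ hb hc hG] at this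
    exact this
  have hI : Nat.card (Cfsg.Inn G) = 44352000 := by
    rw [← hG]
    exact (Nat.card_congr (MonoidHom.ofInjective hinj).toEquiv).symm
  have := Subgroup.index_mul_card (Cfsg.Inn G)
  rw [hI, hA] at this
  omega

end

end Cfsg.Agent.Helper93.HSOut
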