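import Cfsg.Agent.Helper93.HSOutC
import Cfsg.Agent.Helper93.M22Index
import Cfsg.Agent.Helper93.HSLeechC

/-!
# The outer automorphism group of the Higman–Sims group has order 2
-/

set_option autoImplicit false

namespace Cfsg.Agent.Helper93.HSOut

open Cfsg MulAction Cfsg.Agent.Helper93.HSL

/-- the index of the inner automorphisms is invariant under isomorphism -/
theorem index_inn_congr {G H : Type*} [Group G] [Group H] (e : G ≃* H) :
    (Cfsg.Inn G).index = (Cfsg.Inn H).index := by
  have hmap : (Cfsg.Inn G).map (MulAut.congr e).toMonoidHom = Cfsg.Inn H := by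
    ext φ
    constructor
    · rintro ⟨ψ, ⟨g, rfl⟩, rfl⟩
      refine ⟨e g, ?_⟩
      apply MulEquiv.ext
      intro h
      simp [MulAut.congr, MulAut.conj_apply]
    · rintro ⟨h, rfl⟩
      refine ⟨MulAut.conj (e.symm h), ⟨e.symm h, rfl⟩, ?_⟩
      apply MulEquiv.ext
      intro k
      simp [MulAut.congr, MulAut.conj_apply]
  rw [← hmap]
  exact (Subgroup.index_map_equiv (Cfsg.Inn G) (MulAut.congr e)).symm

set_option synthInstance.maxHeartbeats 400000 in
set_option maxHeartbeats 1000000 in
theorem index_inn_H0 : (Cfsg.Inn ↥H0).index = 2 := by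
  have := finite_hsAct
  let _ : Fintype ↥hsAct := Fintype.ofFinite _
  have hΩ' : Fintype.card ↥hsAct = 100 := by rw [Fintype.card_eq_nat_card, card_hsAct]
  obtain ⟨p, q, hp, hq⟩ := exists_orbits
  apply index_inn (G := ↥H0) (Ω := ↥hsAct) (a := a0) hΩ' hp hq card_H0
  rintro K ⟨e⟩ D h1 h2
  exact M22Idx.index_eq_one_of_equiv Cfsg.Agent.Helper26.kk_ne_jj
    (e.trans (MulEquiv.ofBijective m22Hom m22Hom_bijective).symm) D h1 h2

/-- the outer automorphism group of the explicit Higman–Sims group has order 2 -/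
theorem card_out_sporHS : Nat.card (Cfsg.Out ↥Spor.HS) = 2 := by
  obtain ⟨e⟩ := sporHS_equiv_H0
  show (Cfsg.Inn ↥Spor.HS).index = 2
  rw [index_inn_congr e]
  exact index_inn_H0

end Cfsg.Agent.Helper93.HSOut
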