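import Cfsg.Agent.Helper93.M24Fix
import Cfsg.Agent.Helper26.OctadStab
import Cfsg.Agent.Helper27.M22Orb

/-!
# Tools for subgroups of `M23` of index 253 (S1609), part A

* `fixF g`: the fixed point set of a permutation of the 24 points;
* `nfix_le_eight`: a non-identity element of `M24` fixes at most 8 points;
* `fix8_octad`: eight points fixed by a non-identity element of `M24` form an octad;
* `card_modEq_inter_fixF`: for `g ^ p = 1`, a `g`-invariant set has as many points as fixed
  points of `g`, modulo `p`;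
* `exists_ne_one_fixing`: a subgroup with more than `|R|!` elements stabilising `R` contains a
  non-identity element fixing `R` pointwise;
* orbits `orbF K y` as finsets.
-/

set_option autoImplicit false

namespace Cfsg.Agent.Helper93.M23Idx

open Cfsg Cfsg.Agent.Helper7 Cfsg.Agent.Helper93 Cfsg.Agent.Helper93.M24Fix
open scoped Pointwise

/-- the set of fixed points -/
def fixF (g : Equiv.Perm GolayPt) : Finset GolayPt := Finset.univ.filter fun p => g p = p

theorem mem_fixF {g : Equiv.Perm GolayPt} {p : GolayPt} : p ∈ fixF g ↔ g p = p := by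
  simp [fixF]

theorem card_fixF (g : Equiv.Perm GolayPt) : (fixF g).card = nfix g := rfl

theorem fixF_subset_pow (g : Equiv.Perm GolayPt) (n : ℕ) : fixF g ⊆ fixF (g ^ n) := by
  intro p hp
  rw [mem_fixF] at *
  induction n with
  | zero => simp
  | succ n ih => rw [pow_succ, Equiv.Perm.mul_apply, hp, ih]

theorem nfix_le_pow (g : Equiv.Perm GolayPt) (n : ℕ) : nfix g ≤ nfix (g ^ n) :=
  Finset.card_le_card (fixF_subset_pow g n)

theorem fixF_conj (k h : Equiv.Perm GolayPt) : fixF (k * h * k⁻¹) = k • fixF h := by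
  ext p
  rw [mem_fixF, Finset.mem_smul_finset]
  constructor
  · intro hp
    refine ⟨k⁻¹ p, ?_, by simp⟩
    rw [mem_fixF]
    have := congrArg (k⁻¹ : Equiv.Perm GolayPt) hp
    simpa using this
  · rintro ⟨y, hy, rfl⟩
    rw [mem_fixF] at hy
    simp [hy]

/-- some power has order 2 or 3 -/
theorem exists_pow_prime {g : Equiv.Perm GolayPt} (hg1 : g ≠ 1) (h48 : orderOf g ∣ 48) :
    ∃ n : ℕ, orderOf (g ^ n) = 2 ∨ orderOf (g ^ n) = 3 := by
  have hpos : orderOf g ≠ 0 := (orderOf_pos g).ne'
  have hne1 : orderOf g ≠ 1 := by rwa [Ne, orderOf_eq_one_iff]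
  obtain ⟨p, hp, hpd⟩ := Nat.exists_prime_and_dvd hne1
  have hp48 : p ∣ 2 ^ 4 * 3 := by norm_num; exact hpd.trans h48
  have h23 : p = 2 ∨ p = 3 := by
    rcases (Nat.Prime.dvd_mul hp).mp hp48 with h | h
    · left; exact (Nat.prime_dvd_prime_iff_eq hp Nat.prime_two).mp (hp.dvd_of_dvd_pow h)
    · right; exact (Nat.prime_dvd_prime_iff_eq hp Nat.prime_three).mp h
  refine ⟨orderOf g / p, ?_⟩
  have h := orderOf_pow_orderOf_div hpos hpd
  rcases h23 with rfl | rfl
  · exact Or.inl h
  · exact Or.inr h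

/-- a non-identity element of `M24` fixes at most 8 points -/
theorem nfix_le_eight {g : Equiv.Perm GolayPt} (hg : g ∈ M24) (hg1 : g ≠ 1) : nfix g ≤ 8 := by
  by_contra hcon
  push Not at hcon
  have h48 := orderOf_dvd_48_of_nfix hg (by omega)
  obtain ⟨n, hn⟩ := exists_pow_prime hg1 h48
  have hle := nfix_le_pow g n
  have hm : g ^ n ∈ M24 := M24.pow_mem hg n
  rcases hn with hn | hn
  · rcases nfix_order2 hm hn with h | h <;> omega
  · rcases nfix_order3 hm hn with h | h <;> omega

/-- the fixed points of the standard `2A` involution, as a mask -/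
def mask2A : ℕ := 11010247

theorem fixF_rep2A : fixF (evalW gens5 e2A_w) = support₂ (word mask2A) := by
  have ht := isTable_evalW tablesOf_gens5 e2A_w
  ext p
  rw [mem_fixF, mem_support₂_word]
  have h1 : evalW gens5 e2A_w p = p ↔ idx (evalW gens5 e2A_w p) = idx p := by
    constructor
    · intro h; rw [h]
    · intro h
      have := congrArg pt h
      rwa [pt_idx, pt_idx] at this
  rw [h1, ht.2 p]
  have hall : ∀ i < 24, ((tableW tabs5 e2A_w).getD i 0 = i ↔ mask2A.testBit i = true) := by
    decide +kernel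
  exact hall (idx p) (idx_lt p)

theorem fixF_rep2A_mem : fixF (evalW gens5 e2A_w) ∈ octads := by
  rw [fixF_rep2A, Helper7.mem_octads_iff]
  refine ⟨word mask2A, (word_mem_golayCode_iff (by decide)).mpr (by decide +kernel), rfl, ?_⟩
  rw [card_support₂_word]
  decide +kernel

/-- eight points fixed by a non-identity element of `M24` form an octad -/
theorem fix8_octad {g : Equiv.Perm GolayPt} (hg : g ∈ M24) (hg1 : g ≠ 1) {S : Finset GolayPt}
    (hS : S ⊆ fixF g) (hc : S.card = 8) : S ∈ octads := by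
  have h8 : 8 ≤ nfix g := by
    rw [← card_fixF, ← hc]
    exact Finset.card_le_card hS
  have h48 := orderOf_dvd_48_of_nfix hg (by omega)
  obtain ⟨n, hn⟩ := exists_pow_prime hg1 h48
  have hle := nfix_le_pow g n
  have hm : g ^ n ∈ M24 := M24.pow_mem hg n
  rcases hn with hn | hn
  · have h8' : nfix (g ^ n) = 8 := by
      rcases nfix_order2 hm hn with h | h <;> omega
    have hSeq : S = fixF (g ^ n) :=
      Finset.eq_of_subset_of_card_le (hS.trans (fixF_subset_pow g n))
        (by rw [card_fixF, h8', hc])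
    obtain ⟨k, hk, hkg⟩ := conj_2A hm hn h8'
    have h1 : fixF (g ^ n) = k⁻¹ • fixF (evalW gens5 e2A_w) := by
      rw [← hkg, fixF_conj, inv_smul_smul]
    rw [hSeq, h1]
    exact Helper7.smul_mem_octads (M24.inv_mem hk) fixF_rep2A_mem
  · rcases nfix_order3 hm hn with h | h <;> omega

/-! ### fixed points modulo `p` on an invariant set -/

theorem card_modEq_inter_fixF {p : ℕ} [hp : Fact p.Prime] {g : Equiv.Perm GolayPt}
    (hgp : g ^ p = 1) (A : Finset GolayPt) (hA : ∀ y ∈ A, g y ∈ A) :
    (A ∩ fixF g).card ≡ A.card [MOD p] := by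
  classical
  have hA' : ∀ y, g y ∈ A ↔ y ∈ A := by
    intro y
    constructor
    · intro hy
      -- `g⁻¹ = g ^ (p - 1)` preserves `A`
      have hpow : ∀ n : ℕ, ∀ z ∈ A, (g ^ n) z ∈ A := by
        intro n
        induction n with
        | zero => intro z hz; simpa using hz
        | succ n ih =>
          intro z hz
          rw [pow_succ, Equiv.Perm.mul_apply]
          exact ih _ (hA z hz)
      have h1 := hpow (p - 1) (g y) hy
      have h2 : (g ^ (p - 1)) (g y) = y := by
        have : g ^ (p - 1) * g = 1 := by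
          rw [← pow_succ, Nat.sub_add_cancel hp.out.one_le, hgp]
        rw [← Equiv.Perm.mul_apply, this, Equiv.Perm.one_apply]
      rwa [h2] at h1
    · exact hA y
  let σ : Equiv.Perm {y // y ∈ A} := g.subtypePerm hA'
  have hσ : σ ^ p ^ 1 = 1 := by
    rw [pow_one]
    show g.subtypePerm hA' ^ p = 1
    rw [Equiv.Perm.subtypePerm_pow]
    refine Equiv.ext fun y => Subtype.ext ?_
    rw [Equiv.Perm.subtypePerm_apply]
    show (g ^ p) (y : GolayPt) = y
    rw [hgp]
    rfl
  have h := Equiv.Perm.card_compl_support_modEq hσ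
  have hcard : Fintype.card {y // y ∈ A} = A.card := Fintype.card_coe A
  rw [hcard] at h
  have h2 : σ.supportᶜ.card = (A ∩ fixF g).card := by
    rw [← Finset.card_map (Function.Embedding.subtype _)]
    congr 1
    ext z
    simp only [Finset.mem_map, Finset.mem_compl, Equiv.Perm.mem_support, not_not,
      Function.Embedding.coe_subtype, Finset.mem_inter, mem_fixF]
    constructor
    · rintro ⟨y, hy, rfl⟩
      refine ⟨y.2, ?_⟩
      have := congrArg Subtype.val hy
      exact this
    · rintro ⟨hzA, hz⟩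
      exact ⟨⟨z, hzA⟩, Subtype.ext hz, rfl⟩
  rw [h2] at h
  exact h

/-! ### restriction to an invariant set -/

section restr

variable (K : Subgroup (Equiv.Perm GolayPt)) (R : Finset GolayPt)

theorem mem_iff_of_invariant {K : Subgroup (Equiv.Perm GolayPt)} {R : Finset GolayPt}
    (hR : ∀ g ∈ K, ∀ y ∈ R, g y ∈ R) {g : Equiv.Perm GolayPt} (hg : g ∈ K) (y : GolayPt) :
    g y ∈ R ↔ y ∈ R := by
  constructor
  · intro hy
    have := hR g⁻¹ (K.inv_mem hg) (g y) hy
    simpa using this
  · exact hR g hg y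

/-- restriction of a subgroup to an invariant set -/
def restr (hR : ∀ g ∈ K, ∀ y ∈ R, g y ∈ R) : ↥K →* Equiv.Perm {y // y ∈ R} where
  toFun g := (g : Equiv.Perm GolayPt).subtypePerm (mem_iff_of_invariant hR g.2)
  map_one' := Equiv.ext fun _ => Subtype.ext rfl
  map_mul' _ _ := Equiv.ext fun _ => Subtype.ext rfl

theorem restr_apply (hR : ∀ g ∈ K, ∀ y ∈ R, g y ∈ R) (g : ↥K) (y : {y // y ∈ R}) :
    ((restr K R hR g y : {y // y ∈ R}) : GolayPt) = (g : Equiv.Perm GolayPt) y := rfl

theorem card_perm_coe : Nat.card (Equiv.Perm {y // y ∈ R}) = R.card.factorial := by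
  rw [Nat.card_perm, Nat.card_eq_fintype_card, Fintype.card_coe]

/-- a large subgroup stabilising `R` has a non-identity element fixing `R` pointwise -/
theorem exists_ne_one_fixing (hR : ∀ g ∈ K, ∀ y ∈ R, g y ∈ R)
    (hcard : R.card.factorial < Nat.card K) :
    ∃ g ∈ K, g ≠ 1 ∧ ∀ y ∈ R, g y = y := by
  have hni : ¬ Function.Injective (restr K R hR) := by
    intro hinj
    have := Nat.card_le_card_of_injective _ hinj
    rw [card_perm_coe] at this
    omega
  rw [← MonoidHom.ker_eq_bot_iff] at hni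
  obtain ⟨g, hg1⟩ := (Subgroup.ne_bot_iff_exists_ne_one.mp hni)
  have hker : (g : ↥K) ∈ (restr K R hR).ker := g.2
  refine ⟨((g : ↥K) : Equiv.Perm GolayPt), (g : ↥K).2, ?_, ?_⟩
  · intro h
    apply hg1
    apply Subtype.ext
    apply Subtype.ext
    exact h
  · intro y hy
    rw [MonoidHom.mem_ker] at hker
    have := congrArg (fun e : Equiv.Perm {y // y ∈ R} => ((e ⟨y, hy⟩ : {y // y ∈ R}) : GolayPt)) hker
    exact this

end restr

/-! ### orbits as finsets -/

section orbits

variable (K : Subgroup (Equiv.Perm GolayPt))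

/-- the orbit of `y` under `K` -/
noncomputable def orbF (y : GolayPt) : Finset GolayPt :=
  haveI := Classical.decPred fun z : GolayPt => ∃ g ∈ K, g y = z
  Finset.univ.filter fun z => ∃ g ∈ K, g y = z

theorem mem_orbF {y z : GolayPt} : z ∈ orbF K y ↔ ∃ g ∈ K, g y = z := by
  classical
  simp [orbF]

theorem self_mem_orbF (y : GolayPt) : y ∈ orbF K y := (mem_orbF K).2 ⟨1, K.one_mem, rfl⟩

theorem orbF_invariant (y : GolayPt) : ∀ g ∈ K, ∀ z ∈ orbF K y, g z ∈ orbF K y := by
  intro g hg z hz
  obtain ⟨h, hh, rfl⟩ := (mem_orbF K).1 hz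
  exact (mem_orbF K).2 ⟨g * h, K.mul_mem hg hh, rfl⟩

theorem orbF_symm {y z : GolayPt} (hz : z ∈ orbF K y) : y ∈ orbF K z := by
  obtain ⟨h, hh, rfl⟩ := (mem_orbF K).1 hz
  exact (mem_orbF K).2 ⟨h⁻¹, K.inv_mem hh, by simp⟩

theorem orbF_disjoint {y z : GolayPt} (hz : z ∉ orbF K y) : Disjoint (orbF K y) (orbF K z) := by
  rw [Finset.disjoint_left]
  intro w hwy hwz
  apply hz
  obtain ⟨g, hg, rfl⟩ := (mem_orbF K).1 hwy
  obtain ⟨h, hh, hh'⟩ := (mem_orbF K).1 hwz
  refine (mem_orbF K).2 ⟨h⁻¹ * g, K.mul_mem (K.inv_mem hh) hg, ?_⟩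
  rw [Equiv.Perm.mul_apply, ← hh']
  simp

theorem coe_orbF (y : GolayPt) : ((orbF K y : Finset GolayPt) : Set GolayPt) = Helper27.orbP K y := by
  ext z
  rw [Finset.mem_coe, mem_orbF]
  rfl

/-- orbit–stabiliser -/
theorem card_stab_mul_orbF (y : GolayPt) :
    Nat.card ↥(K ⊓ Helper27.stabP y) * (orbF K y).card = Nat.card K := by
  have := Helper27.card_stab_mul_orb K y
  rwa [← coe_orbF, Set.ncard_coe_finset] at this

theorem card_orbF_dvd (y : GolayPt) : (orbF K y).card ∣ Nat.card K :=
  Dvd.intro_left _ (card_stab_mul_orbF K y)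

end orbits

end Cfsg.Agent.Helper93.M23Idx
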