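import Cfsg.Agent.Helper93.M23IdxB

/-!
# Subgroups of `M23` of index 253 (S1609), part C: the main theorem at the level of permutations

A subgroup `K ≤ M24` of order `40320` fixing the point `x` stabilises a duad not containing `x`
or an octad containing `x`.
-/

set_option autoImplicit false

namespace Cfsg.Agent.Helper93.M23Idx

open Cfsg Cfsg.Agent.Helper7 Cfsg.Agent.Helper93 Cfsg.Agent.Helper93.M24Fix
open scoped Pointwise

variable {K : Subgroup (Equiv.Perm GolayPt)} {x : GolayPt}

theorem arith_single {n f5 : ℕ} (hn : n ≤ 23) (h7 : 1 ≡ n [MOD 7]) (h5 : f5 ≡ n [MOD 5])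
    (hf : f5 ≤ 3) (hd : n ∣ 40320) : n = 1 ∨ n = 8 ∨ n = 15 := by
  unfold Nat.ModEq at *
  interval_cases n <;> omega

theorem arith_double {n f5 : ℕ} (hn : n ≤ 23) (h7 : 2 ≡ n [MOD 7]) (h5 : f5 ≡ n [MOD 5])
    (hf : f5 ≤ 3) (hd : n ∣ 40320) : n = 2 ∨ n = 16 := by
  unfold Nat.ModEq at *
  interval_cases n <;> omega

section invariance

variable (hKx : ∀ g ∈ K, g x = x)

include hKx in
theorem erase_invariant : ∀ g ∈ K, ∀ y ∈ (Finset.univ.erase x : Finset GolayPt),
    g y ∈ (Finset.univ.erase x : Finset GolayPt) := by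
  intro g hg y hy
  rw [Finset.mem_erase] at *
  refine ⟨?_, Finset.mem_univ _⟩
  intro h
  apply hy.1
  exact g.injective (h.trans (hKx g hg).symm)

theorem sdiff_invariant {S A : Finset GolayPt} (hS : ∀ g ∈ K, ∀ y ∈ S, g y ∈ S)
    (hA : ∀ g ∈ K, ∀ y ∈ A, g y ∈ A) : ∀ g ∈ K, ∀ y ∈ S \ A, g y ∈ S \ A := by
  intro g hg y hy
  rw [Finset.mem_sdiff] at *
  refine ⟨hS g hg y hy.1, ?_⟩
  intro h
  apply hy.2
  have := hA g⁻¹ (K.inv_mem hg) (g y) h
  simpa using this

end invariance

theorem eq_singleton_of_card {A : Finset GolayPt} {a : GolayPt} (ha : a ∈ A) (h1 : A.card = 1) :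
    A = {a} := by
  obtain ⟨c, hc⟩ := Finset.card_eq_one.1 h1
  rw [hc] at ha ⊢
  rw [Finset.mem_singleton] at ha
  rw [ha]

/-- the case of orbits of sizes 1 and 15 -/
theorem no_one_fifteen (hKM : K ≤ M24) (hKx : ∀ g ∈ K, g x = x) (hcard : Nat.card K = 40320)
    {a b : GolayPt} (ha : a ≠ x) (hb : b ≠ x) (hd : Disjoint (orbF K a) (orbF K b))
    (h1 : (orbF K a).card = 1) (h15 : (orbF K b).card = 15) : False := by
  have hAsub := orbF_subset hKx ha
  have hBsub : orbF K b ⊆ (Finset.univ.erase x) \ orbF K a := by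
    intro z hz
    rw [Finset.mem_sdiff]
    exact ⟨orbF_subset hKx hb hz, fun h => Finset.disjoint_left.1 hd h hz⟩
  have hc1 : ((Finset.univ.erase x) \ orbF K a).card = 22 := by
    rw [Finset.card_sdiff_of_subset hAsub, card_erase_x, h1]
  have hc2 : (((Finset.univ.erase x) \ orbF K a) \ orbF K b).card = 7 := by
    rw [Finset.card_sdiff_of_subset hBsub, hc1, h15]
  have hR : ∀ g ∈ K, ∀ y ∈ ((Finset.univ.erase x) \ orbF K a) \ orbF K b,
      g y ∈ ((Finset.univ.erase x) \ orbF K a) \ orbF K b :=
    sdiff_invariant (sdiff_invariant (erase_invariant hKx) (orbF_invariant K a))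
      (orbF_invariant K b)
  obtain ⟨g, hg, hg1, hfix⟩ := exists_ne_one_fixing K _ hR (by rw [hc2, hcard]; decide)
  have hAeq : orbF K a = {a} := eq_singleton_of_card (self_mem_orbF K a) h1
  have hga : g a = a := by
    have := orbF_invariant K a g hg a (self_mem_orbF K a)
    rwa [hAeq, Finset.mem_singleton] at this
  apply hg1
  apply eq_one_of_fixes (hKM hg)
    (insert x (insert a (((Finset.univ.erase x) \ orbF K a) \ orbF K b)))
  · intro y hy
    rw [Finset.mem_insert, Finset.mem_insert] at hy
    rcases hy with rfl | rfl | hy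
    · exact hKx g hg
    · exact hga
    · exact hfix y hy
  · rw [Finset.card_insert_of_notMem, Finset.card_insert_of_notMem, hc2]
    · intro h
      rw [Finset.mem_sdiff, Finset.mem_sdiff] at h
      exact h.1.2 (self_mem_orbF K a)
    · intro h
      rw [Finset.mem_insert] at h
      rcases h with h | h
      · exact ha h.symm
      · rw [Finset.mem_sdiff, Finset.mem_sdiff, Finset.mem_erase] at h
        exact h.1.1.1 rfl

/-- `K` cannot fix three points -/
theorem not_fix_three (hKM : K ≤ M24) (hcard : Nat.card K = 40320) {p q r : GolayPt}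
    (hpq : p ≠ q) (hpr : p ≠ r) (hqr : q ≠ r) (hp : ∀ g ∈ K, g p = p) (hq : ∀ g ∈ K, g q = q)
    (hr : ∀ g ∈ K, g r = r) : False := by
  have hc3 := card_stabilizer₃_m24 hpq hpr hqr
  let f : ↥K → ↥(MulAction.stabilizer (↥M24) p ⊓ MulAction.stabilizer (↥M24) q ⊓
      MulAction.stabilizer (↥M24) r) := fun g =>
    ⟨⟨g.1, hKM g.2⟩, by
      refine Subgroup.mem_inf.2 ⟨Subgroup.mem_inf.2 ⟨?_, ?_⟩, ?_⟩
      · exact MulAction.mem_stabilizer_iff.2 (hp g.1 g.2)
      · exact MulAction.mem_stabilizer_iff.2 (hq g.1 g.2)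
      · exact MulAction.mem_stabilizer_iff.2 (hr g.1 g.2)⟩
  have hf : Function.Injective f := by
    intro g h hgh
    apply Subtype.ext
    have h1 := congrArg Subtype.val hgh
    have h2 := congrArg Subtype.val h1
    exact h2
  have := Nat.card_le_card_of_injective f hf
  omega

/-- **Main theorem** (permutation level): a subgroup of `M24` of order `40320` fixing `x`
stabilises a duad not containing `x` or an octad containing `x`. -/
theorem main (hKM : K ≤ M24) (hKx : ∀ g ∈ K, g x = x) (hcard : Nat.card K = 40320) :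
    (∃ s : Finset GolayPt, s.card = 2 ∧ x ∉ s ∧ ∀ g ∈ K, ∀ y ∈ s, g y ∈ s) ∨
      (∃ o ∈ octads, x ∈ o ∧ ∀ g ∈ K, ∀ y ∈ o, g y ∈ o) := by
  have : Fact (Nat.Prime 7) := ⟨by norm_num⟩
  have : Fact (Nat.Prime 5) := ⟨by norm_num⟩
  -- elements of order 7 and 5
  obtain ⟨g7', h7'⟩ := exists_prime_orderOf_dvd_card' (G := ↥K) 7 (by rw [hcard]; norm_num)
  obtain ⟨g5', h5'⟩ := exists_prime_orderOf_dvd_card' (G := ↥K) 5 (by rw [hcard]; norm_num)
  have h7 : orderOf (g7' : Equiv.Perm GolayPt) = 7 := by rw [Subgroup.orderOf_coe, h7']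
  have h5 : orderOf (g5' : Equiv.Perm GolayPt) = 5 := by rw [Subgroup.orderOf_coe, h5']
  have hg7K : (g7' : Equiv.Perm GolayPt) ∈ K := g7'.2
  have hg5K : (g5' : Equiv.Perm GolayPt) ∈ K := g5'.2
  have hn7 : nfix (g7' : Equiv.Perm GolayPt) = 3 := by
    have := nfix_of_prime_order (hKM hg7K) (by norm_num) (by norm_num) h7
    omega
  have hn5 : nfix (g5' : Equiv.Perm GolayPt) = 4 := nfix_order5 (hKM hg5K) h5
  have hp7 : (g7' : Equiv.Perm GolayPt) ^ 7 = 1 := by rw [← h7, pow_orderOf_eq_one]
  have hp5 : (g5' : Equiv.Perm GolayPt) ^ 5 = 1 := by rw [← h5, pow_orderOf_eq_one]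
  -- the two further fixed points of the element of order 7
  have hx7 : x ∈ fixF (g7' : Equiv.Perm GolayPt) := mem_fixF.2 (hKx _ hg7K)
  have hce : ((fixF (g7' : Equiv.Perm GolayPt)).erase x).card = 2 := by
    rw [Finset.card_erase_of_mem hx7, card_fixF, hn7]
  obtain ⟨a, b, hab, hE⟩ := Finset.card_eq_two.1 hce
  have haE : a ∈ (fixF (g7' : Equiv.Perm GolayPt)).erase x := by rw [hE]; simp
  have hbE : b ∈ (fixF (g7' : Equiv.Perm GolayPt)).erase x := by rw [hE]; simp
  have hax : a ≠ x := (Finset.mem_erase.1 haE).1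
  have hbx : b ≠ x := (Finset.mem_erase.1 hbE).1
  have ha7 : a ∈ fixF (g7' : Equiv.Perm GolayPt) := (Finset.mem_erase.1 haE).2
  have hb7 : b ∈ fixF (g7' : Equiv.Perm GolayPt) := (Finset.mem_erase.1 hbE).2
  have hF7 : ∀ z ∈ fixF (g7' : Equiv.Perm GolayPt), z = x ∨ z = a ∨ z = b := by
    intro z hz
    by_cases hzx : z = x
    · exact Or.inl hzx
    · have : z ∈ (fixF (g7' : Equiv.Perm GolayPt)).erase x := Finset.mem_erase.2 ⟨hzx, hz⟩
      rw [hE] at this
      simp only [Finset.mem_insert, Finset.mem_singleton] at this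
      exact Or.inr this
  -- general facts on the orbits of `a` and `b`
  have hleA := Finset.card_le_card (orbF_subset hKx hax)
  have hleB := Finset.card_le_card (orbF_subset hKx hbx)
  rw [card_erase_x] at hleA hleB
  have hdA := card_orbF_dvd K a
  have hdB := card_orbF_dvd K b
  rw [hcard] at hdA hdB
  have h5A := modEq_orbF hg5K hp5 a
  have h5B := modEq_orbF hg5K hp5 b
  have h7A := modEq_orbF hg7K hp7 a
  have h7B := modEq_orbF hg7K hp7 b
  have hfA := inter_fix_le hKx hax hg5K
  have hfB := inter_fix_le hKx hbx hg5K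
  rw [hn5] at hfA hfB
  by_cases hbA : b ∈ orbF K a
  · -- `a` and `b` in one orbit
    have h2 : (orbF K a ∩ fixF (g7' : Equiv.Perm GolayPt)).card = 2 := by
      have hsub : ({a, b} : Finset GolayPt) ⊆ orbF K a ∩ fixF (g7' : Equiv.Perm GolayPt) := by
        intro z hz
        simp only [Finset.mem_insert, Finset.mem_singleton] at hz
        rcases hz with rfl | rfl
        · exact Finset.mem_inter.2 ⟨self_mem_orbF K _, ha7⟩
        · exact Finset.mem_inter.2 ⟨hbA, hb7⟩
      have h1 := Finset.card_le_card hsub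
      rw [Finset.card_pair hab] at h1
      have h3 := inter_fix_le hKx hax hg7K
      rw [hn7] at h3
      omega
    rw [h2] at h7A
    rcases arith_double hleA h7A h5A (by omega) hdA with hn | hn
    · -- the duad
      left
      exact ⟨orbF K a, hn, x_notMem_orbF hKx hax, orbF_invariant K a⟩
    · -- the heptad
      right
      have hc7 : ((Finset.univ.erase x) \ orbF K a).card = 7 := by
        rw [Finset.card_sdiff_of_subset (orbF_subset hKx hax), card_erase_x, hn]
      have hT : ∀ g ∈ K, ∀ y ∈ (Finset.univ.erase x) \ orbF K a,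
          g y ∈ (Finset.univ.erase x) \ orbF K a :=
        sdiff_invariant (erase_invariant hKx) (orbF_invariant K a)
      obtain ⟨g, hg, hg1, hfix⟩ := exists_ne_one_fixing K _ hT (by rw [hc7, hcard]; decide)
      have hxT : x ∉ (Finset.univ.erase x) \ orbF K a := by
        intro h
        rw [Finset.mem_sdiff, Finset.mem_erase] at h
        exact h.1.1 rfl
      have hoct : insert x ((Finset.univ.erase x) \ orbF K a) ∈ octads := by
        apply fix8_octad (hKM hg) hg1
        · intro y hy
          rw [Finset.mem_insert] at hy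
          rcases hy with rfl | hy
          · exact mem_fixF.2 (hKx g hg)
          · exact mem_fixF.2 (hfix y hy)
        · rw [Finset.card_insert_of_notMem hxT, hc7]
      refine ⟨_, hoct, Finset.mem_insert_self _ _, ?_⟩
      intro g' hg' y hy
      rw [Finset.mem_insert] at hy ⊢
      rcases hy with rfl | hy
      · exact Or.inl (hKx g' hg')
      · exact Or.inr (hT g' hg' y hy)
  · -- `a` and `b` in different orbits
    exfalso
    have haB : a ∉ orbF K b := fun h => hbA (orbF_symm K h)
    have hd : Disjoint (orbF K a) (orbF K b) := orbF_disjoint K hbA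
    have h1A : (orbF K a ∩ fixF (g7' : Equiv.Perm GolayPt)).card = 1 := by
      have hsub : orbF K a ∩ fixF (g7' : Equiv.Perm GolayPt) ⊆ {a} := by
        intro z hz
        rw [Finset.mem_inter] at hz
        rw [Finset.mem_singleton]
        rcases hF7 z hz.2 with rfl | rfl | rfl
        · exact absurd hz.1 (x_notMem_orbF hKx hax)
        · rfl
        · exact absurd hz.1 hbA
      have h1 := Finset.card_le_card hsub
      rw [Finset.card_singleton] at h1
      have h2 : 0 < (orbF K a ∩ fixF (g7' : Equiv.Perm GolayPt)).card :=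
        Finset.card_pos.2 ⟨a, Finset.mem_inter.2 ⟨self_mem_orbF K _, ha7⟩⟩
      omega
    have h1B : (orbF K b ∩ fixF (g7' : Equiv.Perm GolayPt)).card = 1 := by
      have hsub : orbF K b ∩ fixF (g7' : Equiv.Perm GolayPt) ⊆ {b} := by
        intro z hz
        rw [Finset.mem_inter] at hz
        rw [Finset.mem_singleton]
        rcases hF7 z hz.2 with rfl | rfl | rfl
        · exact absurd hz.1 (x_notMem_orbF hKx hbx)
        · exact absurd hz.1 haB
        · rfl
      have h1 := Finset.card_le_card hsub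
      rw [Finset.card_singleton] at h1
      have h2 : 0 < (orbF K b ∩ fixF (g7' : Equiv.Perm GolayPt)).card :=
        Finset.card_pos.2 ⟨b, Finset.mem_inter.2 ⟨self_mem_orbF K _, hb7⟩⟩
      omega
    rw [h1A] at h7A
    rw [h1B] at h7B
    have hAB5 := inter_fix_le₂ hKx hax hbx hd hg5K
    rw [hn5] at hAB5
    have hsum := card_add_le hKx hax hbx hd
    have hnA := arith_single hleA h7A h5A (by omega) hdA
    have hnB := arith_single hleB h7B h5B (by omega) hdB
    unfold Nat.ModEq at h5A h5B
    rcases hnA with hnA | hnA | hnA <;> rcases hnB with hnB | hnB | hnB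
    · -- (1,1)
      have hAeq : orbF K a = {a} := eq_singleton_of_card (self_mem_orbF K a) hnA
      have hBeq : orbF K b = {b} := eq_singleton_of_card (self_mem_orbF K b) hnB
      refine not_fix_three hKM hcard hax.symm hbx.symm hab hKx ?_ ?_
      · intro g hg
        have := orbF_invariant K a g hg a (self_mem_orbF K a)
        rwa [hAeq, Finset.mem_singleton] at this
      · intro g hg
        have := orbF_invariant K b g hg b (self_mem_orbF K b)
        rwa [hBeq, Finset.mem_singleton] at this
    · -- (1,8)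
      rw [hnA] at h5A; rw [hnB] at h5B; omega
    · -- (1,15)
      exact no_one_fifteen hKM hKx hcard hax hbx hd hnA hnB
    · -- (8,1)
      rw [hnA] at h5A; rw [hnB] at h5B; omega
    · -- (8,8)
      rw [hnA] at h5A; rw [hnB] at h5B; omega
    · -- (8,15)
      exact no_invariant_eight hKM hKx hcard (orbF K a) (orbF_invariant K a) hnA
        (x_notMem_orbF hKx hax)
    · -- (15,1)
      exact no_one_fifteen hKM hKx hcard hbx hax hd.symm hnB hnA
    · -- (15,8)
      exact no_invariant_eight hKM hKx hcard (orbF K b) (orbF_invariant K b) hnB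
        (x_notMem_orbF hKx hbx)
    · -- (15,15)
      omega

end Cfsg.Agent.Helper93.M23Idx
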