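import Cfsg.Agent.Helper93.M23IdxC

/-!
# Subgroups of `M23` of index 253 (S1609), part D: orders of the duad and heptad stabilisers,
and the transport to subgroups of `MulAction.stabilizer M24 x`
-/

set_option autoImplicit false

namespace Cfsg.Agent.Helper93.M23Idx

open Cfsg Cfsg.Agent.Helper7 Cfsg.Agent.Helper93 Cfsg.Agent.Helper93.M24Fix
open scoped Pointwise

variable {K : Subgroup (Equiv.Perm GolayPt)} {x : GolayPt}

/-- a subgroup of `M24` fixing three points has at most 20160 elements -/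
theorem card_le_of_fix_three (hKM : K ≤ M24) {p q r : GolayPt}
    (hpq : p ≠ q) (hpr : p ≠ r) (hqr : q ≠ r) (hp : ∀ g ∈ K, g p = p) (hq : ∀ g ∈ K, g q = q)
    (hr : ∀ g ∈ K, g r = r) : Nat.card K ≤ 20160 := by
  have hc3 := card_stabilizer₃_m24 hpq hpr hqr
  let f : ↥K → ↥(MulAction.stabilizer (↥M24) p ⊓ MulAction.stabilizer (↥M24) q ⊓
      MulAction.stabilizer (↥M24) r) := fun g =>
    ⟨⟨g.1, hKM g.2⟩, by
      refine Subgroup.mem_inf.2 ⟨Subgroup.mem_inf.2 ⟨?_, ?_⟩, ?_⟩
      · exact MulAction.mem_stabilizer_iff.2 (hp g.1 g.2)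
      · exact MulAction.mem_stabilizer_iff.2 (hq g.1 g.2)
      · exact MulAction.mem_stabilizer_iff.2 (hr g.1 g.2)⟩
  have hf : Function.Injective f := by
    intro g h hgh
    apply Subtype.ext
    have h1 := congrArg Subtype.val hgh
    have h2 := congrArg Subtype.val h1
    exact h2
  have := Nat.card_le_card_of_injective f hf
  omega

theorem smul_eq_of_invariant {g : Equiv.Perm GolayPt} {s : Finset GolayPt}
    (h : ∀ y ∈ s, g y ∈ s) : g • s = s := by
  apply Finset.eq_of_subset_of_card_le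
  · intro z hz
    obtain ⟨y, hy, rfl⟩ := Finset.mem_smul_finset.1 hz
    exact h y hy
  · rw [Finset.card_smul_finset]

theorem invariant_of_smul_eq {g : Equiv.Perm GolayPt} {s : Finset GolayPt}
    (h : g • s = s) : ∀ y ∈ s, g y ∈ s := by
  intro y hy
  have : g • y ∈ g • s := Finset.smul_mem_smul_finset hy
  rwa [h] at this

/-- the order of a duad stabiliser in `M23` is at most 40320 -/
theorem card_le_of_duad (hKM : K ≤ M24) (hKx : ∀ g ∈ K, g x = x) {s : Finset GolayPt}
    (hs : s.card = 2) (hxs : x ∉ s) (hKs : ∀ g ∈ K, ∀ y ∈ s, g y ∈ s) :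
    Nat.card K ≤ 40320 := by
  obtain ⟨a, b, hab, rfl⟩ := Finset.card_eq_two.1 hs
  have hax : a ≠ x := by
    rintro rfl
    exact hxs (by simp)
  have hbx : b ≠ x := by
    rintro rfl
    exact hxs (by simp)
  have h1 := card_stab_mul_orbF K a
  have h2 : (orbF K a).card ≤ 2 := by
    rw [← Finset.card_pair hab]
    apply Finset.card_le_card
    intro z hz
    obtain ⟨g, hg, rfl⟩ := (mem_orbF K).1 hz
    exact hKs g hg a (by simp)
  have h3 : Nat.card ↥(K ⊓ Helper27.stabP a) ≤ 20160 := by
    apply card_le_of_fix_three (inf_le_left.trans hKM) hax.symm hbx.symm hab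
    · intro g hg
      exact hKx g (Subgroup.mem_inf.1 hg).1
    · intro g hg
      exact (Subgroup.mem_inf.1 hg).2
    · intro g hg
      have hga : g a = a := (Subgroup.mem_inf.1 hg).2
      have := hKs g (Subgroup.mem_inf.1 hg).1 b (by simp)
      simp only [Finset.mem_insert, Finset.mem_singleton] at this
      rcases this with h | h
      · exact absurd (g.injective (h.trans hga.symm)) hab.symm
      · exact h
  calc Nat.card K = Nat.card ↥(K ⊓ Helper27.stabP a) * (orbF K a).card := h1.symm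
    _ ≤ 20160 * 2 := Nat.mul_le_mul h3 h2
    _ = 40320 := by norm_num

/-- the stabiliser of an octad is transitive on it -/
theorem exists_octS_map {o : Finset GolayPt} (ho : o ∈ octads) {x y : GolayPt} (hx : x ∈ o)
    (hy : y ∈ o) : ∃ g ∈ Helper26.octS o, g x = y := by
  by_cases hxy : y = x
  · exact ⟨1, Subgroup.one_mem _, by simp [hxy]⟩
  · -- a third point
    have h3 : 2 < o.card := by rw [ho.2]; norm_num
    have hz : ∃ z ∈ o, z ≠ x ∧ z ≠ y := by
      by_contra hcon
      push Not at hcon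
      have hsub : o ⊆ {x, y} := by
        intro z hz
        by_cases hzx : z = x
        · simp [hzx]
        · have := hcon z hz hzx
          simp [this]
      have := Finset.card_le_card hsub
      have h2 : ({x, y} : Finset GolayPt).card ≤ 2 := Finset.card_le_two
      omega
    obtain ⟨z, hzo, hzx, hzy⟩ := hz
    let X : {p // p ∈ o} := ⟨x, hx⟩
    let Y : {p // p ∈ o} := ⟨y, hy⟩
    let Z : {p // p ∈ o} := ⟨z, hzo⟩
    have hXY : X ≠ Y := fun h => hxy (congrArg Subtype.val h).symm
    have hXZ : X ≠ Z := fun h => hzx (congrArg Subtype.val h).symm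
    have hYZ : Y ≠ Z := fun h => hzy (congrArg Subtype.val h).symm
    have hmem : Equiv.swap X Z * Equiv.swap X Y ∈ alternatingGroup {p // p ∈ o} := by
      rw [Equiv.Perm.mem_alternatingGroup, map_mul, Equiv.Perm.sign_swap hXZ,
        Equiv.Perm.sign_swap hXY]
      rfl
    rw [← Helper26.range_octRes ho] at hmem
    obtain ⟨g, hg⟩ := hmem
    refine ⟨g.1, g.2, ?_⟩
    have h1 : ((Helper26.octRes o g X : {p // p ∈ o}) : GolayPt) = (g : Equiv.Perm GolayPt) x :=
      Helper26.octRes_apply o g X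
    rw [hg, Equiv.Perm.mul_apply, Equiv.swap_apply_left,
      Equiv.swap_apply_of_ne_of_ne hXY.symm hYZ] at h1
    exact h1.symm

/-- the order of the stabiliser in `M23` of an octad through the fixed point is at most 40320 -/
theorem card_le_of_octad (hKM : K ≤ M24) (hKx : ∀ g ∈ K, g x = x) {o : Finset GolayPt}
    (ho : o ∈ octads) (hxo : x ∈ o) (hKo : ∀ g ∈ K, ∀ y ∈ o, g y ∈ o) :
    Nat.card K ≤ 40320 := by
  have hle : K ≤ Helper26.octS o ⊓ Helper27.stabP x := by
    intro g hg
    refine Subgroup.mem_inf.2 ⟨Subgroup.mem_inf.2 ⟨hKM hg, ?_⟩, hKx g hg⟩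
    exact MulAction.mem_stabilizer_iff.2 (smul_eq_of_invariant (hKo g hg))
  have h1 := card_stab_mul_orbF (Helper26.octS o) x
  rw [Helper26.card_octS ho] at h1
  have h2 : 8 ≤ (orbF (Helper26.octS o) x).card := by
    rw [← ho.2]
    apply Finset.card_le_card
    intro y hy
    obtain ⟨g, hg, hgy⟩ := exists_octS_map ho hxo hy
    exact (mem_orbF _).2 ⟨g, hg, hgy⟩
  have h3 : Nat.card ↥(Helper26.octS o ⊓ Helper27.stabP x) ≤ 40320 := by
    by_contra hcon
    push Not at hcon
    have : 40321 * 8 ≤ Nat.card ↥(Helper26.octS o ⊓ Helper27.stabP x) *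
        (orbF (Helper26.octS o) x).card := Nat.mul_le_mul hcon h2
    omega
  exact (Subgroup.card_le_of_le hle).trans h3

/-! ### transport -/

/-- the image in `Equiv.Perm GolayPt` of a subgroup of a point stabiliser of `M24` -/
def toPerm (x : GolayPt) (H : Subgroup ↥(MulAction.stabilizer (↥M24) x)) :
    Subgroup (Equiv.Perm GolayPt) :=
  (H.map (MulAction.stabilizer (↥M24) x).subtype).map M24.subtype

theorem card_toPerm (x : GolayPt) (H : Subgroup ↥(MulAction.stabilizer (↥M24) x)) :
    Nat.card (toPerm x H) = Nat.card H := by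
  unfold toPerm
  rw [Subgroup.card_map_of_injective M24.subtype_injective,
    Subgroup.card_map_of_injective (Subgroup.subtype_injective _)]

theorem mem_toPerm {x : GolayPt} {H : Subgroup ↥(MulAction.stabilizer (↥M24) x)}
    {g : Equiv.Perm GolayPt} : g ∈ toPerm x H ↔ ∃ h ∈ H, ((h : ↥M24) : Equiv.Perm GolayPt) = g := by
  unfold toPerm
  constructor
  · rintro ⟨_, ⟨h, hh, rfl⟩, rfl⟩
    exact ⟨h, hh, rfl⟩
  · rintro ⟨h, hh, rfl⟩
    exact ⟨_, ⟨h, hh, rfl⟩, rfl⟩

theorem toPerm_le (x : GolayPt) (H : Subgroup ↥(MulAction.stabilizer (↥M24) x)) :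
    toPerm x H ≤ M24 := by
  intro g hg
  obtain ⟨h, -, rfl⟩ := mem_toPerm.1 hg
  exact (h : ↥M24).2

theorem toPerm_fix (x : GolayPt) (H : Subgroup ↥(MulAction.stabilizer (↥M24) x)) :
    ∀ g ∈ toPerm x H, g x = x := by
  intro g hg
  obtain ⟨h, -, rfl⟩ := mem_toPerm.1 hg
  exact MulAction.mem_stabilizer_iff.1 h.2

/-- **S1609**: subgroups of index 253 of a point stabiliser of `M24` -/
theorem index_253 (x : GolayPt) (H : Subgroup ↥(MulAction.stabilizer (↥M24) x))
    (hH : H.index = 253) :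
    (∃ s : Finset GolayPt, s.card = 2 ∧ x ∉ s ∧
        H = (MulAction.stabilizer (↥M24) s).subgroupOf (MulAction.stabilizer (↥M24) x)) ∨
      ∃ o ∈ octads, x ∈ o ∧
        H = (MulAction.stabilizer (↥M24) o).subgroupOf (MulAction.stabilizer (↥M24) x) := by
  have hci := Subgroup.card_mul_index H
  rw [card_stabilizer_m24 x, hH] at hci
  have hcH : Nat.card H = 40320 := by omega
  have hcK : Nat.card (toPerm x H) = 40320 := by rw [card_toPerm, hcH]
  -- a subgroup of the form `(stabilizer s).subgroupOf _` and its order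
  have key : ∀ s : Finset GolayPt, (∀ g ∈ toPerm x H, ∀ y ∈ s, g y ∈ s) →
      (∀ T : Subgroup (Equiv.Perm GolayPt), T ≤ M24 → (∀ g ∈ T, g x = x) →
        (∀ g ∈ T, ∀ y ∈ s, g y ∈ s) → Nat.card T ≤ 40320) →
      H = (MulAction.stabilizer (↥M24) s).subgroupOf (MulAction.stabilizer (↥M24) x) := by
    intro s hinv hbound
    apply Subgroup.eq_of_le_of_card_ge
    · intro h hh
      rw [Subgroup.mem_subgroupOf, MulAction.mem_stabilizer_iff]
      exact smul_eq_of_invariant (hinv _ (mem_toPerm.2 ⟨h, hh, rfl⟩))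
    · rw [hcH, ← card_toPerm]
      apply hbound _ (toPerm_le _ _) (toPerm_fix _ _)
      intro g hg
      obtain ⟨h, hh, rfl⟩ := mem_toPerm.1 hg
      rw [Subgroup.mem_subgroupOf, MulAction.mem_stabilizer_iff] at hh
      exact invariant_of_smul_eq hh
  rcases main (toPerm_le x H) (toPerm_fix x H) hcK with ⟨s, hs, hxs, hinv⟩ | ⟨o, ho, hxo, hinv⟩
  · left
    refine ⟨s, hs, hxs, key s hinv ?_⟩
    intro T hTM hTx hTs
    exact card_le_of_duad hTM hTx hs hxs hTs
  · right
    refine ⟨o, ho, hxo, key o hinv ?_⟩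
    intro T hTM hTx hTo
    exact card_le_of_octad hTM hTx ho hxo hTo

end Cfsg.Agent.Helper93.M23Idx
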