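import Cfsg.Agent.Helper7.M24Stab
import Cfsg.Agent.Helper93.ElemMain

/-!
# Fixed points of elements of `M24`: an element fixing five points has order dividing 48;
elements of order 5 fix exactly 4 points, elements of order 11 exactly 2
-/

set_option autoImplicit false

namespace Cfsg.Agent.Helper93.M24Fix

open Cfsg Cfsg.Agent.Helper7 Cfsg.Agent.Helper93

theorem card_fixG_m24_5 : Nat.card (fixG M24 [4, 3, 2, 1, 0]) = 48 := by
  have := card_fixG_m24 5
  have h1 : baseRev m24Levels 5 ++ [] = [4, 3, 2, 1, 0] := by decide +kernel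
  rw [h1] at this
  rw [this]
  decide +kernel

theorem card_fixG_m24_4 : Nat.card (fixG M24 [3, 2, 1, 0]) = 960 := by
  have := card_fixG_m24 4
  have h1 : baseRev m24Levels 4 ++ [] = [3, 2, 1, 0] := by decide +kernel
  rw [h1] at this
  rw [this]
  decide +kernel

/-- the pointwise stabiliser of five distinct points has order 48 -/
theorem card_fix5 (y : Fin 5 ↪ GolayPt) :
    Nat.card (fixG M24 [idx (y 4), idx (y 3), idx (y 2), idx (y 1), idx (y 0)]) = 48 := by
  obtain ⟨g, hg, h⟩ := m24_exists_map 5 (le_refl 5) y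
  have e := fixGConj hg [4, 3, 2, 1, 0] [idx (y 4), idx (y 3), idx (y 2), idx (y 1), idx (y 0)] (by
    have h0 := h 0
    have h1 := h 1
    have h2 := h 2
    have h3 := h 3
    have h4 := h 4
    simp only [List.map_cons, List.map_nil]
    rw [show pt 4 = pt (4 : Fin 5).val from rfl, show pt 3 = pt (3 : Fin 5).val from rfl,
      show pt 2 = pt (2 : Fin 5).val from rfl, show pt 1 = pt (1 : Fin 5).val from rfl,
      show pt 0 = pt (0 : Fin 5).val from rfl, h0, h1, h2, h3, h4])
  rw [← Nat.card_congr e.toEquiv, card_fixG_m24_5]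

/-- the pointwise stabiliser of four distinct points has order 960 -/
theorem card_fix4 (y : Fin 4 ↪ GolayPt) :
    Nat.card (fixG M24 [idx (y 3), idx (y 2), idx (y 1), idx (y 0)]) = 960 := by
  obtain ⟨g, hg, h⟩ := m24_exists_map 4 (by norm_num) y
  have e := fixGConj hg [3, 2, 1, 0] [idx (y 3), idx (y 2), idx (y 1), idx (y 0)] (by
    have h0 := h 0
    have h1 := h 1
    have h2 := h 2
    have h3 := h 3
    simp only [List.map_cons, List.map_nil]
    rw [show pt 3 = pt (3 : Fin 4).val from rfl,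
      show pt 2 = pt (2 : Fin 4).val from rfl, show pt 1 = pt (1 : Fin 4).val from rfl,
      show pt 0 = pt (0 : Fin 4).val from rfl, h0, h1, h2, h3])
  rw [← Nat.card_congr e.toEquiv, card_fixG_m24_4]

/-- an element of `M24` fixing five points has order dividing 48 -/
theorem orderOf_dvd_48 {g : Equiv.Perm GolayPt} (hg : g ∈ M24) (y : Fin 5 ↪ GolayPt)
    (hfix : ∀ i, g (y i) = y i) : orderOf g ∣ 48 := by
  have hmem : g ∈ fixG M24 [idx (y 4), idx (y 3), idx (y 2), idx (y 1), idx (y 0)] := by
    refine ⟨hg, fun i hi => ?_⟩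
    simp only [List.mem_cons, List.mem_nil_iff, or_false] at hi
    rcases hi with rfl | rfl | rfl | rfl | rfl <;> rw [pt_idx] <;> exact hfix _
  have h1 := orderOf_dvd_natCard (⟨g, hmem⟩ :
    ↥(fixG M24 [idx (y 4), idx (y 3), idx (y 2), idx (y 1), idx (y 0)]))
  rw [card_fix5 y] at h1
  have h2 : orderOf (⟨g, hmem⟩ :
      ↥(fixG M24 [idx (y 4), idx (y 3), idx (y 2), idx (y 1), idx (y 0)])) = orderOf g :=
    Subgroup.orderOf_mk g hmem
  rwa [h2] at h1

/-- an element of `M24` with at least five fixed points has order dividing 48 -/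
theorem orderOf_dvd_48_of_nfix {g : Equiv.Perm GolayPt} (hg : g ∈ M24) (h5 : 5 ≤ nfix g) :
    orderOf g ∣ 48 := by
  classical
  obtain ⟨s, hs, hcard⟩ := Finset.exists_subset_card_eq (s := Finset.univ.filter fun p => g p = p)
    (n := 5) (by rw [nfix_def]; exact h5)
  let e : Fin 5 ≃ ↥s := (Finset.equivFinOfCardEq hcard).symm
  let y : Fin 5 ↪ GolayPt := ⟨fun i => (e i).1, fun i j h => e.injective (Subtype.ext h)⟩
  apply orderOf_dvd_48 hg y
  intro i
  have := hs (e i).2
  rw [Finset.mem_filter] at this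
  exact this.2

theorem nfix_eq_compl_support (g : Equiv.Perm GolayPt) : nfix g = g.supportᶜ.card := by
  unfold nfix
  congr 1
  ext x
  simp [Equiv.Perm.mem_support]

/-- an element of prime order `p ≥ 5` of `M24` has `24 % p` fixed points -/
theorem nfix_of_prime_order {g : Equiv.Perm GolayPt} (hg : g ∈ M24) {p : ℕ} (hp : p.Prime)
    (hp5 : 5 ≤ p) (hord : orderOf g = p) : nfix g < 5 ∧ nfix g % p = 24 % p := by
  haveI : Fact p.Prime := ⟨hp⟩
  have h1 : g ^ p ^ 1 = 1 := by rw [pow_one, ← hord, pow_orderOf_eq_one]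
  have h2 := Equiv.Perm.card_compl_support_modEq h1
  rw [← nfix_eq_compl_support] at h2
  have hcard : Fintype.card GolayPt = 24 := by decide
  rw [hcard] at h2
  refine ⟨?_, h2⟩
  by_contra hcon
  have h3 := orderOf_dvd_48_of_nfix hg (by omega)
  rw [hord] at h3
  have h4 : p ∣ 2 ^ 4 * 3 := by norm_num; exact h3
  rcases (Nat.Prime.dvd_mul hp).mp h4 with h | h
  · have := (Nat.prime_dvd_prime_iff_eq hp Nat.prime_two).mp (hp.dvd_of_dvd_pow h)
    omega
  · have := (Nat.prime_dvd_prime_iff_eq hp Nat.prime_three).mp h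
    omega

theorem nfix_order5 {g : Equiv.Perm GolayPt} (hg : g ∈ M24) (hord : orderOf g = 5) :
    nfix g = 4 := by
  have := nfix_of_prime_order hg (by norm_num) (by norm_num) hord
  omega

theorem nfix_order11 {g : Equiv.Perm GolayPt} (hg : g ∈ M24) (hord : orderOf g = 11) :
    nfix g = 2 := by
  have := nfix_of_prime_order hg (by norm_num) (by norm_num) hord
  omega

end Cfsg.Agent.Helper93.M24Fix
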