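import Cfsg.Agent.Helper93.M23IdxD
import Cfsg.Agent.Helper93.CentMain

/-!
# Subgroups of `M24` of index 759, 276, 1771, 253 (S1589), part A: order bounds

* orders of subgroups of `M24` fixing 1, 2, 3, 4, 5 points;
* `card_le_of_invariant`: a subgroup with an invariant set `R` has at most `|R|! * N` elements, where
  `N` bounds the subgroups fixing `R` pointwise;
* `card_le_small`: a subgroup of `M24` with an invariant set of 3 to 6 points has at most `120960`
  elements.
-/

set_option autoImplicit false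

namespace Cfsg.Agent.Helper93.M24Idx

open Cfsg Cfsg.Agent.Helper7 Cfsg.Agent.Helper93 Cfsg.Agent.Helper93.M24Fix
  Cfsg.Agent.Helper93.M23Idx
open scoped Pointwise

variable {K : Subgroup (Equiv.Perm GolayPt)}

/-- a subgroup of `M24` has order dividing `|M24|` -/
theorem card_dvd_m24 (hKM : K ≤ M24) : Nat.card K ∣ 244823040 := by
  rw [← card_M24]
  exact Subgroup.card_dvd_of_le hKM

/-- a subgroup of `M24` fixing a point has order dividing `|M23|` -/
theorem card_dvd_fix1 (hKM : K ≤ M24) {x : GolayPt} (hx : ∀ g ∈ K, g x = x) :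
    Nat.card K ∣ 10200960 := by
  rw [← card_stabilizer_m24 x]
  let f : ↥K →* ↥(MulAction.stabilizer (↥M24) x) :=
    { toFun := fun g => ⟨⟨g.1, hKM g.2⟩, MulAction.mem_stabilizer_iff.2 (hx g.1 g.2)⟩
      map_one' := rfl
      map_mul' := fun _ _ => rfl }
  apply Subgroup.card_dvd_of_injective f
  intro g h hgh
  apply Subtype.ext
  have h1 := congrArg Subtype.val hgh
  have h2 := congrArg Subtype.val h1
  exact h2

/-- a subgroup of `M24` fixing two points has order dividing `|M22|` -/
theorem card_dvd_fix2 (hKM : K ≤ M24) {x y : GolayPt} (hxy : x ≠ y) (hx : ∀ g ∈ K, g x = x)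
    (hy : ∀ g ∈ K, g y = y) : Nat.card K ∣ 443520 := by
  rw [← card_stabilizer₂_m24 hxy]
  let f : ↥K →* ↥(MulAction.stabilizer (↥M24) x ⊓ MulAction.stabilizer (↥M24) y) :=
    { toFun := fun g => ⟨⟨g.1, hKM g.2⟩, Subgroup.mem_inf.2
        ⟨MulAction.mem_stabilizer_iff.2 (hx g.1 g.2), MulAction.mem_stabilizer_iff.2 (hy g.1 g.2)⟩⟩
      map_one' := rfl
      map_mul' := fun _ _ => rfl }
  apply Subgroup.card_dvd_of_injective f
  intro g h hgh
  apply Subtype.ext
  have h1 := congrArg Subtype.val hgh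
  have h2 := congrArg Subtype.val h1
  exact h2

/-- a subgroup of `M24` fixing three points has order dividing `20160` -/
theorem card_dvd_fix3 (hKM : K ≤ M24) {p q r : GolayPt}
    (hpq : p ≠ q) (hpr : p ≠ r) (hqr : q ≠ r) (hp : ∀ g ∈ K, g p = p) (hq : ∀ g ∈ K, g q = q)
    (hr : ∀ g ∈ K, g r = r) : Nat.card K ∣ 20160 := by
  rw [← card_stabilizer₃_m24 hpq hpr hqr]
  let f : ↥K →* ↥(MulAction.stabilizer (↥M24) p ⊓ MulAction.stabilizer (↥M24) q ⊓
      MulAction.stabilizer (↥M24) r) :=
    { toFun := fun g => ⟨⟨g.1, hKM g.2⟩, Subgroup.mem_inf.2 ⟨Subgroup.mem_inf.2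
        ⟨MulAction.mem_stabilizer_iff.2 (hp g.1 g.2), MulAction.mem_stabilizer_iff.2 (hq g.1 g.2)⟩,
          MulAction.mem_stabilizer_iff.2 (hr g.1 g.2)⟩⟩
      map_one' := rfl
      map_mul' := fun _ _ => rfl }
  apply Subgroup.card_dvd_of_injective f
  intro g h hgh
  apply Subtype.ext
  have h1 := congrArg Subtype.val hgh
  have h2 := congrArg Subtype.val h1
  exact h2

/-- a subgroup of `M24` fixing four points has order dividing `960` -/
theorem card_dvd_fix4 (hKM : K ≤ M24) (S : Finset GolayPt) (hS : 4 ≤ S.card)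
    (hfix : ∀ g ∈ K, ∀ y ∈ S, g y = y) : Nat.card K ∣ 960 := by
  classical
  obtain ⟨s, hs, hcard⟩ := Finset.exists_subset_card_eq (s := S) (n := 4) hS
  let e : Fin 4 ≃ ↥s := (Finset.equivFinOfCardEq hcard).symm
  let y : Fin 4 ↪ GolayPt := ⟨fun i => (e i).1, fun i j h => e.injective (Subtype.ext h)⟩
  rw [← card_fix4 y]
  apply Subgroup.card_dvd_of_le
  intro g hg
  refine ⟨hKM hg, fun i hi => ?_⟩
  simp only [List.mem_cons, List.mem_nil_iff, or_false] at hi
  rcases hi with rfl | rfl | rfl | rfl <;> rw [pt_idx] <;> exact hfix g hg _ (hs (e _).2)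

/-- a subgroup of `M24` fixing five points has order dividing `48` -/
theorem card_dvd_fix5 (hKM : K ≤ M24) (S : Finset GolayPt) (hS : 5 ≤ S.card)
    (hfix : ∀ g ∈ K, ∀ y ∈ S, g y = y) : Nat.card K ∣ 48 := by
  classical
  obtain ⟨s, hs, hcard⟩ := Finset.exists_subset_card_eq (s := S) (n := 5) hS
  let e : Fin 5 ≃ ↥s := (Finset.equivFinOfCardEq hcard).symm
  let y : Fin 5 ↪ GolayPt := ⟨fun i => (e i).1, fun i j h => e.injective (Subtype.ext h)⟩
  rw [← card_fix5 y]
  apply Subgroup.card_dvd_of_le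
  intro g hg
  refine ⟨hKM hg, fun i hi => ?_⟩
  simp only [List.mem_cons, List.mem_nil_iff, or_false] at hi
  rcases hi with rfl | rfl | rfl | rfl | rfl <;> rw [pt_idx] <;> exact hfix g hg _ (hs (e _).2)

/-- a subgroup of `M24` fixing three points (given as a finset) has order dividing `20160` -/
theorem card_dvd_fix3' (hKM : K ≤ M24) (S : Finset GolayPt) (hS : 3 ≤ S.card)
    (hfix : ∀ g ∈ K, ∀ y ∈ S, g y = y) : Nat.card K ∣ 20160 := by
  obtain ⟨p, q, r, hp, hq, hr, hpq, hpr, hqr⟩ := Finset.two_lt_card_iff.mp (by omega : 2 < S.card)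
  exact card_dvd_fix3 hKM hpq hpr hqr (fun g hg => hfix g hg p hp) (fun g hg => hfix g hg q hq)
    (fun g hg => hfix g hg r hr)

/-- the order of a subgroup with an invariant set `R`: at most `|R|!` times a bound for the
subgroups fixing `R` pointwise -/
theorem card_le_of_invariant (R : Finset GolayPt) (hR : ∀ g ∈ K, ∀ y ∈ R, g y ∈ R) (N : ℕ)
    (hN : ∀ T : Subgroup (Equiv.Perm GolayPt), T ≤ K → (∀ g ∈ T, ∀ y ∈ R, g y = y) →
      Nat.card T ≤ N) : Nat.card K ≤ R.card.factorial * N := by
  have h1 := Subgroup.card_mul_index (restr K R hR).ker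
  rw [Subgroup.index_ker] at h1
  have h2 : Nat.card (restr K R hR).range ≤ R.card.factorial := by
    rw [← card_perm_coe R]
    exact Subgroup.card_le_card_group _
  have h3 : Nat.card (restr K R hR).ker ≤ N := by
    rw [← Subgroup.card_map_of_injective (K.subtype_injective)]
    apply hN
    · rintro _ ⟨g, -, rfl⟩
      exact g.2
    · rintro _ ⟨g, hg, rfl⟩ y hy
      have hg' : g ∈ (restr K R hR).ker := hg
      rw [MonoidHom.mem_ker] at hg'
      have := congrArg (fun e : Equiv.Perm {y // y ∈ R} => ((e ⟨y, hy⟩ : {y // y ∈ R}) : GolayPt)) hg'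
      exact this
  calc Nat.card K = Nat.card (restr K R hR).ker * Nat.card (restr K R hR).range := h1.symm
    _ ≤ N * R.card.factorial := Nat.mul_le_mul h3 h2
    _ = R.card.factorial * N := Nat.mul_comm _ _

/-- a subgroup of `M24` with an invariant set of 3, 4, 5 or 6 points has at most `120960`
elements -/
theorem card_le_small (hKM : K ≤ M24) (R : Finset GolayPt) (hR : ∀ g ∈ K, ∀ y ∈ R, g y ∈ R)
    (h3 : 3 ≤ R.card) (h6 : R.card ≤ 6) : Nat.card K ≤ 120960 := by
  have hc : R.card = 3 ∨ R.card = 4 ∨ R.card = 5 ∨ R.card = 6 := by omega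
  rcases hc with hc | hc | hc | hc
  · have := card_le_of_invariant R hR 20160 (fun T hTK hT =>
      Nat.le_of_dvd (by norm_num) (card_dvd_fix3' (hTK.trans hKM) R (by omega) hT))
    rw [hc] at this
    exact this.trans (by decide)
  · have := card_le_of_invariant R hR 960 (fun T hTK hT =>
      Nat.le_of_dvd (by norm_num) (card_dvd_fix4 (hTK.trans hKM) R (by omega) hT))
    rw [hc] at this
    exact this.trans (by decide)
  · have := card_le_of_invariant R hR 48 (fun T hTK hT =>
      Nat.le_of_dvd (by norm_num) (card_dvd_fix5 (hTK.trans hKM) R (by omega) hT))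
    rw [hc] at this
    exact this.trans (by decide)
  · have := card_le_of_invariant R hR 48 (fun T hTK hT =>
      Nat.le_of_dvd (by norm_num) (card_dvd_fix5 (hTK.trans hKM) R (by omega) hT))
    rw [hc] at this
    exact this.trans (by decide)

/-- a subgroup of `M24` fixing `x` with an invariant set of 3 or 5 points off `x` has at most
`5760` elements -/
theorem card_le_small_fix (hKM : K ≤ M24) {x : GolayPt} (hKx : ∀ g ∈ K, g x = x)
    (R : Finset GolayPt) (hR : ∀ g ∈ K, ∀ y ∈ R, g y ∈ R) (hxR : x ∉ R)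
    (h : R.card = 3 ∨ R.card = 5) : Nat.card K ≤ 5760 := by
  have hfix : ∀ T : Subgroup (Equiv.Perm GolayPt), T ≤ K → (∀ g ∈ T, ∀ y ∈ R, g y = y) →
      ∀ g ∈ T, ∀ y ∈ insert x R, g y = y := by
    intro T hTK hT g hg y hy
    rw [Finset.mem_insert] at hy
    rcases hy with rfl | hy
    · exact hKx g (hTK hg)
    · exact hT g hg y hy
  have hci : (insert x R).card = R.card + 1 := Finset.card_insert_of_notMem hxR
  rcases h with hc | hc
  · have := card_le_of_invariant R hR 960 (fun T hTK hT =>
      Nat.le_of_dvd (by norm_num) (card_dvd_fix4 (hTK.trans hKM) (insert x R) (by omega)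
        (hfix T hTK hT)))
    rw [hc] at this
    exact this.trans (by decide)
  · have := card_le_of_invariant R hR 48 (fun T hTK hT =>
      Nat.le_of_dvd (by norm_num) (card_dvd_fix5 (hTK.trans hKM) (insert x R) (by omega)
        (hfix T hTK hT)))
    rw [hc] at this
    exact this.trans (by decide)

end Cfsg.Agent.Helper93.M24Idx
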