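import Cfsg.Agent.Helper93.M24IdxA

/-!
# Subgroups of `M24` of index 759, 276, 1771, 253 (S1589), part B: the pointwise stabiliser of an
octad inside a subgroup with a large 2-part

A subgroup `K ≤ M24` whose order is divisible by `2 ^ 10` (resp. fixing a point `x` and of order
divisible by `2 ^ 7`) contains the pointwise stabiliser `octK o` of some octad `o` (resp. some
octad through `x`): a central involution `z` of a 2-subgroup `Q` of that order fixes an octad `o`
pointwise, `Q` normalises `octK o`, and `Q ⊔ octK o` is a 2-subgroup of `M24` (resp. of the point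
stabiliser), hence not larger than `Q`.  Consequently all points off `o` lie in one `K`-orbit.
-/

set_option autoImplicit false

namespace Cfsg.Agent.Helper93.M24Idx

open Cfsg Cfsg.Agent.Helper7 Cfsg.Agent.Helper93 Cfsg.Agent.Helper93.M24Fix
  Cfsg.Agent.Helper93.M23Idx Cfsg.Agent.Helper26
open scoped Pointwise

variable {K : Subgroup (Equiv.Perm GolayPt)}

/-- a 2-subgroup of `M24` stabilising the octad `o` normalises `octK o` -/
theorem le_normalizer_octK {Q : Subgroup (Equiv.Perm GolayPt)} (hQM : Q ≤ M24)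
    {o : Finset GolayPt} (hQo : ∀ q ∈ Q, q • o = o) :
    Q ≤ Subgroup.normalizer (octK o : Set (Equiv.Perm GolayPt)) := by
  have key : ∀ q ∈ Q, ∀ e ∈ octK o, q * e * q⁻¹ ∈ octK o := by
    intro q hq e he
    rw [mem_octK_iff] at he ⊢
    refine ⟨M24.mul_mem (M24.mul_mem (hQM hq) he.1) (M24.inv_mem (hQM hq)), fun y hy => ?_⟩
    have h1 : q⁻¹ y ∈ o := by
      have h2 : q⁻¹ • o = o := by
        have := hQo q hq
        rw [← this, inv_smul_smul, this]
      have : q⁻¹ • y ∈ q⁻¹ • o := Finset.smul_mem_smul_finset hy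
      rwa [h2] at this
    rw [Equiv.Perm.mul_apply, Equiv.Perm.mul_apply, he.2 _ h1]
    simp
  intro q hq
  rw [Subgroup.mem_normalizer_iff]
  intro e
  constructor
  · exact key q hq e
  · intro h
    have := key q⁻¹ (Q.inv_mem hq) _ h
    simpa [mul_assoc] using this

/-- the key step: a 2-subgroup `Q` of order `2 ^ n` stabilising the octad `o`, inside a subgroup
`L` of `M24` containing `octK o` and whose order is not divisible by `2 ^ (n + 1)`, contains
`octK o` -/
theorem octK_le_of_two_group {Q L : Subgroup (Equiv.Perm GolayPt)} (hLM : L ≤ M24) (hQL : Q ≤ L)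
    {n : ℕ} (hQc : Nat.card Q = 2 ^ n) {o : Finset GolayPt} (ho : o ∈ octads)
    (hQo : ∀ q ∈ Q, q • o = o) (hEL : octK o ≤ L) (hL : ¬ 2 ^ (n + 1) ∣ Nat.card L) :
    octK o ≤ Q := by
  have : Fact (Nat.Prime 2) := ⟨Nat.prime_two⟩
  have hQp : IsPGroup 2 Q := IsPGroup.of_card hQc
  have hEp : IsPGroup 2 (octK o) := IsPGroup.of_card (n := 4) (octad_fix_card_sq ho).1
  have hPp : IsPGroup 2 ↥(Q ⊔ octK o) :=
    IsPGroup.to_sup_of_normal_right' hQp hEp (le_normalizer_octK (hQL.trans hLM) hQo)
  obtain ⟨m, hm⟩ := IsPGroup.iff_card.mp hPp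
  have hPL : Q ⊔ octK o ≤ L := sup_le hQL hEL
  have hdvd : 2 ^ m ∣ Nat.card L := by
    rw [← hm]
    exact Subgroup.card_dvd_of_le hPL
  have hmn : m ≤ n := by
    by_contra hcon
    push Not at hcon
    exact hL ((pow_dvd_pow 2 hcon).trans hdvd)
  have heq : Q = Q ⊔ octK o := by
    apply Subgroup.eq_of_le_of_card_ge le_sup_left
    rw [hm, hQc]
    exact Nat.pow_le_pow_right (by norm_num) hmn
  rw [heq]
  exact le_sup_right

/-- a central involution of a 2-subgroup -/
theorem exists_central_involution {Q : Subgroup (Equiv.Perm GolayPt)} {n : ℕ}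
    (hQc : Nat.card Q = 2 ^ (n + 1)) :
    ∃ z ∈ Q, orderOf z = 2 ∧ ∀ q ∈ Q, q * z * q⁻¹ = z := by
  have : Fact (Nat.Prime 2) := ⟨Nat.prime_two⟩
  have hQp : IsPGroup 2 Q := IsPGroup.of_card hQc
  have hfin : Finite Q := Nat.finite_of_card_ne_zero (by rw [hQc]; positivity)
  have hnt : Nontrivial Q := by
    rw [← Finite.one_lt_card_iff_nontrivial, hQc]
    exact Nat.one_lt_two_pow (by omega)
  have hcn : Nontrivial (Subgroup.center Q) := hQp.center_nontrivial
  have hcp : IsPGroup 2 (Subgroup.center Q) := hQp.to_subgroup _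
  obtain ⟨m, hm⟩ := IsPGroup.iff_card.mp hcp
  have hm1 : m ≠ 0 := by
    rintro rfl
    have h1 : 1 < Nat.card (Subgroup.center Q) := Finite.one_lt_card_iff_nontrivial.mpr hcn
    rw [hm] at h1
    norm_num at h1
  obtain ⟨z, hz⟩ := exists_prime_orderOf_dvd_card' (G := Subgroup.center Q) 2 (by
    rw [hm]
    exact dvd_pow_self 2 hm1)
  refine ⟨((z : ↥Q) : Equiv.Perm GolayPt), (z : ↥Q).2, ?_, ?_⟩
  · rw [Subgroup.orderOf_coe, Subgroup.orderOf_coe]
    exact hz
  · intro q hq
    have h1 : (⟨q, hq⟩ : ↥Q) * (z : ↥Q) = (z : ↥Q) * ⟨q, hq⟩ :=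
      Subgroup.mem_center_iff.mp z.2 ⟨q, hq⟩
    have h2 := congrArg (Subtype.val : ↥Q → Equiv.Perm GolayPt) h1
    simp only [Subgroup.coe_mul] at h2
    rw [h2]
    group

/-- a subgroup of `M24` fixing `x`, of order divisible by `2 ^ 7`, contains the pointwise
stabiliser of an octad through `x` -/
theorem exists_octK_le_of_fix (hKM : K ≤ M24) {x : GolayPt} (hKx : ∀ g ∈ K, g x = x)
    (h2 : 2 ^ 7 ∣ Nat.card K) : ∃ o ∈ octads, x ∈ o ∧ octK o ≤ K := by
  have : Fact (Nat.Prime 2) := ⟨Nat.prime_two⟩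
  have hKfin : Finite K := by
    apply Nat.finite_of_card_ne_zero
    intro h0
    have := card_dvd_m24 hKM
    rw [h0] at this
    norm_num at this
  obtain ⟨Q0, hQ0⟩ := Sylow.exists_subgroup_card_pow_prime (G := ↥K) 2 h2
  let Q : Subgroup (Equiv.Perm GolayPt) := Q0.map K.subtype
  have hQc : Nat.card Q = 2 ^ (6 + 1) := by
    rw [Subgroup.card_map_of_injective K.subtype_injective, hQ0]
  have hQK : Q ≤ K := by
    rintro _ ⟨g, -, rfl⟩
    exact g.2
  obtain ⟨z, hzQ, hz2, hzc⟩ := exists_central_involution hQc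
  have hzM : z ∈ M24 := hKM (hQK hzQ)
  have hzx : z x = x := hKx z (hQK hzQ)
  have h8 : nfix z = 8 := by
    rcases nfix_order2 hzM hz2 with h | h
    · exact h
    · exfalso
      have : x ∈ fixF z := mem_fixF.2 hzx
      have := Finset.card_pos.2 ⟨x, this⟩
      rw [card_fixF] at this
      omega
  have hz1 : z ≠ 1 := by
    intro h
    rw [h, orderOf_one] at hz2
    norm_num at hz2
  have ho : fixF z ∈ octads := fix8_octad hzM hz1 (Finset.Subset.refl _) (by rw [card_fixF, h8])
  refine ⟨fixF z, ho, mem_fixF.2 hzx, ?_⟩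
  -- `Q` stabilises the octad
  have hQo : ∀ q ∈ Q, q • fixF z = fixF z := by
    intro q hq
    rw [← fixF_conj, hzc q hq]
  -- the ambient group: the stabiliser of `x` in `M24`
  let L : Subgroup (Equiv.Perm GolayPt) := M24 ⊓ Helper27.stabP x
  have hLM : L ≤ M24 := inf_le_left
  have hQL : Q ≤ L := fun q hq => Subgroup.mem_inf.2 ⟨hKM (hQK hq), hKx q (hQK hq)⟩
  have hEL : octK (fixF z) ≤ L := by
    intro e he
    rw [mem_octK_iff] at he
    exact Subgroup.mem_inf.2 ⟨he.1, he.2 x (mem_fixF.2 hzx)⟩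
  have hLc : ¬ 2 ^ (6 + 1 + 1) ∣ Nat.card L := by
    intro h
    have h1 : Nat.card L ∣ 10200960 :=
      card_dvd_fix1 hLM (x := x) (fun g hg => (Subgroup.mem_inf.1 hg).2)
    have := h.trans h1
    norm_num at this
  exact (octK_le_of_two_group hLM hQL hQc ho hQo hEL hLc).trans hQK

/-- a subgroup of `M24` of order divisible by `2 ^ 10` contains the pointwise stabiliser of an
octad -/
theorem exists_octK_le (hKM : K ≤ M24) (h2 : 2 ^ 10 ∣ Nat.card K) :
    ∃ o ∈ octads, octK o ≤ K := by
  have : Fact (Nat.Prime 2) := ⟨Nat.prime_two⟩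
  have hKfin : Finite K := by
    apply Nat.finite_of_card_ne_zero
    intro h0
    have := card_dvd_m24 hKM
    rw [h0] at this
    norm_num at this
  obtain ⟨Q0, hQ0⟩ := Sylow.exists_subgroup_card_pow_prime (G := ↥K) 2 h2
  let Q : Subgroup (Equiv.Perm GolayPt) := Q0.map K.subtype
  have hQc : Nat.card Q = 2 ^ (9 + 1) := by
    rw [Subgroup.card_map_of_injective K.subtype_injective, hQ0]
  have hQK : Q ≤ K := by
    rintro _ ⟨g, -, rfl⟩
    exact g.2
  obtain ⟨z, hzQ, hz2, hzc⟩ := exists_central_involution hQc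
  have hzM : z ∈ M24 := hKM (hQK hzQ)
  have hz1 : z ≠ 1 := by
    intro h
    rw [h, orderOf_one] at hz2
    norm_num at hz2
  have h8 : nfix z = 8 := by
    rcases nfix_order2 hzM hz2 with h | h
    · exact h
    · exfalso
      -- a fixed point free involution has a centraliser of order `7680`
      have hfpf : ∀ p, z p ≠ p := by
        intro p hp
        have : p ∈ fixF z := mem_fixF.2 hp
        have := Finset.card_pos.2 ⟨p, this⟩
        rw [card_fixF] at this
        omega
      have hc := (cent_main z hzM hz2 hfpf).1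
      let C : Subgroup (Equiv.Perm GolayPt) := M24 ⊓ Subgroup.centralizer {z}
      have hCc : Nat.card C = 7680 := by
        rw [← hc]
        apply Nat.card_congr
        exact
          { toFun := fun c => ⟨c.1, (Subgroup.mem_inf.1 c.2).1,
              Subgroup.mem_centralizer_singleton_iff.1 (Subgroup.mem_inf.1 c.2).2⟩
            invFun := fun c => ⟨c.1, Subgroup.mem_inf.2 ⟨c.2.1,
              Subgroup.mem_centralizer_singleton_iff.2 c.2.2⟩⟩
            left_inv := fun _ => rfl
            right_inv := fun _ => rfl }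
      have hQC : Q ≤ C := by
        intro q hq
        refine Subgroup.mem_inf.2 ⟨hKM (hQK hq), Subgroup.mem_centralizer_singleton_iff.2 ?_⟩
        have := hzc q hq
        calc q * z = q * z * q⁻¹ * q := by group
          _ = z * q := by rw [this]
      have := Subgroup.card_dvd_of_le hQC
      rw [hQc, hCc] at this
      norm_num at this
  have ho : fixF z ∈ octads := fix8_octad hzM hz1 (Finset.Subset.refl _) (by rw [card_fixF, h8])
  refine ⟨fixF z, ho, ?_⟩
  have hQo : ∀ q ∈ Q, q • fixF z = fixF z := by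
    intro q hq
    rw [← fixF_conj, hzc q hq]
  have hEL : octK (fixF z) ≤ M24 := inf_le_left
  have hLc : ¬ 2 ^ (9 + 1 + 1) ∣ Nat.card M24 := by
    rw [card_M24]
    norm_num
  exact (octK_le_of_two_group (le_refl _) (hQK.trans hKM) hQc ho hQo hEL hLc).trans hQK

/-- the pointwise stabiliser of an octad is transitive on the points off the octad -/
theorem mem_orbF_octK {o : Finset GolayPt} (ho : o ∈ octads) {y z : GolayPt} (hy : y ∉ o)
    (hz : z ∉ o) : z ∈ orbF (octK o) y := by
  have h1 := card_stab_mul_orbF (octK o) y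
  have h2 : Nat.card ↥(octK o ⊓ Helper27.stabP y) = 1 := by
    rw [Subgroup.card_eq_one, Subgroup.eq_bot_iff_forall]
    intro g hg
    exact octK_free ho (Subgroup.mem_inf.1 hg).1 hy (Subgroup.mem_inf.1 hg).2
  rw [h2, one_mul, (octad_fix_card_sq ho).1] at h1
  have hsub : orbF (octK o) y ⊆ Finset.univ \ o := by
    intro w hw
    rw [Finset.mem_sdiff]
    refine ⟨Finset.mem_univ _, fun hwo => hy ?_⟩
    obtain ⟨e, he, rfl⟩ := (mem_orbF _).1 hw
    rw [mem_octK_iff] at he
    have := he.2 _ hwo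
    have h3 : e y = y := e.injective this
    rwa [h3] at hwo
  have hc : (Finset.univ \ o : Finset GolayPt).card = 16 := by
    rw [Finset.card_sdiff_of_subset (Finset.subset_univ _), Finset.card_univ, ho.2]
    rfl
  have heq : orbF (octK o) y = Finset.univ \ o :=
    Finset.eq_of_subset_of_card_le hsub (by rw [hc, h1])
  rw [heq, Finset.mem_sdiff]
  exact ⟨Finset.mem_univ _, hz⟩

/-- if `K` contains `octK o`, the points off `o` lie in one `K`-orbit -/
theorem mem_orbF_of_octK_le {o : Finset GolayPt} (ho : o ∈ octads) (hE : octK o ≤ K)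
    {y z : GolayPt} (hy : y ∉ o) (hz : z ∉ o) : z ∈ orbF K y := by
  obtain ⟨e, he, hez⟩ := (mem_orbF _).1 (mem_orbF_octK ho hy hz)
  exact (mem_orbF K).2 ⟨e, hE he, hez⟩

/-- a set invariant under `octK o` and meeting the complement of `o` has at least 16 elements -/
theorem card_ge_of_octK_invariant {o : Finset GolayPt} (ho : o ∈ octads) {A : Finset GolayPt}
    (hA : ∀ e ∈ octK o, ∀ y ∈ A, e y ∈ A) {w : GolayPt} (hwA : w ∈ A) (hwo : w ∉ o) :
    16 ≤ A.card := by
  have hc : (Finset.univ \ o : Finset GolayPt).card = 16 := by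
    rw [Finset.card_sdiff_of_subset (Finset.subset_univ _), Finset.card_univ, ho.2]
    rfl
  rw [← hc]
  apply Finset.card_le_card
  intro v hv
  rw [Finset.mem_sdiff] at hv
  obtain ⟨e, he, rfl⟩ := (mem_orbF _).1 (mem_orbF_octK ho hwo hv.2)
  exact hA e he w hwA

end Cfsg.Agent.Helper93.M24Idx
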