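import Cfsg.Agent.Helper93.M24IdxB

/-!
# Subgroups of `M24` of index 759, 276, 1771, 253 (S1589), part C: the orbit analysis

* `trans_or_octad`: a subgroup of `M24` of order divisible by `2 ^ 10`, larger than `120960` and
  prime to `11`, `17`, `23`, is transitive or stabilises an octad;
* `fix_cases`: the analogous statement for a subgroup fixing a point, of order divisible by `2 ^ 7`.
-/

set_option autoImplicit false

namespace Cfsg.Agent.Helper93.M24Idx

open Cfsg Cfsg.Agent.Helper7 Cfsg.Agent.Helper93 Cfsg.Agent.Helper93.M24Fix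
  Cfsg.Agent.Helper93.M23Idx Cfsg.Agent.Helper26
open scoped Pointwise

variable {K : Subgroup (Equiv.Perm GolayPt)}

theorem orbF_trans {y z w : GolayPt} (hz : z ∈ orbF K y) (hw : w ∈ orbF K z) : w ∈ orbF K y := by
  obtain ⟨g, hg, rfl⟩ := (mem_orbF K).1 hz
  obtain ⟨h, hh, rfl⟩ := (mem_orbF K).1 hw
  exact (mem_orbF K).2 ⟨h * g, K.mul_mem hh hg, rfl⟩

theorem univ_invariant : ∀ g ∈ K, ∀ y ∈ (Finset.univ : Finset GolayPt), g y ∈ Finset.univ :=
  fun _ _ _ _ => Finset.mem_univ _

theorem exists_notMem_octad {o : Finset GolayPt} (ho : o ∈ octads) : ∃ y, y ∉ o := by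
  by_contra hcon
  push Not at hcon
  have : o = Finset.univ := Finset.eq_univ_iff_forall.2 hcon
  have h8 := ho.2
  rw [this, Finset.card_univ] at h8
  have : Fintype.card GolayPt = 24 := by decide
  omega

theorem card_univ_golay : (Finset.univ : Finset GolayPt).card = 24 := by
  rw [Finset.card_univ]
  decide

/-- a large subgroup of `M24` containing a Sylow 2-subgroup is transitive or stabilises an
octad -/
theorem trans_or_octad (hKM : K ≤ M24) (h2 : 2 ^ 10 ∣ Nat.card K) (hc : 120960 < Nat.card K)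
    (h11 : ¬ 11 ∣ Nat.card K) (h17 : ¬ 17 ∣ Nat.card K) (h23 : ¬ 23 ∣ Nat.card K) :
    (∀ y z : GolayPt, z ∈ orbF K y) ∨
      ∃ o ∈ octads, octK o ≤ K ∧ ∀ g ∈ K, ∀ y ∈ o, g y ∈ o := by
  obtain ⟨o, ho, hE⟩ := exists_octK_le hKM h2
  obtain ⟨y0, hy0⟩ := exists_notMem_octad ho
  have hBsub : Finset.univ \ o ⊆ orbF K y0 := by
    intro z hz
    rw [Finset.mem_sdiff] at hz
    exact mem_orbF_of_octK_le ho hE hy0 hz.2
  have hRinv : ∀ g ∈ K, ∀ y ∈ Finset.univ \ orbF K y0, g y ∈ Finset.univ \ orbF K y0 :=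
    sdiff_invariant univ_invariant (orbF_invariant K y0)
  have hRo : Finset.univ \ orbF K y0 ⊆ o := by
    intro z hz
    rw [Finset.mem_sdiff] at hz
    by_contra hzo
    exact hz.2 (hBsub (Finset.mem_sdiff.2 ⟨Finset.mem_univ _, hzo⟩))
  have hRc : (Finset.univ \ orbF K y0).card + (orbF K y0).card = 24 := by
    rw [Finset.card_sdiff_of_subset (Finset.subset_univ _), card_univ_golay]
    have := Finset.card_le_card (Finset.subset_univ (orbF K y0))
    rw [card_univ_golay] at this
    omega
  have hR8 : (Finset.univ \ orbF K y0).card ≤ 8 := by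
    rw [← ho.2]
    exact Finset.card_le_card hRo
  have hBd := card_orbF_dvd K y0
  by_cases h0 : (Finset.univ \ orbF K y0).card = 0
  · left
    have hall : ∀ y : GolayPt, y ∈ orbF K y0 := by
      intro y
      by_contra hy
      have : y ∈ Finset.univ \ orbF K y0 := Finset.mem_sdiff.2 ⟨Finset.mem_univ _, hy⟩
      have := Finset.card_pos.2 ⟨y, this⟩
      omega
    intro y z
    exact orbF_trans (orbF_symm K (hall y)) (hall z)
  by_cases h8 : (Finset.univ \ orbF K y0).card = 8
  · right
    have heq : Finset.univ \ orbF K y0 = o :=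
      Finset.eq_of_subset_of_card_le hRo (by rw [h8, ho.2])
    refine ⟨o, ho, hE, ?_⟩
    rw [← heq]
    exact hRinv
  exfalso
  by_cases h36 : 3 ≤ (Finset.univ \ orbF K y0).card ∧ (Finset.univ \ orbF K y0).card ≤ 6
  · have := card_le_small hKM _ hRinv h36.1 h36.2
    omega
  · have h127 : (orbF K y0).card = 23 ∨ (orbF K y0).card = 22 ∨ (orbF K y0).card = 17 := by omega
    rcases h127 with h | h | h
    · rw [h] at hBd
      exact h23 hBd
    · rw [h] at hBd
      exact h11 (Dvd.dvd.trans (by norm_num) hBd)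
    · rw [h] at hBd
      exact h17 hBd

/-- a subgroup fixing `x` and a 5-set inside an octad through `x` has at most `3840` elements -/
theorem card_le_five (hKM : K ≤ M24) {x : GolayPt} (hKx : ∀ g ∈ K, g x = x)
    {o : Finset GolayPt} (ho : o ∈ octads) (hxo : x ∈ o) (R : Finset GolayPt)
    (hRo : R ⊆ o.erase x) (hRc : R.card = 5) (hR : ∀ g ∈ K, ∀ y ∈ R, g y ∈ R) :
    Nat.card K ≤ 3840 := by
  have hxR : x ∉ R := fun h => (Finset.mem_erase.1 (hRo h)).1 rfl
  have hS6o : insert x R ⊆ o := by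
    intro y hy
    rw [Finset.mem_insert] at hy
    rcases hy with rfl | hy
    · exact hxo
    · exact Finset.mem_of_mem_erase (hRo hy)
  have hS6c : (insert x R).card = 6 := by rw [Finset.card_insert_of_notMem hxR, hRc]
  have hWc : (o \ insert x R).card = 2 := by
    rw [Finset.card_sdiff_of_subset hS6o, ho.2, hS6c]
  have key : ∀ T : Subgroup (Equiv.Perm GolayPt), T ≤ K → (∀ g ∈ T, ∀ y ∈ R, g y = y) →
      Nat.card T ≤ 32 := by
    intro T hTK hT
    have hTM : T ≤ M24 := hTK.trans hKM
    have hfix6 : ∀ g ∈ T, ∀ y ∈ insert x R, g y = y := by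
      intro g hg y hy
      rw [Finset.mem_insert] at hy
      rcases hy with rfl | hy
      · exact hKx g (hTK hg)
      · exact hT g hg y hy
    -- `T` stabilises the octad
    have hTo : ∀ g ∈ T, g • o = o := by
      intro g hg
      apply octad_eq_of_five ho (smul_mem_octads (hTM hg) ho) (insert x R) (by omega) hS6o
      intro y hy
      have : g • y ∈ g • o := Finset.smul_mem_smul_finset (hS6o hy)
      rwa [show g • y = g y from rfl, hfix6 g hg y hy] at this
    have hWinv : ∀ g ∈ T, ∀ y ∈ o \ insert x R, g y ∈ o \ insert x R := by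
      intro g hg y hy
      rw [Finset.mem_sdiff] at hy ⊢
      refine ⟨invariant_of_smul_eq (hTo g hg) y hy.1, fun h => hy.2 ?_⟩
      have h1 := hfix6 g hg _ h
      have h2 : g y = y := g.injective h1
      rwa [h2] at h
    have := card_le_of_invariant (o \ insert x R) hWinv 16 (by
      intro T' hT'T hT'
      have hle : T' ≤ octK o := by
        intro g hg
        rw [mem_octK_iff]
        refine ⟨hTM (hT'T hg), fun y hy => ?_⟩
        by_cases hy6 : y ∈ insert x R
        · exact hfix6 g (hT'T hg) y hy6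
        · exact hT' g hg y (Finset.mem_sdiff.2 ⟨hy, hy6⟩)
      have := Subgroup.card_le_of_le hle
      rwa [(octad_fix_card_sq ho).1] at this)
    rw [hWc] at this
    exact this.trans (by decide)
  have := card_le_of_invariant R hR 32 key
  rw [hRc] at this
  exact this.trans (by decide)

/-- the orbit analysis for a subgroup fixing a point -/
theorem fix_cases (hKM : K ≤ M24) {x : GolayPt} (hKx : ∀ g ∈ K, g x = x)
    (h2 : 2 ^ 7 ∣ Nat.card K) (hc : 3840 < Nat.card K)
    (h11 : ¬ 11 ∣ Nat.card K) (h17 : ¬ 17 ∣ Nat.card K) (h19 : ¬ 19 ∣ Nat.card K)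
    (h23 : ¬ 23 ∣ Nat.card K) :
    ∃ o ∈ octads, x ∈ o ∧ octK o ≤ K ∧
      ((∀ g ∈ K, ∀ y ∈ o, g y ∈ o) ∨
        (21 ∣ Nat.card K ∧
          ∃ s : Finset GolayPt, s.card = 2 ∧ x ∉ s ∧ ∀ g ∈ K, ∀ y ∈ s, g y ∈ s) ∨
        (Nat.card K ≤ 5760 ∧ ∃ R : Finset GolayPt, R ⊆ o.erase x ∧ R.card = 3 ∧
          (∀ g ∈ K, ∀ y ∈ R, g y ∈ R) ∧
          ∀ y z : GolayPt, y ∉ insert x R → z ∉ insert x R → z ∈ orbF K y)) := by
  obtain ⟨o, ho, hxo, hE⟩ := exists_octK_le_of_fix hKM hKx h2
  refine ⟨o, ho, hxo, hE, ?_⟩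
  obtain ⟨y0, hy0⟩ := exists_notMem_octad ho
  have hy0x : y0 ≠ x := by
    rintro rfl
    exact hy0 hxo
  have hBx := orbF_subset hKx hy0x
  have hBsub : Finset.univ \ o ⊆ orbF K y0 := by
    intro z hz
    rw [Finset.mem_sdiff] at hz
    exact mem_orbF_of_octK_le ho hE hy0 hz.2
  have hRinv : ∀ g ∈ K, ∀ y ∈ (Finset.univ.erase x) \ orbF K y0,
      g y ∈ (Finset.univ.erase x) \ orbF K y0 :=
    sdiff_invariant (erase_invariant hKx) (orbF_invariant K y0)
  have hRo : (Finset.univ.erase x) \ orbF K y0 ⊆ o.erase x := by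
    intro z hz
    rw [Finset.mem_sdiff, Finset.mem_erase] at hz
    rw [Finset.mem_erase]
    refine ⟨hz.1.1, ?_⟩
    by_contra hzo
    exact hz.2 (hBsub (Finset.mem_sdiff.2 ⟨Finset.mem_univ _, hzo⟩))
  have hRc : ((Finset.univ.erase x) \ orbF K y0).card + (orbF K y0).card = 23 := by
    rw [Finset.card_sdiff_of_subset hBx, card_erase_x]
    have := Finset.card_le_card hBx
    rw [card_erase_x] at this
    omega
  have hoc : (o.erase x).card = 7 := by rw [Finset.card_erase_of_mem hxo, ho.2]
  have hR7 : ((Finset.univ.erase x) \ orbF K y0).card ≤ 7 := by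
    rw [← hoc]
    exact Finset.card_le_card hRo
  have hBd := card_orbF_dvd K y0
  have hxR : x ∉ (Finset.univ.erase x) \ orbF K y0 := by
    intro h
    rw [Finset.mem_sdiff, Finset.mem_erase] at h
    exact h.1.1 rfl
  -- the cases
  have hcases : ((Finset.univ.erase x) \ orbF K y0).card = 7 ∨
      ((Finset.univ.erase x) \ orbF K y0).card = 5 ∨
      ((Finset.univ.erase x) \ orbF K y0).card = 3 ∨
      ((Finset.univ.erase x) \ orbF K y0).card = 2 ∨
      ((orbF K y0).card = 17 ∨ (orbF K y0).card = 19 ∨ (orbF K y0).card = 22 ∨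
        (orbF K y0).card = 23) := by omega
  rcases hcases with h | h | h | h | h
  · -- the octad is invariant
    left
    have heq : (Finset.univ.erase x) \ orbF K y0 = o.erase x :=
      Finset.eq_of_subset_of_card_le hRo (by rw [h, hoc])
    intro g hg y hy
    by_cases hyx : y = x
    · rw [hyx, hKx g hg]
      exact hxo
    · have : y ∈ o.erase x := Finset.mem_erase.2 ⟨hyx, hy⟩
      rw [← heq] at this
      have := hRinv g hg y this
      rw [heq] at this
      exact Finset.mem_of_mem_erase this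
  · exfalso
    have := card_le_five hKM hKx ho hxo _ hRo h hRinv
    omega
  · right; right
    refine ⟨card_le_small_fix hKM hKx _ hRinv hxR (Or.inl h), _, hRo, h, hRinv, ?_⟩
    have hmem : ∀ y : GolayPt, y ∉ insert x ((Finset.univ.erase x) \ orbF K y0) →
        y ∈ orbF K y0 := by
      intro y hy
      by_contra hyB
      apply hy
      rw [Finset.mem_insert]
      by_cases hyx : y = x
      · exact Or.inl hyx
      · right
        exact Finset.mem_sdiff.2 ⟨Finset.mem_erase.2 ⟨hyx, Finset.mem_univ _⟩, hyB⟩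
    intro y z hy hz
    exact orbF_trans (orbF_symm K (hmem y hy)) (hmem z hz)
  · right; left
    refine ⟨?_, _, h, hxR, hRinv⟩
    have : (orbF K y0).card = 21 := by omega
    rwa [this] at hBd
  · exfalso
    rcases h with h | h | h | h
    · rw [h] at hBd
      exact h17 hBd
    · rw [h] at hBd
      exact h19 hBd
    · rw [h] at hBd
      exact h11 (Dvd.dvd.trans (by norm_num) hBd)
    · rw [h] at hBd
      exact h23 hBd

end Cfsg.Agent.Helper93.M24Idx
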