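import Cfsg.Agent.Helper93.M24IdxC

/-!
# Subgroups of `M24` of index 759, 276, 1771, 253 (S1589), part D: transitive subgroups

For a transitive subgroup `H` and a set `A` invariant under the stabiliser of the base point `x`,
the set `img htr x A y = h • A` (`h ∈ H`, `h x = y`) is well defined and equivariant.  Two
configurations are impossible:

* `no_trans_octad`: `A` an octad through `x` whose pointwise stabiliser lies in `H`, and `H`
  contains an element of order 5 fixing `x`;
* `no_trans_triple`: `A` a set of three points containing `x`, and `H` contains elements of orders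
  7 and 5.
-/

set_option autoImplicit false

namespace Cfsg.Agent.Helper93.M24Idx

open Cfsg Cfsg.Agent.Helper7 Cfsg.Agent.Helper93 Cfsg.Agent.Helper93.M24Fix
  Cfsg.Agent.Helper93.M23Idx Cfsg.Agent.Helper26
open scoped Pointwise

section img

variable {H : Subgroup (Equiv.Perm GolayPt)} (htr : ∀ y z : GolayPt, z ∈ orbF H y)
  (x : GolayPt)

/-- a chosen element of `H` moving `x` to `y` -/
noncomputable def mover (y : GolayPt) : Equiv.Perm GolayPt :=
  Classical.choose ((mem_orbF H).1 (htr x y))

theorem mover_mem (y : GolayPt) : mover htr x y ∈ H :=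
  (Classical.choose_spec ((mem_orbF H).1 (htr x y))).1

theorem mover_apply (y : GolayPt) : mover htr x y x = y :=
  (Classical.choose_spec ((mem_orbF H).1 (htr x y))).2

/-- the image of `A` attached to the point `y` -/
noncomputable def img (A : Finset GolayPt) (y : GolayPt) : Finset GolayPt := mover htr x y • A

variable {x} {A : Finset GolayPt} (hA : ∀ g ∈ H, g x = x → g • A = A)

include hA in
theorem img_eq {h : Equiv.Perm GolayPt} (hh : h ∈ H) {y : GolayPt} (hy : h x = y) :
    img htr x A y = h • A := by
  have h1 : ((mover htr x y)⁻¹ * h) • A = A := by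
    apply hA _ (H.mul_mem (H.inv_mem (mover_mem htr x y)) hh)
    rw [Equiv.Perm.mul_apply, hy, Equiv.Perm.inv_eq_iff_eq]
    exact (mover_apply htr x y).symm
  calc img htr x A y = mover htr x y • (((mover htr x y)⁻¹ * h) • A) := by rw [h1]; rfl
    _ = h • A := by rw [← mul_smul, mul_inv_cancel_left]

include hA in
theorem smul_img {g : Equiv.Perm GolayPt} (hg : g ∈ H) (y : GolayPt) :
    g • img htr x A y = img htr x A (g y) := by
  rw [img_eq htr hA (H.mul_mem hg (mover_mem htr x y)) (y := g y)
    (by rw [Equiv.Perm.mul_apply, mover_apply]), mul_smul]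
  rfl

include hA in
theorem img_self : img htr x A x = A := by
  rw [img_eq htr hA H.one_mem (y := x) rfl, one_smul]

theorem card_img (y : GolayPt) : (img htr x A y).card = A.card :=
  Finset.card_smul_finset _ _

theorem mem_img_self (hxA : x ∈ A) (y : GolayPt) : y ∈ img htr x A y := by
  have : mover htr x y • x ∈ mover htr x y • A := Finset.smul_mem_smul_finset hxA
  rwa [show mover htr x y • x = mover htr x y x from rfl, mover_apply] at this

include hA in
theorem img_invariant {g : Equiv.Perm GolayPt} (hg : g ∈ H) {y : GolayPt} (hgy : g y = y) :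
    ∀ w ∈ img htr x A y, g w ∈ img htr x A y := by
  apply invariant_of_smul_eq
  rw [smul_img htr hA hg, hgy]

include hA in
/-- if all the points of `A` have the same image set, the image sets partition the points -/
theorem img_eq_of_mem (hpart : ∀ z ∈ A, img htr x A z = A) {y z : GolayPt}
    (hz : z ∈ img htr x A y) : img htr x A z = img htr x A y := by
  have hz' : z ∈ mover htr x y • A := hz
  obtain ⟨z0, hz0, rfl⟩ := Finset.mem_smul_finset.1 hz'
  show img htr x A (mover htr x y z0) = img htr x A y
  rw [← smul_img htr hA (mover_mem htr x y), hpart z0 hz0]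
  rfl

end img

section configurations

variable {H : Subgroup (Equiv.Perm GolayPt)} {x : GolayPt}

/-- two 3-subsets of a 4-set meet -/
theorem exists_mem_inter_of_card {F A B : Finset GolayPt} (hF : F.card = 4) (hA : A ⊆ F)
    (hB : B ⊆ F) (hAc : A.card = 3) (hBc : B.card = 3) : ∃ p, p ∈ A ∧ p ∈ B := by
  have h1 := Finset.card_union_add_card_inter A B
  have h2 : (A ∪ B).card ≤ 4 := by
    rw [← hF]
    exact Finset.card_le_card (Finset.union_subset hA hB)
  have h3 : 0 < (A ∩ B).card := by omega
  obtain ⟨p, hp⟩ := Finset.card_pos.1 h3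
  exact ⟨p, (Finset.mem_inter.1 hp).1, (Finset.mem_inter.1 hp).2⟩

/-- **No transitive subgroup with an octad-stabilising point stabiliser.** -/
theorem no_trans_octad (hHM : H ≤ M24) (htr : ∀ y z : GolayPt, z ∈ orbF H y)
    {o : Finset GolayPt} (ho : o ∈ octads) (hxo : x ∈ o) (hE : octK o ≤ H)
    (hinv : ∀ g ∈ H, g x = x → ∀ y ∈ o, g y ∈ o) {g5 : Equiv.Perm GolayPt} (hg5 : g5 ∈ H)
    (h5 : orderOf g5 = 5) (hg5x : g5 x = x) : False := by
  have : Fact (Nat.Prime 5) := ⟨by norm_num⟩
  have hA : ∀ g ∈ H, g x = x → g • o = o := fun g hg hgx => smul_eq_of_invariant (hinv g hg hgx)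
  -- (a) the points of `o` all have image `o`
  have ha : ∀ z ∈ o, img htr x o z = o := by
    intro z hz
    apply Finset.eq_of_subset_of_card_le
    · intro w hw
      by_contra hwo
      have hEinv : ∀ e ∈ octK o, ∀ y ∈ img htr x o z, e y ∈ img htr x o z := by
        intro e he
        exact img_invariant htr hA (hE he) ((mem_octK_iff.1 he).2 z hz)
      have := card_ge_of_octK_invariant ho hEinv hw hwo
      rw [card_img, ho.2] at this
      omega
    · rw [card_img]
  have hpart : ∀ {y z : GolayPt}, z ∈ img htr x o y → img htr x o z = img htr x o y :=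
    fun hz => img_eq_of_mem htr hA ha hz
  -- (b) the element of order 5
  have hp5 : g5 ^ 5 = 1 := by rw [← h5, pow_orderOf_eq_one]
  have hF : (fixF g5).card = 4 := by rw [card_fixF]; exact nfix_order5 (hHM hg5) h5
  have h3 : ∀ y ∈ fixF g5, (img htr x o y ∩ fixF g5).card = 3 := by
    intro y hy
    have h1 := card_modEq_inter_fixF hp5 (img htr x o y)
      (img_invariant htr hA hg5 (mem_fixF.1 hy))
    rw [card_img, ho.2] at h1
    have h2 : (img htr x o y ∩ fixF g5).card ≤ 4 := by
      rw [← hF]
      exact Finset.card_le_card Finset.inter_subset_right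
    unfold Nat.ModEq at h1
    omega
  have hxF : x ∈ fixF g5 := mem_fixF.2 hg5x
  have h3x := h3 x hxF
  rw [img_self htr hA] at h3x
  -- a fixed point off `o`
  obtain ⟨w, hwF, hwo⟩ : ∃ w ∈ fixF g5, w ∉ o := by
    by_contra hcon
    push Not at hcon
    have : o ∩ fixF g5 = fixF g5 := Finset.inter_eq_right.2 hcon
    rw [this, hF] at h3x
    omega
  obtain ⟨p, hp1, hp2⟩ := exists_mem_inter_of_card hF Finset.inter_subset_right
    Finset.inter_subset_right h3x (h3 w hwF)
  have hpo : p ∈ o := (Finset.mem_inter.1 hp1).1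
  have hpw : p ∈ img htr x o w := (Finset.mem_inter.1 hp2).1
  have e1 : img htr x o p = o := ha p hpo
  have e2 : img htr x o p = img htr x o w := hpart hpw
  have : w ∈ img htr x o w := mem_img_self htr hxo w
  rw [← e2, e1] at this
  exact hwo this

/-- **No transitive subgroup whose point stabiliser fixes a triple through the point.** -/
theorem no_trans_triple (hHM : H ≤ M24) (htr : ∀ y z : GolayPt, z ∈ orbF H y)
    {A : Finset GolayPt} (hAc : A.card = 3) (hxA : x ∈ A)
    (hinv : ∀ g ∈ H, g x = x → ∀ y ∈ A, g y ∈ A) {g7 g5 : Equiv.Perm GolayPt} (hg7 : g7 ∈ H)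
    (h7 : orderOf g7 = 7) (hg5 : g5 ∈ H) (h5 : orderOf g5 = 5) : False := by
  have : Fact (Nat.Prime 5) := ⟨by norm_num⟩
  have : Fact (Nat.Prime 7) := ⟨by norm_num⟩
  have hA : ∀ g ∈ H, g x = x → g • A = A := fun g hg hgx => smul_eq_of_invariant (hinv g hg hgx)
  have hp5 : g5 ^ 5 = 1 := by rw [← h5, pow_orderOf_eq_one]
  have hp7 : g7 ^ 7 = 1 := by rw [← h7, pow_orderOf_eq_one]
  have hF5 : (fixF g5).card = 4 := by rw [card_fixF]; exact nfix_order5 (hHM hg5) h5
  have hF7 : (fixF g7).card = 3 := by
    rw [card_fixF]
    have := nfix_of_prime_order (hHM hg7) (by norm_num) (by norm_num) h7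
    omega
  -- the triple of a fixed point consists of fixed points
  have hsub5 : ∀ y ∈ fixF g5, img htr x A y ⊆ fixF g5 := by
    intro y hy
    have h1 := card_modEq_inter_fixF hp5 (img htr x A y)
      (img_invariant htr hA hg5 (mem_fixF.1 hy))
    rw [card_img, hAc] at h1
    have h2 : (img htr x A y ∩ fixF g5).card ≤ 3 := by
      rw [← hAc, ← card_img htr (x := x) (A := A) y]
      exact Finset.card_le_card Finset.inter_subset_left
    have h3 : (img htr x A y ∩ fixF g5).card = 3 := by
      unfold Nat.ModEq at h1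
      omega
    have h4 : img htr x A y ∩ fixF g5 = img htr x A y :=
      Finset.eq_of_subset_of_card_le Finset.inter_subset_left (by rw [h3, card_img, hAc])
    rw [← h4]
    exact Finset.inter_subset_right
  have hsub7 : ∀ y ∈ fixF g7, img htr x A y ⊆ fixF g7 := by
    intro y hy
    have h1 := card_modEq_inter_fixF hp7 (img htr x A y)
      (img_invariant htr hA hg7 (mem_fixF.1 hy))
    rw [card_img, hAc] at h1
    have h2 : (img htr x A y ∩ fixF g7).card ≤ 3 := by
      rw [← hAc, ← card_img htr (x := x) (A := A) y]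
      exact Finset.card_le_card Finset.inter_subset_left
    have h3 : (img htr x A y ∩ fixF g7).card = 3 := by
      unfold Nat.ModEq at h1
      omega
    have h4 : img htr x A y ∩ fixF g7 = img htr x A y :=
      Finset.eq_of_subset_of_card_le Finset.inter_subset_left (by rw [h3, card_img, hAc])
    rw [← h4]
    exact Finset.inter_subset_right
  have heq7 : ∀ y ∈ fixF g7, img htr x A y = fixF g7 := fun y hy =>
    Finset.eq_of_subset_of_card_le (hsub7 y hy) (by rw [hF7, card_img, hAc])
  -- the points of `A` all have image `A`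
  have ha : ∀ z ∈ A, img htr x A z = A := by
    obtain ⟨p0, hp0⟩ := Finset.card_pos.1 (by omega : 0 < (fixF g7).card)
    obtain ⟨k, hk, hkx⟩ := (mem_orbF H).1 (htr p0 x)
    have hAk : A = k • fixF g7 := by
      have e1 : k • img htr x A p0 = img htr x A (k p0) := smul_img htr hA hk p0
      rw [heq7 p0 hp0, hkx, img_self htr hA] at e1
      exact e1.symm
    intro z hz
    rw [hAk] at hz
    obtain ⟨z0, hz0, rfl⟩ := Finset.mem_smul_finset.1 hz
    show img htr x A (k z0) = A
    rw [← smul_img htr hA hk, heq7 z0 hz0, ← hAk]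
  have hpart : ∀ {y z : GolayPt}, z ∈ img htr x A y → img htr x A z = img htr x A y :=
    fun hz => img_eq_of_mem htr hA ha hz
  -- the fixed points of the element of order 5
  obtain ⟨y1, hy1⟩ := Finset.card_pos.1 (by omega : 0 < (fixF g5).card)
  obtain ⟨y4, hy4F, hy4⟩ : ∃ w ∈ fixF g5, w ∉ img htr x A y1 := by
    by_contra hcon
    push Not at hcon
    have := Finset.card_le_card hcon
    rw [hF5, card_img, hAc] at this
    omega
  obtain ⟨p, hp1, hp2⟩ := exists_mem_inter_of_card hF5 (hsub5 y1 hy1) (hsub5 y4 hy4F)
    (by rw [card_img, hAc]) (by rw [card_img, hAc])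
  have e1 := hpart hp1
  have e2 := hpart hp2
  have : y4 ∈ img htr x A y4 := mem_img_self htr hxA y4
  rw [← e2, e1] at this
  exact hy4 this

end configurations

end Cfsg.Agent.Helper93.M24Idx
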