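import Cfsg.Agent.Helper93.M24IdxD

/-!
# Subgroups of `M24` of index 759, 276, 1771, 253 (S1589), part E: the invariant sextet

A transitive subgroup `H` whose point stabiliser fixes a tetrad `T = insert x R` inside an octad
`o` (with `octK o ≤ H`), is transitive on the 20 points off `T` and contains an element of order 5,
stabilises a sextet: the images of `T`.
-/

set_option autoImplicit false

namespace Cfsg.Agent.Helper93.M24Idx

open Cfsg Cfsg.Agent.Helper7 Cfsg.Agent.Helper93 Cfsg.Agent.Helper93.M24Fix
  Cfsg.Agent.Helper93.M23Idx Cfsg.Agent.Helper26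
open scoped Pointwise

variable {H : Subgroup (Equiv.Perm GolayPt)} {x : GolayPt}

theorem exists_invariant_sextet (hHM : H ≤ M24) (htr : ∀ y z : GolayPt, z ∈ orbF H y)
    {o : Finset GolayPt} (ho : o ∈ octads) (hxo : x ∈ o) (hE : octK o ≤ H)
    {R : Finset GolayPt} (hRo : R ⊆ o.erase x) (hRc : R.card = 3)
    (hinv : ∀ g ∈ H, g x = x → ∀ y ∈ R, g y ∈ R)
    (htr20 : ∀ y z : GolayPt, y ∉ insert x R → z ∉ insert x R → ∃ k ∈ H, k x = x ∧ k y = z)
    {g5 : Equiv.Perm GolayPt} (hg5 : g5 ∈ H) (h5 : orderOf g5 = 5) (hg5x : g5 x = x) :
    ∃ S ∈ sextets, ∀ g ∈ H, g • S = S := by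
  classical
  have : Fact (Nat.Prime 5) := ⟨by norm_num⟩
  have hxR : x ∉ R := fun h => (Finset.mem_erase.1 (hRo h)).1 rfl
  have hTc : (insert x R).card = 4 := by rw [Finset.card_insert_of_notMem hxR, hRc]
  have hxT : x ∈ insert x R := Finset.mem_insert_self _ _
  have hTo : insert x R ⊆ o := by
    intro y hy
    rw [Finset.mem_insert] at hy
    rcases hy with rfl | hy
    · exact hxo
    · exact Finset.mem_of_mem_erase (hRo hy)
  have hA : ∀ g ∈ H, g x = x → g • insert x R = insert x R := by
    intro g hg hgx
    apply smul_eq_of_invariant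
    intro y hy
    rw [Finset.mem_insert] at hy ⊢
    rcases hy with rfl | hy
    · exact Or.inl hgx
    · exact Or.inr (hinv g hg hgx y hy)
  have hp5 : g5 ^ 5 = 1 := by rw [← h5, pow_orderOf_eq_one]
  have hF5 : (fixF g5).card = 4 := by rw [card_fixF]; exact nfix_order5 (hHM hg5) h5
  -- the tetrad of a fixed point of `g5` is the set of fixed points
  have hsub5 : ∀ y ∈ fixF g5, img htr x (insert x R) y = fixF g5 := by
    intro y hy
    have h1 := card_modEq_inter_fixF hp5 (img htr x (insert x R) y)
      (img_invariant htr hA hg5 (mem_fixF.1 hy))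
    rw [card_img, hTc] at h1
    have h2 : (img htr x (insert x R) y ∩ fixF g5).card ≤ 4 := by
      rw [← hF5]
      exact Finset.card_le_card Finset.inter_subset_right
    have h3 : (img htr x (insert x R) y ∩ fixF g5).card = 4 := by
      unfold Nat.ModEq at h1
      omega
    have h4 : img htr x (insert x R) y ∩ fixF g5 = img htr x (insert x R) y :=
      Finset.eq_of_subset_of_card_le Finset.inter_subset_left (by rw [h3, card_img, hTc])
    apply Finset.eq_of_subset_of_card_le
    · rw [← h4]
      exact Finset.inter_subset_right
    · rw [hF5, card_img, hTc]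
  have hTF : insert x R = fixF g5 := by
    rw [← hsub5 x (mem_fixF.2 hg5x), img_self htr hA]
  have ha : ∀ z ∈ insert x R, img htr x (insert x R) z = insert x R := by
    intro z hz
    rw [hsub5 z (by rwa [← hTF]), ← hTF]
  have hpart : ∀ {y z : GolayPt}, z ∈ img htr x (insert x R) y →
      img htr x (insert x R) z = img htr x (insert x R) y :=
    fun hz => img_eq_of_mem htr hA ha hz
  have hself : ∀ y, y ∈ img htr x (insert x R) y := mem_img_self htr hxT
  -- the complementary tetrad in the octad
  have hUc : (o \ insert x R).card = 4 := by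
    rw [Finset.card_sdiff_of_subset hTo, ho.2, hTc]
  have hU : ∀ u ∈ o \ insert x R, img htr x (insert x R) u = o \ insert x R := by
    intro u hu
    rw [Finset.mem_sdiff] at hu
    apply Finset.eq_of_subset_of_card_le
    · intro w hw
      rw [Finset.mem_sdiff]
      constructor
      · by_contra hwo
        have hEinv : ∀ e ∈ octK o, ∀ y ∈ img htr x (insert x R) u,
            e y ∈ img htr x (insert x R) u := by
          intro e he
          exact img_invariant htr hA (hE he) ((mem_octK_iff.1 he).2 u hu.1)
        have := card_ge_of_octK_invariant ho hEinv hw hwo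
        rw [card_img, hTc] at this
        omega
      · intro hwT
        have e1 := hpart hw
        rw [ha w hwT] at e1
        have := hself u
        rw [← e1] at this
        exact hu.2 this
    · rw [hUc, card_img, hTc]
  -- unions with the base tetrad
  have hoct0 : ∀ y, y ∉ insert x R → insert x R ∪ img htr x (insert x R) y ∈ octads := by
    intro y hy
    obtain ⟨u, hu⟩ := Finset.card_pos.1 (by omega : 0 < (o \ insert x R).card)
    have huT : u ∉ insert x R := (Finset.mem_sdiff.1 hu).2
    obtain ⟨k, hk, hkx, hku⟩ := htr20 u y huT hy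
    have e1 : img htr x (insert x R) y = k • (o \ insert x R) := by
      rw [← hku, ← smul_img htr hA hk, hU u hu]
    have e2 : k • insert x R = insert x R := hA k hk hkx
    have e3 : insert x R ∪ k • (o \ insert x R) = k • o := by
      calc insert x R ∪ k • (o \ insert x R)
          = k • insert x R ∪ k • (o \ insert x R) := by rw [e2]
        _ = k • o := by rw [← Finset.smul_finset_union, Finset.union_sdiff_of_subset hTo]
    rw [e1, e3]
    exact smul_mem_octads (hHM hk) ho
  have hoct : ∀ y z, img htr x (insert x R) y ≠ img htr x (insert x R) z →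
      img htr x (insert x R) y ∪ img htr x (insert x R) z ∈ octads := by
    intro y z hyz
    have hm := mover_mem htr x y
    have hmy := mover_apply htr x y
    have e1 : img htr x (insert x R) y = mover htr x y • insert x R := rfl
    have e2 : img htr x (insert x R) z =
        mover htr x y • img htr x (insert x R) ((mover htr x y)⁻¹ z) := by
      rw [smul_img htr hA hm]
      simp
    have hz' : (mover htr x y)⁻¹ z ∉ insert x R := by
      intro h
      apply hyz
      rw [e2, ha _ h]
      rfl
    have := hoct0 _ hz'
    rw [e1, e2, ← Finset.smul_finset_union]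
    exact smul_mem_octads (hHM hm) this
  -- the sextet
  refine ⟨Finset.univ.image (img htr x (insert x R)), ⟨?_, ?_, ?_⟩, ?_⟩
  · -- six tetrads
    have hdisj : ((Finset.univ.image (img htr x (insert x R)) : Finset (Finset GolayPt)) :
        Set (Finset GolayPt)).PairwiseDisjoint id := by
      intro t ht t' ht' htt'
      rw [Finset.mem_coe, Finset.mem_image] at ht ht'
      obtain ⟨y, -, rfl⟩ := ht
      obtain ⟨z, -, rfl⟩ := ht'
      show Disjoint (img htr x (insert x R) y) (img htr x (insert x R) z)
      rw [Finset.disjoint_left]
      intro w hwy hwz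
      exact htt' ((hpart hwy).symm.trans (hpart hwz))
    have hunion : (Finset.univ.image (img htr x (insert x R))).biUnion id =
        (Finset.univ : Finset GolayPt) := by
      apply Finset.eq_univ_of_forall
      intro y
      rw [Finset.mem_biUnion]
      exact ⟨_, Finset.mem_image_of_mem _ (Finset.mem_univ y), hself y⟩
    have hcard := Finset.card_biUnion hdisj
    rw [hunion, card_univ_golay] at hcard
    have hsum : ∑ u ∈ Finset.univ.image (img htr x (insert x R)), (id u).card =
        ∑ _u ∈ Finset.univ.image (img htr x (insert x R)), 4 := by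
      apply Finset.sum_congr rfl
      intro t ht
      rw [Finset.mem_image] at ht
      obtain ⟨y, -, rfl⟩ := ht
      show (img htr x (insert x R) y).card = 4
      rw [card_img, hTc]
    rw [hsum, Finset.sum_const, smul_eq_mul] at hcard
    omega
  · intro t ht
    rw [Finset.mem_image] at ht
    obtain ⟨y, -, rfl⟩ := ht
    rw [card_img, hTc]
  · intro t ht u hu htu
    rw [Finset.mem_image] at ht hu
    obtain ⟨y, -, rfl⟩ := ht
    obtain ⟨z, -, rfl⟩ := hu
    exact hoct y z htu
  · intro g hg
    apply Finset.eq_of_subset_of_card_le
    · intro t ht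
      obtain ⟨t', ht', rfl⟩ := Finset.mem_smul_finset.1 ht
      rw [Finset.mem_image] at ht'
      obtain ⟨y, -, rfl⟩ := ht'
      rw [smul_img htr hA hg]
      exact Finset.mem_image_of_mem _ (Finset.mem_univ _)
    · rw [Finset.card_smul_finset]

end Cfsg.Agent.Helper93.M24Idx
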