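import Cfsg.Agent.Helper93.M24IdxE

/-!
# Subgroups of `M24` of index 759, 276, 1771, 253 (S1589), part F: orders `322560`, `138240`,
`967680` (permutation level)
-/

set_option autoImplicit false

namespace Cfsg.Agent.Helper93.M24Idx

open Cfsg Cfsg.Agent.Helper7 Cfsg.Agent.Helper93 Cfsg.Agent.Helper93.M24Fix
  Cfsg.Agent.Helper93.M23Idx Cfsg.Agent.Helper26
open scoped Pointwise

variable {K : Subgroup (Equiv.Perm GolayPt)}

/-- order of a point stabiliser in a transitive subgroup -/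
theorem card_stab_of_trans (htr : ∀ y z : GolayPt, z ∈ orbF K y) (x : GolayPt) :
    Nat.card ↥(K ⊓ Helper27.stabP x) * 24 = Nat.card K := by
  have h1 := card_stab_mul_orbF K x
  have h2 : orbF K x = Finset.univ := Finset.eq_univ_of_forall (fun z => htr x z)
  rwa [h2, card_univ_golay] at h1

/-- an element of prime order in a subgroup -/
theorem exists_orderOf_eq (p : ℕ) [Fact p.Prime] (hp : p ∣ Nat.card K) :
    ∃ g ∈ K, orderOf g = p := by
  have hfin : Finite K := inferInstance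
  obtain ⟨g, hg⟩ := exists_prime_orderOf_dvd_card' (G := ↥K) p hp
  exact ⟨g.1, g.2, by rw [Subgroup.orderOf_coe, hg]⟩

/-- the transitive case: the point stabiliser has order at most `5760` and the group stabilises a
sextet -/
theorem trans_main (hKM : K ≤ M24) (htr : ∀ y z : GolayPt, z ∈ orbF K y) (n : ℕ)
    (hcard : Nat.card K = n * 24) (h2 : 2 ^ 7 ∣ n) (h5 : 5 ∣ n) (hn : 3840 < n)
    (h11 : ¬ 11 ∣ n) (h17 : ¬ 17 ∣ n) (h19 : ¬ 19 ∣ n) (h23 : ¬ 23 ∣ n)
    (h7 : 7 ∣ n ∨ ¬ 21 ∣ n) :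
    n ≤ 5760 ∧ ∃ S ∈ sextets, ∀ g ∈ K, g • S = S := by
  have : Fact (Nat.Prime 5) := ⟨by norm_num⟩
  have : Fact (Nat.Prime 7) := ⟨by norm_num⟩
  obtain ⟨x⟩ : Nonempty GolayPt := ⟨none⟩
  have hc0 : Nat.card ↥(K ⊓ Helper27.stabP x) = n := by
    have := card_stab_of_trans htr x
    omega
  have hK0M : K ⊓ Helper27.stabP x ≤ M24 := inf_le_left.trans hKM
  have hK0x : ∀ g ∈ K ⊓ Helper27.stabP x, g x = x := fun g hg => (Subgroup.mem_inf.1 hg).2
  obtain ⟨o, ho, hxo, hE, hcases⟩ := fix_cases hK0M hK0x (by rwa [hc0]) (by rwa [hc0])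
    (by rwa [hc0]) (by rwa [hc0]) (by rwa [hc0]) (by rwa [hc0])
  have hEK : octK o ≤ K := hE.trans inf_le_left
  obtain ⟨g5, hg5, h5o⟩ := exists_orderOf_eq (K := K ⊓ Helper27.stabP x) 5 (by rwa [hc0])
  have hg5K : g5 ∈ K := (Subgroup.mem_inf.1 hg5).1
  have hg5x : g5 x = x := (Subgroup.mem_inf.1 hg5).2
  rcases hcases with hoct | ⟨h21, s, hs, hxs, hsinv⟩ | ⟨hle, R, hRo, hRc, hRinv, htr20⟩
  · exfalso
    exact no_trans_octad hKM htr ho hxo hEK
      (fun g hg hgx => hoct g (Subgroup.mem_inf.2 ⟨hg, hgx⟩)) hg5K h5o hg5x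
  · exfalso
    rw [hc0] at h21
    rcases h7 with h7 | h7
    · obtain ⟨g7, hg7, h7o⟩ := exists_orderOf_eq (K := K) 7 (by
        rw [hcard]
        exact Dvd.dvd.mul_right h7 24)
      have hc3 : (insert x s).card = 3 := by rw [Finset.card_insert_of_notMem hxs, hs]
      refine no_trans_triple hKM htr hc3 (Finset.mem_insert_self x s) ?_ hg7 h7o hg5K h5o
      intro g hg hgx y hy
      rw [Finset.mem_insert] at hy ⊢
      rcases hy with rfl | hy
      · exact Or.inl hgx
      · exact Or.inr (hsinv g (Subgroup.mem_inf.2 ⟨hg, hgx⟩) y hy)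
    · exact h7 h21
  · refine ⟨by rwa [hc0] at hle, ?_⟩
    refine exists_invariant_sextet hKM htr ho hxo hEK hRo hRc
      (fun g hg hgx => hRinv g (Subgroup.mem_inf.2 ⟨hg, hgx⟩)) ?_ hg5K h5o hg5x
    intro y z hy hz
    obtain ⟨k, hk, hkz⟩ := (mem_orbF _).1 (htr20 y z hy hz)
    exact ⟨k, (Subgroup.mem_inf.1 hk).1, (Subgroup.mem_inf.1 hk).2, hkz⟩

/-- a subgroup stabilising an octad has order dividing `322560` -/
theorem card_dvd_of_octad (hKM : K ≤ M24) {o : Finset GolayPt} (ho : o ∈ octads)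
    (hinv : ∀ g ∈ K, ∀ y ∈ o, g y ∈ o) : Nat.card K ∣ 322560 := by
  rw [← card_octS ho]
  apply Subgroup.card_dvd_of_le
  intro g hg
  exact Subgroup.mem_inf.2 ⟨hKM hg, MulAction.mem_stabilizer_iff.2
    (smul_eq_of_invariant (hinv g hg))⟩

/-- **order `322560`**: an octad is stabilised -/
theorem octad_of_card (hKM : K ≤ M24) (hc : Nat.card K = 322560) :
    ∃ o ∈ octads, ∀ g ∈ K, ∀ y ∈ o, g y ∈ o := by
  rcases trans_or_octad hKM (by rw [hc]; norm_num) (by rw [hc]; norm_num) (by rw [hc]; norm_num)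
    (by rw [hc]; norm_num) (by rw [hc]; norm_num) with htr | ⟨o, ho, -, hinv⟩
  · exfalso
    have := (trans_main hKM htr 13440 (by rw [hc]) (by norm_num) (by norm_num) (by norm_num)
      (by norm_num) (by norm_num) (by norm_num) (by norm_num) (Or.inl (by norm_num))).1
    omega
  · exact ⟨o, ho, hinv⟩

/-- **order `967680`**: impossible -/
theorem no_card_967680 (hKM : K ≤ M24) (hc : Nat.card K = 967680) : False := by
  rcases trans_or_octad hKM (by rw [hc]; norm_num) (by rw [hc]; norm_num) (by rw [hc]; norm_num)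
    (by rw [hc]; norm_num) (by rw [hc]; norm_num) with htr | ⟨o, ho, -, hinv⟩
  · have := (trans_main hKM htr 40320 (by rw [hc]) (by norm_num) (by norm_num) (by norm_num)
      (by norm_num) (by norm_num) (by norm_num) (by norm_num) (Or.inl (by norm_num))).1
    omega
  · have := card_dvd_of_octad hKM ho hinv
    rw [hc] at this
    norm_num at this

/-- **order `138240`**: a sextet is stabilised -/
theorem sextet_of_card (hKM : K ≤ M24) (hc : Nat.card K = 138240) :
    ∃ S ∈ sextets, ∀ g ∈ K, g • S = S := by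
  rcases trans_or_octad hKM (by rw [hc]; norm_num) (by rw [hc]; norm_num) (by rw [hc]; norm_num)
    (by rw [hc]; norm_num) (by rw [hc]; norm_num) with htr | ⟨o, ho, -, hinv⟩
  · exact (trans_main hKM htr 5760 (by rw [hc]) (by norm_num) (by norm_num) (by norm_num)
      (by norm_num) (by norm_num) (by norm_num) (by norm_num) (Or.inr (by norm_num))).2
  · exfalso
    have := card_dvd_of_octad hKM ho hinv
    rw [hc] at this
    norm_num at this

end Cfsg.Agent.Helper93.M24Idx
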