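import Cfsg.Agent.Helper93.M24IdxF
import Cfsg.Agent.Helper93.M22Index

/-!
# Subgroups of `M24` of index 759, 276, 1771, 253 (S1589), part G: order `887040`
(permutation level): a duad is stabilised
-/

set_option autoImplicit false

namespace Cfsg.Agent.Helper93.M24Idx

open Cfsg Cfsg.Agent.Helper7 Cfsg.Agent.Helper93 Cfsg.Agent.Helper93.M24Fix
  Cfsg.Agent.Helper93.M23Idx Cfsg.Agent.Helper26
open scoped Pointwise

variable {K : Subgroup (Equiv.Perm GolayPt)}

theorem arith11_two {n : ℕ} (hn : n ≤ 24) (h11 : 2 ≡ n [MOD 11]) (hd : n ∣ 887040) :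
    n = 2 ∨ n = 24 := by
  unfold Nat.ModEq at *
  interval_cases n <;> omega

theorem arith11_one {n f7 : ℕ} (hn : n ≤ 24) (h11 : 1 ≡ n [MOD 11]) (h7 : f7 ≡ n [MOD 7])
    (hf : f7 ≤ 3) (hd : n ∣ 887040) : n = 1 := by
  unfold Nat.ModEq at *
  interval_cases n <;> omega

theorem arith11_one' {n f7 : ℕ} (hn : n ≤ 23) (h11 : 1 ≡ n [MOD 11]) (h7 : f7 ≡ n [MOD 7])
    (hf : f7 ≤ 2) (hd : n ∣ 36960) : n = 1 := by
  unfold Nat.ModEq at *
  interval_cases n <;> omega

theorem card_orbF_le (y : GolayPt) : (orbF K y).card ≤ 24 := by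
  rw [← card_univ_golay]
  exact Finset.card_le_card (Finset.subset_univ _)

/-- a subgroup of order `36960` fixing a point does not exist -/
theorem no_card_36960 (hKM : K ≤ M24) {a : GolayPt} (hKa : ∀ g ∈ K, g a = a)
    (hc : Nat.card K = 36960) : False := by
  have : Fact (Nat.Prime 11) := ⟨by norm_num⟩
  have : Fact (Nat.Prime 7) := ⟨by norm_num⟩
  obtain ⟨g11, hg11, h11⟩ := exists_orderOf_eq (K := K) 11 (by rw [hc]; norm_num)
  obtain ⟨g7, hg7, h7⟩ := exists_orderOf_eq (K := K) 7 (by rw [hc]; norm_num)
  have hp11 : g11 ^ 11 = 1 := by rw [← h11, pow_orderOf_eq_one]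
  have hp7 : g7 ^ 7 = 1 := by rw [← h7, pow_orderOf_eq_one]
  have hn11 : nfix g11 = 2 := nfix_order11 (hKM hg11) h11
  have hn7 : nfix g7 = 3 := by
    have := nfix_of_prime_order (hKM hg7) (by norm_num) (by norm_num) h7
    omega
  -- the second fixed point of the element of order 11
  have haF : a ∈ fixF g11 := mem_fixF.2 (hKa g11 hg11)
  have hce : ((fixF g11).erase a).card = 1 := by
    rw [Finset.card_erase_of_mem haF, card_fixF, hn11]
  obtain ⟨c, hcE⟩ := Finset.card_eq_one.1 hce
  have hcmem : c ∈ (fixF g11).erase a := by rw [hcE]; simp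
  have hca : c ≠ a := (Finset.mem_erase.1 hcmem).1
  have hcF : c ∈ fixF g11 := (Finset.mem_erase.1 hcmem).2
  -- the orbit of `c`
  have hle := Finset.card_le_card (orbF_subset hKa hca)
  rw [card_erase_x] at hle
  have hd := card_orbF_dvd K c
  rw [hc] at hd
  have h11c := modEq_orbF hg11 hp11 c
  have h7c := modEq_orbF hg7 hp7 c
  have hf7 := inter_fix_le hKa hca hg7
  rw [hn7] at hf7
  have h1 : (orbF K c ∩ fixF g11).card = 1 := by
    have hsub : orbF K c ∩ fixF g11 ⊆ {c} := by
      intro z hz
      rw [Finset.mem_inter] at hz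
      rw [Finset.mem_singleton]
      by_contra hzc
      have hza : z ≠ a := by
        rintro rfl
        exact x_notMem_orbF hKa hca hz.1
      have : z ∈ (fixF g11).erase a := Finset.mem_erase.2 ⟨hza, hz.2⟩
      rw [hcE, Finset.mem_singleton] at this
      exact hzc this
    have h2 := Finset.card_le_card hsub
    rw [Finset.card_singleton] at h2
    have h3 : 0 < (orbF K c ∩ fixF g11).card :=
      Finset.card_pos.2 ⟨c, Finset.mem_inter.2 ⟨self_mem_orbF K c, hcF⟩⟩
    omega
  rw [h1] at h11c
  have hn1 := arith11_one' hle h11c h7c (by omega) hd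
  have hKc : ∀ g ∈ K, g c = c := by
    have hO : orbF K c = {c} := eq_singleton_of_card (self_mem_orbF K c) hn1
    intro g hg
    have := orbF_invariant K c g hg c (self_mem_orbF K c)
    rwa [hO, Finset.mem_singleton] at this
  -- `K` as a subgroup of index 12 of the two-point stabiliser
  let f : ↥K →* ↥(MulAction.stabilizer (↥M24) a ⊓ MulAction.stabilizer (↥M24) c) :=
    { toFun := fun g => ⟨⟨g.1, hKM g.2⟩, Subgroup.mem_inf.2
        ⟨MulAction.mem_stabilizer_iff.2 (hKa g.1 g.2),
          MulAction.mem_stabilizer_iff.2 (hKc g.1 g.2)⟩⟩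
      map_one' := rfl
      map_mul' := fun _ _ => rfl }
  have hf : Function.Injective f := by
    intro g h hgh
    apply Subtype.ext
    have h1 := congrArg Subtype.val hgh
    have h2 := congrArg Subtype.val h1
    exact h2
  have hrc : Nat.card f.range = 36960 := by
    rw [← hc]
    exact (Nat.card_congr (MonoidHom.ofInjective hf).toEquiv).symm
  have hidx := Subgroup.card_mul_index f.range
  rw [hrc, card_stabilizer₂_m24 hca.symm] at hidx
  have hi12 : f.range.index = 12 := by omega
  have := M22Idx.index_eq_one hca.symm f.range (by rw [hi12]) (by rw [hi12]; norm_num)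
  omega

/-- **order `887040`**: a duad is stabilised -/
theorem duad_of_card (hKM : K ≤ M24) (hc : Nat.card K = 887040) :
    ∃ s : Finset GolayPt, s.card = 2 ∧ ∀ g ∈ K, ∀ y ∈ s, g y ∈ s := by
  have : Fact (Nat.Prime 11) := ⟨by norm_num⟩
  have : Fact (Nat.Prime 7) := ⟨by norm_num⟩
  obtain ⟨g11, hg11, h11⟩ := exists_orderOf_eq (K := K) 11 (by rw [hc]; norm_num)
  obtain ⟨g7, hg7, h7⟩ := exists_orderOf_eq (K := K) 7 (by rw [hc]; norm_num)
  have hp11 : g11 ^ 11 = 1 := by rw [← h11, pow_orderOf_eq_one]
  have hp7 : g7 ^ 7 = 1 := by rw [← h7, pow_orderOf_eq_one]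
  have hn11 : nfix g11 = 2 := nfix_order11 (hKM hg11) h11
  have hn7 : nfix g7 = 3 := by
    have := nfix_of_prime_order (hKM hg7) (by norm_num) (by norm_num) h7
    omega
  obtain ⟨a, b, hab, hF⟩ := Finset.card_eq_two.1 (by rw [card_fixF]; exact hn11 :
    (fixF g11).card = 2)
  have haF : a ∈ fixF g11 := by rw [hF]; simp
  have hbF : b ∈ fixF g11 := by rw [hF]; simp
  have hle := card_orbF_le (K := K) a
  have hd := card_orbF_dvd K a
  rw [hc] at hd
  have h11a := modEq_orbF hg11 hp11 a
  have h7a := modEq_orbF hg7 hp7 a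
  have hf7 : (orbF K a ∩ fixF g7).card ≤ 3 := by
    rw [← hn7, ← card_fixF]
    exact Finset.card_le_card Finset.inter_subset_right
  have hf11 : (orbF K a ∩ fixF g11).card ≤ 2 := by
    rw [← hn11, ← card_fixF]
    exact Finset.card_le_card Finset.inter_subset_right
  have hpos : 0 < (orbF K a ∩ fixF g11).card :=
    Finset.card_pos.2 ⟨a, Finset.mem_inter.2 ⟨self_mem_orbF K a, haF⟩⟩
  by_cases hbA : b ∈ orbF K a
  · -- `a` and `b` in one orbit
    have h2 : (orbF K a ∩ fixF g11).card = 2 := by
      have hsub : ({a, b} : Finset GolayPt) ⊆ orbF K a ∩ fixF g11 := by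
        intro z hz
        simp only [Finset.mem_insert, Finset.mem_singleton] at hz
        rcases hz with rfl | rfl
        · exact Finset.mem_inter.2 ⟨self_mem_orbF K _, haF⟩
        · exact Finset.mem_inter.2 ⟨hbA, hbF⟩
      have h1 := Finset.card_le_card hsub
      rw [Finset.card_pair hab] at h1
      omega
    rw [h2] at h11a
    rcases arith11_two hle h11a hd with hn | hn
    · exact ⟨orbF K a, hn, orbF_invariant K a⟩
    · -- transitive
      exfalso
      have hall : ∀ y : GolayPt, y ∈ orbF K a := by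
        have : orbF K a = Finset.univ :=
          Finset.eq_of_subset_of_card_le (Finset.subset_univ _) (by rw [hn, card_univ_golay])
        intro y
        rw [this]
        exact Finset.mem_univ _
      have htr : ∀ y z : GolayPt, z ∈ orbF K y :=
        fun y z => orbF_trans (orbF_symm K (hall y)) (hall z)
      have hc0 := card_stab_of_trans htr a
      rw [hc] at hc0
      exact no_card_36960 (K := K ⊓ Helper27.stabP a) (inf_le_left.trans hKM)
        (fun g hg => (Subgroup.mem_inf.1 hg).2) (by omega)
  · -- `a` alone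
    exfalso
    have h1 : (orbF K a ∩ fixF g11).card = 1 := by
      have hsub : orbF K a ∩ fixF g11 ⊆ {a} := by
        intro z hz
        rw [Finset.mem_inter, hF] at hz
        rw [Finset.mem_singleton]
        have := hz.2
        simp only [Finset.mem_insert, Finset.mem_singleton] at this
        rcases this with rfl | rfl
        · rfl
        · exact absurd hz.1 hbA
      have h2 := Finset.card_le_card hsub
      rw [Finset.card_singleton] at h2
      omega
    rw [h1] at h11a
    have hn1 := arith11_one hle h11a h7a hf7 hd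
    have hKa : ∀ g ∈ K, g a = a := by
      have hO : orbF K a = {a} := eq_singleton_of_card (self_mem_orbF K a) hn1
      intro g hg
      have := orbF_invariant K a g hg a (self_mem_orbF K a)
      rwa [hO, Finset.mem_singleton] at this
    have := card_dvd_fix1 hKM hKa
    rw [hc] at this
    norm_num at this

end Cfsg.Agent.Helper93.M24Idx
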