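import Cfsg.Agent.Helper93.M24IdxG
import Cfsg.Agent.Helper26.SextetStruct

/-!
# Subgroups of `M24` of index 759, 276, 1771, 253 (S1589), part H: transport to subgroups of `↥M24`
-/

set_option autoImplicit false

namespace Cfsg.Agent.Helper93.M24Idx

open Cfsg Cfsg.Agent.Helper7 Cfsg.Agent.Helper93 Cfsg.Agent.Helper93.M24Fix
  Cfsg.Agent.Helper93.M23Idx Cfsg.Agent.Helper26
open scoped Pointwise

/-- the image in `Equiv.Perm GolayPt` of a subgroup of `↥M24` -/
def permOf (H : Subgroup ↥M24) : Subgroup (Equiv.Perm GolayPt) := H.map M24.subtype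

theorem card_permOf (H : Subgroup ↥M24) : Nat.card (permOf H) = Nat.card H :=
  Subgroup.card_map_of_injective M24.subtype_injective

theorem mem_permOf {H : Subgroup ↥M24} {g : Equiv.Perm GolayPt} :
    g ∈ permOf H ↔ ∃ h ∈ H, (h : Equiv.Perm GolayPt) = g := by
  unfold permOf
  constructor
  · rintro ⟨h, hh, rfl⟩
    exact ⟨h, hh, rfl⟩
  · rintro ⟨h, hh, rfl⟩
    exact ⟨h, hh, rfl⟩

theorem permOf_le (H : Subgroup ↥M24) : permOf H ≤ M24 := by
  intro g hg
  obtain ⟨h, -, rfl⟩ := mem_permOf.1 hg
  exact h.2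

theorem card_of_index (H : Subgroup ↥M24) {i n : ℕ} (hi : H.index = i) (hn : n * i = 244823040)
    (hi0 : 0 < i) : Nat.card H = n := by
  have h1 := Subgroup.card_mul_index H
  rw [hi, card_M24, ← hn] at h1
  exact Nat.eq_of_mul_eq_mul_right hi0 h1

theorem card_stabilizer_octad {o : Finset GolayPt} (ho : o ∈ octads) :
    Nat.card (MulAction.stabilizer (↥M24) o) = 322560 := by
  have h1 := Subgroup.card_mul_index (MulAction.stabilizer (↥M24) o)
  rw [MulAction.index_stabilizer, orbit_M24_octad ho, ncard_octads, card_M24] at h1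
  omega

theorem card_stabilizer_sextet {S : Finset (Finset GolayPt)} (hS : S ∈ sextets) :
    Nat.card (MulAction.stabilizer (↥M24) S) = 138240 := by
  have h1 := Subgroup.card_mul_index (MulAction.stabilizer (↥M24) S)
  rw [MulAction.index_stabilizer, orbit_M24_sextet hS, card_sextets Helper27.octads_steiner,
    card_M24] at h1
  omega

theorem card_stabilizer_duad_le {s : Finset GolayPt} (hs : s.card = 2) :
    Nat.card (MulAction.stabilizer (↥M24) s) ≤ 887040 := by
  rw [← card_permOf]
  have hinv : ∀ g ∈ permOf (MulAction.stabilizer (↥M24) s), ∀ y ∈ s, g y ∈ s := by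
    intro g hg
    obtain ⟨h, hh, rfl⟩ := mem_permOf.1 hg
    exact invariant_of_smul_eq (MulAction.mem_stabilizer_iff.1 hh)
  obtain ⟨a, b, hab, rfl⟩ := Finset.card_eq_two.1 hs
  have := card_le_of_invariant ({a, b} : Finset GolayPt) hinv 443520 (by
    intro T hT hfix
    apply Nat.le_of_dvd (by norm_num)
    exact card_dvd_fix2 (hT.trans (permOf_le _)) hab (fun g hg => hfix g hg a (by simp))
      (fun g hg => hfix g hg b (by simp)))
  rw [hs] at this
  exact this.trans (by decide)

/-- **S1589**: subgroups of `M24` of index 759, 276, 1771; no subgroup of index 253 -/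
theorem index_main :
    (∀ H : Subgroup ↥M24, H.index = 759 → ∃ o ∈ octads, H = MulAction.stabilizer (↥M24) o) ∧
    (∀ H : Subgroup ↥M24, H.index = 276 →
      ∃ s : Finset GolayPt, s.card = 2 ∧ H = MulAction.stabilizer (↥M24) s) ∧
    (∀ H : Subgroup ↥M24, H.index = 1771 →
      ∃ S ∈ sextets, H = MulAction.stabilizer (↥M24) S) ∧
    ∀ H : Subgroup ↥M24, H.index ≠ 253 := by
  have hfinM : Finite ↥M24 := inferInstance
  refine ⟨?_, ?_, ?_, ?_⟩
  · intro H hH
    have hc : Nat.card H = 322560 := card_of_index H hH (by norm_num) (by norm_num)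
    obtain ⟨o, ho, hinv⟩ := octad_of_card (permOf_le H) (by rw [card_permOf, hc])
    refine ⟨o, ho, ?_⟩
    apply Subgroup.eq_of_le_of_card_ge
    · intro h hh
      rw [MulAction.mem_stabilizer_iff]
      exact smul_eq_of_invariant (hinv _ (mem_permOf.2 ⟨h, hh, rfl⟩))
    · rw [hc, card_stabilizer_octad ho]
  · intro H hH
    have hc : Nat.card H = 887040 := card_of_index H hH (by norm_num) (by norm_num)
    obtain ⟨s, hs, hinv⟩ := duad_of_card (permOf_le H) (by rw [card_permOf, hc])
    refine ⟨s, hs, ?_⟩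
    apply Subgroup.eq_of_le_of_card_ge
    · intro h hh
      rw [MulAction.mem_stabilizer_iff]
      exact smul_eq_of_invariant (hinv _ (mem_permOf.2 ⟨h, hh, rfl⟩))
    · rw [hc]
      exact card_stabilizer_duad_le hs
  · intro H hH
    have hc : Nat.card H = 138240 := card_of_index H hH (by norm_num) (by norm_num)
    obtain ⟨S, hS, hinv⟩ := sextet_of_card (permOf_le H) (by rw [card_permOf, hc])
    refine ⟨S, hS, ?_⟩
    apply Subgroup.eq_of_le_of_card_ge
    · intro h hh
      rw [MulAction.mem_stabilizer_iff]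
      exact hinv _ (mem_permOf.2 ⟨h, hh, rfl⟩)
    · rw [hc, card_stabilizer_sextet hS]
  · intro H hH
    have hc : Nat.card H = 967680 := card_of_index H hH (by norm_num) (by norm_num)
    exact no_card_967680 (permOf_le H) (by rw [card_permOf, hc])

end Cfsg.Agent.Helper93.M24Idx
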