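/-
Helper93: the stabiliser of a dodecad and three of its points (`M9`) is `3^2 : Q8`: the Sylow
3-subgroup is normal elementary abelian of order 9, the Sylow 2-subgroups are quaternion.
-/
import Cfsg.Agent.Helper7.Dodecad3
import Cfsg.Agent.Helper93.ElemClass

set_option autoImplicit false
set_option maxRecDepth 100000

namespace Cfsg.Agent.Helper93

open Cfsg Cfsg.Agent.Helper7
open scoped Pointwise

/-! ### Generic part: from elementary facts to the Sylow structure -/

section Generic

variable {G : Type*} [Group G]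

theorem fact72_3 : (72 : ℕ).factorization 3 = 2 := by
  have h2 : 2 ≤ (72 : ℕ).factorization 3 :=
    (Nat.Prime.pow_dvd_iff_le_factorization (by norm_num) (by norm_num)).mp (by norm_num)
  have h3 : ¬ 3 ≤ (72 : ℕ).factorization 3 := fun h =>
    absurd ((Nat.Prime.pow_dvd_iff_le_factorization (by norm_num) (by norm_num)).mpr h) (by norm_num)
  omega

theorem fact72_2 : (72 : ℕ).factorization 2 = 3 := by
  have h2 : 3 ≤ (72 : ℕ).factorization 2 :=
    (Nat.Prime.pow_dvd_iff_le_factorization (by norm_num) (by norm_num)).mp (by norm_num)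
  have h3 : ¬ 4 ≤ (72 : ℕ).factorization 2 := fun h =>
    absurd ((Nat.Prime.pow_dvd_iff_le_factorization (by norm_num) (by norm_num)).mpr h) (by norm_num)
  omega

/-- the elementary facts about a group of order 72 of shape `3^2 : Q8` -/
structure M9Facts (G : Type*) [Group G] : Prop where
  card : Nat.card G = 72
  exp3 : ∀ x : G, x ^ 9 = 1 → x ^ 3 = 1
  few : {x : G | x ^ 9 = 1}.ncard ≤ 9
  q8 : ∃ f : QuaternionGroup 2 →* G, Function.Injective f

theorem M9Facts.transport {H : Type*} [Group H] (e : G ≃* H) (h : M9Facts H) : M9Facts G where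
  card := by rw [Nat.card_congr e.toEquiv]; exact h.card
  exp3 := by
    intro x hx
    have h1 : (e x) ^ 9 = 1 := by rw [← map_pow, hx, map_one]
    have h2 := h.exp3 _ h1
    rw [← map_pow] at h2
    exact e.injective (h2.trans (map_one e).symm)
  few := by
    have hfin : {y : H | y ^ 9 = 1}.Finite := by
      have : Finite H := Nat.finite_of_card_ne_zero (by rw [h.card]; norm_num)
      exact Set.toFinite _
    refine le_trans ?_ h.few
    apply Set.ncard_le_ncard_of_injOn (fun x => e x) _ (fun a _ b _ hab => e.injective hab) hfin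
    intro x hx
    simp only [Set.mem_ofPred_eq] at hx ⊢
    rw [← map_pow, hx, map_one]
  q8 := by
    obtain ⟨f, hf⟩ := h.q8
    exact ⟨e.symm.toMonoidHom.comp f, e.symm.injective.comp hf⟩

theorem M9Facts.sylow3 (h : M9Facts G) (Q : Sylow 3 G) :
    (Q : Subgroup G).Normal ∧ Nat.card ↥Q = 9 ∧ ∀ x ∈ (Q : Subgroup G), x ^ 3 = 1 := by
  have : Finite G := Nat.finite_of_card_ne_zero (by rw [h.card]; norm_num)
  have := Fact.mk (show Nat.Prime 3 by norm_num)
  have hQ : Nat.card ↥Q = 9 := by
    have h1 := Sylow.card_eq_multiplicity Q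
    rw [h.card, fact72_3] at h1
    rw [← show (3 : ℕ) ^ 2 = 9 by norm_num, ← h1]
    rfl
  have hpow : ∀ x ∈ (Q : Subgroup G), x ^ 9 = 1 := by
    intro x hx
    have h1 := pow_card_eq_one' (x := (⟨x, hx⟩ : ↥(Q : Subgroup G)))
    have h2 : Nat.card ↥(Q : Subgroup G) = 9 := hQ
    rw [h2] at h1
    exact congrArg Subtype.val h1
  -- the Sylow subgroup is the set of all elements with `x ^ 9 = 1`
  have hfin : {x : G | x ^ 9 = 1}.Finite := Set.toFinite _
  have hset : ((Q : Subgroup G) : Set G) = {x : G | x ^ 9 = 1} := by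
    apply Set.eq_of_subset_of_ncard_le (fun x hx => hpow x hx) _ hfin
    have : ((Q : Subgroup G) : Set G).ncard = 9 := by
      rw [← hQ]
      rfl
    rw [this]
    exact h.few
  refine ⟨⟨fun n hn g => ?_⟩, hQ, fun x hx => h.exp3 x (hpow x hx)⟩
  have h1 : n ^ 9 = 1 := hpow n hn
  have h2 : (g * n * g⁻¹) ^ 9 = 1 := by rw [conj_pow, h1, mul_one, mul_inv_cancel]
  have : g * n * g⁻¹ ∈ ((Q : Subgroup G) : Set G) := by rw [hset]; exact h2
  exact this

theorem M9Facts.sylow2 (h : M9Facts G) (P : Sylow 2 G) :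
    Nonempty (↥P ≃* QuaternionGroup 2) := by
  have : Finite G := Nat.finite_of_card_ne_zero (by rw [h.card]; norm_num)
  have := Fact.mk (show Nat.Prime 2 by norm_num)
  obtain ⟨f, hf⟩ := h.q8
  have hcard : Nat.card f.range = 2 ^ (Nat.card G).factorization 2 := by
    rw [Nat.card_congr (MonoidHom.ofInjective hf).toEquiv.symm, Nat.card_eq_fintype_card,
      QuaternionGroup.card, h.card, fact72_2]
    norm_num
  let P₀ : Sylow 2 G := Sylow.ofCard f.range hcard
  have e1 : ↥P ≃* ↥P₀ := Sylow.equiv P P₀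
  have e2 : ↥P₀ ≃* QuaternionGroup 2 :=
    (MulEquiv.subgroupCongr (Sylow.coe_ofCard f.range hcard)).trans (MonoidHom.ofInjective hf).symm
  exact ⟨e1.trans e2⟩

end Generic

end Cfsg.Agent.Helper93
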