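/-
Helper93: the 72 elements of the stabiliser of the standard dodecad and the points `0, 1, 2`
(Helper7's chain), with the facts needed for the structure `3^2 : Q8`.
-/
import Cfsg.Agent.Helper93.M9Struct

set_option autoImplicit false
set_option maxRecDepth 100000

namespace Cfsg.Agent.Helper93

open Cfsg Cfsg.Agent.Helper7 MulAction
open scoped Pointwise

/-- the tables of the 72 elements -/
def m9L : List (List ℕ) := prodTables (m12Levels.drop 3)

theorem m9_sift : ∀ g ∈ fixG M12 [2, 1, 0], ∃ l ∈ m9L, IsTable l g := by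
  have h1 : baseRev m12Levels 3 ++ [] = [2, 1, 0] := by decide +kernel
  have := chain_sift (H := M12) (F := baseRev m12Levels 3 ++ [])
    (fun L hL l hl => tabled_m12Levels L (List.mem_of_mem_drop hL) l hl)
    (Cfsg.Agent.Helper7.chainOK_drop 3 m12_chainOK) (Cfsg.Agent.Helper7.bounds_drop 3 m12_bounds)
  rwa [h1] at this

theorem tabled_prodTables {H : Subgroup (Equiv.Perm GolayPt)} :
    ∀ (Ls : List Level), (∀ L ∈ Ls, ∀ l ∈ L.T, Tabled H l) → ∀ l ∈ prodTables Ls, Tabled H l
  | [], _, l, hl => by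
    rw [prodTables, List.mem_singleton] at hl
    rw [hl]; exact tabled_idT H
  | L :: Ls, hT, l, hl => by
    rw [prodTables, List.mem_flatMap] at hl
    obtain ⟨l1, hl1, hl2⟩ := hl
    obtain ⟨l2, hl2', rfl⟩ := List.mem_map.mp hl2
    exact (hT L (List.mem_cons_self ..) l1 hl1).mul
      (tabled_prodTables Ls (fun L' hL' => hT L' (List.mem_cons_of_mem _ hL')) l2 hl2')

theorem m9_fix : m9L.all (fun l => [0, 1, 2].all (fun i => Nat.beq (l.getD i 0) i)) = true := by
  decide +kernel

theorem m9_tabled_fix : ∀ l ∈ m9L, ∃ g ∈ fixG M12 [2, 1, 0], IsTable l g := by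
  intro l hl
  obtain ⟨g, hg, hlg⟩ := tabled_prodTables (m12Levels.drop 3)
    (fun L hL l hl => tabled_m12Levels L (List.mem_of_mem_drop hL) l hl) l hl
  refine ⟨g, ⟨hg, fun i hi => ?_⟩, hlg⟩
  have h1 := m9_fix
  rw [List.all_eq_true] at h1
  have h2 := h1 l hl
  rw [List.all_eq_true] at h2
  have hi' : i ∈ [0, 1, 2] := by
    simp only [List.mem_cons, List.not_mem_nil, or_false] at hi ⊢
    omega
  have h3 := Nat.eq_of_beq_eq_true (h2 i hi')
  have hi24 : i < 24 := by
    simp only [List.mem_cons, List.not_mem_nil, or_false] at hi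
    omega
  rw [hlg.apply, idx_pt hi24, h3]

theorem m9_exp : m9L.all (fun l => !eqL (powT 9 l) idT || eqL (powT 3 l) idT) = true := by
  decide +kernel

theorem m9_few : (m9L.filter (fun l => eqL (powT 9 l) idT)).length = 9 := by decide +kernel

/-! ### The quaternion subgroup -/

def qI : List ℕ := [0, 1, 2, 3, 6, 14, 12, 22, 13, 4, 11, 7, 9, 16, 5, 21, 18, 23, 8, 20, 15, 19, 10, 17]

def qJ : List ℕ := [0, 1, 2, 3, 8, 17, 18, 15, 12, 13, 19, 21, 16, 6, 23, 10, 4, 5, 9, 7, 11, 22, 20, 14]

/-- the table of an element of the quaternion group -/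
def qtab : QuaternionGroup 2 → List ℕ
  | .a i => powT i.val qI
  | .xa i => compT qJ (powT i.val qI)

theorem qtab_mul : ∀ x y : QuaternionGroup 2, compT (qtab x) (qtab y) = qtab (x * y) := by
  decide +kernel

theorem qtab_mem : ∀ x : QuaternionGroup 2, qtab x ∈ m9L := by decide +kernel

theorem qtab_inj : ∀ x y : QuaternionGroup 2, qtab x = qtab y → x = y := by decide +kernel

theorem qtab_one : qtab 1 = idT := by decide +kernel

end Cfsg.Agent.Helper93
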