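/-
Helper93: the stabiliser of a dodecad and three of its points is `3^2 : Q8`.
-/
import Cfsg.Agent.Helper93.M9Data

set_option autoImplicit false
set_option maxRecDepth 100000

namespace Cfsg.Agent.Helper93

open Cfsg Cfsg.Agent.Helper7 MulAction
open scoped Pointwise

/-- the permutation with the table of an element of the quaternion group -/
noncomputable def q8perm (x : QuaternionGroup 2) : Equiv.Perm GolayPt :=
  Classical.choose (m9_tabled_fix _ (qtab_mem x))

theorem q8perm_spec (x : QuaternionGroup 2) :
    q8perm x ∈ fixG M12 [2, 1, 0] ∧ IsTable (qtab x) (q8perm x) :=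
  Classical.choose_spec (m9_tabled_fix _ (qtab_mem x))

/-- the quaternion group inside the stabiliser -/
noncomputable def q8hom : QuaternionGroup 2 →* ↥(fixG M12 [2, 1, 0]) where
  toFun x := ⟨q8perm x, (q8perm_spec x).1⟩
  map_one' := by
    apply Subtype.ext
    refine IsTable.inj (q8perm_spec 1).2 ?_
    rw [qtab_one]
    exact isTable_one
  map_mul' x y := by
    apply Subtype.ext
    refine IsTable.inj (q8perm_spec (x * y)).2 ?_
    rw [← qtab_mul]
    exact (q8perm_spec x).2.mul (q8perm_spec y).2

theorem q8hom_injective : Function.Injective q8hom := by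
  intro x y h
  have h1 : q8perm x = q8perm y := congrArg Subtype.val h
  have h2 := (q8perm_spec x).2
  rw [h1] at h2
  exact qtab_inj x y (IsTable.unique h2 (q8perm_spec y).2)

theorem m9Facts_base : M9Facts ↥(fixG M12 [2, 1, 0]) where
  card := card_fixG_m12_3
  exp3 := by
    intro x hx
    obtain ⟨l, hl, hlx⟩ := m9_sift x.1 x.2
    have h9 : x.1 ^ 9 = 1 := by
      have := congrArg Subtype.val hx
      simpa using this
    have h1 := isTable_pow hlx 9
    rw [h9] at h1
    have h2 : eqL (powT 9 l) idT = true := by
      rw [IsTable.unique h1 isTable_one]; exact eqL_refl _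
    have h3 := m9_exp
    rw [List.all_eq_true] at h3
    have h4 := h3 l hl
    rw [h2] at h4
    simp only [Bool.not_true, Bool.false_or] at h4
    have h5 := isTable_pow hlx 3
    rw [eqL_spec h4] at h5
    apply Subtype.ext
    have : x.1 ^ 3 = 1 := h5.inj isTable_one
    simpa using this
  few := by
    classical
    let tabOf : ↥(fixG M12 [2, 1, 0]) → List ℕ :=
      fun x => (List.range 24).map (fun i => idx (x.1 (pt i)))
    have hle : {x : ↥(fixG M12 [2, 1, 0]) | x ^ 9 = 1}.ncard ≤
        ((m9L.filter (fun l => eqL (powT 9 l) idT)).toFinset : Set (List ℕ)).ncard := by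
      apply Set.ncard_le_ncard_of_injOn tabOf _ _ (Finset.finite_toSet _)
      · intro x hx
        simp only [Set.mem_ofPred_eq] at hx
        obtain ⟨l, hl, hlx⟩ := m9_sift x.1 x.2
        have h9 : x.1 ^ 9 = 1 := by
          have := congrArg Subtype.val hx
          simpa using this
        have h1 := isTable_pow hlx 9
        rw [h9] at h1
        have h2 : eqL (powT 9 l) idT = true := by
          rw [IsTable.unique h1 isTable_one]; exact eqL_refl _
        show tabOf x ∈ ((m9L.filter (fun l => eqL (powT 9 l) idT)).toFinset : Set (List ℕ))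
        rw [Finset.mem_coe, List.mem_toFinset, List.mem_filter]
        have : tabOf x = l := hlx.eq_map.symm
        rw [this]
        exact ⟨hl, h2⟩
      · intro x _ y _ hxy
        obtain ⟨l, _, hlx⟩ := m9_sift x.1 x.2
        obtain ⟨l', _, hly⟩ := m9_sift y.1 y.2
        have e1 : tabOf x = l := hlx.eq_map.symm
        have e2 : tabOf y = l' := hly.eq_map.symm
        have : l = l' := by rw [← e1, ← e2]; exact hxy
        rw [this] at hlx
        exact Subtype.ext (hlx.inj hly)
    refine hle.trans ?_
    rw [Set.ncard_coe_finset]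
    exact (List.toFinset_card_le _).trans (le_of_eq m9_few)
  q8 := ⟨q8hom, q8hom_injective⟩

/-- the elementary facts for the stabiliser of any dodecad and three of its points -/
theorem m9Facts_stab {d : Finset GolayPt} (hd : d ∈ dodecads) {p q r : GolayPt} (hp : p ∈ d)
    (hq : q ∈ d) (hr : r ∈ d) (hpq : p ≠ q) (hpr : p ≠ r) (hqr : q ≠ r) :
    M9Facts ↥(stabilizer M24 d ⊓ stabilizer M24 p ⊓ stabilizer M24 q ⊓ stabilizer M24 r) := by
  obtain ⟨s, rfl, rfl, rfl, rfl⟩ := exists_std3 hd hp hq hr hpq hpr hqr
  have heq : stabilizer M24 (s • d0F) ⊓ stabilizer M24 (s • pt 0) ⊓ stabilizer M24 (s • pt 1) ⊓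
      stabilizer M24 (s • pt 2) = stabilizer M24 (s • (((d0F, pt 0), pt 1), pt 2)) := by
    rw [← stabilizer_prod_eq, ← stabilizer_prod_eq, ← stabilizer_prod_eq]
    rfl
  exact M9Facts.transport ((MulEquiv.subgroupCongr heq).trans
    ((stabilizerEquivStabilizer (G := M24) (g := s) rfl).symm.trans stab3Equiv)) m9Facts_base

end Cfsg.Agent.Helper93
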