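import Mathlib
import Cfsg.Prelude.Def_Transfer

/-!
# (BURN) of helper78's #9400 (S4931): Burnside's transfer theorem inside a subgroup `R`
-/

set_option autoImplicit false
set_option linter.unusedSectionVars false
set_option linter.unusedVariables false

namespace Cfsg.Agent.Helper93.NC

open Cfsg

universe u

variable {G : Type u} [Group G] [Fintype G]

/-- (BURN) Burnside's transfer theorem inside the normal subgroup `R`. -/
theorem hasNormalPComplement_of_abelian_selfNormalizing (p : ℕ) [Fact p.Prime] (R : Subgroup G)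
    (P : Sylow p G) (hPR : (P : Subgroup G) ≤ R)
    (hab : ∀ a ∈ (P : Subgroup G), ∀ b ∈ (P : Subgroup G), a * b = b * a)
    (hself : ∀ r ∈ R, r ∈ Subgroup.normalizer ((P : Subgroup G) : Set G) → r ∈ (P : Subgroup G)) :
    HasNormalPComplement p ↥R := by
  set PR : Sylow p ↥R := P.subtype hPR with hPRdef
  have hmem : ∀ x : ↥R, x ∈ PR ↔ (x : G) ∈ (P : Subgroup G) := by
    intro x
    rfl
  have hP : Subgroup.normalizer ((PR : Subgroup ↥R) : Set ↥R) ≤ Subgroup.centralizer (PR : Set ↥R) := by
    intro r hr
    have h1 : (r : G) ∈ Subgroup.normalizer ((P : Subgroup G) : Set G) := by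
      rw [Subgroup.mem_normalizer_iff] at hr ⊢
      intro g
      constructor
      · intro hg
        exact (hmem _).1 ((hr ⟨g, hPR hg⟩).1 ((hmem _).2 hg))
      · intro hg
        have hgR : g ∈ R := by
          have : (r : G)⁻¹ * ((r : G) * g * (r : G)⁻¹) * (r : G) ∈ R :=
            R.mul_mem (R.mul_mem (R.inv_mem r.2) (hPR hg)) r.2
          simpa [mul_assoc] using this
        exact (hmem _).1 ((hr ⟨g, hgR⟩).2 ((hmem _).2 hg))
    have h2 : (r : G) ∈ (P : Subgroup G) := hself r r.2 h1
    rw [Subgroup.mem_centralizer_iff]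
    intro x hx
    apply Subtype.ext
    exact hab x.1 ((hmem x).1 hx) r.1 h2
  exact ⟨PR, (MonoidHom.transferSylow PR hP).ker, inferInstance,
    MonoidHom.ker_transferSylow_isComplement' PR hP⟩

end Cfsg.Agent.Helper93.NC
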