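import Mathlib
import Cfsg.Prelude.Def_Perm
import Cfsg.Agent.S0675

set_option autoImplicit false

/-! (B2) of helper61's #8146 (S3611): Burnside's theorem on the groups of prime degree (S0675) for
an abstract group with a faithful transitive action. -/

namespace Cfsg.Agent.Helper93.Neu

open MulAction

/-- (B2) abstract form of S0675 -/
theorem exists_smul_pair {G : Type*} [Group G] {Ω : Type*} [Fintype Ω] [DecidableEq Ω]
    [MulAction G Ω] [FaithfulSMul G Ω] [IsPretransitive G Ω] (hΩ : (Fintype.card Ω).Prime)
    (hG : ¬ Group.IsSolvable G) {a b c d : Ω} (hab : a ≠ b) (hcd : c ≠ d) :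
    ∃ g : G, g • a = c ∧ g • b = d := by
  classical
  -- the image of `G` in the symmetric group
  set G' : Subgroup (Equiv.Perm Ω) := (MulAction.toPermHom G Ω).range with hG'
  have : MulAction.IsPretransitive G' Ω := by
    constructor
    intro x y
    obtain ⟨g, hg⟩ := MulAction.exists_smul_eq G x y
    refine ⟨⟨MulAction.toPermHom G Ω g, ⟨g, rfl⟩⟩, ?_⟩
    exact hg
  have hinj : Function.Injective (MulAction.toPermHom G Ω) := MulAction.toPerm_injective
  have hns : ¬ Group.IsSolvable G' := by
    intro hs
    apply hG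
    exact Group.isSolvable_of_isSolvable_injective (f := (MulAction.toPermHom G Ω).rangeRestrict)
      ((MulAction.toPermHom G Ω).rangeRestrict_injective_iff.2 hinj)
  rcases Cfsg.Agent.S0675.result hΩ G' with hs | h2
  · exact absurd hs hns
  · rw [MulAction.is_two_pretransitive_iff] at h2
    obtain ⟨⟨g', g, rfl⟩, h1, h2'⟩ := h2 hab hcd
    exact ⟨g, h1, h2'⟩

end Cfsg.Agent.Helper93.Neu
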