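import Mathlib
import Cfsg.Prelude.Def_Perm
import Cfsg.Agent.Helper61.NeuDefs

set_option autoImplicit false

/-! (INV) of helper61's #8146 (S3611): the dimension of the space of the functions which are
constant on the orbits of a subgroup is the number of the orbits. -/

namespace Cfsg.Agent.Helper93.Neu

open MulAction Cfsg.Agent.Helper61.Neu

/-- the functions on the orbit space, as the invariant functions -/
noncomputable def invSubEquiv (K : Type*) [Field K] {G : Type*} [Group G] {Ω : Type*}
    [MulAction G Ω] (X : Subgroup G) :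
    (orbitRel.Quotient (↥X) Ω → K) ≃ₗ[K] ↥(invSub K (Ω := Ω) X) where
  toFun φ := ⟨fun ω => φ (Quotient.mk'' ω), by
    intro x hx ω
    show φ (Quotient.mk'' (x • ω)) = φ (Quotient.mk'' ω)
    congr 1
    apply Quotient.sound'
    show x • ω ∈ MulAction.orbit (↥X) ω
    exact ⟨⟨x, hx⟩, rfl⟩⟩
  map_add' := by
    intro φ ψ
    rfl
  map_smul' := by
    intro c φ
    rfl
  invFun f := fun q => Quotient.liftOn' q (f : Ω → K) (by
    intro a b hab
    obtain ⟨x, hx⟩ := hab
    rw [← hx]
    exact f.2 x.1 x.2 b)
  left_inv := by
    intro φ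
    funext q
    induction q using Quotient.inductionOn' with
    | h ω => rfl
  right_inv := by
    intro f
    apply Subtype.ext
    funext ω
    rfl

/-- (INV) -/
theorem finrank_invSub (K : Type*) [Field K] {G : Type*} [Group G] {Ω : Type*} [Fintype Ω]
    [MulAction G Ω] (X : Subgroup G) :
    Module.finrank K (invSub K (Ω := Ω) X) = Nat.card (orbitRel.Quotient (↥X) Ω) := by
  classical
  have : Fintype (orbitRel.Quotient (↥X) Ω) := Fintype.ofFinite _
  rw [← LinearEquiv.finrank_eq (invSubEquiv K X), Module.finrank_fintype_fun_eq_card,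
    Nat.card_eq_fintype_card]

end Cfsg.Agent.Helper93.Neu
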