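/-
Helper93: pairs of octads: the stabiliser of the octad `o₀` (entry 500 of the array) has orbits
of sizes 448, 280, 30, 1 on octads, according to the intersection size 2, 4, 0, 8.
-/
import Cfsg.Agent.Helper93.GrpOct
import Cfsg.Agent.Helper93.Classes
import Cfsg.Agent.Helper93.StabInf

set_option autoImplicit false
set_option maxRecDepth 100000

namespace Cfsg.Agent.Helper93

open Cfsg Cfsg.Agent.Helper7
open scoped Pointwise

/-- the base octad -/
def oct0 : Finset GolayPt := encSet.dec (octArr.a 500)

theorem card_stabPerm_oct0 : Nat.card (stabPerm oct0) = 322560 := by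
  have h := card_stabPerm_mul oct0
  rw [oct0, oct_orbit (by decide), oct_ncard] at h
  rw [oct0]
  omega

theorem card_inter_sm (a b : ℕ) : (sm a ∩ sm b).card = wt (a &&& b) := by
  rw [← sm_land, card_sm]

/-- the label of an octad determines its intersection size with the base octad -/
theorem koOct_inter : allB 759 (fun i =>
    Nat.beq (wt (octArr.a 500 &&& octArr.a i)) ([2, 4, 0, 8].getD (getW 8 koOctOID i) 99)) = true := by
  decide +kernel

theorem inter_oct0 {i : ℕ} (hi : i < 759) :
    (oct0 ∩ encSet.dec (octArr.a i)).card = [2, 4, 0, 8].getD (getW 8 koOctOID i) 99 := by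
  have := allB_spec koOct_inter i hi
  rw [← Nat.eq_of_beq_eq_true this]
  exact card_inter_sm _ _

theorem orbit_oct0 {i : ℕ} (hi : i < 759) :
    MulAction.orbit (↥(stabPerm oct0)) (encSet.dec (octArr.a i)) =
      {y | ∃ i' < 759, getW 8 koOctOID i' = getW 8 koOctOID i ∧ y = encSet.dec (octArr.a i')} := by
  rw [oct0, ← ko_closure]
  exact koOct_orbit hi

/-- orders of the stabilisers of two octads, one of them the base octad -/
theorem card_stab_oct0 {i : ℕ} (hi : i < 759) :
    ((oct0 ∩ encSet.dec (octArr.a i)).card = 0 →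
      Nat.card ↥(MulAction.stabilizer (↥M24) oct0 ⊓
        MulAction.stabilizer (↥M24) (encSet.dec (octArr.a i))) = 10752) ∧
    ((oct0 ∩ encSet.dec (octArr.a i)).card = 4 →
      Nat.card ↥(MulAction.stabilizer (↥M24) oct0 ⊓
        MulAction.stabilizer (↥M24) (encSet.dec (octArr.a i))) = 1152) ∧
    ((oct0 ∩ encSet.dec (octArr.a i)).card = 2 →
      Nat.card ↥(MulAction.stabilizer (↥M24) oct0 ⊓
        MulAction.stabilizer (↥M24) (encSet.dec (octArr.a i))) = 720) := by
  have h1 := card_stab_inf_mul oct0 (encSet.dec (octArr.a i))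
  rw [orbit_oct0 hi, card_stabPerm_oct0] at h1
  have h2 := inter_oct0 hi
  have h3 := labels_lt' koOct_labels i hi
  rw [h2]
  have hcases : getW 8 koOctOID i = 0 ∨ getW 8 koOctOID i = 1 ∨ getW 8 koOctOID i = 2 ∨
      getW 8 koOctOID i = 3 := by omega
  rcases hcases with h | h | h | h <;> rw [h] at h1 ⊢
  · rw [koOct_ncard0] at h1
    refine ⟨fun h0 => absurd h0 (by decide), fun h0 => absurd h0 (by decide), fun _ => by omega⟩
  · rw [koOct_ncard1] at h1
    refine ⟨fun h0 => absurd h0 (by decide), fun _ => by omega, fun h0 => absurd h0 (by decide)⟩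
  · rw [koOct_ncard2] at h1
    refine ⟨fun _ => by omega, fun h0 => absurd h0 (by decide), fun h0 => absurd h0 (by decide)⟩
  · refine ⟨fun h0 => absurd h0 (by decide), fun h0 => absurd h0 (by decide),
      fun h0 => absurd h0 (by decide)⟩

end Cfsg.Agent.Helper93
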