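/-
Helper93: the stabiliser in `M24` of two octads meeting in two points is the symmetric group of
degree 6 (acting faithfully on the six points of the first octad outside the second).
-/
import Cfsg.Agent.Helper93.OctPairs

set_option autoImplicit false
set_option maxRecDepth 100000

namespace Cfsg.Agent.Helper93

open Cfsg Cfsg.Agent.Helper7
open scoped Pointwise

theorem oct0_eq : oct0 = sm 7622914 := by
  have : octArr.a 500 = 7622914 := by decide +kernel
  rw [oct0, this]
  rfl

/-- the second base octad (meets `oct0` in two points) -/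
def oct1 : Finset GolayPt := encSet.dec (octArr.a 0)

theorem oct1_eq : oct1 = sm 5279 := by
  have : octArr.a 0 = 5279 := by decide +kernel
  rw [oct1, this]
  rfl

def s6Sig : List ℕ := [0, 12, 10, 4, 7, 5, 19, 3, 14, 11, 2, 17, 1, 23, 21, 16, 6, 9, 8, 13, 22, 20, 18, 15]
def s6SigI : List ℕ := [0, 12, 10, 7, 3, 5, 16, 4, 18, 17, 2, 9, 1, 19, 8, 23, 15, 11, 22, 6, 21, 14, 20, 13]
def s6Tau : List ℕ := [10, 12, 7, 4, 3, 19, 6, 2, 14, 9, 0, 11, 1, 13, 8, 17, 23, 15, 18, 5, 20, 21, 22, 16]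

theorem s6Sig_valid : ValidTables s6Sig s6SigI := by decide
theorem s6Tau_valid : ValidTables s6Tau s6Tau := by decide

/-- an element inducing a 6-cycle -/
def gSig : Equiv.Perm GolayPt := tablePerm s6Sig s6SigI s6Sig_valid
/-- an element inducing a transposition -/
def gTau : Equiv.Perm GolayPt := tablePerm s6Tau s6Tau s6Tau_valid

theorem gSig_mem : gSig ∈ M24 := tablePerm_mem_M24 _ _ _ (by decide +kernel)
theorem gTau_mem : gTau ∈ M24 := tablePerm_mem_M24 _ _ _ (by decide +kernel)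

theorem smul_sm_of_pull {l l' : List ℕ} (hv : ValidTables l l') {m : ℕ} (h : pullMask l m = m) :
    tablePerm l l' hv • sm m = sm m := by
  have := inv_smul_sm (isTable_tablePerm l l' hv) m
  rw [h, inv_smul_eq_iff] at this
  exact this.symm

theorem gSig_fix0 : gSig • oct0 = oct0 := by
  rw [oct0_eq]; exact smul_sm_of_pull _ (by decide +kernel)
theorem gSig_fix1 : gSig • oct1 = oct1 := by
  rw [oct1_eq]; exact smul_sm_of_pull _ (by decide +kernel)
theorem gTau_fix0 : gTau • oct0 = oct0 := by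
  rw [oct0_eq]; exact smul_sm_of_pull _ (by decide +kernel)
theorem gTau_fix1 : gTau • oct1 = oct1 := by
  rw [oct1_eq]; exact smul_sm_of_pull _ (by decide +kernel)

/-- the six points of `oct0` outside `oct1`, in the order of the 6-cycle -/
def s6pts : Fin 6 → GolayPt := ![pt 8, pt 14, pt 21, pt 20, pt 22, pt 18]

theorem mem_F_iff (p : GolayPt) :
    p ∈ oct0 \ oct1 ↔ (7622914 : ℕ).testBit (idx p) = true ∧ (5279 : ℕ).testBit (idx p) = false := by
  rw [Finset.mem_sdiff, oct0_eq, oct1_eq, mem_sm, mem_sm]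
  simp

theorem s6pts_mem (i : Fin 6) : s6pts i ∈ oct0 \ oct1 := by
  rw [mem_F_iff]
  revert i
  decide

theorem s6pts_inj : Function.Injective s6pts := by decide

theorem s6pts_surj (p : GolayPt) (hp : p ∈ oct0 \ oct1) : ∃ i, s6pts i = p := by
  rw [mem_F_iff] at hp
  revert p
  decide

/-- the six points, as an equivalence -/
noncomputable def s6e : Fin 6 ≃ ↥(oct0 \ oct1) :=
  Equiv.ofBijective (fun i => ⟨s6pts i, s6pts_mem i⟩)
    ⟨fun i j h => s6pts_inj (congrArg Subtype.val h),
      fun p => by obtain ⟨i, hi⟩ := s6pts_surj p.1 p.2; exact ⟨i, Subtype.ext hi⟩⟩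

/-- the group `G₀` -/
abbrev G0 : Subgroup ↥M24 :=
  MulAction.stabilizer (↥M24) oct0 ⊓ MulAction.stabilizer (↥M24) oct1

theorem G0_pres (g : ↥G0) (p : GolayPt) : (g.1.1 p ∈ oct0 \ oct1) ↔ p ∈ oct0 \ oct1 := by
  have h0 : g.1.1 • oct0 = oct0 := by
    have := (Subgroup.mem_inf.mp g.2).1
    rw [MulAction.mem_stabilizer_iff] at this; exact this
  have h1 : g.1.1 • oct1 = oct1 := by
    have := (Subgroup.mem_inf.mp g.2).2
    rw [MulAction.mem_stabilizer_iff] at this; exact this
  have key : ∀ s : Finset GolayPt, g.1.1 • s = s → (g.1.1 p ∈ s ↔ p ∈ s) := by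
    intro s hs
    have : g.1.1 p = g.1.1 • p := rfl
    rw [this]
    conv_lhs => rw [← hs]
    exact Finset.smul_mem_smul_finset_iff _
  rw [Finset.mem_sdiff, Finset.mem_sdiff, key _ h0, key _ h1]

/-- the action of `G₀` on the six points -/
noncomputable def s6phi : ↥G0 →* Equiv.Perm ↥(oct0 \ oct1) where
  toFun g := (g.1.1).subtypePerm (G0_pres g)
  map_one' := by ext; rfl
  map_mul' := by intros; ext; rfl

/-- the action of `G₀` on `Fin 6` -/
noncomputable def s6psi : ↥G0 →* Equiv.Perm (Fin 6) :=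
  (s6e.symm.permCongrHom.toMonoidHom).comp s6phi

theorem s6psi_apply (g : ↥G0) (i j : Fin 6) (h : g.1.1 (s6pts i) = s6pts j) : s6psi g i = j := by
  show s6e.symm ((g.1.1).subtypePerm (G0_pres g) (s6e.symm.symm i)) = j
  rw [Equiv.symm_apply_eq]
  apply Subtype.ext
  exact h

/-- the two elements, in `G₀` -/
def gSig' : ↥G0 := ⟨⟨gSig, gSig_mem⟩, Subgroup.mem_inf.mpr
  ⟨MulAction.mem_stabilizer_iff.mpr gSig_fix0, MulAction.mem_stabilizer_iff.mpr gSig_fix1⟩⟩
def gTau' : ↥G0 := ⟨⟨gTau, gTau_mem⟩, Subgroup.mem_inf.mpr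
  ⟨MulAction.mem_stabilizer_iff.mpr gTau_fix0, MulAction.mem_stabilizer_iff.mpr gTau_fix1⟩⟩

theorem gSig_pts : ∀ i : Fin 6, gSig (s6pts i) = s6pts (finRotate 6 i) := by
  unfold gSig
  simp only [tablePerm_apply]
  decide

theorem gTau_pts : ∀ i : Fin 6, gTau (s6pts i) = s6pts (Equiv.swap 0 1 i) := by
  unfold gTau
  simp only [tablePerm_apply]
  decide

theorem s6psi_sig : s6psi gSig' = finRotate 6 := by
  ext i
  rw [s6psi_apply gSig' i _ (gSig_pts i)]

theorem s6psi_tau : s6psi gTau' = Equiv.swap 0 (finRotate 6 0) := by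
  have : (finRotate 6 0 : Fin 6) = 1 := by decide
  rw [this]
  ext i
  rw [s6psi_apply gTau' i _ (gTau_pts i)]

theorem s6psi_surjective : Function.Surjective s6psi := by
  rw [← MonoidHom.range_eq_top, eq_top_iff,
    ← Equiv.Perm.closure_cycle_adjacent_swap (σ := finRotate 6) (isCycle_finRotate_of_le (by norm_num))
      (support_finRotate_of_le (by norm_num)) 0, Subgroup.closure_le]
  rintro s (rfl | rfl)
  · exact ⟨gSig', s6psi_sig⟩
  · exact ⟨gTau', s6psi_tau⟩

theorem card_G0 : Nat.card ↥G0 = 720 := by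
  have h := (card_stab_oct0 (i := 0) (by decide)).2.2
  apply h
  have h1 := inter_oct0 (i := 0) (by decide)
  rw [h1]
  decide +kernel

theorem s6psi_bijective : Function.Bijective s6psi := by
  have : Finite ↥G0 := Subtype.finite
  apply s6psi_surjective.bijective_of_nat_card_le
  rw [card_G0, Nat.card_eq_fintype_card, Fintype.card_perm, Fintype.card_fin]
  decide

/-- the base case -/
noncomputable def s6iso : ↥G0 ≃* Equiv.Perm (Fin 6) := MulEquiv.ofBijective s6psi s6psi_bijective

end Cfsg.Agent.Helper93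

namespace Cfsg.Agent.Helper93

open Cfsg Cfsg.Agent.Helper7
open scoped Pointwise

/-- the general case -/
theorem s6_main (o o' : Finset GolayPt) (ho : o ∈ octads) (ho' : o' ∈ octads)
    (h₂ : (o ∩ o').card = 2) :
    Nonempty (↥(MulAction.stabilizer (↥M24) o ⊓ MulAction.stabilizer (↥M24) o') ≃*
      Equiv.Perm (Fin 6)) := by
  obtain ⟨i, hi, rfl⟩ : ∃ i < 759, o = encSet.dec (octArr.a i) := by
    rw [octads_eq] at ho; exact ho
  obtain ⟨h, hh, hho⟩ := oct_exists_smul (i := 500) (i' := i) (by decide) hi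
  have ho'' : h⁻¹ • o' ∈ octads := smul_mem_octads (M24.inv_mem hh) ho'
  obtain ⟨j, hj, hj'⟩ : ∃ j < 759, h⁻¹ • o' = encSet.dec (octArr.a j) := by
    rw [octads_eq] at ho''; exact ho''
  have ho'eq : o' = h • encSet.dec (octArr.a j) := by rw [← hj', smul_inv_smul]
  -- the label of `j` is `0`
  have hcard : (oct0 ∩ encSet.dec (octArr.a j)).card = 2 := by
    rw [← h₂, ← hho, ho'eq, ← Finset.smul_finset_inter, Finset.card_smul_finset]
    rfl
  have hlab : getW 8 koOctOID j = getW 8 koOctOID 0 := by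
    have h1 := inter_oct0 hj
    rw [hcard] at h1
    have h3 := labels_lt' koOct_labels j hj
    have h00 : getW 8 koOctOID 0 = 0 := by decide +kernel
    rw [h00]
    have hcases : getW 8 koOctOID j = 0 ∨ getW 8 koOctOID j = 1 ∨ getW 8 koOctOID j = 2 ∨
        getW 8 koOctOID j = 3 := by omega
    rcases hcases with hl | hl | hl | hl
    · exact hl
    · rw [hl] at h1; exact absurd h1 (by decide)
    · rw [hl] at h1; exact absurd h1 (by decide)
    · rw [hl] at h1; exact absurd h1 (by decide)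
  have hmem : encSet.dec (octArr.a j) ∈ MulAction.orbit (↥(stabPerm oct0)) oct1 := by
    rw [oct1, orbit_oct0 (by decide)]
    exact ⟨j, hj, hlab, rfl⟩
  obtain ⟨k, hk⟩ := hmem
  have hk1 : k.1 ∈ M24 := (mem_stabPerm.mp k.2).1
  have hk2 : k.1 • oct0 = oct0 := (mem_stabPerm.mp k.2).2
  have hk3 : k.1 • oct1 = encSet.dec (octArr.a j) := hk
  have hg : h * k.1 ∈ M24 := M24.mul_mem hh hk1
  have e1 : (⟨h * k.1, hg⟩ : ↥M24) • oct0 = encSet.dec (octArr.a i) := by
    show (h * k.1) • oct0 = _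
    rw [mul_smul, hk2]; exact hho
  have e2 : (⟨h * k.1, hg⟩ : ↥M24) • oct1 = o' := by
    show (h * k.1) • oct1 = _
    rw [mul_smul, hk3, ho'eq]
  have e := stabInfEquiv ⟨h * k.1, hg⟩ oct0 oct1
  rw [e1, e2] at e
  exact ⟨e.symm.trans s6iso⟩

end Cfsg.Agent.Helper93
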