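import Mathlib
import Cfsg.Prelude.Def_Classical
import Cfsg.Agent.Helper99.PGDefs
import Cfsg.Agent.S2469
import Cfsg.Agent.S2472

/-!
# Piece (G3) of helper99's skeleton for S2474: odd orders lift from `PSp` to `Sp` and back
-/

set_option autoImplicit false

universe u

namespace Cfsg.Agent.Helper93.PG

open Module Matrix Cfsg.Agent.Helper99.PG

variable {F : Type u} [Field F] [Fintype F]

/-- (G3) odd orders lift from `PSp` to `Sp` and back (centre of order `≤ 2`) -/
theorem psp_odd_iff (n : ℕ) (hn : 1 ≤ n) (N : ℕ) (hN : Odd N) :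
    N ∈ Set.range (orderOf : Cfsg.PSp n F → ℕ) ↔ ∃ X : SpG n F, orderOf X = N := by
  constructor
  · rintro ⟨y, hy⟩
    by_cases h1 : N = 1
    · exact ⟨1, by rw [orderOf_one, h1]⟩
    · have hpos : 0 < N := hN.pos
      exact Cfsg.Agent.S2469.exists_lift_orderOf y N (by omega) hy
        (Cfsg.Agent.S2469.coprime_card_center_of_odd n hn N hN)
  · rintro ⟨X, hX⟩
    refine ⟨QuotientGroup.mk X, ?_⟩
    rw [Cfsg.Agent.S2472.orderOf_mk_of_coprime_center X (by
      rw [hX]
      exact Cfsg.Agent.S2469.coprime_card_center_of_odd n hn N hN), hX]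

end Cfsg.Agent.Helper93.PG
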