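import Mathlib
import Cfsg.Prelude.Def_Classical
import Cfsg.Agent.Helper99.PGDefs
import Cfsg.Agent.Helper5.SpCard

/-!
# Piece (S5) of helper99's skeleton for S2474: Lagrange in `Sp_{2n}(q)`
-/

set_option autoImplicit false

universe u

namespace Cfsg.Agent.Helper93.PG

open Module Matrix Cfsg.Agent.Helper99.PG

variable {F : Type u} [Field F] [Fintype F]

/-- (S5) Lagrange with `Cfsg.Agent.Helper5.card_sp` -/
theorem exists_dvd_of_orderOf_sp (n : ℕ) (s : ℕ) (hs : s.Prime) (hsq : ¬ s ∣ Fintype.card F)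
    (X : SpG n F) (hX : orderOf X = s) :
    ∃ i : ℕ, 1 ≤ i ∧ i ≤ n ∧ s ∣ Fintype.card F ^ (2 * i) - 1 := by
  have h1 : s ∣ Nat.card (SpG n F) := by
    rw [← hX]
    exact orderOf_dvd_natCard X
  rw [Cfsg.Agent.Helper5.card_sp] at h1
  rcases (Nat.Prime.dvd_mul hs).mp h1 with h | h
  · exact absurd (hs.dvd_of_dvd_pow h) hsq
  · obtain ⟨i, hi, hdvd⟩ := (Prime.dvd_finsetProd_iff (Nat.prime_iff.mp hs) _).mp h
    exact ⟨i + 1, by omega, by have := Finset.mem_range.mp hi; omega, hdvd⟩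

end Cfsg.Agent.Helper93.PG
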