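import Mathlib
import Cfsg.Agent.Helper54.PLength
import Cfsg.Agent.Helper63.PSeriesTools

/-!
helper93: leaf (FIN) of helper3's PL1 farm (#14896, S4711): a normal subgroup `T` containing a Sylow `p`-subgroup,
all of whose `p`-regular elements lie in a normal `p'`-subgroup `K`, forces `p`-length at most one.
-/

set_option autoImplicit false
set_option linter.unusedSectionVars false
set_option linter.unusedVariables false

namespace Cfsg.Agent.Helper93.PL1

open Cfsg

universe u

variable {p : ℕ} [Fact p.Prime] {G : Type u} [Group G]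

/-- (FIN) the group theory -/
theorem FIN [Finite G] (P : Sylow p G) (T K : Subgroup G) [T.Normal] [K.Normal]
    (hPT : (P : Subgroup G) ≤ T) (hK : ¬ p ∣ Nat.card K)
    (h : ∀ x ∈ T, ¬ p ∣ orderOf x → x ∈ K) : PLengthLE p 1 G := by
  have hp : p.Prime := Fact.out
  -- `K ≤ U₁`
  have hK1 : K ≤ (upperPSeries p G 1).1 := by
    apply Cfsg.Agent.Helper63.le_upperPSeries_succ_of_pow_mem 0 K
    intro t ht
    refine ⟨Nat.card K, ⟨fun _ => ?_, fun hne => absurd (by decide) hne⟩, ?_⟩
    · exact ((Nat.Prime.coprime_iff_not_dvd hp).2 hK).symm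
    · have h1 : t ^ Nat.card K = 1 := by
        have h0 := pow_card_eq_one' (G := K) (x := ⟨t, ht⟩)
        have h0' := congrArg Subtype.val h0
        rw [SubmonoidClass.coe_pow, OneMemClass.coe_one] at h0'
        exact h0'
      rw [h1]
      exact Subgroup.one_mem _
  -- `T ≤ U₂`
  have hT2 : T ≤ (upperPSeries p G 2).1 := by
    apply Cfsg.Agent.Helper63.le_upperPSeries_succ_of_pow_mem 1 T
    intro t ht
    set o := orderOf t with ho
    have ho0 : o ≠ 0 := (orderOf_pos t).ne'
    refine ⟨p ^ o.factorization p, ⟨fun he => absurd he (by decide), fun _ => ⟨_, rfl⟩⟩, ?_⟩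
    apply hK1
    apply h _ (T.pow_mem ht _)
    rw [orderOf_pow' t (pow_ne_zero _ hp.ne_zero), ← ho,
      Nat.gcd_eq_right (Nat.ordProj_dvd o p)]
    exact Nat.not_dvd_ordCompl hp ho0
  unfold PLengthLE
  rw [eq_top_iff]
  show (⊤ : Subgroup G) ≤ (upperPSeries p G (2 + 1)).1
  apply Cfsg.Agent.Helper63.le_upperPSeries_succ_of_pow_mem 2 ⊤
  intro t _
  have hind : ¬ p ∣ T.index := fun hd =>
    P.not_dvd_index (hd.trans (Subgroup.index_dvd_of_le hPT))
  refine ⟨T.index, ⟨fun _ => ?_, fun hne => absurd (by decide) hne⟩, ?_⟩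
  · exact ((Nat.Prime.coprime_iff_not_dvd hp).2 hind).symm
  · exact hT2 (Subgroup.pow_index_mem T t)

end Cfsg.Agent.Helper93.PL1
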