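import Mathlib
import Cfsg.Agent.Helper79.PrincipalQuot

/-!
helper93: leaf (SUMP) of helper3's PL1 farm (#14896, S4711): a function whose restriction to the normalizer of `P`
is an irreducible character is trivial on `P` or sums to zero over `P`.
-/

set_option autoImplicit false
set_option linter.unusedSectionVars false
set_option linter.unusedVariables false
set_option linter.style.haveILetI false

namespace Cfsg.Agent.Helper93.PL1

open Cfsg

universe u

variable {G : Type u} [Group G]

/-- (SUMP) -/
theorem SUMP [Finite G] (P : Subgroup G) (χ : G → ℂ)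
    (h : IsIrrCharacter ↥(Subgroup.normalizer (P : Set G))
      (fun n : ↥(Subgroup.normalizer (P : Set G)) => χ n)) :
    (∀ u ∈ P, χ u = χ 1) ∨ ∑ᶠ u ∈ (P : Set G), χ u = 0 := by
  classical
  set N : Subgroup G := Subgroup.normalizer (P : Set G) with hN
  have hPN : P ≤ N := Subgroup.le_normalizer
  haveI : (P.subgroupOf N).Normal := Subgroup.normal_in_normalizer
  haveI : Fintype ↥(P.subgroupOf N) := Fintype.ofFinite _
  haveI : Fintype ↥P := Fintype.ofFinite _
  haveI : Fintype ↥N := Fintype.ofFinite _
  rcases Cfsg.Agent.Helper79.irr_eq_one_or_sum_eq_zero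
    (⟨fun n : ↥N => χ n, h⟩ : IrrCharacter ↥N) (P.subgroupOf N) with h1 | h1
  · left
    intro u hu
    have := h1 ⟨u, hPN hu⟩ (Subgroup.mem_subgroupOf.mpr hu)
    exact this
  · right
    have e : ∑ k : ↥(P.subgroupOf N), χ ((k : ↥N) : G) = ∑ u : ↥P, χ (u : G) := by
      apply Fintype.sum_equiv (Subgroup.subgroupOfEquivOfLe hPN).toEquiv
      intro k
      rfl
    rw [← finsum_set_coe_eq_finsum_mem]
    show ∑ᶠ u : ↥P, χ (u : G) = 0
    rw [finsum_eq_sum_of_fintype, ← e]
    exact h1

end Cfsg.Agent.Helper93.PL1
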