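import Cfsg.Agent.Helper43.PsuM.RDefs

/-!
helper93: piece (PERF) of helper43's block R (#14254, S2089): a perfect subgroup of the centraliser of
`τ a` centralises `a` upstairs in a central extension.
-/

set_option autoImplicit false

namespace Cfsg.Agent.Helper93.PsuM

open scoped commutatorElement
open Cfsg.Agent.Helper96.StLift Cfsg.Agent.Helper43.PsuM

universe u

section central

variable {Γ G : Type u} [Group Γ] [Group G] (τ : Γ →* G) (hτ : Function.Surjective τ)
  (hc : τ.ker ≤ Subgroup.center Γ)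

include hτ hc

/-- (PERF) a perfect subgroup of the centraliser of `τ a` centralises `a` "upstairs". -/
theorem commute_of_perfect (R : Subgroup G) (hR : ⁅R, R⁆ = R) (a : Γ)
    (ha : ∀ r ∈ R, Commute (τ a) r) (g : Γ) (hg : τ g ∈ R) : Commute a g := by
  set E : Subgroup Γ := R.comap τ with hE
  set A : Subgroup Γ := Subgroup.zpowers a with hA
  -- commutators of `E` with powers of `a` are central
  have hEA : ⁅E, A⁆ ≤ Subgroup.center Γ := by
    rw [Subgroup.commutator_le]
    intro x hx y hy
    apply hc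
    rw [MonoidHom.mem_ker, map_commutatorElement]
    obtain ⟨n, rfl⟩ := Subgroup.mem_zpowers_iff.mp hy
    rw [map_zpow, commutatorElement_eq_one_iff_commute]
    exact ((ha (τ x) hx).zpow_left n).symm
  have h1 : ⁅⁅E, A⁆, E⁆ = ⊥ :=
    Subgroup.commutator_eq_bot_iff_le_centralizer.mpr
      (hEA.trans (Subgroup.center_le_centralizer _))
  have h2 : ⁅⁅A, E⁆, E⁆ = ⊥ := by rw [Subgroup.commutator_comm A E]; exact h1
  have h3 : ⁅⁅E, E⁆, A⁆ = ⊥ := Subgroup.commutator_commutator_eq_bot_of_rotate h1 h2
  have h4 : ⁅E, E⁆ ≤ Subgroup.centralizer (A : Set Γ) :=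
    Subgroup.commutator_eq_bot_iff_le_centralizer.mp h3
  -- the image of `⁅E, E⁆` is `R`
  have hmap : (⁅E, E⁆).map τ = R := by
    rw [Subgroup.map_commutator, hE, Subgroup.map_comap_eq_self_of_surjective hτ, hR]
  have hg' : τ g ∈ (⁅E, E⁆).map τ := by rw [hmap]; exact hg
  obtain ⟨c, hcE, hcg⟩ := hg'
  have hk : c⁻¹ * g ∈ Subgroup.center Γ := by
    apply hc
    rw [MonoidHom.mem_ker, map_mul, map_inv, hcg, inv_mul_cancel]
  have hac : Commute a c := by
    have := Subgroup.mem_centralizer_iff.mp (h4 hcE) a (Subgroup.mem_zpowers a)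
    exact this
  have hak : Commute a (c⁻¹ * g) := (Subgroup.mem_center_iff.mp hk a)
  have : g = c * (c⁻¹ * g) := by group
  rw [this]
  exact hac.mul_right hak

end central

end Cfsg.Agent.Helper93.PsuM
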