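import Cfsg.Agent.Helper44.QSimDefs
import Cfsg.Agent.Helper44.QSimDiag
import Cfsg.Agent.Helper44.OrthPrimeCls
import Cfsg.Agent.Helper44.OrthOddB
import Cfsg.Agent.Helper44.QTypeFpf
import Cfsg.Agent.Helper43.SpDerD

set_option autoImplicit false
open scoped MatrixGroups

/-!
helper93: common tools for the pieces (SSodd) and (SSeven) of helper44's S5981:
semisimple elements of prime order `r` of `SL_n(q)` built from a prescribed characteristic
polynomial, and the scalar of a similarity of such an element.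
-/

namespace Cfsg.Agent.Helper93.QSim

open Matrix Cfsg.Geo QuadraticMap Polynomial Cfsg.Agent.Helper44.QType Cfsg.Agent.Helper44.QSim

universe u

variable {F : Type u} [Field F] {n : ℕ}

theorem simWith_pow_apply (Q : (Fin n → F) → F) (A : Matrix (Fin n) (Fin n) F) (c : F)
    (h : SimWith Q A c) (k : ℕ) (v : Fin n → F) : Q ((A ^ k) *ᵥ v) = c ^ k * Q v := by
  induction k generalizing v with
  | zero => simp
  | succ k ih =>
    rw [pow_succ, ← Matrix.mulVec_mulVec, ih, h, pow_succ]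
    ring

theorem exists_ne_zero_of_nondegenerate (Q' : QuadraticForm F (Fin n → F))
    (hQ' : (polarBilin Q').Nondegenerate) (hn : 0 < n) : ∃ v, Q' v ≠ 0 := by
  by_contra hcon
  push_neg at hcon
  have h0 : ∀ x y, polarBilin Q' x y = 0 := by
    intro x y
    rw [polarBilin_apply_apply]
    unfold polar
    rw [hcon, hcon, hcon]
    ring
  have hx := hQ'.1 (Pi.single ⟨0, hn⟩ 1) (fun y => h0 _ y)
  have := congrFun hx ⟨0, hn⟩
  simp at this

theorem scalar_eq_one_of_simWith [Fintype F] {q : ℕ} (hq : Fintype.card F = q) {r : ℕ}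
    (hr : r.Prime) (hrq : ¬ r ∣ q - 1) (Q' : QuadraticForm F (Fin n → F))
    (hQ' : (polarBilin Q').Nondegenerate) (hn : 0 < n) (A : Matrix (Fin n) (Fin n) F)
    (hAr : A ^ r = 1) (c : F) (h : SimWith (⇑Q') A c) : c = 1 := by
  obtain ⟨v, hv⟩ := exists_ne_zero_of_nondegenerate Q' hQ' hn
  have h1 := simWith_pow_apply (⇑Q') A c h r v
  rw [hAr, Matrix.one_mulVec] at h1
  have hcr : c ^ r = 1 := by
    have : (c ^ r - 1) * Q' v = 0 := by rw [sub_mul, one_mul, ← h1, sub_self]
    rcases mul_eq_zero.mp this with h | h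
    · exact sub_eq_zero.mp h
    · exact absurd h hv
  exact Cfsg.Agent.Helper43.SpDer.eq_one_of_pow_eq_one hq hr hrq hcr

/-- a matrix with prescribed characteristic polynomial all of whose irreducible factors divide
`X ^ r - 1`: it has order dividing `r`, determinant one, and is not scalar as soon as one of the
factors has degree at least `2`. -/
theorem exists_matrix_of_factors [Fintype F] (p : ℕ) [Fact p.Prime] [CharP F p] {q : ℕ}
    (hq : Fintype.card F = q) (r : ℕ) (hr : r.Prime) (hrp : r ≠ p) (hrq : ¬ r ∣ q - 1)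
    (f₀ : F[X]) (hfm : f₀.Monic) (hfd : f₀.natDegree = n) (hf0 : f₀.coeff 0 ≠ 0)
    (hfac : ∀ Q : F[X], Q.Monic → Irreducible Q → Q ∣ f₀ → Q ∣ (X ^ r - 1 : F[X]))
    (P : F[X]) (hPm : P.Monic) (hPi : Irreducible P) (hPf : P ∣ f₀) (hPdeg : 2 ≤ P.natDegree) :
    ∃ A : Matrix (Fin n) (Fin n) F, A.charpoly = f₀ ∧ A ^ r = 1 ∧ A.det = 1 ∧
      ∀ z : F, A ≠ z • (1 : Matrix (Fin n) (Fin n) F) := by
  classical
  have hp : p.Prime := Fact.out
  obtain ⟨A, hAch, j, hjpos, hjcop, hAj⟩ :=
    Cfsg.Agent.Helper43.SS.exists_matrix_charpoly p n f₀ hfm hfd hf0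
  have hrF : (r : F) ≠ 0 := by
    intro h0
    rw [CharP.cast_eq_zero_iff F p r] at h0
    exact hrp ((Nat.prime_dvd_prime_iff_eq hp hr).mp h0).symm
  have hsep : (X ^ r - 1 : F[X]).Separable := by
    have := Polynomial.separable_X_pow_sub_C (1 : F) hrF one_ne_zero
    simpa using this
  have hX0 : (X ^ r - 1 : F[X]) ≠ 0 := hsep.ne_zero
  have hjF : (j : F) ≠ 0 := Cfsg.Agent.Helper43.SpSS.natCast_ne_zero_of_coprime p hjcop
  have hAr : A ^ r = 1 := by
    have := Cfsg.Agent.Helper43.SpPrime.aeval_eq_zero_of_factors_gen A j hjF hAj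
      (X ^ r - 1 : F[X]) hX0 (by
        intro Q hQm hQi hQ
        rw [hAch] at hQ
        exact hfac Q hQm hQi hQ)
    rw [map_sub, map_pow, aeval_X, map_one] at this
    exact sub_eq_zero.mp this
  have hdet : A.det = 1 := by
    apply Cfsg.Agent.Helper43.SpDer.eq_one_of_pow_eq_one hq hr hrq
    rw [← Matrix.det_pow, hAr, Matrix.det_one]
  refine ⟨A, hAch, hAr, hdet, ?_⟩
  intro z hz
  have hsf : Squarefree (X - C z : F[X]) := (irreducible_X_sub_C z).squarefree
  have haev : aeval A (X - C z : F[X]) = 0 := by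
    rw [map_sub, aeval_X, aeval_C, Algebra.algebraMap_eq_smul_one, ← hz, sub_self]
  have hPx : P ∣ A.charpoly := by
    rw [hAch]; exact hPf
  have := Cfsg.Agent.Helper43.SpPrime.dvd_of_dvd_charpoly_gen A _ hsf haev P hPm hPi hPx
  have hle := natDegree_le_of_dvd this (X_sub_C_ne_zero z)
  rw [natDegree_X_sub_C] at hle
  omega

/-- package a matrix of determinant one as an element of `GL_n`. -/
theorem exists_isPrimeElt_of_matrix (A : Matrix (Fin n) (Fin n) F) (r : ℕ) (hAr : A ^ r = 1)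
    (hdet : A.det = 1) (hns : ∀ z : F, A ≠ z • (1 : Matrix (Fin n) (Fin n) F)) :
    ∃ x : GL (Fin n) F, (x : Matrix (Fin n) (Fin n) F) = A ∧ IsPrimeElt r x := by
  have hu : IsUnit A.det := by rw [hdet]; exact isUnit_one
  refine ⟨A.nonsingInvUnit hu, rfl, ?_, ⟨1, ?_⟩, ?_⟩
  · rw [mem_specialLinear_iff]
    exact hdet
  · rw [Units.val_pow_eq_pow_val, one_smul]
    exact hAr
  · intro z
    exact hns z

end Cfsg.Agent.Helper93.QSim
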