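import Cfsg.Agent.Helper93.QSimSSCore

set_option autoImplicit false
open scoped MatrixGroups

/-!
helper93: piece (SSeven) of helper44's S5981 (#6920): in dimension `n = 2m` with
`q ^ m = -ε (mod r)`, a fixed-point-free element of prime order `r` of `SL_n(q)` which is a
similarity of no non-degenerate quadratic form of type `ε`.
-/

namespace Cfsg.Agent.Helper93.QSim

open Matrix Cfsg.Geo QuadraticMap Polynomial Cfsg.Agent.Helper44.QType Cfsg.Agent.Helper44.QSim

universe u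

variable {F : Type u} [Field F] [Fintype F] {n : ℕ}

theorem iterate_mulVec (A : Matrix (Fin n) (Fin n) F) (k : ℕ) (v : Fin n → F) :
    (fun w => A *ᵥ w)^[k] v = (A ^ k) *ᵥ v := by
  induction k generalizing v with
  | zero => simp
  | succ k ih =>
    rw [Function.iterate_succ_apply, ih, pow_succ, Matrix.mulVec_mulVec]

/-- a matrix whose characteristic polynomial does not vanish at `1` has no non-zero fixed
vector. -/
theorem eq_zero_of_mulVec_eq_self (A : Matrix (Fin n) (Fin n) F) (h1 : A.charpoly.eval 1 ≠ 0)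
    (v : Fin n → F) (hv : A *ᵥ v = v) : v = 0 := by
  have hφ : Matrix.toLin' A v = (1 : F) • v := by
    rw [Matrix.toLin'_apply, hv, one_smul]
  have h2 := Module.End.aeval_apply_of_mem_apply_eq_smul (p := A.charpoly) hφ
  rw [Cfsg.Agent.Helper43.SpPrime.aeval_toLin'_gen, Matrix.aeval_self_charpoly, map_zero,
    LinearMap.zero_apply] at h2
  rcases smul_eq_zero.mp h2.symm with h | h
  · exact absurd h h1
  · exact h

/-- (SSeven) -/
theorem exists_fpf_noSimT (p : ℕ) [Fact p.Prime] [CharP F p] {q : ℕ}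
    (hq : Fintype.card F = q) {m : ℕ} (hnm : n = 2 * m) (hm : 1 ≤ m) (r : ℕ) (hr : r.Prime)
    (hr2 : r ≠ 2) (hrp : r ≠ p) (hrq : ¬ r ∣ q - 1) {ε : ℤ} (hε : ε = 1 ∨ ε = -1)
    (hpow : ((q : ℕ) : ZMod r) ^ m = - ((ε : ℤ) : ZMod r)) :
    ∃ x : GL (Fin n) F, IsPrimeElt r x ∧ NoSimT m ε (x : Matrix (Fin n) (Fin n) F) := by
  classical
  haveI : Fact r.Prime := ⟨hr⟩
  have hp : p.Prime := Fact.out
  have hq1 : 1 ≤ q := by rw [← hq]; exact Fintype.card_pos
  have hn0 : 0 < n := by omega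
  set e := orderOf (q : ZMod r) with he
  -- `e` divides `n`
  have hε2 : ((ε : ℤ) : ZMod r) * ((ε : ℤ) : ZMod r) = 1 := by
    rcases hε with h | h <;> subst h <;> simp
  have hqn : ((q : ℕ) : ZMod r) ^ n = 1 := by
    rw [hnm, mul_comm, pow_mul, hpow, pow_two, neg_mul_neg, hε2]
  have hen : e ∣ n := orderOf_dvd_of_pow_eq_one hqn
  have he0 : e ≠ 0 := by
    intro h0
    rw [h0, zero_dvd_iff] at hen
    omega
  have he1 : e ≠ 1 := by
    intro h1
    have h2 : ((q : ℕ) : ZMod r) = 1 := orderOf_eq_one_iff.mp h1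
    apply hrq
    rw [← ZMod.natCast_eq_zero_iff, Nat.cast_sub hq1, h2]
    simp
  have he2 : 2 ≤ e := by omega
  obtain ⟨P, hPm, hPi, hPdvd, hPdeg⟩ :=
    Cfsg.Agent.Helper43.Lagr.exists_factor_cyclotomic p hq r hr hrp
  rw [← he] at hPdeg
  have hrpos : 0 < r := hr.pos
  have hP0 : P.coeff 0 ≠ 0 :=
    Cfsg.Agent.Helper43.SpPrime.coeff_zero_ne_of_dvd_X_pow_sub_one hrpos hPdvd
  set k := n / e with hk
  have hke : e * k = n := Nat.mul_div_cancel' hen
  have hk0 : k ≠ 0 := by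
    intro h0
    rw [h0, mul_zero] at hke
    omega
  set f₀ : F[X] := P ^ k with hf₀
  have hfm : f₀.Monic := hPm.pow k
  have hfd : f₀.natDegree = n := by
    rw [hf₀, hPm.natDegree_pow, hPdeg, mul_comm]
    exact hke
  have hf0 : f₀.coeff 0 ≠ 0 := by
    have : (P ^ k).coeff 0 = (P.coeff 0) ^ k := by
      rw [coeff_zero_eq_eval_zero, eval_pow, ← coeff_zero_eq_eval_zero]
    rw [hf₀, this]
    exact pow_ne_zero k hP0
  have hfac : ∀ Q : F[X], Q.Monic → Irreducible Q → Q ∣ f₀ → Q ∣ (X ^ r - 1 : F[X]) := by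
    intro Q hQm hQi hQ
    exact (hQi.prime.dvd_of_dvd_pow hQ).trans hPdvd
  obtain ⟨A, hAch, hAr, hdet, hns⟩ := exists_matrix_of_factors p hq r hr hrp hrq f₀ hfm hfd hf0
    hfac P hPm hPi (dvd_pow_self P hk0) (by rw [hPdeg]; exact he2)
  obtain ⟨x, hxA, hx⟩ := exists_isPrimeElt_of_matrix A r hAr hdet hns
  refine ⟨x, hx, ?_⟩
  rw [hxA]
  -- no fixed vectors
  have hP1 : P.eval 1 ≠ 0 := by
    intro h0
    have hdeg := degree_eq_one_of_irreducible_of_root hPi (x := (1 : F)) h0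
    have hnd : P.natDegree = 1 := natDegree_eq_of_degree_eq_some hdeg
    omega
  have hch1 : A.charpoly.eval 1 ≠ 0 := by
    rw [hAch, hf₀, eval_pow]
    exact pow_ne_zero k hP1
  intro Q' hQ' hT c hc h
  have hc1 : c = 1 := scalar_eq_one_of_simWith hq hr hrq Q' hQ' hn0 A hAr c h
  subst hc1
  have hA : ∀ u, Q' (A *ᵥ u) = Q' u := fun u => by rw [h u, one_mul]
  have hrq' : ¬ r ∣ Nat.card F := by
    rw [Nat.card_eq_fintype_card, hq]
    intro hdvd
    have h0 : ((q : ℕ) : ZMod r) = 0 := (ZMod.natCast_eq_zero_iff _ _).mpr hdvd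
    rw [h0, zero_pow (by omega)] at hqn
    exact zero_ne_one hqn
  have hfin : Module.finrank F (Fin n → F) = 2 * m := by
    rw [Module.finrank_fin_fun, hnm]
  have hnd : ∀ x : Fin n → F, (∀ y, polar (⇑Q') x y = 0) → x = 0 := by
    intro x hx
    apply hQ'.1
    intro y
    rw [polarBilin_apply_apply]
    exact hx y
  have key := pow_eq_of_fpf Q' hfin hnd hT r hrq' (fun v => A *ᵥ v) hA
    (fun v => by rw [iterate_mulVec, hAr, Matrix.one_mulVec])
    (fun v hv => eq_zero_of_mulVec_eq_self A hch1 v hv)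
  rw [Nat.card_eq_fintype_card, hq, hpow] at key
  -- `-ε = ε` modulo `r`, so `2 = 0` modulo `r`
  have h2 : ((2 : ℕ) : ZMod r) = 0 := by
    have h3 : ((ε : ℤ) : ZMod r) + ((ε : ℤ) : ZMod r) = 0 := by
      nth_rewrite 1 [← key]
      exact neg_add_cancel _
    have h4 : (((ε : ℤ) : ZMod r) + ((ε : ℤ) : ZMod r)) * ((ε : ℤ) : ZMod r) = 0 := by
      rw [h3, zero_mul]
    rw [add_mul, hε2] at h4
    push_cast
    rw [← h4]
    norm_num
  have hdvd : r ∣ 2 := (ZMod.natCast_eq_zero_iff _ _).mp h2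
  have := (Nat.prime_dvd_prime_iff_eq hr Nat.prime_two).mp hdvd
  exact hr2 this

end Cfsg.Agent.Helper93.QSim
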