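import Cfsg.Agent.Helper93.QSimSSCore

set_option autoImplicit false
open scoped MatrixGroups

/-!
helper93: piece (SSodd) of helper44's S5981 (#6920): a semisimple element of prime order `r`
of `SL_n(q)` (order of `q` modulo `r` odd, at least `3`) which is a similarity of no
non-degenerate quadratic form.
-/

namespace Cfsg.Agent.Helper93.QSim

open Matrix Cfsg.Geo QuadraticMap Polynomial Cfsg.Agent.Helper44.QType Cfsg.Agent.Helper44.QSim
open Cfsg.Agent.Helper43.SpPrime (star_X_sub_one star_eq_self_of_reverse eq_X_sub_one_of_star_eq_odd coeff_zero_ne_of_dvd_X_pow_sub_one)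

universe u

variable {F : Type u} [Field F] [Fintype F] {n : ℕ}

/-- a monic polynomial which is self-reciprocal or anti-reciprocal is fixed by `star` -/
theorem star_eq_self_of_reverse_neg {f : F[X]} (hfm : f.Monic) (hrev : f.reverse = - f) :
    Cfsg.Agent.Helper43.SpPrime.star f = f := by
  have h0 : f.coeff 0 = -1 := by
    have h1 : (f.reverse).coeff 0 = 1 := by rw [coeff_zero_reverse, hfm.leadingCoeff]
    rw [hrev, coeff_neg] at h1
    rw [← h1, neg_neg]
  unfold Cfsg.Agent.Helper43.SpPrime.star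
  rw [h0, hrev]
  have : ((-1 : F))⁻¹ = -1 := by
    rw [inv_neg, inv_one]
  rw [this, C_neg, C_1]
  ring

/-- (SSodd) -/
theorem exists_ss_noSim_odd (p : ℕ) [Fact p.Prime] [CharP F p] (hp2 : p ≠ 2) {q : ℕ}
    (hq : Fintype.card F = q) (r : ℕ) (hr : r.Prime) (hr2 : r ≠ 2) (hrp : r ≠ p)
    (hodd : Odd (orderOf (q : ZMod r))) (he3 : 3 ≤ orderOf (q : ZMod r))
    (hen : orderOf (q : ZMod r) ≤ n) :
    ∃ x : GL (Fin n) F, IsPrimeElt r x ∧ NoSim (x : Matrix (Fin n) (Fin n) F) := by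
  classical
  have hp : p.Prime := Fact.out
  have hq1 : 1 ≤ q := by rw [← hq]; exact Fintype.card_pos
  set e := orderOf (q : ZMod r) with he
  obtain ⟨P, hPm, hPi, hPdvd, hPdeg⟩ :=
    Cfsg.Agent.Helper43.Lagr.exists_factor_cyclotomic p hq r hr hrp
  rw [← he] at hPdeg
  have hrpos : 0 < r := hr.pos
  have hP0 : P.coeff 0 ≠ 0 := coeff_zero_ne_of_dvd_X_pow_sub_one hrpos hPdvd
  have hLm : (X - 1 : F[X]).Monic := Cfsg.Agent.Helper43.Lagr.X_sub_one_monic
  have hLd : (X - 1 : F[X]).natDegree = 1 := by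
    have : (X - 1 : F[X]) = X - C 1 := by rw [map_one]
    rw [this]; exact natDegree_X_sub_C 1
  have hP1 : P ≠ X - 1 := by
    intro h
    rw [h, hLd] at hPdeg
    omega
  set k := n - e with hk
  set f₀ : F[X] := P * (X - 1) ^ k with hf₀
  have hfm : f₀.Monic := hPm.mul (hLm.pow k)
  have hfd : f₀.natDegree = n := by
    rw [hf₀, hPm.natDegree_mul (hLm.pow k), hLm.natDegree_pow, hLd, hPdeg]
    omega
  have hL0 : (X - 1 : F[X]).coeff 0 ≠ 0 := by
    rw [coeff_sub, coeff_X_zero, coeff_one_zero]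
    simp
  have hf0 : f₀.coeff 0 ≠ 0 := by
    rw [hf₀, mul_coeff_zero]
    apply mul_ne_zero hP0
    have : ((X - 1 : F[X]) ^ k).coeff 0 = ((X - 1 : F[X]).coeff 0) ^ k := by
      rw [coeff_zero_eq_eval_zero, eval_pow, ← coeff_zero_eq_eval_zero]
    rw [this]
    exact pow_ne_zero k hL0
  have hLdvd : (X - 1 : F[X]) ∣ X ^ r - 1 := by
    have : Fact r.Prime := ⟨hr⟩
    rw [← cyclotomic_prime_mul_X_sub_one F r]
    exact dvd_mul_left _ _
  have hfac : ∀ Q : F[X], Q.Monic → Irreducible Q → Q ∣ f₀ → Q ∣ (X ^ r - 1 : F[X]) := by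
    intro Q hQm hQi hQ
    rcases hQi.prime.dvd_or_dvd hQ with h | h
    · exact h.trans hPdvd
    · exact (hQi.prime.dvd_of_dvd_pow h).trans hLdvd
  have hrq : ¬ r ∣ q - 1 :=
    Cfsg.Agent.Helper43.SpDer.not_dvd_pred_of_orderOf hq1 (by rw [← he]; omega)
  obtain ⟨A, hAch, hAr, hdet, hns⟩ := exists_matrix_of_factors p hq r hr hrp hrq f₀ hfm hfd hf0
    hfac P hPm hPi (dvd_mul_right _ _) (by rw [hPdeg]; omega)
  obtain ⟨x, hxA, hx⟩ := exists_isPrimeElt_of_matrix A r hAr hdet hns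
  refine ⟨x, hx, ?_⟩
  rw [hxA]
  intro Q' hQ' c hc h
  have hn0 : 0 < n := by omega
  have hc1 : c = 1 := scalar_eq_one_of_simWith hq hr hrq Q' hQ' hn0 A hAr c h
  subst hc1
  have hA : ∀ u, Q' (A *ᵥ u) = Q' u := fun u => by rw [h u, one_mul]
  have hrodd : Odd r := hr.odd_of_ne_two hr2
  have hstar : Cfsg.Agent.Helper43.SpPrime.star f₀ = f₀ := by
    rcases Nat.even_or_odd' n with ⟨m, hm | hm⟩
    · have hrev := charpoly_reverse_of_isometry Q' hQ' (m := m)
        (by rw [Fintype.card_fin]; exact hm) A hA hrodd hAr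
      rw [hAch] at hrev
      exact star_eq_self_of_reverse hfm hrev
    · have hrev := charpoly_reverse_of_isometry_odd Q' hQ' (m := m)
        (by rw [Fintype.card_fin]; exact hm) A hA hrodd hAr
      rw [hAch] at hrev
      exact star_eq_self_of_reverse_neg hfm hrev
  rw [hf₀, Cfsg.Agent.Helper43.SpPrime.star_mul, Cfsg.Agent.Helper43.SpPrime.star_pow, star_X_sub_one] at hstar
  have hPs : Cfsg.Agent.Helper43.SpPrime.star P = P := mul_right_cancel₀ (pow_ne_zero k hLm.ne_zero) hstar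
  have := eq_X_sub_one_of_star_eq_odd hrodd hPm hPi hPdvd hPs (by rw [hPdeg]; exact hodd)
  exact hP1 this

end Cfsg.Agent.Helper93.QSim
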