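import Cfsg.Agent.Helper93.SRGParam

/-!
# A transitive group on 100 points with point-stabiliser orbits of sizes 1, 22, 77 preserves
a strongly regular graph with parameters (100, 22, 0, 6): the orbital graph
-/

set_option autoImplicit false

namespace Cfsg.Agent.Helper93.R3

open MulAction

section orbital

variable {H Ω : Type*} [Group H] [MulAction H Ω] (a b : Ω)

/-- the orbital relation of the pair `(a, b)` -/
def Rel (x y : Ω) : Prop := ∃ g : H, g • a = x ∧ g • b = y

variable {a b}

theorem Rel.smul {x y : Ω} (h : Rel (H := H) a b x y) (g : H) : Rel (H := H) a b (g • x) (g • y) := by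
  obtain ⟨g₀, rfl, rfl⟩ := h
  exact ⟨g * g₀, mul_smul _ _ _, mul_smul _ _ _⟩

theorem rel_smul_iff {x y : Ω} (g : H) : Rel (H := H) a b (g • x) (g • y) ↔ Rel (H := H) a b x y := by
  constructor
  · intro h
    have := h.smul g⁻¹
    rwa [inv_smul_smul, inv_smul_smul] at this
  · intro h
    exact h.smul g

theorem rel_base_iff {y : Ω} : Rel (H := H) a b a y ↔ y ∈ orbit (stabilizer H a) b := by
  constructor
  · rintro ⟨g, hg, rfl⟩
    exact ⟨⟨g, hg⟩, rfl⟩
  · rintro ⟨⟨g, hg⟩, rfl⟩
    exact ⟨g, hg, rfl⟩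

end orbital

section rank3

variable {H Ω : Type*} [Group H] [Fintype Ω] [MulAction H Ω] [IsPretransitive H Ω]
variable {a b c : Ω}

theorem a_notMem_orbit {b : Ω} {k : ℕ} (hk : k ≠ 1) (hb : (orbit (stabilizer H a) b).ncard = k) :
    a ∉ orbit (stabilizer H a) b := by
  intro h
  have h1 : orbit (stabilizer H a) a = {a} := by
    ext y
    constructor
    · rintro ⟨⟨g, hg⟩, rfl⟩
      exact hg
    · rintro rfl
      exact mem_orbit_self _
  have h2 : orbit (stabilizer H a) b = orbit (stabilizer H a) a := (orbit_eq_iff.mpr h).symm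
  rw [h2, h1, Set.ncard_singleton] at hb
  exact hk hb.symm

variable (hΩ : Fintype.card Ω = 100) (hb : (orbit (stabilizer H a) b).ncard = 22)
  (hc : (orbit (stabilizer H a) c).ncard = 77)

include hΩ hb hc

theorem disjoint_orbits : Disjoint (orbit (stabilizer H a) b) (orbit (stabilizer H a) c) := by
  rw [Set.disjoint_left]
  intro y h1 h2
  have e1 := orbit_eq_iff.mpr h1
  have e2 := orbit_eq_iff.mpr h2
  rw [← e1, e2, hc] at hb
  norm_num at hb

theorem cover (y : Ω) : y = a ∨ y ∈ orbit (stabilizer H a) b ∨ y ∈ orbit (stabilizer H a) c := by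
  have hfin : ∀ s : Set Ω, s.Finite := fun s => Set.toFinite s
  have ha1 := a_notMem_orbit (H := H) (a := a) (by norm_num) hb
  have ha2 := a_notMem_orbit (H := H) (a := a) (by norm_num) hc
  have hcard : (insert a (orbit (stabilizer H a) b ∪ orbit (stabilizer H a) c)).ncard = 100 := by
    rw [Set.ncard_insert_of_notMem (by simp [ha1, ha2]) (hfin _),
      Set.ncard_union_eq (disjoint_orbits hΩ hb hc) (hfin _) (hfin _), hb, hc]
  have huniv : insert a (orbit (stabilizer H a) b ∪ orbit (stabilizer H a) c) = Set.univ := by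
    apply Set.eq_of_subset_of_ncard_le (Set.subset_univ _) _ (hfin _)
    rw [hcard, Set.ncard_univ, Nat.card_eq_fintype_card, hΩ]
  have := Set.mem_univ y
  rw [← huniv] at this
  simpa using this


omit hΩ hc in
/-- out-neighbours -/
theorem ncard_out (x : Ω) : {y | Rel (H := H) a b x y}.ncard = 22 := by
  obtain ⟨g, rfl⟩ := exists_smul_eq H a x
  have : {y | Rel (H := H) a b (g • a) y} = (fun y => g • y) '' orbit (stabilizer H a) b := by
    ext y
    rw [Set.mem_ofPred_eq, Set.mem_image]
    constructor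
    · intro h
      refine ⟨g⁻¹ • y, ?_, smul_inv_smul g y⟩
      rw [← rel_base_iff, ← rel_smul_iff g, smul_inv_smul]
      exact h
    · rintro ⟨z, hz, rfl⟩
      rw [rel_smul_iff]
      exact rel_base_iff.mpr hz
  rw [this, Set.ncard_image_of_injective _ (MulAction.injective g), hb]

omit hΩ hb hc in
/-- in-neighbours -/
theorem ncard_in (y : Ω) :
    {x | Rel (H := H) a b x y}.ncard = {x | Rel (H := H) a b x a}.ncard := by
  obtain ⟨g, rfl⟩ := exists_smul_eq H a y
  have : {x | Rel (H := H) a b x (g • a)} = (fun y => g • y) '' {x | Rel (H := H) a b x a} := by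
    ext x
    rw [Set.mem_ofPred_eq, Set.mem_image]
    constructor
    · intro h
      refine ⟨g⁻¹ • x, ?_, smul_inv_smul g x⟩
      rw [Set.mem_ofPred_eq, ← rel_smul_iff g, smul_inv_smul]
      exact h
    · rintro ⟨z, hz, rfl⟩
      rw [rel_smul_iff]
      exact hz
  rw [this, Set.ncard_image_of_injective _ (MulAction.injective g)]

omit hc in
theorem ncard_in_base : {x | Rel (H := H) a b x a}.ncard = 22 := by
  classical
  have h := Finset.sum_card_bipartiteAbove_eq_sum_card_bipartiteBelow
    (s := (Finset.univ : Finset Ω)) (t := (Finset.univ : Finset Ω)) (r := Rel (H := H) a b)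
  have e1 : ∀ x : Ω, ((Finset.univ : Finset Ω).bipartiteAbove (Rel (H := H) a b) x).card = 22 := by
    intro x
    rw [← ncard_out (H := H) hb x, ← Set.ncard_coe_finset]
    congr 1
    ext y
    simp [Finset.bipartiteAbove]
  have e2 : ∀ y : Ω, ((Finset.univ : Finset Ω).bipartiteBelow (Rel (H := H) a b) y).card =
      {x | Rel (H := H) a b x a}.ncard := by
    intro y
    rw [← ncard_in (H := H) y, ← Set.ncard_coe_finset]
    congr 1
    ext x
    simp [Finset.bipartiteBelow]
  rw [Finset.sum_congr rfl (fun x _ => e1 x), Finset.sum_congr rfl (fun y _ => e2 y),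
    Finset.sum_const, Finset.sum_const, Finset.card_univ, hΩ] at h
  simp only [smul_eq_mul] at h
  omega

theorem in_base_eq : {x | Rel (H := H) a b x a} = orbit (stabilizer H a) b := by
  have hfin : ∀ s : Set Ω, s.Finite := fun s => Set.toFinite s
  have hz := ncard_in_base (H := H) hΩ hb
  have ha1 := a_notMem_orbit (H := H) (a := a) (by norm_num) hb
  apply Set.eq_of_subset_of_ncard_le _ (by rw [hz, hb]) (hfin _)
  intro x hx
  rcases cover (H := H) hΩ hb hc x with rfl | h | h
  · exact absurd (rel_base_iff.mp hx) ha1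
  · exact h
  · exfalso
    -- then the whole orbit of c lies in the set
    have hsub : orbit (stabilizer H a) c ⊆ {x | Rel (H := H) a b x a} := by
      intro y hy
      have hxy : y ∈ orbit (stabilizer H a) x := by
        rw [orbit_eq_iff.mpr h]; exact hy
      obtain ⟨⟨s, hs⟩, rfl⟩ := hxy
      have := Rel.smul hx s
      rw [show s • a = a from hs] at this
      exact this
    have := Set.ncard_le_ncard hsub (hfin _)
    rw [hz, hc] at this
    omega

theorem rel_symm {x y : Ω} (h : Rel (H := H) a b x y) : Rel (H := H) a b y x := by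
  obtain ⟨g, rfl, rfl⟩ := h
  rw [rel_smul_iff]
  have : b ∈ {x | Rel (H := H) a b x a} := by
    rw [in_base_eq (H := H) hΩ hb hc]
    exact mem_orbit_self _
  exact this

omit hΩ hc in
theorem rel_irrefl (x : Ω) : ¬ Rel (H := H) a b x x := by
  rintro ⟨g, h1, h2⟩
  have hab : a = b := by
    have := h1.trans h2.symm
    exact MulAction.injective g this
  have ha1 := a_notMem_orbit (H := H) (a := a) (by norm_num) hb
  rw [← hab] at ha1
  exact ha1 (mem_orbit_self _)


/-- the orbital graph -/
def orbGraph : SimpleGraph Ω where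
  Adj := Rel (H := H) a b
  symm := ⟨fun _ _ h => rel_symm (H := H) hΩ hb hc h⟩
  loopless := ⟨fun x h => rel_irrefl (H := H) hb x h⟩

theorem orbGraph_adj (x y : Ω) :
    (orbGraph (H := H) hΩ hb hc).Adj x y ↔ Rel (H := H) a b x y := Iff.rfl

theorem orbGraph_smul (g : H) (x y : Ω) :
    (orbGraph (H := H) hΩ hb hc).Adj (g • x) (g • y) ↔ (orbGraph (H := H) hΩ hb hc).Adj x y :=
  rel_smul_iff g

theorem ncard_common_smul (g : H) (v w : Ω) :
    ((orbGraph (H := H) hΩ hb hc).commonNeighbors (g • v) (g • w)).ncard =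
      ((orbGraph (H := H) hΩ hb hc).commonNeighbors v w).ncard := by
  have : (orbGraph (H := H) hΩ hb hc).commonNeighbors (g • v) (g • w) =
      (fun y => g • y) '' (orbGraph (H := H) hΩ hb hc).commonNeighbors v w := by
    ext u
    rw [Set.mem_image]
    constructor
    · intro h
      rw [SimpleGraph.mem_commonNeighbors] at h
      refine ⟨g⁻¹ • u, ?_, smul_inv_smul g u⟩
      rw [SimpleGraph.mem_commonNeighbors, ← orbGraph_smul (H := H) hΩ hb hc g,
        ← orbGraph_smul (H := H) hΩ hb hc g w, smul_inv_smul]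
      exact h
    · rintro ⟨z, hz, rfl⟩
      rw [SimpleGraph.mem_commonNeighbors] at hz ⊢
      rw [orbGraph_smul, orbGraph_smul]
      exact hz
  rw [this, Set.ncard_image_of_injective _ (MulAction.injective g)]

theorem orbGraph_isSRG [DecidableEq Ω] [DecidableRel (orbGraph (H := H) hΩ hb hc).Adj] :
    ∃ ℓ μ : ℕ, (orbGraph (H := H) hΩ hb hc).IsSRGWith 100 22 ℓ μ := by
  refine ⟨((orbGraph (H := H) hΩ hb hc).commonNeighbors a b).ncard,
    ((orbGraph (H := H) hΩ hb hc).commonNeighbors a c).ncard, ⟨hΩ, ?_, ?_, ?_⟩⟩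
  · intro v
    rw [← SimpleGraph.card_neighborSet_eq_degree, ← Nat.card_eq_fintype_card,
      Nat.card_coe_set_eq]
    exact ncard_out (H := H) hb v
  · intro v w hvw
    rw [← Nat.card_eq_fintype_card, Nat.card_coe_set_eq]
    obtain ⟨g, rfl, rfl⟩ := hvw
    exact ncard_common_smul (H := H) hΩ hb hc g a b
  · intro v w hne hvw
    rw [← Nat.card_eq_fintype_card, Nat.card_coe_set_eq]
    obtain ⟨g, rfl⟩ := exists_smul_eq H a v
    have hw : g⁻¹ • w ∈ orbit (stabilizer H a) c := by
      rcases cover (H := H) hΩ hb hc (g⁻¹ • w) with h | h | h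
      · exfalso
        apply hne
        rw [← h, smul_inv_smul]
      · exfalso
        apply hvw
        rw [orbGraph_adj, ← rel_smul_iff g⁻¹, inv_smul_smul]
        exact rel_base_iff.mpr h
      · exact h
    obtain ⟨⟨s, hs⟩, hsc⟩ := hw
    have e1 : (g * s) • a = g • a := by
      rw [mul_smul, show s • a = a from hs]
    have e2 : (g * s) • c = w := by
      rw [mul_smul, show s • c = g⁻¹ • w from hsc, smul_inv_smul]
    rw [← e1, ← e2]
    exact ncard_common_smul (H := H) hΩ hb hc (g * s) a c


/-- the orbital graph is the strongly regular graph with parameters `(100, 22, 0, 6)` -/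
theorem exists_srg_of_rank3 : ∃ Γ : SimpleGraph Ω, ∃ _ : DecidableRel Γ.Adj,
    Γ.IsSRGWith 100 22 0 6 ∧ ∀ (g : H) (x y : Ω), Γ.Adj (g • x) (g • y) ↔ Γ.Adj x y := by
  classical
  refine ⟨orbGraph (H := H) hΩ hb hc, Classical.decRel _, ?_, orbGraph_smul (H := H) hΩ hb hc⟩
  obtain ⟨ℓ, μ, h⟩ := orbGraph_isSRG (H := H) hΩ hb hc
  obtain ⟨rfl, rfl⟩ := srg_100_22 _ h
  exact h

end rank3

end Cfsg.Agent.Helper93.R3
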