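import Cfsg.Agent.Helper74.SN.Defs
import Cfsg.Agent.Helper93.SN_C3BCore
import Cfsg.Agent.Helper14.SN_T3

/-!
helper93, SN farm of helper74 (#14619, S4073), leaf (C3B): the centralizer of an element of prime order in
a simple nonabelian SN-group is not solvable-non-nilpotent.  From the core `C3B_of` and helper14's (CT3A).
-/

set_option autoImplicit false
set_option linter.unusedSectionVars false
set_option linter.unusedVariables false
set_option linter.dupNamespace false

namespace Cfsg.Agent.Helper93.SNG

open Cfsg Cfsg.Agent.Helper74.SNG

universe u

section Cases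

variable {G : Type u} [Group G] [Finite G] [IsSimpleGroup G]

/-- (CT3B) The centralizer of an element of prime order is not solvable-non-nilpotent. -/
theorem centralizer_solvable_false (hna : ¬ IsMulCommutative G) (hSN : SN G) (x : G) {r : ℕ}
    [Fact r.Prime] (hxr : orderOf x = r)
    (hsol : Group.IsSolvable (Subgroup.centralizer ({x} : Set G)))
    (hnn : ¬ Group.IsNilpotent (Subgroup.centralizer ({x} : Set G))) : False :=
  C3B_of
    (fun H _ _ _ h hnn x hx r _ hxr S =>
      Cfsg.Agent.Helper14.SNG.SN.sylow_of_central_of_solvable h hnn x hx hxr S)
    hna hSN x hxr hsol hnn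

end Cases

end Cfsg.Agent.Helper93.SNG
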