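import Cfsg.Agent.Helper93.SRGParam

/-!
# There is no strongly regular graph on 22 vertices of valency 6
-/

set_option autoImplicit false

namespace Cfsg.Agent.Helper93.R3

theorem not_sq_mod16 : ∀ u : ZMod 16, u ^ 2 ≠ 13 := by decide

/-- there is no strongly regular graph on 22 vertices of valency 6 -/
theorem not_srg_22_6 {V : Type*} [Fintype V] [DecidableEq V] (G : SimpleGraph V)
    [DecidableRel G.Adj] {ℓ μ : ℕ} (h : G.IsSRGWith 22 6 ℓ μ) : False := by
  classical
  have hV : Nonempty V := by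
    rw [← Fintype.card_pos_iff, h.card]; norm_num
  obtain ⟨v⟩ := hV
  have hdeg : (G.neighborFinset v).card = 6 := h.regular v
  obtain ⟨w, hw⟩ : (G.neighborFinset v).Nonempty := by
    rw [← Finset.card_pos, hdeg]; norm_num
  have hvw : G.Adj v w := (G.mem_neighborFinset v w).mp hw
  have hl : ℓ ≤ 5 := by
    have h1 := h.of_adj v w hvw
    rw [← h1, ← Set.toFinset_card]
    have hsub : (G.commonNeighbors v w).toFinset ⊆ (G.neighborFinset v).erase w := by
      intro x hx
      rw [Set.mem_toFinset, SimpleGraph.mem_commonNeighbors] at hx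
      rw [Finset.mem_erase, SimpleGraph.mem_neighborFinset]
      exact ⟨fun hxw => G.loopless.irrefl w (hxw ▸ hx.2), hx.1⟩
    calc _ ≤ ((G.neighborFinset v).erase w).card := Finset.card_le_card hsub
      _ = 5 := by rw [Finset.card_erase_of_mem hw, hdeg]
  have hpar := SimpleGraph.IsSRGWith.param_eq G h (by norm_num)
  have hcases : (ℓ = 5 ∧ μ = 0) ∨ (ℓ = 0 ∧ μ = 2) := by omega
  rcases hcases with ⟨rfl, rfl⟩ | ⟨rfl, rfl⟩
  · obtain ⟨m, hm⟩ := srg_integrality G h (by norm_num) (by norm_num) 6 (-1) (by norm_num)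
      (by norm_num) (by norm_num)
    have : (m : ℝ) * 7 = 15 := by
      rw [← sub_eq_zero]; rw [← sub_eq_zero] at hm; linear_combination hm
    have h2 : m * 7 = 15 := by exact_mod_cast this
    omega
  · have hs : Real.sqrt 5 * Real.sqrt 5 = 5 := Real.mul_self_sqrt (by norm_num)
    have hs0 : Real.sqrt 5 ≠ 0 := by
      intro h0; rw [h0] at hs; norm_num at hs
    obtain ⟨m, hm⟩ := srg_integrality G h (by norm_num) (by norm_num)
      (-1 + Real.sqrt 5) (-1 - Real.sqrt 5)
      (by intro h; apply hs0; linarith) (by norm_num) (by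
        have : (-1 + Real.sqrt 5) * (-1 - Real.sqrt 5) =
            1 - (Real.sqrt 5 * Real.sqrt 5) := by ring
        rw [this, hs]; norm_num)
    have h3 : ((2 * (m : ℝ) - 21)) * Real.sqrt 5 = 15 := by
      have e : (-1 + Real.sqrt 5 - (-1 - Real.sqrt 5)) = 2 * Real.sqrt 5 := by ring
      rw [e] at hm
      push_cast at hm
      linear_combination hm
    have h4 : ((2 * (m : ℝ) - 21)) ^ 2 * 5 = 15 ^ 2 := by
      have : ((2 * (m : ℝ) - 21) * Real.sqrt 5) ^ 2 = 15 ^ 2 := by rw [h3]
      rw [mul_pow, pow_two (Real.sqrt 5), hs] at this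
      rw [this]
    have h5 : ((2 * (m : ℤ) - 21)) ^ 2 = 45 := by
      have : ((2 * (m : ℤ) - 21)) ^ 2 * 5 = 15 ^ 2 := by exact_mod_cast h4
      omega
    have h6 := congrArg (Int.cast : ℤ → ZMod 16) h5
    push_cast at h6
    have h7 : ((45 : ℕ) : ZMod 16) = 13 := by decide
    exact not_sq_mod16 _ (h6.trans (by exact_mod_cast h7))

end Cfsg.Agent.Helper93.R3
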