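import Mathlib

/-!
# Integrality of eigenvalue multiplicities for strongly regular graphs; the parameters
`(100, 22, ℓ, μ)` force `ℓ = 0`, `μ = 6`
-/

set_option autoImplicit false

namespace Cfsg.Agent.Helper93.R3

open Matrix


/-- the trace of an idempotent real matrix is a natural number -/
theorem trace_idempotent {n : Type*} [Fintype n] [DecidableEq n] (E : Matrix n n ℝ)
    (hE : E * E = E) : ∃ m : ℕ, E.trace = m := by
  have hid : IsIdempotentElem (Matrix.toLin' E) := by
    show Matrix.toLin' E * Matrix.toLin' E = Matrix.toLin' E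
    rw [Module.End.mul_eq_comp, ← Matrix.toLin'_mul, hE]
  have h := (LinearMap.IsIdempotentElem.isProj_range _ hid).trace
  rw [Matrix.trace_toLin'_eq] at h
  exact ⟨_, h⟩

/-- trace of a real matrix annihilated by `(X - r)(X - s)` -/
theorem trace_of_quadratic {n : Type*} [Fintype n] [DecidableEq n] (M : Matrix n n ℝ) (r s : ℝ)
    (hrs : r ≠ s) (h : (M - r • (1 : Matrix n n ℝ)) * (M - s • (1 : Matrix n n ℝ)) = 0) :
    ∃ m : ℕ, M.trace - Fintype.card n * s = m * (r - s) := by
  have hrs' : r - s ≠ 0 := sub_ne_zero.mpr hrs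
  have h2 : (M - s • (1 : Matrix n n ℝ)) * (M - s • (1 : Matrix n n ℝ)) =
      (r - s) • (M - s • (1 : Matrix n n ℝ)) := by
    have : M - s • (1 : Matrix n n ℝ) = (M - r • (1 : Matrix n n ℝ)) + (r - s) • 1 := by
      rw [sub_smul]; abel
    calc (M - s • (1 : Matrix n n ℝ)) * (M - s • (1 : Matrix n n ℝ))
        = ((M - r • (1 : Matrix n n ℝ)) + (r - s) • 1) * (M - s • (1 : Matrix n n ℝ)) := by
          rw [← this]
      _ = (r - s) • (M - s • (1 : Matrix n n ℝ)) := by
          rw [add_mul, h, zero_add, smul_mul_assoc, one_mul]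
  obtain ⟨m, hm⟩ := trace_idempotent ((r - s)⁻¹ • (M - s • (1 : Matrix n n ℝ))) (by
    rw [smul_mul_smul_comm, h2, smul_smul, mul_assoc, inv_mul_cancel₀ hrs', mul_one])
  refine ⟨m, ?_⟩
  rw [Matrix.trace_smul, Matrix.trace_sub, Matrix.trace_smul, Matrix.trace_one, smul_eq_mul,
    smul_eq_mul] at hm
  field_simp at hm
  linarith



theorem quad_identity {V : Type*} [Fintype V] [DecidableEq V] (A J : Matrix V V ℝ)
    (n k ℓ μ c r s : ℝ)
    (hAJ : A * J = k • J) (hJA : J * A = k • J) (hJJ : J * J = n • J)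
    (hA2 : A * A = k • (1 : Matrix V V ℝ) + ℓ • A + μ • (J - 1 - A))
    (h1 : r + s = ℓ - μ) (h2 : r * s = μ - k)
    (h3 : μ - 2 * c * k + c ^ 2 * n + c * (r + s) = 0) :
    (A - c • J - r • (1 : Matrix V V ℝ)) * (A - c • J - s • (1 : Matrix V V ℝ)) = 0 := by
  have e : (A - c • J - r • (1 : Matrix V V ℝ)) * (A - c • J - s • (1 : Matrix V V ℝ)) =
      A * A - c • (A * J) - s • A - c • (J * A) + (c * c) • (J * J) + (c * s) • J - r • A
        + (r * c) • J + (r * s) • (1 : Matrix V V ℝ) := by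
    simp only [sub_mul, mul_sub, smul_mul_assoc, mul_smul_comm, one_mul, mul_one, smul_smul,
      smul_sub]
    module
  rw [e, hAJ, hJA, hJJ, hA2]
  have hl : ℓ = r + s + μ := by linarith
  have hk : k = μ - r * s := by linarith
  have : (μ - 2 * c * k + c ^ 2 * n + c * (r + s)) • J = 0 := by rw [h3, zero_smul]
  rw [← this, hl]
  nth_rewrite 1 [hk]
  module





theorem srg_integrality {V : Type*} [Fintype V] [DecidableEq V] (G : SimpleGraph V)
    [DecidableRel G.Adj] {n k ℓ μ : ℕ} (h : G.IsSRGWith n k ℓ μ) (hn : 0 < n)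
    (hp : (k : ℝ) * (k - ℓ - 1) = ((n : ℝ) - k - 1) * μ)
    (r s : ℝ) (hrs : r ≠ s)
    (h1 : r + s = (ℓ : ℝ) - μ) (h2 : r * s = (μ : ℝ) - k) :
    ∃ m : ℕ, (m : ℝ) * (r - s) = -(k : ℝ) - ((n : ℝ) - 1) * s := by
  classical
  set A : Matrix V V ℝ := G.adjMatrix ℝ with hA
  set J : Matrix V V ℝ := Matrix.of (fun _ _ => (1 : ℝ)) with hJ
  have hn' : (n : ℝ) ≠ 0 := by exact_mod_cast hn.ne'
  have hdeg : ∀ x, (G.neighborFinset x).card = k := fun x => h.regular x
  have hAJ : A * J = (k : ℝ) • J := by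
    ext x y
    rw [hA, SimpleGraph.adjMatrix_mul_apply]
    simp [hJ, hdeg x]
  have hJA : J * A = (k : ℝ) • J := by
    ext x y
    rw [hA, SimpleGraph.mul_adjMatrix_apply]
    simp [hJ, hdeg y]
  have hJJ : J * J = (n : ℝ) • J := by
    ext x y
    simp [hJ, Matrix.mul_apply, h.card]
  have hC : Gᶜ.adjMatrix ℝ = J - 1 - A := by
    ext x y
    simp only [hA, hJ, SimpleGraph.adjMatrix_apply, SimpleGraph.compl_adj, Matrix.sub_apply,
      Matrix.of_apply, Matrix.one_apply]
    by_cases hxy : x = y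
    · subst hxy
      simp
    · by_cases ha : G.Adj x y <;> simp [hxy, ha]
  have hA2 : A * A = (k : ℝ) • (1 : Matrix V V ℝ) + (ℓ : ℝ) • A + (μ : ℝ) • (J - 1 - A) := by
    have := h.matrix_eq (α := ℝ)
    rw [pow_two, hC] at this
    rw [this]
    simp only [Nat.cast_smul_eq_nsmul]
    rfl
  set c : ℝ := ((k : ℝ) - s) / n with hc
  have h3 : (μ : ℝ) - 2 * c * k + c ^ 2 * n + c * (r + s) = 0 := by
    rw [hc]
    field_simp
    linear_combination (k : ℝ) * h1 - h2 - hp
  have hq := quad_identity A J n k ℓ μ c r s hAJ hJA hJJ hA2 h1 h2 h3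
  obtain ⟨m, hm⟩ := trace_of_quadratic (A - c • J) r s hrs hq
  refine ⟨m, ?_⟩
  rw [← hm, Matrix.trace_sub, Matrix.trace_smul, hA, SimpleGraph.trace_adjMatrix, h.card]
  have hJt : J.trace = n := by
    simp [hJ, Matrix.trace, h.card]
  rw [hJt, hc, smul_eq_mul]
  field_simp
  ring




theorem not_sq_mod64 : ∀ u : ZMod 64, u ^ 2 ≠ 32 := by decide

/-- the parameters of a strongly regular graph on 100 vertices of valency 22 -/
theorem srg_100_22 {V : Type*} [Fintype V] [DecidableEq V] (G : SimpleGraph V)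
    [DecidableRel G.Adj] {ℓ μ : ℕ} (h : G.IsSRGWith 100 22 ℓ μ) : ℓ = 0 ∧ μ = 6 := by
  classical
  -- the bound on ℓ
  have hV : Nonempty V := by
    rw [← Fintype.card_pos_iff, h.card]; norm_num
  obtain ⟨v⟩ := hV
  have hdeg : (G.neighborFinset v).card = 22 := h.regular v
  obtain ⟨w, hw⟩ : (G.neighborFinset v).Nonempty := by
    rw [← Finset.card_pos, hdeg]; norm_num
  have hvw : G.Adj v w := (G.mem_neighborFinset v w).mp hw
  have hl : ℓ ≤ 21 := by
    have h1 := h.of_adj v w hvw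
    rw [← h1, ← Set.toFinset_card]
    have hsub : (G.commonNeighbors v w).toFinset ⊆ (G.neighborFinset v).erase w := by
      intro x hx
      rw [Set.mem_toFinset, SimpleGraph.mem_commonNeighbors] at hx
      rw [Finset.mem_erase, SimpleGraph.mem_neighborFinset]
      exact ⟨fun hxw => G.loopless.irrefl w (hxw ▸ hx.2), hx.1⟩
    calc _ ≤ ((G.neighborFinset v).erase w).card := Finset.card_le_card hsub
      _ = 21 := by rw [Finset.card_erase_of_mem hw, hdeg]
  have hpar := SimpleGraph.IsSRGWith.param_eq G h (by norm_num)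
  have hcases : (ℓ = 21 ∧ μ = 0) ∨ (ℓ = 14 ∧ μ = 2) ∨ (ℓ = 7 ∧ μ = 4) ∨ (ℓ = 0 ∧ μ = 6) := by
    omega
  rcases hcases with ⟨rfl, rfl⟩ | ⟨rfl, rfl⟩ | ⟨rfl, rfl⟩ | h0
  · exfalso
    obtain ⟨m, hm⟩ := srg_integrality G h (by norm_num) (by norm_num) 22 (-1) (by norm_num)
      (by norm_num) (by norm_num)
    have : (m : ℝ) * 23 = 77 := by
      rw [← sub_eq_zero]; rw [← sub_eq_zero] at hm; linear_combination hm
    have h2 : m * 23 = 77 := by exact_mod_cast this
    omega
  · exfalso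
    have hs : Real.sqrt 14 * Real.sqrt 14 = 14 := Real.mul_self_sqrt (by norm_num)
    have hs0 : Real.sqrt 14 ≠ 0 := by
      intro h0; rw [h0] at hs; norm_num at hs
    obtain ⟨m, hm⟩ := srg_integrality G h (by norm_num) (by norm_num)
      (6 + 2 * Real.sqrt 14) (6 - 2 * Real.sqrt 14)
      (by intro h; apply hs0; linarith) (by norm_num) (by
        have : (6 + 2 * Real.sqrt 14) * (6 - 2 * Real.sqrt 14) =
            36 - 4 * (Real.sqrt 14 * Real.sqrt 14) := by ring
        rw [this, hs]; norm_num)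
    have h3 : ((4 * (m : ℝ) - 198)) * Real.sqrt 14 = -616 := by
      have e : (6 + 2 * Real.sqrt 14 - (6 - 2 * Real.sqrt 14)) = 4 * Real.sqrt 14 := by ring
      rw [e] at hm
      push_cast at hm
      linear_combination hm
    have h4 : ((4 * (m : ℝ) - 198)) ^ 2 * 14 = 616 ^ 2 := by
      have : ((4 * (m : ℝ) - 198) * Real.sqrt 14) ^ 2 = (-616) ^ 2 := by rw [h3]
      rw [mul_pow, pow_two (Real.sqrt 14), hs] at this
      rw [this]; norm_num
    have h5 : ((4 * (m : ℤ) - 198)) ^ 2 = 27104 := by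
      have : ((4 * (m : ℤ) - 198)) ^ 2 * 14 = 616 ^ 2 := by exact_mod_cast h4
      omega
    have h6 := congrArg (Int.cast : ℤ → ZMod 64) h5
    push_cast at h6
    have h7 : ((27104 : ℕ) : ZMod 64) = 32 := by decide
    exact not_sq_mod64 _ (h6.trans (by exact_mod_cast h7))
  · exfalso
    obtain ⟨m, hm⟩ := srg_integrality G h (by norm_num) (by norm_num) 6 (-3) (by norm_num)
      (by norm_num) (by norm_num)
    have : (m : ℝ) * 9 = 275 := by
      rw [← sub_eq_zero]; rw [← sub_eq_zero] at hm; linear_combination hm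
    have h2 : m * 9 = 275 := by exact_mod_cast this
    omega
  · exact h0

end Cfsg.Agent.Helper93.R3
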