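/-
Helper93: counting in Steiner systems (numbers of blocks through an i-set; S(5,8,24) intersection counts with a 3-set).
-/
import Mathlib
import Cfsg.Prelude.Def_Sporadic_a

set_option autoImplicit false

namespace Cfsg.Agent.Helper93

open Finset

section steiner
variable {α : Type*} [DecidableEq α]

/-- number of members of a finite family containing a given set -/
def nAbove (Bf : Finset (Finset α)) (I : Finset α) : ℕ := (Bf.filter fun b => I ⊆ b).card

/-- one step of the recursion for the numbers of blocks through an `i`-set -/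
theorem nAbove_step [Fintype α] (Bf : Finset (Finset α)) (k : ℕ) (hk : ∀ b ∈ Bf, b.card = k) (L : ℕ) (i : ℕ)
    (hL : ∀ J : Finset α, J.card = i + 1 → nAbove Bf J = L) (I : Finset α) (hI : I.card = i) :
    nAbove Bf I * (k - i) = (Fintype.card α - i) * L := by
  have h := Finset.sum_card_bipartiteAbove_eq_sum_card_bipartiteBelow (s := (univ : Finset α) \ I)
    (t := Bf.filter fun b => I ⊆ b) (r := fun x b => x ∈ b)
  have h1 : ∀ x ∈ (univ : Finset α) \ I,
      ((Bf.filter fun b => I ⊆ b).bipartiteAbove (fun x b => x ∈ b) x).card = L := by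
    intro x hx
    rw [← hL (insert x I) (by rw [Finset.card_insert_of_notMem (by simpa using hx), hI])]
    unfold nAbove Finset.bipartiteAbove
    rw [Finset.filter_filter]
    congr 1
    ext b
    simp only [Finset.mem_filter, Finset.insert_subset_iff]
    tauto
  have h2 : ∀ b ∈ Bf.filter fun b => I ⊆ b,
      (((univ : Finset α) \ I).bipartiteBelow (fun x b => x ∈ b) b).card = k - i := by
    intro b hb
    rw [Finset.mem_filter] at hb
    have : ((univ : Finset α) \ I).bipartiteBelow (fun x b => x ∈ b) b = b \ I := by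
      unfold Finset.bipartiteBelow
      ext x
      simp only [Finset.mem_filter, Finset.mem_sdiff, Finset.mem_univ, true_and]
      tauto
    rw [this, Finset.card_sdiff_of_subset hb.2, hk b hb.1, hI]
  rw [Finset.sum_congr rfl h1, Finset.sum_congr rfl h2, Finset.sum_const, Finset.sum_const, smul_eq_mul,
    smul_eq_mul, Finset.card_sdiff_of_subset (Finset.subset_univ I), Finset.card_univ, hI] at h
  unfold nAbove
  exact h.symm

/-- the sum over blocks of `choose |b ∩ Y| k` counts pairs (k-subset of Y, block containing it) -/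
theorem sum_choose_inter (Bf : Finset (Finset α)) (Y : Finset α) (k : ℕ) :
    ∑ b ∈ Bf, (b ∩ Y).card.choose k = ∑ I ∈ Y.powersetCard k, nAbove Bf I := by
  have h := Finset.sum_card_bipartiteAbove_eq_sum_card_bipartiteBelow (s := Y.powersetCard k)
    (t := Bf) (r := fun I b => I ⊆ b)
  unfold nAbove
  rw [show (∑ I ∈ Y.powersetCard k, (Bf.filter fun b => I ⊆ b).card) =
    ∑ I ∈ Y.powersetCard k, (Bf.bipartiteAbove (fun I b => I ⊆ b) I).card from rfl, h]
  refine Finset.sum_congr rfl fun b _ => ?_
  have : (Y.powersetCard k).bipartiteBelow (fun I b => I ⊆ b) b = (b ∩ Y).powersetCard k := by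
    unfold Finset.bipartiteBelow
    ext I
    simp only [Finset.mem_filter, Finset.mem_powersetCard, Finset.subset_inter_iff]
    tauto
  rw [this, Finset.card_powersetCard]

theorem sum_fiber_inter (Bf : Finset (Finset α)) (Y : Finset α) (hY : Y.card = 3) (g : ℕ → ℕ) :
    ∑ b ∈ Bf, g (b ∩ Y).card = ∑ j ∈ range 4, (Bf.filter fun b => (b ∩ Y).card = j).card * g j := by
  rw [← Finset.sum_fiberwise_of_maps_to (s := Bf) (t := range 4) (g := fun b => (b ∩ Y).card)
    (f := fun b => g (b ∩ Y).card)]
  · refine Finset.sum_congr rfl fun j _ => ?_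
    rw [Finset.sum_congr rfl (g := fun _ => g j), Finset.sum_const, smul_eq_mul]
    intro b hb
    rw [(Finset.mem_filter.mp hb).2]
  · intro b _
    have := Finset.card_le_card (Finset.inter_subset_right (s₁ := b) (s₂ := Y))
    simp only [Finset.mem_range]
    omega



open Classical in
theorem steiner_5_8_24_counts [Fintype α] (hα : Fintype.card α = 24) (B : Set (Finset α))
    (hB : Cfsg.IsSteinerSystem 5 8 B) (Y : Finset α) (hY : Y.card = 3) :
    {b : Finset α | b ∈ B ∧ (b ∩ Y).card = 3}.ncard = 21 ∧
    {b : Finset α | b ∈ B ∧ (b ∩ Y).card = 2}.ncard = 168 ∧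
    {b : Finset α | b ∈ B ∧ (b ∩ Y).card = 1}.ncard = 360 ∧
    {b : Finset α | b ∈ B ∧ (b ∩ Y).card = 0}.ncard = 210 := by
  set Bf : Finset (Finset α) := univ.filter fun b => b ∈ B with hBf
  have hk : ∀ b ∈ Bf, b.card = 8 := fun b hb => hB.1 b (Finset.mem_filter.mp hb).2
  have h5 : ∀ J : Finset α, J.card = 4 + 1 → nAbove Bf J = 1 := by
    intro J hJ
    obtain ⟨b0, hb0, hb0u⟩ := hB.2 J hJ
    unfold nAbove
    rw [Finset.card_eq_one]
    refine ⟨b0, ?_⟩
    ext b
    simp only [hBf, Finset.mem_filter, Finset.mem_univ, true_and, Finset.mem_singleton]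
    constructor
    · intro h; exact hb0u b h
    · rintro rfl; exact hb0
  have h4 : ∀ J : Finset α, J.card = 3 + 1 → nAbove Bf J = 5 := by
    intro J hJ
    have := nAbove_step Bf 8 hk 1 4 h5 J hJ
    rw [hα] at this
    omega
  have h3 : ∀ J : Finset α, J.card = 2 + 1 → nAbove Bf J = 21 := by
    intro J hJ
    have := nAbove_step Bf 8 hk 5 3 h4 J hJ
    rw [hα] at this
    omega
  have h2 : ∀ J : Finset α, J.card = 1 + 1 → nAbove Bf J = 77 := by
    intro J hJ
    have := nAbove_step Bf 8 hk 21 2 h3 J hJ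
    rw [hα] at this
    omega
  have h1 : ∀ J : Finset α, J.card = 0 + 1 → nAbove Bf J = 253 := by
    intro J hJ
    have := nAbove_step Bf 8 hk 77 1 h2 J hJ
    rw [hα] at this
    omega
  have h0 : ∀ J : Finset α, J.card = 0 → nAbove Bf J = 759 := by
    intro J hJ
    have := nAbove_step Bf 8 hk 253 0 h1 J hJ
    rw [hα] at this
    omega
  obtain ⟨n, hn⟩ : ∃ n : ℕ → ℕ, ∀ j, n j = (Bf.filter fun b => (b ∩ Y).card = j).card := ⟨_, fun _ => rfl⟩
  have hsum : ∀ (k L : ℕ), (∀ J : Finset α, J.card = k → nAbove Bf J = L) →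
      ∑ j ∈ range 4, n j * j.choose k = (3).choose k * L := by
    intro k L hL
    simp only [hn]
    rw [← sum_fiber_inter Bf Y hY (fun j => j.choose k), sum_choose_inter,
      Finset.sum_congr rfl (fun I hI => hL I (Finset.mem_powersetCard.mp hI).2), Finset.sum_const,
      Finset.card_powersetCard, hY, smul_eq_mul]
  have e0 := hsum 0 759 h0
  have e1 := hsum 1 253 h1
  have e2 := hsum 2 77 h2
  have e3 := hsum 3 21 h3
  simp only [Finset.sum_range_succ, Finset.sum_range_zero] at e0 e1 e2 e3
  norm_num [Nat.choose] at e0 e1 e2 e3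
  have hset : ∀ j : ℕ, {b : Finset α | b ∈ B ∧ (b ∩ Y).card = j}.ncard = n j := by
    intro j
    rw [hn, ← Set.ncard_coe_finset]
    congr 1
    ext b
    simp [hBf]
  simp only [hset]
  omega

end steiner

end Cfsg.Agent.Helper93
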