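import Cfsg.Agent.Helper51.TorD.Defs
import Cfsg.Agent.Helper18.WeylHomData
import Cfsg.Agent.Helper18.CoxFaithData
import Cfsg.Agent.Helper36.FieldFix
import Cfsg.Agent.Helper36.SigmaFix
import Cfsg.Agent.Helper40.CoxData.CoxF4
import Cfsg.Agent.Helper40.CoxData.CoxE8
import Cfsg.Agent.S1031
import Cfsg.Agent.S1046
import Cfsg.Agent.Helper18.BNStruct
import Cfsg.Agent.Helper18.Ree.DiagChar

/-!
helper93: piece (NSTEP) of helper51's farm #13792 (Chevalley side `TorData` for `F₄`, `E₈`; S2372/S2375):
conjugation of the torus by `n_{p_i}(1)` acts on the torus coordinates through `reflM D i`.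

Auxiliary (own, generic field, no finiteness): `NSTEP_tconj` (the torus acts on root elements through `chi`),
`NSTEP_text` (torus elements with equal characters are equal), `NSTEP_chi_zact` (characters of
`zact (reflM D i) c`).
-/

set_option autoImplicit false
set_option maxRecDepth 100000
set_option linter.unusedVariables false

namespace Cfsg.Agent.Helper93.TorD

open Cfsg Cfsg.Lie Cfsg.Agent.Helper18 Cfsg.Agent.Helper80.Tor Cfsg.Agent.Helper51.TorD
  Cfsg.Agent.Helper36.FieldFix Cfsg.Agent.Helper36.BaseChange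

variable {K : Type*} [Field K] (D : ChevalleyDatum)
  (hD : D ∈ [chevG2, chevB2, chevD4, chevF4, chevE6, chevE7, chevE8])

/-- the torus acts on the root groups through the characters `chi` (generic field) -/
theorem NSTEP_tconj (hD : D ∈ [chevG2, chevB2, chevD4, chevF4, chevE6, chevE7, chevE8])
    (c : Fin D.rank → Kˣ) (s : ℕ) (hs : s < D.nroots) (t : K) :
    torusHom D K c * xGL D K s t * (torusHom D K c)⁻¹ = xGL D K s (((chi D s c : Kˣ) : K) * t) := by
  obtain ⟨χ, -, hd, hc, -⟩ := Cfsg.Agent.Helper18.Ree.diag_char_neg D hD _ (torusHom_mem D hD (F := K) c)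
  have h1 := hc s hs t
  rw [mul_inv_eq_iff_eq_mul]
  have h2 : χ s = ((chi D s c : Kˣ) : K) := by
    have h3 := congrFun (congrFun hd (Sum.inr ⟨s, hs⟩)) (Sum.inr ⟨s, hs⟩)
    rw [Matrix.diagonal_apply_eq] at h3
    simp only [Sum.elim_inr] at h3
    rw [← h3]
    rw [torusHom_val, Matrix.diagonal_apply_eq]
    simp only [torusChar, MonoidHom.coe_mk, OneHom.coe_mk, Sum.elim_inr]
    rfl
  rw [← h2]
  exact h1

/-- torus elements with equal characters are equal -/
theorem NSTEP_text (c d : Fin D.rank → Kˣ) (h : ∀ s < D.nroots, chi D s c = chi D s d) :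
    torusHom D K c = torusHom D K d := by
  apply Units.ext
  rw [torusHom_val, torusHom_val]
  congr 1
  funext j
  rcases j with a | ⟨s, hs⟩
  · rfl
  · have h1 := h s hs
    have h2 : ((chi D s c : Kˣ) : K) = ((chi D s d : Kˣ) : K) := by rw [h1]
    exact h2

/-- the characters of `zact (reflM D i) c` -/
theorem NSTEP_chi_zact (hD : D ∈ [chevG2, chevB2, chevD4, chevF4, chevE6, chevE7, chevE8])
    (i : Fin D.rank) (s : ℕ) (hs : s < D.nroots) (c : Fin D.rank → Kˣ) :
    chi D s (zact (reflM D i) c) = chi D (D.reflectRoot i.val s) c := by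
  classical
  have hT : ∀ j : Fin D.rank, D.cartan j.val (D.reflectRoot i.val s)
      = D.cartan j.val s - D.cartan i.val s * D.cartan j.val (D.simple i.val) :=
    fun j => cartan_reflect D hD i.val j.val s i.2 j.2 hs
  unfold chi
  simp only [zact_apply]
  have h1 : ∀ k : Fin D.rank, (∏ j : Fin D.rank, c j ^ reflM D i j k) ^ D.cartan k.val s
      = ∏ j : Fin D.rank, c j ^ (reflM D i j k * D.cartan k.val s) := by
    intro k
    rw [← Finset.prod_zpow]
    exact Finset.prod_congr rfl (fun j _ => (zpow_mul _ _ _).symm)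
  rw [Finset.prod_congr rfl (fun k _ => h1 k), Finset.prod_comm]
  refine Finset.prod_congr rfl (fun j _ => ?_)
  rw [← zpow_finset_sum, hT j]
  congr 1
  unfold reflM
  simp only [Matrix.of_apply, sub_mul, Finset.sum_sub_distrib, ite_mul, one_mul, zero_mul]
  rw [Finset.sum_ite_eq Finset.univ j (fun k => D.cartan k.val s)]
  simp only [Finset.mem_univ, if_true]
  congr 1
  rw [Finset.sum_ite_eq' Finset.univ i]
  simp only [Finset.mem_univ, if_true]
  ring

/-- (NSTEP) conjugation of the torus by `n_{p_i}(1)` -/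
theorem nGL_conj_torusHom (hD : D ∈ [chevG2, chevB2, chevD4, chevF4, chevE6, chevE7, chevE8])
    (hrefl : reflOK D = true) (i : Fin D.rank) (c : Fin D.rank → Kˣ) :
    wordGL D K (D.nWord (D.simple i.val) (1 : K)) * torusHom D K c *
        (wordGL D K (D.nWord (D.simple i.val) (1 : K)))⁻¹ =
      torusHom D K (zact (reflM D i) c) := by
  classical
  have htri := triOK_of_mem D hD
  have hsim := simpleOK_of_mem D hD
  set n : GL D.Idx K := wordGL D K (D.nWord (D.simple i.val) (1 : K)) with hn
  have hnN : n ∈ D.monomialSubgroup K :=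
    nGL_mem_monomialSubgroup D hD (D.simple i.val) (simple_lt D hsim i.val i.2)
  have hkH : n * torusHom D K c * n⁻¹ ∈ D.diagonalSubgroup K := by
    have h1 := monomialSubgroup_le_normalizer D hD hnN
    rw [Subgroup.mem_normalizer_iff] at h1
    exact (h1 _).1 (torusHom_mem D hD c)
  rw [← torusHom_range D hD] at hkH
  obtain ⟨c', hc'⟩ := hkH
  rw [← hc']
  apply NSTEP_text
  intro s hs
  rw [NSTEP_chi_zact D hD i s hs c]
  have hs' : D.reflectRoot i.val s < D.nroots := reflectRoot_lt D hD i.val s i.2 hs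
  obtain ⟨η, hη, hconj⟩ := nGL_conj_xGL (F := K) D hD (nConjHyp D hD) i.val (D.reflectRoot i.val s) i.2 hs'
  rw [reflectRoot_reflectRoot D hD i.val s i.2 hs, ← hn] at hconj
  have hη0 : ((η : ℤ) : K) ≠ 0 := by
    rcases hη with rfl | rfl
    · simp
    · simp
  have e1 := NSTEP_tconj D hD c' s hs (((η : ℤ) : K) * 1)
  have e2 : torusHom D K c' * xGL D K s (((η : ℤ) : K) * 1) * (torusHom D K c')⁻¹
      = xGL D K s (((η : ℤ) : K) * (((chi D (D.reflectRoot i.val s) c : Kˣ) : K) * 1)) := by
    have a1 : xGL D K s (((η : ℤ) : K) * 1)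
        = n * xGL D K (D.reflectRoot i.val s) 1 * n⁻¹ := by
      rw [eq_mul_inv_iff_mul_eq]
      exact (hconj 1).symm
    have a2 := NSTEP_tconj D hD c (D.reflectRoot i.val s) hs' 1
    have a3 : xGL D K s (((η : ℤ) : K) * (((chi D (D.reflectRoot i.val s) c : Kˣ) : K) * 1))
        = n * xGL D K (D.reflectRoot i.val s) (((chi D (D.reflectRoot i.val s) c : Kˣ) : K) * 1)
          * n⁻¹ := by
      rw [eq_mul_inv_iff_mul_eq]
      exact (hconj _).symm
    rw [a3, ← a2, a1, hc']
    group
  rw [e1] at e2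
  have e3 := x_injective D hD s hs _ _ (by
    have := congrArg (fun g : GL D.Idx K => (g : Matrix D.Idx D.Idx K)) e2
    simpa only [xGL_val D _ htri] using this)
  apply Units.ext
  have e4 : ((chi D s c' : Kˣ) : K) * ((η : ℤ) : K) =
      ((η : ℤ) : K) * ((chi D (D.reflectRoot i.val s) c : Kˣ) : K) := by
    simpa only [mul_one] using e3
  rw [mul_comm] at e4
  exact mul_left_cancel₀ hη0 e4

end Cfsg.Agent.Helper93.TorD
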