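/-
Helper93: sextets against a 3-subset `Y`: the stabiliser of `Y` in `M24` has three orbits on
sextets (21, 630, 1120), told apart by the number of tetrads meeting `Y`.
-/
import Cfsg.Agent.Helper93.GrpTri
import Cfsg.Agent.Helper93.Classes

set_option autoImplicit false
set_option maxRecDepth 100000

namespace Cfsg.Agent.Helper93

open Cfsg Cfsg.Agent.Helper7
open scoped Pointwise

/-- number of members of the family `S` meeting `Y` -/
def cntMeet (Y : Finset GolayPt) (S : Finset (Finset GolayPt)) : ℕ :=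
  (S.filter fun t => (t ∩ Y).Nonempty).card

theorem cntMeet_smul (h : Equiv.Perm GolayPt) (Y : Finset GolayPt) (S : Finset (Finset GolayPt)) :
    cntMeet (h • Y) (h • S) = cntMeet Y S := by
  classical
  unfold cntMeet
  have h1 : (h • S) = S.image (fun t => h • t) := rfl
  rw [h1, Finset.filter_image, Finset.card_image_of_injective _ (MulAction.injective h)]
  congr 1
  apply Finset.filter_congr
  intro t _
  rw [← Finset.smul_finset_inter, Finset.smul_finset_nonempty]

theorem sm_eq_empty_iff {m : ℕ} (hm : m < 2 ^ 24) : sm m = ∅ ↔ m = 0 := by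
  constructor
  · intro h
    exact sm_inj hm (by norm_num) (h.trans sm_zero.symm)
  · rintro rfl
    exact sm_zero

/-- the count on masks -/
def cntM (y : ℕ) (ms : List ℕ) : ℕ := (ms.filter fun m => !Nat.beq (m &&& y) 0).length

theorem cntMeet_smL {ms : List ℕ} (h1 : ms.Pairwise (· < ·)) (hlt : ∀ m ∈ ms, m < 2 ^ 24) (y : ℕ) :
    cntMeet (sm y) (smL ms) = cntM y ms := by
  classical
  have hne : ∀ m ∈ ms, ((sm m ∩ sm y).Nonempty ↔ (!Nat.beq (m &&& y) 0) = true) := by
    intro m hm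
    have hlt' : m &&& y < 2 ^ 24 := lt_of_le_of_lt Nat.and_le_left (hlt m hm)
    rw [← sm_land, Finset.nonempty_iff_ne_empty, Ne, sm_eq_empty_iff hlt']
    by_cases h0 : m &&& y = 0
    · simp [h0]
    · have : Nat.beq (m &&& y) 0 = false := by
        rw [Bool.eq_false_iff]; intro h; exact h0 (Nat.eq_of_beq_eq_true h)
      simp [h0, this]
  have h2 : (smL ms).filter (fun t => (t ∩ sm y).Nonempty) =
      ((ms.filter fun m => !Nat.beq (m &&& y) 0).map sm).toFinset := by
    ext t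
    rw [Finset.mem_filter, mem_smL, List.mem_toFinset, List.mem_map]
    constructor
    · rintro ⟨⟨m, hm, rfl⟩, hn⟩
      exact ⟨m, List.mem_filter.mpr ⟨hm, (hne m hm).mp hn⟩, rfl⟩
    · rintro ⟨m, hm, rfl⟩
      rw [List.mem_filter] at hm
      exact ⟨⟨m, hm.1, rfl⟩, (hne m hm.1).mpr hm.2⟩
  unfold cntMeet cntM
  rw [h2, List.toFinset_card_of_nodup, List.length_map]
  rw [List.nodup_map_iff_inj_on ((h1.imp (fun h => Nat.ne_of_lt h)).filter _)]
  intro a ha b hb hab
  exact sm_inj (hlt a (List.mem_filter.mp ha).1) (hlt b (List.mem_filter.mp hb).1) hab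

/-- the base 3-subset -/
def tri0 : Finset GolayPt := encSet.dec (triArr.a 2000)

theorem tri0_eq : tri0 = sm 11010048 := by
  have : triArr.a 2000 = 11010048 := by decide +kernel
  rw [tri0, this]
  rfl

/-- the label of a sextet determines the number of its tetrads meeting the base 3-subset -/
theorem k3Sext_cnt : allB 1771 (fun i =>
    Nat.beq (cntM 11010048 (unpackL 6 (sextArr.a i))) ([2, 3, 1].getD (getW 8 k3SextOID i) 99)) = true := by
  decide +kernel

theorem cntMeet_tri0 {i : ℕ} (hi : i < 1771) :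
    cntMeet tri0 ((encFam 6).dec (sextArr.a i)) = [2, 3, 1].getD (getW 8 k3SextOID i) 99 := by
  have h1 := allB_spec k3Sext_cnt i hi
  rw [← Nat.eq_of_beq_eq_true h1, tri0_eq]
  have hok := sextArr_ok
  rw [Arr.ok, Bool.and_eq_true] at hok
  have hg := allB_spec hok.1 i hi
  change (Nat.blt (sextArr.a i) (2 ^ (24 * 6)) && sortedB (unpackL 6 (sextArr.a i))) = true at hg
  rw [Bool.and_eq_true] at hg
  exact cntMeet_smL (sortedB_spec hg.2) (unpackL_lt 6 _) _

theorem orbit_tri0 {i : ℕ} (hi : i < 1771) :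
    MulAction.orbit (↥(stabPerm tri0)) ((encFam 6).dec (sextArr.a i)) =
      {y | ∃ i' < 1771, getW 8 k3SextOID i' = getW 8 k3SextOID i ∧
        y = (encFam 6).dec (sextArr.a i')} := by
  rw [tri0, ← k3_closure]
  exact k3Sext_orbit hi

theorem label_of_cnt {i : ℕ} (hi : i < 1771) :
    (cntMeet tri0 ((encFam 6).dec (sextArr.a i)) = 1 ↔ getW 8 k3SextOID i = 2) ∧
    (cntMeet tri0 ((encFam 6).dec (sextArr.a i)) = 2 ↔ getW 8 k3SextOID i = 0) ∧
    (cntMeet tri0 ((encFam 6).dec (sextArr.a i)) = 3 ↔ getW 8 k3SextOID i = 1) := by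
  rw [cntMeet_tri0 hi]
  have h3 := labels_lt' k3Sext_labels i hi
  have hcases : getW 8 k3SextOID i = 0 ∨ getW 8 k3SextOID i = 1 ∨ getW 8 k3SextOID i = 2 := by
    omega
  rcases hcases with h | h | h <;> rw [h] <;> decide

theorem sextets_cnt_eq (k l : ℕ)
    (hkl : ∀ i < 1771, cntMeet tri0 ((encFam 6).dec (sextArr.a i)) = k ↔ getW 8 k3SextOID i = l) :
    {S | S ∈ sextets ∧ cntMeet tri0 S = k} =
      {y | ∃ i' < 1771, getW 8 k3SextOID i' = l ∧ y = (encFam 6).dec (sextArr.a i')} := by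
  ext S
  rw [sextets_eq]
  constructor
  · rintro ⟨⟨i, hi, rfl⟩, hc⟩
    exact ⟨i, hi, (hkl i hi).mp hc, rfl⟩
  · rintro ⟨i, hi, hl, rfl⟩
    exact ⟨⟨i, hi, rfl⟩, (hkl i hi).mpr hl⟩

/-- the statement for the base 3-subset -/
theorem tri0_main :
    {S | S ∈ sextets ∧ cntMeet tri0 S = 1}.ncard = 21 ∧
    {S | S ∈ sextets ∧ cntMeet tri0 S = 2}.ncard = 630 ∧
    {S | S ∈ sextets ∧ cntMeet tri0 S = 3}.ncard = 1120 ∧
    ∀ S S' : Finset (Finset GolayPt), S ∈ sextets → S' ∈ sextets → cntMeet tri0 S = cntMeet tri0 S' →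
      ∃ g ∈ M24, g • tri0 = tri0 ∧ g • S = S' := by
  refine ⟨?_, ?_, ?_, ?_⟩
  · rw [sextets_cnt_eq 1 2 (fun i hi => (label_of_cnt hi).1), k3Sext_ncard2]
  · rw [sextets_cnt_eq 2 0 (fun i hi => (label_of_cnt hi).2.1), k3Sext_ncard0]
  · rw [sextets_cnt_eq 3 1 (fun i hi => (label_of_cnt hi).2.2), k3Sext_ncard1]
  · intro S S' hS hS' hc
    rw [sextets_eq] at hS hS'
    obtain ⟨i, hi, rfl⟩ := hS
    obtain ⟨i', hi', rfl⟩ := hS'
    rw [cntMeet_tri0 hi, cntMeet_tri0 hi'] at hc
    have h3 := labels_lt' k3Sext_labels i hi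
    have h3' := labels_lt' k3Sext_labels i' hi'
    have hlab : getW 8 k3SextOID i' = getW 8 k3SextOID i := by
      have hc1 : getW 8 k3SextOID i = 0 ∨ getW 8 k3SextOID i = 1 ∨ getW 8 k3SextOID i = 2 := by
        omega
      have hc2 : getW 8 k3SextOID i' = 0 ∨ getW 8 k3SextOID i' = 1 ∨ getW 8 k3SextOID i' = 2 := by
        omega
      rcases hc1 with h | h | h <;> rcases hc2 with h' | h' | h' <;> rw [h, h'] at hc <;>
        first | (rw [h, h']; done) | (exact absurd hc (by decide))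
    have hmem : (encFam 6).dec (sextArr.a i') ∈
        MulAction.orbit (↥(stabPerm tri0)) ((encFam 6).dec (sextArr.a i)) := by
      rw [orbit_tri0 hi]; exact ⟨i', hi', hlab, rfl⟩
    obtain ⟨g, hg⟩ := hmem
    exact ⟨g.1, (mem_stabPerm.mp g.2).1, (mem_stabPerm.mp g.2).2, hg⟩

/-- the 3-subsets are the decoded array -/
theorem triples_eq : {Y : Finset GolayPt | Y.card = 3} =
    {y | ∃ i < 2024, y = encSet.dec (triArr.a i)} := by
  apply class_eq_arr encSet triPAR triDEP 0 triArr_ok tri_rels tri_orb _ (Set.toFinite _)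
    (fun g _ y hy => by
      rw [Set.mem_ofPred_eq] at hy ⊢; rw [Finset.card_smul_finset]; exact hy) (i := 0) (by decide)
  · show (sm (triArr.a 0)).card = 3
    rw [card_sm]; decide +kernel
  · have : {Y : Finset GolayPt | Y.card = 3} =
        ((Finset.univ : Finset GolayPt).powersetCard 3 : Set (Finset GolayPt)) := by
      ext Y; simp [Finset.mem_powersetCard]
    rw [this, Set.ncard_coe_finset, Finset.card_powersetCard]
    decide

/-- the statement for every 3-subset -/
theorem tri_main (Y : Finset GolayPt) (hY : Y.card = 3) :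
    {S | S ∈ sextets ∧ cntMeet Y S = 1}.ncard = 21 ∧
    {S | S ∈ sextets ∧ cntMeet Y S = 2}.ncard = 630 ∧
    {S | S ∈ sextets ∧ cntMeet Y S = 3}.ncard = 1120 ∧
    ∀ S S' : Finset (Finset GolayPt), S ∈ sextets → S' ∈ sextets → cntMeet Y S = cntMeet Y S' →
      ∃ g ∈ M24, g • Y = Y ∧ g • S = S' := by
  obtain ⟨i, hi, rfl⟩ : ∃ i < 2024, Y = encSet.dec (triArr.a i) := by
    have : Y ∈ {Y : Finset GolayPt | Y.card = 3} := hY
    rw [triples_eq] at this; exact this
  obtain ⟨h, hh, hho⟩ := tri_exists_smul (i := 2000) (i' := i) (by decide) hi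
  rw [← hho]
  change _ ∧ _ ∧ _ ∧ ∀ S S' : Finset (Finset GolayPt), S ∈ sextets → S' ∈ sextets →
    cntMeet (h • tri0) S = cntMeet (h • tri0) S' → ∃ g ∈ M24, g • (h • tri0) = h • tri0 ∧ g • S = S'
  have himg : ∀ k, {S | S ∈ sextets ∧ cntMeet (h • tri0) S = k} =
      (fun S => h • S) '' {S | S ∈ sextets ∧ cntMeet tri0 S = k} := by
    intro k
    ext S
    constructor
    · rintro ⟨hS, hc⟩
      refine ⟨h⁻¹ • S, ⟨smul_mem_sextets (M24.inv_mem hh) hS, ?_⟩, smul_inv_smul h S⟩
      rw [← cntMeet_smul h, smul_inv_smul]; exact hc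
    · rintro ⟨S', ⟨hS', hc⟩, rfl⟩
      exact ⟨smul_mem_sextets hh hS', by rw [cntMeet_smul]; exact hc⟩
  obtain ⟨b1, b2, b3, b4⟩ := tri0_main
  refine ⟨?_, ?_, ?_, ?_⟩
  · rw [show (encSet.dec (triArr.a 2000)) = tri0 from rfl, himg,
      Set.ncard_image_of_injective _ (MulAction.injective h), b1]
  · rw [show (encSet.dec (triArr.a 2000)) = tri0 from rfl, himg,
      Set.ncard_image_of_injective _ (MulAction.injective h), b2]
  · rw [show (encSet.dec (triArr.a 2000)) = tri0 from rfl, himg,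
      Set.ncard_image_of_injective _ (MulAction.injective h), b3]
  · intro S S' hS hS' hc
    have hc' : cntMeet tri0 (h⁻¹ • S) = cntMeet tri0 (h⁻¹ • S') := by
      rw [← cntMeet_smul h, smul_inv_smul, ← cntMeet_smul h tri0 (h⁻¹ • S'), smul_inv_smul]
      exact hc
    obtain ⟨g, hg, hg1, hg2⟩ := b4 _ _ (smul_mem_sextets (M24.inv_mem hh) hS)
      (smul_mem_sextets (M24.inv_mem hh) hS') hc'
    refine ⟨h * g * h⁻¹, M24.mul_mem (M24.mul_mem hh hg) (M24.inv_mem hh), ?_, ?_⟩
    · rw [mul_smul, mul_smul, inv_smul_smul, hg1]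
    · rw [mul_smul, mul_smul, hg2, smul_inv_smul]

end Cfsg.Agent.Helper93
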