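/-
Helper93: explicit models of the unitriangular group `UT₅(2)` (ten coordinates) and of its
central quotient (nine coordinates), for S3171.
-/
import Mathlib

set_option autoImplicit false

namespace Cfsg.Agent.Helper93.UT5

/-- `UT₅(2)`: upper unitriangular `5 × 5` matrices over `𝔽₂`, by their entries above the diagonal -/
@[ext]
structure U10 where
  a12 : ZMod 2
  a13 : ZMod 2
  a14 : ZMod 2
  a15 : ZMod 2
  a23 : ZMod 2
  a24 : ZMod 2
  a25 : ZMod 2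
  a34 : ZMod 2
  a35 : ZMod 2
  a45 : ZMod 2
deriving DecidableEq

instance : Fintype U10 :=
  Fintype.ofEquiv (ZMod 2 × ZMod 2 × ZMod 2 × ZMod 2 × ZMod 2 × ZMod 2 × ZMod 2 × ZMod 2 × ZMod 2 × ZMod 2)
    { toFun := fun t => ⟨t.1, t.2.1, t.2.2.1, t.2.2.2.1, t.2.2.2.2.1, t.2.2.2.2.2.1, t.2.2.2.2.2.2.1,
        t.2.2.2.2.2.2.2.1, t.2.2.2.2.2.2.2.2.1, t.2.2.2.2.2.2.2.2.2⟩
      invFun := fun a => (a.a12, a.a13, a.a14, a.a15, a.a23, a.a24, a.a25, a.a34, a.a35, a.a45)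
      left_inv := fun _ => rfl
      right_inv := fun _ => rfl }

/-- the quotient of `UT₅(2)` by its centre (the corner entry is forgotten) -/
@[ext]
structure Q9 where
  a12 : ZMod 2
  a13 : ZMod 2
  a14 : ZMod 2
  a23 : ZMod 2
  a24 : ZMod 2
  a25 : ZMod 2
  a34 : ZMod 2
  a35 : ZMod 2
  a45 : ZMod 2
deriving DecidableEq

instance : Fintype Q9 :=
  Fintype.ofEquiv (ZMod 2 × ZMod 2 × ZMod 2 × ZMod 2 × ZMod 2 × ZMod 2 × ZMod 2 × ZMod 2 × ZMod 2)
    { toFun := fun t => ⟨t.1, t.2.1, t.2.2.1, t.2.2.2.1, t.2.2.2.2.1, t.2.2.2.2.2.1, t.2.2.2.2.2.2.1,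
        t.2.2.2.2.2.2.2.1, t.2.2.2.2.2.2.2.2⟩
      invFun := fun a => (a.a12, a.a13, a.a14, a.a23, a.a24, a.a25, a.a34, a.a35, a.a45)
      left_inv := fun _ => rfl
      right_inv := fun _ => rfl }

namespace U10

instance : Mul U10 := ⟨fun a b =>
  { a12 := a.a12 + b.a12
    a13 := a.a13 + b.a13 + a.a12 * b.a23
    a14 := a.a14 + b.a14 + a.a12 * b.a24 + a.a13 * b.a34
    a15 := a.a15 + b.a15 + a.a12 * b.a25 + a.a13 * b.a35 + a.a14 * b.a45
    a23 := a.a23 + b.a23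
    a24 := a.a24 + b.a24 + a.a23 * b.a34
    a25 := a.a25 + b.a25 + a.a23 * b.a35 + a.a24 * b.a45
    a34 := a.a34 + b.a34
    a35 := a.a35 + b.a35 + a.a34 * b.a45
    a45 := a.a45 + b.a45 }⟩

instance : One U10 := ⟨⟨0, 0, 0, 0, 0, 0, 0, 0, 0, 0⟩⟩

instance : Inv U10 := ⟨fun a =>
  { a12 := -a.a12
    a13 := -a.a13 + a.a12 * a.a23
    a14 := -a.a14 + (a.a12 * a.a24 + a.a13 * a.a34) - a.a12 * a.a23 * a.a34
    a15 := -a.a15 + (a.a12 * a.a25 + a.a13 * a.a35 + a.a14 * a.a45)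
      - (a.a12 * a.a23 * a.a35 + a.a12 * a.a24 * a.a45 + a.a13 * a.a34 * a.a45)
      + a.a12 * a.a23 * a.a34 * a.a45
    a23 := -a.a23
    a24 := -a.a24 + a.a23 * a.a34
    a25 := -a.a25 + (a.a23 * a.a35 + a.a24 * a.a45) - a.a23 * a.a34 * a.a45
    a34 := -a.a34
    a35 := -a.a35 + a.a34 * a.a45
    a45 := -a.a45 }⟩

theorem mul_def (a b : U10) : a * b =
  { a12 := a.a12 + b.a12
    a13 := a.a13 + b.a13 + a.a12 * b.a23
    a14 := a.a14 + b.a14 + a.a12 * b.a24 + a.a13 * b.a34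
    a15 := a.a15 + b.a15 + a.a12 * b.a25 + a.a13 * b.a35 + a.a14 * b.a45
    a23 := a.a23 + b.a23
    a24 := a.a24 + b.a24 + a.a23 * b.a34
    a25 := a.a25 + b.a25 + a.a23 * b.a35 + a.a24 * b.a45
    a34 := a.a34 + b.a34
    a35 := a.a35 + b.a35 + a.a34 * b.a45
    a45 := a.a45 + b.a45 } := rfl

theorem one_def : (1 : U10) = ⟨0, 0, 0, 0, 0, 0, 0, 0, 0, 0⟩ := rfl

theorem inv_def (a : U10) : a⁻¹ =
  { a12 := -a.a12
    a13 := -a.a13 + a.a12 * a.a23
    a14 := -a.a14 + (a.a12 * a.a24 + a.a13 * a.a34) - a.a12 * a.a23 * a.a34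
    a15 := -a.a15 + (a.a12 * a.a25 + a.a13 * a.a35 + a.a14 * a.a45)
      - (a.a12 * a.a23 * a.a35 + a.a12 * a.a24 * a.a45 + a.a13 * a.a34 * a.a45)
      + a.a12 * a.a23 * a.a34 * a.a45
    a23 := -a.a23
    a24 := -a.a24 + a.a23 * a.a34
    a25 := -a.a25 + (a.a23 * a.a35 + a.a24 * a.a45) - a.a23 * a.a34 * a.a45
    a34 := -a.a34
    a35 := -a.a35 + a.a34 * a.a45
    a45 := -a.a45 } := rfl

instance : Group U10 :=
  Group.ofLeftAxioms
    (by
      intro a b c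
      simp only [mul_def]
      ext <;> ring)
    (by
      intro a
      simp only [mul_def, one_def]
      ext <;> simp)
    (by
      intro a
      simp only [mul_def, one_def, inv_def]
      ext <;> ring)

end U10

namespace Q9

instance : Mul Q9 := ⟨fun a b =>
  { a12 := a.a12 + b.a12
    a13 := a.a13 + b.a13 + a.a12 * b.a23
    a14 := a.a14 + b.a14 + a.a12 * b.a24 + a.a13 * b.a34
    a23 := a.a23 + b.a23
    a24 := a.a24 + b.a24 + a.a23 * b.a34
    a25 := a.a25 + b.a25 + a.a23 * b.a35 + a.a24 * b.a45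
    a34 := a.a34 + b.a34
    a35 := a.a35 + b.a35 + a.a34 * b.a45
    a45 := a.a45 + b.a45 }⟩

instance : One Q9 := ⟨⟨0, 0, 0, 0, 0, 0, 0, 0, 0⟩⟩

instance : Inv Q9 := ⟨fun a =>
  { a12 := -a.a12
    a13 := -a.a13 + a.a12 * a.a23
    a14 := -a.a14 + (a.a12 * a.a24 + a.a13 * a.a34) - a.a12 * a.a23 * a.a34
    a23 := -a.a23
    a24 := -a.a24 + a.a23 * a.a34
    a25 := -a.a25 + (a.a23 * a.a35 + a.a24 * a.a45) - a.a23 * a.a34 * a.a45
    a34 := -a.a34
    a35 := -a.a35 + a.a34 * a.a45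
    a45 := -a.a45 }⟩

theorem mul_def (a b : Q9) : a * b =
  { a12 := a.a12 + b.a12
    a13 := a.a13 + b.a13 + a.a12 * b.a23
    a14 := a.a14 + b.a14 + a.a12 * b.a24 + a.a13 * b.a34
    a23 := a.a23 + b.a23
    a24 := a.a24 + b.a24 + a.a23 * b.a34
    a25 := a.a25 + b.a25 + a.a23 * b.a35 + a.a24 * b.a45
    a34 := a.a34 + b.a34
    a35 := a.a35 + b.a35 + a.a34 * b.a45
    a45 := a.a45 + b.a45 } := rfl

theorem one_def : (1 : Q9) = ⟨0, 0, 0, 0, 0, 0, 0, 0, 0⟩ := rfl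

theorem inv_def (a : Q9) : a⁻¹ =
  { a12 := -a.a12
    a13 := -a.a13 + a.a12 * a.a23
    a14 := -a.a14 + (a.a12 * a.a24 + a.a13 * a.a34) - a.a12 * a.a23 * a.a34
    a23 := -a.a23
    a24 := -a.a24 + a.a23 * a.a34
    a25 := -a.a25 + (a.a23 * a.a35 + a.a24 * a.a45) - a.a23 * a.a34 * a.a45
    a34 := -a.a34
    a35 := -a.a35 + a.a34 * a.a45
    a45 := -a.a45 } := rfl

instance : Group Q9 :=
  Group.ofLeftAxioms
    (by
      intro a b c
      simp only [mul_def]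
      ext <;> ring)
    (by
      intro a
      simp only [mul_def, one_def]
      ext <;> simp)
    (by
      intro a
      simp only [mul_def, one_def, inv_def]
      ext <;> ring)

end Q9

/-- forgetting the corner entry -/
def proj : U10 →* Q9 where
  toFun a := ⟨a.a12, a.a13, a.a14, a.a23, a.a24, a.a25, a.a34, a.a35, a.a45⟩
  map_one' := rfl
  map_mul' _ _ := rfl

theorem proj_surjective : Function.Surjective proj := by
  intro b
  exact ⟨⟨b.a12, b.a13, b.a14, 0, b.a23, b.a24, b.a25, b.a34, b.a35, b.a45⟩, rfl⟩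

theorem card_U10 : Fintype.card U10 = 1024 := by decide +kernel

theorem card_Q9 : Fintype.card Q9 = 512 := by decide +kernel

end Cfsg.Agent.Helper93.UT5
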