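/-
Helper93: the central quotient `Q9` of `UT₅(2)`: its unique abelian subgroup of order `64` and
the centres of its maximal subgroups (for S3171).
-/
import Mathlib
import Cfsg.Prelude.Def_Transfer
import Cfsg.Agent.Helper93.UT5Model

set_option autoImplicit false

namespace Cfsg.Agent.Helper93.UT5

/-- `UT₃(2)`, the quotient of `Q9` by its abelian normal subgroup of order `64` -/
@[ext]
structure T3 where
  b23 : ZMod 2
  b24 : ZMod 2
  b34 : ZMod 2
deriving DecidableEq, Fintype

namespace T3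

instance : Mul T3 := ⟨fun a b => ⟨a.b23 + b.b23, a.b24 + b.b24 + a.b23 * b.b34, a.b34 + b.b34⟩⟩
instance : One T3 := ⟨⟨0, 0, 0⟩⟩
instance : Inv T3 := ⟨fun a => ⟨-a.b23, -a.b24 + a.b23 * a.b34, -a.b34⟩⟩

theorem mul_def (a b : T3) :
    a * b = ⟨a.b23 + b.b23, a.b24 + b.b24 + a.b23 * b.b34, a.b34 + b.b34⟩ := rfl
theorem one_def : (1 : T3) = ⟨0, 0, 0⟩ := rfl
theorem inv_def (a : T3) : a⁻¹ = ⟨-a.b23, -a.b24 + a.b23 * a.b34, -a.b34⟩ := rfl

instance : Group T3 :=
  Group.ofLeftAxioms
    (by intro a b c; simp only [mul_def]; ext <;> ring)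
    (by intro a; simp only [mul_def, one_def]; ext <;> simp)
    (by intro a; simp only [mul_def, one_def, inv_def]; ext <;> ring)

end T3

theorem card_T3 : Nat.card T3 = 8 := by
  rw [Nat.card_eq_fintype_card]
  decide +kernel

/-- the projection of `Q9` onto `UT₃(2)` (the middle block) -/
def phi : Q9 →* T3 where
  toFun a := ⟨a.a23, a.a24, a.a34⟩
  map_one' := rfl
  map_mul' _ _ := rfl

/-- a section of `phi` -/
def sec (t : T3) : Q9 := ⟨0, 0, 0, t.b23, t.b24, 0, t.b34, 0, 0⟩

theorem phi_sec (t : T3) : phi (sec t) = t := rfl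

/-- the abelian normal subgroup of order `64` -/
def E : Subgroup Q9 := phi.ker

theorem mem_E (x : Q9) : x ∈ E ↔ x.a23 = 0 ∧ x.a24 = 0 ∧ x.a34 = 0 := by
  rw [E, MonoidHom.mem_ker]
  constructor
  · intro h
    have h1 := congrArg T3.b23 h
    have h2 := congrArg T3.b24 h
    have h3 := congrArg T3.b34 h
    exact ⟨h1, h2, h3⟩
  · rintro ⟨h1, h2, h3⟩
    exact T3.ext h1 h2 h3

instance : DecidablePred (· ∈ E) := fun x => decidable_of_iff _ (mem_E x).symm

theorem E_comm {x y : Q9} (hx : x ∈ E) (hy : y ∈ E) : x * y = y * x := by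
  rw [mem_E] at hx hy
  obtain ⟨h1, h2, h3⟩ := hx
  obtain ⟨h4, h5, h6⟩ := hy
  simp only [Q9.mul_def, h1, h2, h3, h4, h5, h6]
  ext <;> simp <;> ring

theorem two_mul_zmod (a : ZMod 2) : a + a = 0 := by
  revert a; decide

theorem E_sq {x : Q9} (hx : x ∈ E) : x ^ 2 = 1 := by
  rw [mem_E] at hx
  obtain ⟨h1, h2, h3⟩ := hx
  rw [pow_two]
  simp only [Q9.mul_def, Q9.one_def, h1, h2, h3]
  ext <;> simp [two_mul_zmod]

theorem card_E : Nat.card ↥E = 64 := by
  rw [Nat.card_eq_fintype_card, Fintype.card_subtype]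
  decide +kernel

/-- the elements of `E` commuting with `x` -/
def CE (x : Q9) : Finset Q9 := Finset.univ.filter (fun e => e ∈ E ∧ e * x = x * e)

theorem mem_CE (x e : Q9) : e ∈ CE x ↔ e ∈ E ∧ e * x = x * e := by
  simp [CE]

theorem CE_sec (x : Q9) : CE x = CE (sec (phi x)) := by
  have hx : (sec (phi x))⁻¹ * x ∈ E := by
    rw [E, MonoidHom.mem_ker, map_mul, map_inv, phi_sec, inv_mul_cancel]
  ext e
  rw [mem_CE, mem_CE]
  refine and_congr_right fun he => ?_
  set r := sec (phi x) with hr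
  set e' := r⁻¹ * x with he'
  have hxr : x = r * e' := by rw [he', mul_inv_cancel_left]
  have hc : e' * e = e * e' := E_comm hx he
  rw [hxr]
  constructor
  · intro h
    have h1 : e * r * e' = r * e * e' := by
      rw [mul_assoc r e e', ← hc, ← mul_assoc r e' e, ← h, mul_assoc]
    exact mul_right_cancel h1
  · intro h
    rw [← mul_assoc, h, mul_assoc, mul_assoc, hc]

theorem card_CE_sec : ∀ t : T3, t ≠ 1 → (CE (sec t)).card ≤ 16 := by decide +kernel

theorem card_CE_sec_inter : ∀ t t' : T3, t ≠ 1 → t' ≠ 1 → t ≠ t' →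
    (CE (sec t) ∩ CE (sec t')).card ≤ 8 := by decide +kernel

theorem T3_noncomm : ∃ t t' : T3, t * t' ≠ t' * t := by decide +kernel

/-- every abelian subgroup of order `64` of `Q9` lies in `E` -/
theorem le_E_of_abelian (A : Subgroup Q9) (hA : IsMulCommutative ↥A) (hc : Nat.card ↥A = 64) :
    A ≤ E := by
  classical
  by_contra hle
  obtain ⟨x, hxA, hxE⟩ := SetLike.not_le_iff_exists.mp hle
  have hcomm : ∀ a b : Q9, a ∈ A → b ∈ A → a * b = b * a := by
    intro a b ha hb
    have := hA.is_comm.comm (⟨a, ha⟩ : ↥A) ⟨b, hb⟩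
    exact congrArg Subtype.val this
  let f : ↥A →* T3 := phi.comp A.subtype
  have hfx : ∀ a : ↥A, f a = phi (a : Q9) := fun _ => rfl
  -- `|A| = |range| * |ker|`
  have h1 := Subgroup.card_eq_card_quotient_mul_card_subgroup f.ker
  rw [Nat.card_congr (QuotientGroup.quotientKerEquivRange f).toEquiv, hc] at h1
  -- the kernel injects into `CE y` for `y ∈ A`
  have hker : ∀ ys : Finset Q9, (∀ y ∈ ys, y ∈ A) →
      Nat.card ↥f.ker ≤ (Finset.univ.filter (fun e : Q9 => ∀ y ∈ ys, e ∈ CE y)).card := by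
    intro ys hys
    let F := Finset.univ.filter (fun e : Q9 => ∀ y ∈ ys, e ∈ CE y)
    have hmem : ∀ k : ↥f.ker, ((k : ↥A) : Q9) ∈ F := by
      intro k
      simp only [F, Finset.mem_filter, Finset.mem_univ, true_and]
      intro y hy
      rw [mem_CE]
      refine ⟨?_, hcomm _ _ (k : ↥A).2 (hys y hy)⟩
      have := k.2
      rw [MonoidHom.mem_ker, hfx] at this
      exact this
    have : Nat.card ↥f.ker ≤ Nat.card ↥F := by
      refine Nat.card_le_card_of_injective (fun k => ⟨((k : ↥A) : Q9), hmem k⟩) ?_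
      intro k k' h
      have := congrArg Subtype.val h
      exact Subtype.ext (Subtype.ext this)
    have hF : Nat.card ↥F = F.card := by rw [Nat.card_eq_fintype_card, Fintype.card_coe]
    rw [hF] at this
    exact this
  -- the range is a proper subgroup of `T3`
  have hrange_ne : Nat.card ↥f.range ≠ 8 := by
    intro h8
    have htop : f.range = ⊤ := by
      apply Subgroup.eq_top_of_card_eq
      rw [h8, card_T3]
    obtain ⟨t, t', htt⟩ := T3_noncomm
    apply htt
    have ht : t ∈ f.range := by rw [htop]; trivial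
    have ht' : t' ∈ f.range := by rw [htop]; trivial
    obtain ⟨a, rfl⟩ := ht
    obtain ⟨a', rfl⟩ := ht'
    rw [← map_mul, ← map_mul]
    congr 1
    exact Subtype.ext (hcomm _ _ a.2 a'.2)
  have hrange_dvd : Nat.card ↥f.range ∣ 8 := by
    rw [← card_T3]
    exact Subgroup.card_subgroup_dvd_card _
  have hrange_le : Nat.card ↥f.range ≤ 4 := by
    have hle8 := Nat.le_of_dvd (by norm_num) hrange_dvd
    have hpos : 0 < Nat.card ↥f.range := Nat.card_pos
    interval_cases h : Nat.card ↥f.range <;> simp_all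
  -- first bound
  have hx1 : phi x ≠ 1 := fun h => hxE (by rw [E, MonoidHom.mem_ker]; exact h)
  have hk16 : Nat.card ↥f.ker ≤ 16 := by
    have := hker {x} (by simpa using hxA)
    refine this.trans ?_
    have h2 := card_CE_sec (phi x) hx1
    rw [← CE_sec] at h2
    refine le_trans (Finset.card_le_card ?_) h2
    intro e he
    simp only [Finset.mem_filter, Finset.mem_univ, true_and, Finset.mem_singleton, forall_eq] at he
    exact he
  have hr4 : Nat.card ↥f.range = 4 := by
    have hpos : 0 < Nat.card ↥f.range := Nat.card_pos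
    interval_cases h : Nat.card ↥f.range <;> omega
  -- a second element
  have hy : ∃ y ∈ A, phi y ≠ 1 ∧ phi y ≠ phi x := by
    by_contra hno
    push Not at hno
    have hsub : ∀ t : ↥f.range, (t : T3) ∈ ({1, phi x} : Finset T3) := by
      rintro ⟨t, a, rfl⟩
      rw [Finset.mem_insert, Finset.mem_singleton]
      show f a = 1 ∨ f a = phi x
      rw [hfx]
      by_cases h : phi (a : Q9) = 1
      · exact Or.inl h
      · exact Or.inr (hno _ a.2 h)
    have : Nat.card ↥f.range ≤ Nat.card ↥({1, phi x} : Finset T3) := by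
      refine Nat.card_le_card_of_injective (fun t => ⟨(t : T3), hsub t⟩) ?_
      intro t t' h
      simp only [Subtype.mk.injEq] at h
      exact Subtype.ext h
    have hF2 : Nat.card ↥({1, phi x} : Finset T3) = ({1, phi x} : Finset T3).card := by
      rw [Nat.card_eq_fintype_card, Fintype.card_coe]
    rw [hF2, hr4] at this
    have h2 : ({1, phi x} : Finset T3).card ≤ 2 := Finset.card_le_two
    omega
  obtain ⟨y, hyA, hy1, hyx⟩ := hy
  have hk8 : Nat.card ↥f.ker ≤ 8 := by
    have := hker {x, y} (by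
      intro w hw
      rw [Finset.mem_insert, Finset.mem_singleton] at hw
      rcases hw with rfl | rfl
      · exact hxA
      · exact hyA)
    refine this.trans ?_
    have h2 := card_CE_sec_inter (phi x) (phi y) hx1 hy1 (Ne.symm hyx)
    rw [← CE_sec, ← CE_sec] at h2
    refine le_trans (Finset.card_le_card ?_) h2
    intro e he
    simp only [Finset.mem_filter, Finset.mem_univ, true_and, Finset.mem_insert,
      Finset.mem_singleton, forall_eq_or_imp, forall_eq] at he
    exact Finset.mem_inter.mpr he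
  rw [hr4] at h1
  omega

/-- `E` is the only abelian subgroup of order `64` of `Q9` -/
theorem eq_E_of_abelian (A : Subgroup Q9) (hA : IsMulCommutative ↥A) (hc : Nat.card ↥A = 64) :
    A = E := by
  apply Subgroup.eq_of_le_of_card_ge (le_E_of_abelian A hA hc)
  rw [hc, card_E]

/-! ### Maximal subgroups of `2`-groups -/

section pgroup

variable {G : Type*} [Group G] [Finite G]

open Subgroup in
/-- a normal maximal subgroup has prime index (as in `Cfsg.Agent.S3904`, helper72) -/
theorem index_prime_of_normal_coatom' {N : Subgroup G} [N.Normal] (hN : IsCoatom N) :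
    N.index.Prime := by
  have h1 : N.index ≠ 1 := fun h => hN.1 (index_eq_one.1 h)
  obtain ⟨q, hq, hqd⟩ := Nat.exists_prime_and_dvd h1
  haveI : Fact q.Prime := ⟨hq⟩
  rw [index_eq_card] at hqd
  obtain ⟨g, hg⟩ := exists_prime_orderOf_dvd_card' q hqd
  have hsurj : Function.Surjective (QuotientGroup.mk' N) := QuotientGroup.mk'_surjective N
  set K : Subgroup G := (zpowers g).comap (QuotientGroup.mk' N) with hK
  have hNK : N ≤ K := by
    intro n hn
    rw [hK, mem_comap]
    have : QuotientGroup.mk' N n = 1 := (QuotientGroup.eq_one_iff n).2 hn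
    rw [this]; exact one_mem _
  have hne : K ≠ N := by
    intro h
    obtain ⟨a, ha⟩ := hsurj g
    have haK : a ∈ K := by
      rw [hK, mem_comap, ha]; exact mem_zpowers g
    rw [h] at haK
    have : g = 1 := by
      rw [← ha]; exact (QuotientGroup.eq_one_iff a).2 haK
    rw [this, orderOf_one] at hg
    exact hq.one_lt.ne hg
  have hKtop : K = ⊤ := hN.2 K (lt_of_le_of_ne hNK (Ne.symm hne))
  have hz : zpowers g = ⊤ := by
    have := map_comap_eq_self_of_surjective hsurj (zpowers g)
    rw [← hK, hKtop, map_top_of_surjective _ hsurj] at this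
    exact this.symm
  have hcard : Nat.card (G ⧸ N) = q := by
    rw [← hg, ← Nat.card_zpowers, hz]
    exact (Nat.card_congr (Equiv.Set.univ _)).symm
  rw [index_eq_card, hcard]
  exact hq

/-- maximal subgroups of a finite `2`-group are normal of index `2` -/
theorem coatom_normal_index_two {n : ℕ} (hG : Nat.card G = 2 ^ n) {M : Subgroup G}
    (hM : IsCoatom M) : M.Normal ∧ M.index = 2 := by
  haveI : Fact (Nat.Prime 2) := ⟨Nat.prime_two⟩
  have hp : IsPGroup 2 G := IsPGroup.of_card hG
  haveI : Group.IsNilpotent G := hp.isNilpotent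
  have hn : M.Normal :=
    Subgroup.NormalizerCondition.normal_of_coatom M Group.normalizerCondition_of_isNilpotent hM
  refine ⟨hn, ?_⟩
  have hpr := index_prime_of_normal_coatom' hM
  have hdvd : M.index ∣ 2 ^ n := by
    rw [← hG]
    exact Subgroup.index_dvd_card M
  exact (Nat.prime_dvd_prime_iff_eq hpr Nat.prime_two).mp (hpr.dvd_of_dvd_pow hdvd)

theorem commutator_mem_of_index_two {M : Subgroup G} (h : M.index = 2) (x y : G) :
    x * y * x⁻¹ * y⁻¹ ∈ M := by
  simp only [Subgroup.mul_mem_iff_of_index_two h, inv_mem_iff]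
  tauto

end pgroup

/-! ### Centres of the maximal subgroups of `Q9` -/

/-- the nine elementary elements -/
def basis : List Q9 :=
  [⟨1, 0, 0, 0, 0, 0, 0, 0, 0⟩, ⟨0, 1, 0, 0, 0, 0, 0, 0, 0⟩, ⟨0, 0, 1, 0, 0, 0, 0, 0, 0⟩,
   ⟨0, 0, 0, 1, 0, 0, 0, 0, 0⟩, ⟨0, 0, 0, 0, 1, 0, 0, 0, 0⟩, ⟨0, 0, 0, 0, 0, 1, 0, 0, 0⟩,
   ⟨0, 0, 0, 0, 0, 0, 1, 0, 0⟩, ⟨0, 0, 0, 0, 0, 0, 0, 1, 0⟩, ⟨0, 0, 0, 0, 0, 0, 0, 0, 1⟩]

/-- five commutators (generating the Frattini subgroup) -/
def comms : List Q9 :=
  [⟨0, 1, 0, 0, 0, 0, 0, 0, 0⟩, ⟨0, 0, 1, 0, 0, 0, 0, 0, 0⟩, ⟨0, 0, 0, 0, 1, 0, 0, 0, 0⟩,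
   ⟨0, 0, 0, 0, 0, 1, 0, 0, 0⟩, ⟨0, 0, 0, 0, 0, 0, 0, 1, 0⟩]

theorem comms_are_commutators :
    ∀ c ∈ comms, ∃ x ∈ basis, ∃ y ∈ basis, c = x * y * x⁻¹ * y⁻¹ := by decide +kernel

/-- the centraliser of the five commutators -/
def Phi0F : Finset Q9 := Finset.univ.filter (fun z => ∀ c ∈ comms, c * z = z * c)

/-- central elements -/
def ZcF : Finset Q9 := Phi0F.filter (fun z => ∀ m ∈ basis, m * z = z * m)

theorem card_ZcF : ZcF.card ≤ 8 := by decide +kernel

/-- elements of `Phi0F` commuting with the elementary elements that commute with `z0` -/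
def FF (z0 : Q9) : Finset Q9 :=
  Phi0F.filter (fun w => ∀ m ∈ basis, m * z0 = z0 * m → m * w = w * m)

theorem key_dec : ∀ z0 : Q9, z0 ∈ Phi0F → z0 ∉ ZcF →
    (∃ x ∈ basis, ∃ y ∈ basis, x * z0 ≠ z0 * x ∧ y * z0 ≠ z0 * y ∧ (x * y) * z0 ≠ z0 * (x * y)) ∨
      (FF z0).card ≤ 8 := by decide +kernel

theorem natCard_Q9 : Nat.card Q9 = 2 ^ 9 := by
  rw [Nat.card_eq_fintype_card, card_Q9]
  rfl

/-- the centre of a maximal subgroup of `Q9` has order at most `8` -/
theorem card_center_coatom (M : Subgroup Q9) (hM : IsCoatom M) :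
    Nat.card ↥(Subgroup.center ↥M) ≤ 8 := by
  classical
  obtain ⟨hMn, hM2⟩ := coatom_normal_index_two natCard_Q9 hM
  have hcm : ∀ c ∈ comms, c ∈ M := by
    intro c hc
    obtain ⟨x, _, y, _, rfl⟩ := comms_are_commutators c hc
    exact commutator_mem_of_index_two hM2 x y
  have hzc : ∀ (z : ↥(Subgroup.center ↥M)) (m : Q9), m ∈ M → m * ((z : ↥M) : Q9) = ((z : ↥M) : Q9) * m := by
    intro z m hm
    have := (Subgroup.mem_center_iff.mp z.2) ⟨m, hm⟩
    exact congrArg Subtype.val this
  have hz : ∀ z : ↥(Subgroup.center ↥M), ((z : ↥M) : Q9) ∈ Phi0F := by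
    intro z
    simp only [Phi0F, Finset.mem_filter, Finset.mem_univ, true_and]
    intro c hc
    exact hzc z c (hcm c hc)
  have bound : ∀ F : Finset Q9, (∀ z : ↥(Subgroup.center ↥M), ((z : ↥M) : Q9) ∈ F) →
      Nat.card ↥(Subgroup.center ↥M) ≤ F.card := by
    intro F hF
    have : Nat.card ↥(Subgroup.center ↥M) ≤ Nat.card ↥F := by
      refine Nat.card_le_card_of_injective (fun z => ⟨((z : ↥M) : Q9), hF z⟩) ?_
      intro z z' h
      simp only [Subtype.mk.injEq] at h
      exact Subtype.ext (Subtype.ext h)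
    have hF' : Nat.card ↥F = F.card := by rw [Nat.card_eq_fintype_card, Fintype.card_coe]
    rw [hF'] at this
    exact this
  by_cases hall : ∀ z : ↥(Subgroup.center ↥M), ((z : ↥M) : Q9) ∈ ZcF
  · exact (bound ZcF hall).trans card_ZcF
  · push Not at hall
    obtain ⟨z0, hz0⟩ := hall
    have hle : M ≤ Subgroup.centralizer {((z0 : ↥M) : Q9)} := by
      intro m hm
      rw [Subgroup.mem_centralizer_singleton_iff]
      exact hzc z0 m hm
    have hne : Subgroup.centralizer {((z0 : ↥M) : Q9)} ≠ ⊤ := by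
      intro htop
      apply hz0
      simp only [ZcF, Finset.mem_filter]
      refine ⟨hz z0, fun m _ => ?_⟩
      have : m ∈ Subgroup.centralizer {((z0 : ↥M) : Q9)} := by rw [htop]; trivial
      rwa [Subgroup.mem_centralizer_singleton_iff] at this
    have hMeq : M = Subgroup.centralizer {((z0 : ↥M) : Q9)} := by
      by_contra hne'
      exact hne (hM.2 _ (lt_of_le_of_ne hle hne'))
    have hmemM : ∀ m : Q9, m ∈ M ↔ m * ((z0 : ↥M) : Q9) = ((z0 : ↥M) : Q9) * m := by
      intro m
      conv_lhs => rw [hMeq]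
      exact Subgroup.mem_centralizer_singleton_iff
    rcases key_dec _ (hz z0) hz0 with ⟨x, _, y, _, h1, h2, h3⟩ | hgood
    · have hxM : x ∉ M := by rw [hmemM]; exact h1
      have hyM : y ∉ M := by rw [hmemM]; exact h2
      have hxy : x * y ∈ M := (Subgroup.mul_mem_iff_of_index_two hM2).mpr (iff_of_false hxM hyM)
      rw [hmemM] at hxy
      exact absurd hxy h3
    · refine (bound (FF _) ?_).trans hgood
      intro z
      simp only [FF, Finset.mem_filter]
      refine ⟨hz z, fun m _ hmc => ?_⟩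
      exact hzc z m ((hmemM m).mpr hmc)

end Cfsg.Agent.Helper93.UT5
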