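/-
Helper93: the property of S3171 for the model `Q9`, and its invariance under isomorphisms.
-/
import Mathlib
import Cfsg.Prelude.Def_Transfer
import Cfsg.Agent.Helper93.UT5Quot

set_option autoImplicit false

namespace Cfsg.Agent.Helper93.UT5

/-- the statement of S3171 for a group `S` -/
def Prop3171 (S : Type*) [Group S] : Prop :=
  (∀ M : Subgroup S, IsCoatom M → Nat.card ↥(Subgroup.center ↥M) ≤ 8) ∧
    (∃ A : Subgroup S, Cfsg.IsElementaryAbelian 2 A ∧ Nat.card ↥A = 64) ∧
      ∀ A B : Subgroup S, IsMulCommutative ↥A → Nat.card ↥A = 64 → IsMulCommutative ↥B →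
        Nat.card ↥B = 64 → A = B

theorem prop_Q9 : Prop3171 Q9 := by
  refine ⟨card_center_coatom, ⟨E, ⟨⟨⟨fun a b => Subtype.ext (E_comm a.2 b.2)⟩⟩, fun a ha => E_sq ha⟩,
    card_E⟩, fun A B hA hcA hB hcB => ?_⟩
  rw [eq_E_of_abelian A hA hcA, eq_E_of_abelian B hB hcB]

theorem prop_congr {S T : Type*} [Group S] [Group T] (e : S ≃* T) (h : Prop3171 S) :
    Prop3171 T := by
  obtain ⟨h1, ⟨A0, ⟨hA0c, hA0e⟩, hA0n⟩, h3⟩ := h
  refine ⟨?_, ?_, ?_⟩
  · intro M hM
    have hM' : IsCoatom (M.map (e.symm : T →* S)) :=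
      (OrderIso.isCoatom_iff (e.symm.mapSubgroup) M).mpr hM
    have := h1 _ hM'
    rwa [← Nat.card_congr (Subgroup.centerCongr (e.symm.subgroupMap M)).toEquiv] at this
  · refine ⟨A0.map (e : S →* T), ⟨?_, ?_⟩, ?_⟩
    · have := hA0c
      exact Subgroup.map_isMulCommutative A0 (e : S →* T)
    · rintro _ ⟨a, ha, rfl⟩
      show (e a) ^ 2 = 1
      rw [← map_pow, hA0e a ha, map_one]
    · rw [Subgroup.card_map_of_injective e.injective, hA0n]
  · intro A B hA hcA hB hcB
    have hinj := Subgroup.map_injective (f := (e.symm : T →* S)) e.symm.injective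
    apply hinj
    apply h3
    · exact Subgroup.map_isMulCommutative A (e.symm : T →* S)
    · rw [Subgroup.card_map_of_injective e.symm.injective, hcA]
    · exact Subgroup.map_isMulCommutative B (e.symm : T →* S)
    · rw [Subgroup.card_map_of_injective e.symm.injective, hcB]

end Cfsg.Agent.Helper93.UT5
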