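/-
Helper93: the Sylow `2`-subgroups of `M24` are isomorphic to `UT₅(2)` (via S2133), and the
central quotient of a group isomorphic to `UT₅(2)` is isomorphic to `Q9` (for S3171).
-/
import Mathlib
import Cfsg.Agent.S2133
import Cfsg.Agent.Helper7.M24Chain
import Cfsg.Agent.Helper93.InvPattern
import Cfsg.Agent.Helper93.UT5Model

set_option autoImplicit false

namespace Cfsg.Agent.Helper93.UT5

open Matrix

/-! ### The central quotient -/

/-- the corner element, generating the centre of `U10` -/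
def e15 : U10 := ⟨0, 0, 0, 1, 0, 0, 0, 0, 0, 0⟩

/-- four generators of `U10` -/
def gens : List U10 :=
  [⟨1, 0, 0, 0, 0, 0, 0, 0, 0, 0⟩, ⟨0, 0, 0, 0, 1, 0, 0, 0, 0, 0⟩, ⟨0, 0, 0, 0, 0, 0, 0, 1, 0, 0⟩,
   ⟨0, 0, 0, 0, 0, 0, 0, 0, 0, 1⟩]

theorem proj_eq_one_of_comm : ∀ x : U10, (∀ g ∈ gens, g * x = x * g) → proj x = 1 := by
  decide +kernel

theorem comm_of_proj_eq_one : ∀ x : U10, proj x = 1 → ∀ y : U10, y * x = x * y := by
  intro x hx y
  have h := hx
  simp only [proj, MonoidHom.coe_mk, OneHom.coe_mk, Q9.one_def, Q9.mk.injEq] at h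
  obtain ⟨h1, h2, h3, h4, h5, h6, h7, h8, h9⟩ := h
  simp only [U10.mul_def, h1, h2, h3, h4, h5, h6, h7, h8, h9]
  ext <;> simp <;> ring

theorem ker_proj : proj.ker = Subgroup.center U10 := by
  ext x
  rw [MonoidHom.mem_ker, Subgroup.mem_center_iff]
  exact ⟨comm_of_proj_eq_one x, fun h => proj_eq_one_of_comm x (fun g _ => h g)⟩

/-- the central quotient of a group isomorphic to `UT₅(2)` is isomorphic to `Q9` -/
theorem nonempty_quot_equiv {P : Type*} [Group P] (e : P ≃* U10) :
    Nonempty (P ⧸ Subgroup.center P ≃* Q9) := by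
  let ψ : P →* Q9 := proj.comp (e : P →* U10)
  have hsurj : Function.Surjective ψ := proj_surjective.comp e.surjective
  have hker : Subgroup.center P = ψ.ker := by
    ext x
    rw [MonoidHom.mem_ker, Subgroup.mem_center_iff]
    show _ ↔ proj (e x) = 1
    rw [← MonoidHom.mem_ker, ker_proj, Subgroup.mem_center_iff]
    constructor
    · intro h u
      obtain ⟨y, rfl⟩ := e.surjective u
      rw [← map_mul, ← map_mul, h y]
    · intro h y
      apply e.injective
      rw [map_mul, map_mul, h (e y)]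
  exact ⟨(QuotientGroup.quotientMulEquivOfEq hker).trans
    (QuotientGroup.quotientKerEquivOfSurjective ψ hsurj)⟩

/-! ### The embedding into `SL₅(2)` -/

/-- the matrix of an element of `U10`; the basis is ordered `0, 2, 3, 4, 1` -/
def toMat (x : U10) : Matrix (Fin 5) (Fin 5) (ZMod 2) :=
  !![1, x.a15, x.a12, x.a13, x.a14;
     0, 1, 0, 0, 0;
     0, x.a25, 1, x.a23, x.a24;
     0, x.a35, 0, 1, x.a34;
     0, x.a45, 0, 0, 1]

theorem toMat_mul (x y : U10) : toMat (x * y) = toMat x * toMat y := by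
  ext i j
  fin_cases i <;> fin_cases j <;>
    simp [toMat, U10.mul_def, Matrix.mul_apply, Fin.sum_univ_five] <;> ring

theorem toMat_one : toMat 1 = 1 := by
  ext i j
  fin_cases i <;> fin_cases j <;> simp [toMat, U10.one_def]

theorem zmod2_unit : ∀ a b : ZMod 2, a * b = 1 → a = 1 := by decide

theorem det_toMat (x : U10) : (toMat x).det = 1 := by
  have h : toMat x * toMat x⁻¹ = 1 := by rw [← toMat_mul, mul_inv_cancel, toMat_one]
  have h2 := congrArg Matrix.det h
  rw [Matrix.det_mul, Matrix.det_one] at h2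
  exact zmod2_unit _ _ h2

/-- the embedding of `U10` into `SL₅(2)` -/
def iota : U10 →* Matrix.SpecialLinearGroup (Fin 5) (ZMod 2) where
  toFun x := ⟨toMat x, det_toMat x⟩
  map_one' := Subtype.ext toMat_one
  map_mul' x y := Subtype.ext (toMat_mul x y)

theorem toMat_injective : Function.Injective toMat := by
  intro x y h
  have e := fun i j => congrFun (congrFun h i) j
  have h01 := e 0 1
  have h02 := e 0 2
  have h03 := e 0 3
  have h04 := e 0 4
  have h21 := e 2 1
  have h23 := e 2 3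
  have h24 := e 2 4
  have h31 := e 3 1
  have h34 := e 3 4
  have h41 := e 4 1
  simp [toMat] at h01 h02 h03 h04 h21 h23 h24 h31 h34 h41
  exact U10.ext h02 h03 h04 h01 h23 h24 h21 h34 h31 h41

theorem iota_injective : Function.Injective iota := by
  intro x y h
  exact toMat_injective (congrArg Subtype.val h)

theorem toMat_e15 : toMat e15 = Matrix.transvection 0 1 1 := by
  ext i j
  fin_cases i <;> fin_cases j <;> simp [toMat, e15, Matrix.transvection, Matrix.single]

theorem e15_comm (x : U10) : x * e15 = e15 * x := by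
  simp only [U10.mul_def, e15]
  ext <;> simp <;> ring

/-! ### Sylow `2`-subgroups of `M24` -/

theorem fact2' (k m : ℕ) (hm : ¬ 2 ∣ m) : (2 ^ k * m).factorization 2 = k := by
  have hm0 : m ≠ 0 := by rintro rfl; exact hm (dvd_zero 2)
  rw [Nat.factorization_mul (pow_ne_zero _ (by norm_num)) hm0,
    Nat.Prime.factorization_pow Nat.prime_two]
  simp [Nat.factorization_eq_zero_of_not_dvd hm]

/-- every Sylow `2`-subgroup of `M24` is isomorphic to `UT₅(2)` -/
theorem sylow_equiv (P : Sylow 2 ↥Cfsg.M24) :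
    Nonempty (↥(P : Subgroup ↥Cfsg.M24) ≃* U10) := by
  classical
  let s : Matrix.SpecialLinearGroup (Fin 5) (ZMod 2) := iota e15
  have hs : (s : Matrix (Fin 5) (Fin 5) (ZMod 2)) = Matrix.transvection 0 1 1 := toMat_e15
  obtain ⟨z, -, ⟨ε⟩⟩ := Cfsg.Agent.S2133.result s hs
  let ι' : U10 →* ↥(Subgroup.centralizer ({s} : Set (Matrix.SpecialLinearGroup (Fin 5) (ZMod 2)))) :=
    iota.codRestrict _ (fun x => by
      rw [Subgroup.mem_centralizer_singleton_iff]
      show iota x * iota e15 = iota e15 * iota x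
      rw [← map_mul, ← map_mul, e15_comm])
  have hinj : Function.Injective ι' := by
    intro x y h
    apply iota_injective
    exact congrArg Subtype.val h
  have hR : Nat.card ↥ι'.range = 1024 := by
    rw [← Nat.card_congr (MonoidHom.ofInjective hinj).toEquiv, Nat.card_eq_fintype_card, card_U10]
  have hM : Nat.card ↥Cfsg.M24 = 244823040 := Cfsg.Agent.Helper7.card_M24
  have : Finite ↥Cfsg.M24 := Nat.finite_of_card_ne_zero (by rw [hM]; decide)
  have hP0 : Nat.card ↥(InvPat.pull _ ε ι'.range) = 2 ^ (Nat.card ↥Cfsg.M24).factorization 2 := by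
    rw [InvPat.card_pull, hR, hM, show (244823040 : ℕ) = 2 ^ 10 * 239085 from rfl,
      fact2' 10 239085 (by decide)]
    rfl
  let P0 : Sylow 2 ↥Cfsg.M24 := Sylow.ofCard _ hP0
  have e1 : ↥(P : Subgroup ↥Cfsg.M24) ≃* ↥(P0 : Subgroup ↥Cfsg.M24) := Sylow.equiv P P0
  have e2 : ↥(P0 : Subgroup ↥Cfsg.M24) ≃* ↥ι'.range := (InvPat.pullEquiv _ ε ι'.range).symm
  exact ⟨(e1.trans e2).trans (MonoidHom.ofInjective hinj).symm⟩

end Cfsg.Agent.Helper93.UT5
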